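import Cfsg.Agent.Loc3.McG
import Cfsg.Agent.PLocal.FStar

/-!
The 3-local characterisation of the McLaughlin group: verifying the hypotheses.
-/

set_option autoImplicit false
set_option synthInstance.maxSize 100000

namespace Cfsg.Agent.Loc3

open Subgroup Cfsg Cfsg.Agent.PLocal.Amb Equiv.Perm

variable {G : Type*} [Group G]

theorem PH.of_quot {X : Type*} [Group X] {N : Subgroup G} {K : Subgroup N} [K.Normal]
    {F : Subgroup (N ⧸ K)} (e : F ≃* X) :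
    ∃ π : G → X, PH ((F.comap (QuotientGroup.mk' K)).map N.subtype) (K.map N.subtype) π := by
  have hle := map_subtype_le (F.comap (QuotientGroup.mk' K))
  refine PH.of_hom (map_mono fun x hx => ?_) (e.toMonoidHom.comp (((QuotientGroup.mk' K).comp
    (inclusion hle)).codRestrict F (by rintro ⟨_, x, hx, rfl⟩; exact hx))) (fun x => ?_) ?_
  · simp [mem_comap, (QuotientGroup.eq_one_iff x).2 hx]
  · obtain ⟨⟨x, hx⟩, rfl⟩ := e.surjective x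
    obtain ⟨x, rfl⟩ := QuotientGroup.mk'_surjective K x
    exact ⟨⟨x, x, hx, rfl⟩, rfl⟩
  · rintro ⟨_, x, hx, rfl⟩
    refine e.map_eq_one_iff.trans (Subtype.ext_iff.trans ((QuotientGroup.eq_one_iff x).trans ?_))
    exact (mem_map_iff_mem (subtype_injective _)).symm

theorem es_amb {Q : Subgroup G} (h : IsExtraspecial 3 Q) : Nat.card ↥(Q ⊓ 𝐂[Q]) = 3 ∧
    ∀ x ∈ Q, ∀ y ∈ Q, x * y * x⁻¹ * y⁻¹ ∈ Q ⊓ 𝐂[Q] := by
  rw [← PLocal.map_center_subtype, card_subtype]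
  exact ⟨h.2, fun x hx y hy => ⟨(⟨x, hx⟩ * ⟨y, hy⟩ * ⟨x, hx⟩⁻¹ * ⟨y, hy⟩⁻¹ : Q),
    h.1.2.2.le (commutator_mem_commutator (mem_top _) (mem_top _)), rfl⟩⟩

variable [Finite G]

theorem ord3 {g : G} : (∃ k, orderOf g = 3 ^ k) ↔ ∃ k, g ^ 3 ^ k = 1 :=
  ⟨fun ⟨k, e⟩ => ⟨k, e ▸ pow_orderOf_eq_one g⟩, fun ⟨_, e⟩ =>
    ((Nat.dvd_prime_pow Nat.prime_three).1 (orderOf_dvd_of_pow_eq_one e)).imp fun _ => And.right⟩

theorem exists_gen {Z : Subgroup G} (h : Nat.card Z = 3) : ∃ z, z ^ 3 = 1 ∧ z ≠ 1 ∧ Z = zpowers z := by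
  obtain ⟨⟨z, hz⟩, z1⟩ := ne_bot_iff_exists_ne_one.1 (show Z ≠ ⊥ from fun e => by simp [e] at h)
  have z1 : z ≠ 1 := fun e => z1 (Subtype.ext e)
  have z3 : z ^ 3 = 1 := orderOf_dvd_iff_pow_eq_one.1 (h ▸ orderOf_dvd_natCard Z hz)
  exact ⟨z, z3, z1, (eq_of_le_of_card_ge (zpowers_le.2 hz) (by
    rw [h, Nat.card_zpowers, orderOf_three z3 z1])).symm⟩

theorem cent_three {Z : Subgroup G} (h : Nat.card Z = 3) {g : G} (hg : g ∈ 𝐍[Z])
    (g3 : ∃ k, g ^ 3 ^ k = 1) : g ∈ 𝐂[Z] := by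
  obtain ⟨z, z3, z1, rfl⟩ := exists_gen h
  obtain ⟨k, e⟩ := g3
  have c : Commute (g ^ 2) z := comm_of_conj (by
    rw [show g ^ 2 * z * (g ^ 2)⁻¹ = g * (g * z * g⁻¹) * g⁻¹ by simp [pow_two, mul_assoc]]
    rcases (mem_norm_three z3 z1).1 hg with k | k
    · rw [k, k]
    · rw [k, ← conj_inv, k, inv_inv])
  rw [centralizer_zpowers]
  exact mem_of_pow_mem_of_coprime (mem_cent.2 c) ((Nat.Coprime.pow_left k (by norm_num)).coprime_dvd_left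
    (orderOf_dvd_of_pow_eq_one e))

theorem pre3 {S Z Q : Subgroup G} (hS : IsSyl 3 S ⊤) (hZ : Z = S ⊓ 𝐂[S]) (hQ : Q = pCoreOf 3 𝐍[Z])
    (hx : IsExtraspecial 3 Q) : Nat.card Z = 3 ∧ Q ≤ S ∧ S ≤ 𝐂[Z] ∧ Z = Q ⊓ 𝐂[Q] ∧
      pCoreOf 3 𝐂[Z] = Q := by
  have h1 : S ≤ 𝐂[Z] := le_centralizer_iff.1 (hZ ▸ inf_le_right)
  have h2 : Q ≤ S := hQ ▸ (hS.mono (h1.trans (centralizer_le_normalizer' _)) le_top).pCoreOf_le
  have h3 : Z ≤ Q ⊓ 𝐂[Q] := le_inf (hQ ▸ le_pCoreOf (hS.pgrp.to_le (hZ ▸ inf_le_left)) le_normalizer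
    le_rfl) (le_centralizer_iff.1 (h2.trans h1))
  have h4 := (es_amb hx).1
  have h5 : Nat.card Z = 3 := ((Nat.dvd_prime Nat.prime_three).1 (h4 ▸ card_dvd_of_le h3)).resolve_left
    fun e => inf_centralizer_ne_bot hS.pgrp hS.pgrp le_normalizer (fun k => by
      simp [le_bot_iff.1 (h2.trans k.le)] at h4) (hZ ▸ card_eq_one.1 e)
  refine ⟨h5, h2, h1, eq_of_le_of_card_ge h3 (h4.trans h5.symm).le, ?_⟩
  rw [pCoreOf_eq_inf_of_normal (centralizer_le_normalizer' _)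
    (normalizer_le_normalizer_centralizer Z), ← hQ, inf_eq_right.2 (h2.trans h1)]

theorem sl_three {F : Subgroup G} [F.Normal] (e : F ≃* SL25) (hC : 𝐂[F] ≤ F) {x : G} {k : ℕ}
    (x3 : x ^ 3 ^ k = 1) : x ∈ F := by
  obtain ⟨lam, pl⟩ := PH.of_hom bot_le e.toMonoidHom e.surjective fun g => by simp
  have p : PH F ((mu.comp pl.hom).ker.map F.subtype) fun g => mu (lam g) :=
    ⟨⟨map_subtype_le _, fun a b => by rw [pl.mul a b, map_mul],
      fun a => ⟨fun e => ⟨⟨_, a⟩, e, rfl⟩, fun ⟨x, hx, e⟩ => e ▸ hx⟩⟩, fun x => by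
      obtain ⟨x, rfl⟩ := mu_surj x
      obtain ⟨l, hl, rfl⟩ := pl.surj x
      exact ⟨l, hl, rfl⟩⟩
  have k2 : ∀ a ∈ F, mu (lam a) = 1 ↔ a * a = 1 := fun a ha => by
    rw [mu_ker, ← mem_bot (x := a * a), ← pl.ker (mul_mem ha ha), pl.mul ha ha]
    exact ⟨by rintro (k | k) <;> simp [k], sl_inv⟩
  have nF : ∀ g, ∀ {a}, a ∈ F → g * a * g⁻¹ ∈ F := fun g _ h => Normal.conj_mem ‹_› _ h g
  obtain ⟨β, hβ⟩ := p.exists_aut (N := ⊤) le_normalizer_of_normal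
    (le_normalizer_iff_cj.2 fun r _ => cj_le_iff_forall.2 fun x hx => (p.ker (nF r (p.le hx))).1
      ((k2 _ (nF r (p.le hx))).2 (by rw [conj_mul, (k2 _ (p.le hx)).1 (p.of_mem hx)]; simp)))
  obtain ⟨σ, e⟩ := (S2119.result 5 (by norm_num) (by norm_num)).2 (β ⟨x, mem_top x⟩)
  have s : sign σ = 1 := one_of_two_three (Int.units_mul_self _) (k := k) (by
    rw [← map_pow, (S2119.result 5 (by norm_num) (by norm_num)).1 (a₁ := σ ^ 3 ^ k) (a₂ := 1) (by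
      rw [map_pow, e, ← map_pow, map_one, show _ ^ 3 ^ k = (1 : (⊤ : Subgroup G)) from
        Subtype.ext x3, map_one]), map_one])
  obtain ⟨l, hl, e'⟩ := p.surj ⟨σ, s⟩
  refine (mul_mem_cancel_left (inv_mem hl)).1 (hC (le_centralizer_iff.1 (pl.le_of
    IsPGroup.of_bot gen_SL25 (Y := 𝐂[zpowers (l⁻¹ * x)]) (fun a ha ⟨n, a3⟩ => ?_)) (mem_zpowers _)))
  rw [centralizer_zpowers]
  have h1 := mul_mem (nF (l⁻¹ * x) ha) (inv_mem ha)
  have h2 : mu (lam (l⁻¹ * x * a * (l⁻¹ * x)⁻¹ * a⁻¹)) = 1 := by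
    rw [p.mul (nF _ ha) (inv_mem ha), show l⁻¹ * x * a * (l⁻¹ * x)⁻¹ = l⁻¹ * (x * a * x⁻¹) * l⁻¹⁻¹ by
      group, p.map_conj (inv_mem hl) (nF x ha), ← hβ ⟨x, mem_top x⟩ a ha, ← e, p.map_inv hl,
      p.map_inv ha, e']
    exact Subtype.ext (by simp [mul_assoc])
  have c : Commute (l⁻¹ * x * a * (l⁻¹ * x)⁻¹ * a⁻¹) a := comm_of_conj (mul_inv_eq_one.1 (mem_bot.1
    ((pl.eq_iff (nF _ ha) ha).1 (by
      rw [pl.map_conj h1 ha]; rcases mu_ker.1 h2 with k | k <;> rw [k] <;> simp))))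
  refine mem_cent.2 (comm_of_conj (mul_inv_eq_one.1 (one_of_two_three ((k2 _ h1).1 h2) (k := n) ?_))).symm
  have := c.mul_pow (3 ^ n)
  rwa [inv_mul_cancel_right, cube_conj a3, a3, mul_one, eq_comm] at this

theorem fstar_eq {H : Subgroup G} (hN : H.Normal) (hs : IsSimpleGroup H) (hC : 𝐂[H] = ⊥) :
    generalizedFittingSubgroup G = H := by
  have hL : H ≤ layer G := PLocal.comp_le_layer ⟨hN.isSubnormal, PLocal.qs_of_simple hs fun c =>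
    (nontrivial_iff_ne_bot H).1 hs.toNontrivial (le_bot_iff.1 (hC ▸ H.le_centralizer))⟩
  exact le_antisymm (sup_le (PLocal.layer_le_of_centralizer_le hN.isSubnormal (hC ▸ bot_le))
    ((PLocal.fitting_le_centralizer_layer.trans ((centralizer_anti hL).trans hC.le)).trans bot_le))
    (hL.trans le_sup_left)

theorem MC0.fstar {S Q J Z L M : Subgroup G} {lam : G → SL25} {π : G → A6}
    (h : MC0 S Q J Z L M lam π) : Nonempty (generalizedFittingSubgroup G ≃* Spor.McL) := by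
  have := LyMc.simpleMcL
  rcases h.core with ⟨⟨e⟩⟩ | ⟨H, h1, h2, ⟨e⟩⟩
  · have := e.isSimpleGroup
    exact ⟨((MulEquiv.subgroupCongr ((PLocal.fstar_normal G).eq_bot_or_eq_top.resolve_left
      (PLocal.fstar_ne_bot G))).trans topEquiv).trans e⟩
  · exact ⟨(MulEquiv.subgroupCongr (fstar_eq (normal_of_index_eq_two h1) e.isSimpleGroup h2)).trans e⟩

end Cfsg.Agent.Loc3
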