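import Cfsg.Agent.Loc3.V4F
import Cfsg.Agent.Char.Cube

/-!
More finite facts on the module `V4` for `A₆`.
-/

set_option autoImplicit false
set_option synthInstance.maxSize 100000

namespace Cfsg.Agent.Loc3

open Equiv Equiv.Perm Cfsg.Agent.Char Cfsg.Agent.Char.Euclid

def ev : V4 := v4 1 2 0 0
instance vv_ev : VV ev 0x000021 := ⟨by decide +kernel⟩
def fv : V4 := v4 0 0 0 1
instance vv_fv : VV fv 0x021000 := ⟨by decide +kernel⟩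

/-- multiples of `yv` -/
abbrev Yv (v : V4) : Prop := v = 1 ∨ v = yv ∨ v = yv⁻¹

theorem p6_t : ∀ σ : A6, σ ^ 3 = 1 → act σ zv = zv → σ * (tA * σ * tA⁻¹) = 1 := pd!

theorem pz_t : ∀ v, Pz v → act tA v = v → Zv v := pd!

theorem fixT : ∀ v, act tA v = v ↔ ∃ x ∈ [1, zv, zv⁻¹], ∃ y ∈ [1, wv, wv⁻¹], v = x * y := pd!

theorem negT : ∀ v, act tA v = v⁻¹ ↔ ∃ x ∈ [1, ev, ev⁻¹], ∃ y ∈ [1, fv, fv⁻¹], v = x * y := pd!

theorem pz_dec : ∀ v, Pz v → ∃ u, act tA u = u⁻¹ ∧ Zv (u⁻¹ * v) := pd!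

theorem v_dec : ∀ v, ∃ u, act tA u = u⁻¹ ∧ act tA (u⁻¹ * v) = u⁻¹ * v := pd!

theorem sing_D : ∀ v, act tA v = v → qn v = 0 →
    v = 1 ∨ (v = zv ∨ v = zv⁻¹) ∨ (v = wv ∨ v = wv⁻¹) := pd!

theorem neg_an : ∀ v, act tA v = v⁻¹ → Pz v ∧ (qn v = 0 → v = 1) := pd!

theorem no_neg : ∀ σ : A6, ¬ ∀ v, act σ v = v⁻¹ := pd!

theorem c_tA : ∀ σ : A6, Commute σ tA → σ ^ 4 = 1 := pd!

theorem zw_sing : ∀ a, Zv a → qn (wv⁻¹ * a) = 0 → a = 1 := pd!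

theorem a6_inv : ∀ σ : A6, σ * σ = 1 → σ ≠ 1 → ∃ k, k * σ * k⁻¹ = tA := pd!

theorem plane : ∀ v, ¬ Yv v → (∃ a ∈ [1, yv, yv⁻¹], qn (v * a) = 0 ∧ v * a ≠ 1 ∧ yv ≠ v * a ∧
    yv ≠ (v * a)⁻¹) ∨ ∀ a ∈ [1, yv, yv⁻¹], qn (v * a) ≠ 0 := pd!

theorem an_fix : ∀ σ : A6, act σ yv = yv → ∀ v, (∀ a ∈ [1, yv, yv⁻¹], qn (v * a) ≠ 0) →
    act σ v = v → σ = 1 := pd!

theorem an_neg : ∀ σ : A6, act σ yv = yv⁻¹ → ∀ v, (∀ a ∈ [1, yv, yv⁻¹], qn (v * a) ≠ 0) →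
    act σ v = v⁻¹ → ∀ u, ∃ a ∈ [1, yv, yv⁻¹], ∃ b ∈ [1, v, v⁻¹], (act σ u)⁻¹ * u = a * b := pd!

theorem fix_sing : ∀ σ : A6, σ ^ 3 = 1 → ∃ s, act σ s = s ∧ qn s = 0 ∧ s ≠ 1 ∧ yv ≠ s ∧ yv ≠ s⁻¹ :=
  pd!

theorem stab_y : ∀ σ : A6, act σ yv = yv →
    ∃ a ∈ [1, tA, nA, tA * nA], ∃ b ∈ [1, cA, cA⁻¹], σ = a * b := pd!

theorem stab_four : ∀ σ : A6, act σ yv = yv → ∀ a ∈ [1, tA, nA, tA * nA],
    σ * a * σ⁻¹ ∈ [1, tA, nA, tA * nA] := pd!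

theorem stab_t : ∀ σ : A6, Commute σ tA → act σ yv = yv → σ ∈ [1, tA, nA, tA * nA] := pd!

/-- a complement to `yv` -/
def emb : V3 →* V4 := MonoidHom.mk' (fun v => v4 (2 * v.toAdd.1 + v.toAdd.2.1 + v.toAdd.2.2)
  (v.toAdd.1 + 2 * v.toAdd.2.1 + v.toAdd.2.2) 0 (v.toAdd.1 + v.toAdd.2.1 + 2 * v.toAdd.2.2))
  (by decide +kernel)

theorem emb_inj : ∀ v, Yv (emb v) → v = 1 := by decide +kernel

theorem emb_dec : ∀ u, ∃ v, Yv ((emb v)⁻¹ * u) := by decide +kernel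

theorem emb_four : ∀ (w : W2) v, act (tA ^ w.toAdd.1.val * nA ^ w.toAdd.2.val : A6) (emb v) =
    emb (S3701.act w v) := by decide +kernel

theorem emb_c : act cA (emb (v3 1 1 1)) = emb (v3 1 1 1) := by decide +kernel

/-- the action of `S₄` on six points -/
def thf (w : Cube.W) (i : Fin 6) : Fin 6 :=
  ![![0, 1, 3, 4] (w 0), ![0, 1, 3, 4] (w 1), if sign w = 1 then 2 else 5, ![0, 1, 3, 4] (w 2),
    ![0, 1, 3, 4] (w 3), if sign w = 1 then 5 else 2] i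

/-- `S₄` in `S₆` -/
def th0 : Cube.W →* Perm (Fin 6) := MonoidHom.toHomPerm
  ⟨⟨thf, funext (by decide +kernel)⟩, fun a b => funext (by revert a b; decide +kernel)⟩

/-- `S₄` in `A₆` -/
def th : Cube.W →* A6 := th0.codRestrict _ fun w => by
  rw [mem_alternatingGroup]; revert w; decide +kernel

theorem th_act : ∀ w v, act (th w) (emb v) =
    if sign w = 1 then emb (Cube.act w v) else (emb (Cube.act w v))⁻¹ := by decide +kernel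

theorem th_y : ∀ w, act (th w) yv = if sign w = 1 then yv else yv⁻¹ := by decide +kernel

theorem th_surj (σ : A6) (h : act σ yv = yv ∨ act σ yv = yv⁻¹) : ∃ w, th w = σ := by
  have key : ∀ σ : A6, act σ yv = yv → σ ∈ th.range := fun σ h => by
    have h1 : tA ∈ th.range := ⟨swap 0 1 * swap 2 3, by decide +kernel⟩
    have h2 : nA ∈ th.range := ⟨swap 0 2 * swap 1 3, by decide +kernel⟩
    have h3 : cA ∈ th.range := ⟨swap 0 1 * swap 1 2, by decide +kernel⟩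
    obtain ⟨a, ha, b, hb, rfl⟩ := stab_y σ h
    simp only [List.mem_cons, List.not_mem_nil, or_false] at ha hb
    refine mul_mem ?_ ?_
    · rcases ha with rfl | rfl | rfl | rfl
      exacts [one_mem _, h1, h2, mul_mem h1 h2]
    · rcases hb with rfl | rfl | rfl
      exacts [one_mem _, h3, inv_mem h3]
  rcases h with h | h
  · exact key σ h
  · refine (mul_mem_cancel_right (th.mem_range.2 ⟨swap 0 1, rfl⟩)).1 (key _ ?_)
    rw [Subgroup.coe_mul, act_mul, th_y, if_neg (by simp), act_vinv, h, inv_inv]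

end Cfsg.Agent.Loc3
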