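import Cfsg.Agent.Loc3.McB
import Cfsg.Agent.Loc3.V4G

/-!
The 3-local configuration of the McLaughlin group: the involution `t`.
-/

set_option autoImplicit false
set_option synthInstance.maxSize 100000

namespace Cfsg.Agent.Loc3

open Subgroup Cfsg Cfsg.Agent.PLocal.Amb MC

variable {G : Type*} [Group G]

theorem one_of_two_three {x : G} (h2 : x * x = 1) {k : ℕ} (h3 : x ^ 3 ^ k = 1) : x = 1 :=
  (pow_eq_one_iff_of_coprime (m := 2) (Nat.Coprime.pow_right k (by norm_num))).1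
    ⟨(pow_two x).trans h2, h3⟩

theorem mem_map_pair {A : Type*} [Group A] (f : A →* G) {a b : A} {x : G} :
    x ∈ closure ({f a, f b} : Set G) ↔ ∃ y ∈ closure ({a, b} : Set A), f y = x := by
  rw [← Set.image_pair, ← MonoidHom.map_closure]; rfl

theorem a5_inv : ∀ x : A5, x ^ 3 = 1 → x ≠ 1 → ∃ d, d * x * d⁻¹ = x⁻¹ ∧ d * d = 1 := pd!

theorem a5_cen : ∀ x : A5, Commute x a5 → Commute x c5 → x = 1 := pd!

/-- the hypotheses with an involution -/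
structure MT (φ : V4 →* G) (S Q L M : Subgroup G) (lam : G → SL25) (π : G → A6) (t : G) : Prop
    extends MC φ S Q L M lam π where
  tM : t ∈ M
  πt : π t = tA
  t2 : t * t = 1

/-- acts as `-1` -/
def IsE (φ : V4 →* G) (e : G) : Prop := ∀ v, e * φ v * e⁻¹ = (φ v)⁻¹

/-- an element of order four of `L` inverting `w` -/
structure J0 (φ : V4 →* G) (L : Subgroup G) (t j : G) : Prop where
  mem : j ∈ L
  ct : Commute j t
  sq : j * j = t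
  inv : j * φ wv * j⁻¹ = (φ wv)⁻¹

/-- centralises `C_L(t)` modulo `Z` -/
def Tr (φ : V4 →* G) (L : Subgroup G) (t c : G) : Prop :=
  ∀ l ∈ L, Commute l t → l * c * l⁻¹ * c⁻¹ ∈ zpowers (φ zv)

variable {φ : V4 →* G} {S Q L M : Subgroup G} {lam : G → SL25} {π : G → A6} {t : G}

local notation "𝐉" => MonoidHom.range φ
local notation "𝐳" => φ zv
local notation "𝐰" => φ wv
local notation "𝐙" => zpowers (φ zv)
local notation "𝐃" => closure ({φ zv, φ wv} : Set G)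
local notation "𝐄" => closure ({φ ev, φ fv} : Set G)

variable [Finite G]

theorem MC.exists_MT (h : MC φ S Q L M lam π) : ∃ t, MT φ S Q L M lam π t := by
  obtain ⟨t, h1, h2, h3⟩ := h.pm.exists_lift' (m := 2) (by rw [h.cJ]; norm_num)
    (show tA ^ 2 = 1 from pd!)
  exact ⟨t, h, h1, h2, (pow_two t).symm.trans h3⟩

theorem MC.invQ (h : MC φ S Q L M lam π) {s : G} (c : Commute s 𝐳) (s2 : s * s = 1)
    (hC : ∀ x ∈ Q, Commute x s → x ∈ 𝐙) {x : G} (hx : x ∈ Q) :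
    ∃ a ∈ 𝐙, s * x * s⁻¹ = x⁻¹ * a := by
  have hy := h.conjQ (nz c) hx
  refine ⟨_, hC _ (mul_mem hx hy) (comm_of_conj ?_).symm, by group⟩
  obtain ⟨n, e⟩ := h.Qc _ hy _ hx
  have e1 : ∀ y, s * (s * y * s⁻¹) * s⁻¹ = y := fun y => swap_conj s2 rfl
  have e2 : s * (x * (s * x * s⁻¹)) * s⁻¹ = 𝐳 ^ n * (x * (s * x * s⁻¹)) := by
    rw [← conj_mul, e1, show 𝐳 ^ n = _ from e]; group
  have e3 := e1 (x * (s * x * s⁻¹))
  rw [e2, ← conj_mul, e2, conj_of_comm (c.zpow_right n), ← mul_assoc, mul_eq_right] at e3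
  rw [e2, one_of_two_three e3 (k := 1) (h.Z3 ⟨n, rfl⟩), one_mul]

theorem MC.f2' (h : MC φ S Q L M lam π) {v : V4} (e : IsConj 𝐳 (φ v)) : qn v = 0 :=
  h.f2 (isConj_iff.1 e).choose_spec

theorem MC.cjz (h : MC φ S Q L M lam π) {v : V4} (e : qn v = 0) (v1 : v ≠ 1) : IsConj 𝐳 (φ v) :=
  (h.exists_sing' e v1).elim fun m k => isConj_iff.2 ⟨m, k.2⟩

namespace MT

variable (h : MT φ S Q L M lam π t)
include h

omit [Finite G] in
theorem t1 : t ≠ 1 := fun e => absurd (h.πt.symm.trans (e ▸ h.pm.map_one)) pd!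

omit [Finite G] in
theorem ct {v : V4} : Commute t (φ v) ↔ act tA v = v := h.πt ▸ h.fix h.tM

omit [Finite G] in
theorem tz : Commute t 𝐳 := h.ct.2 pd!

omit [Finite G] in
theorem tw : Commute t 𝐰 := h.ct.2 pd!

theorem tL : t ∈ L := by
  obtain ⟨s, h1, h2, h3⟩ := h.pl.exists_lift' (m := 2) (by rw [h.cQ]; norm_num)
    (show (-1 : SL25) ^ 2 = 1 by simp)
  have s2 := (pow_two s).symm.trans h3
  have s1 : s ≠ 1 := fun e => sl_ne (h2.symm.trans (e ▸ h.pl.map_one))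
  have c := h.tz.mul_left (h.Lz h1)
  refine (mul_mem_cancel_right h1).1 (h.L3 _ (nz c) ⟨2, ?_⟩)
  rw [pow_two, pow_mul]
  refine h.Z3 (h.cenQ fun x hx => ?_)
  obtain ⟨a, ⟨n, rfl⟩, e⟩ := h.invQ (h.Lz h1) s2 (fun x => h.fix2 h1 s2 s1) hx
  obtain ⟨b, ⟨m, rfl⟩, e'⟩ := h.invQ h.tz h.t2 (fun x hx c => by
    have p := h.memS.1 (h.QS hx)
    have := p6_t _ p.2.1 p.2.2
    rw [← h.πt, ← h.pm.map_conj h.tM p.1, conj_of_comm c.symm] at this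
    obtain ⟨v, rfl⟩ := (h.pm.ker p.1).1 (one_of_two_three this (k := 1) p.2.1)
    exact h.memZ.2 (pz_t v (h.memQ.1 hx) (h.ct.1 c.symm))) (inv_mem hx)
  refine cube_cent (a := (𝐳 ^ m)⁻¹⁻¹ * 𝐳 ^ n) ?_ ?_ (h.Z3 (mul_mem (by simp) (by simp)))
  · rw [show t * s * x * (t * s)⁻¹ = t * (s * x * s⁻¹) * t⁻¹ by group, e, ← conj_mul, e',
      conj_of_comm (h.tz.zpow_right n)]
    group
  · exact (c.zpow_right m).inv_right.inv_right.mul_right (c.zpow_right n)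

theorem lt : lam t = -1 := h.lam_inv h.tL h.t2 h.t1

theorem ft {x : G} (hx : x ∈ Q) (c : Commute x t) : x ∈ 𝐙 := h.fix2 h.tL h.t2 h.t1 hx c

theorem fratQ {g : G} (hg : g ∈ 𝐍[𝐙]) : ∃ q ∈ Q, Commute (q * g) t := by
  have h1 := conj_mem_of_mem_normalizer (h.NL hg) h.tL
  refine frat2 h.pQ h.t2 ((h.pl.ker (mul_mem h.tL h1)).1 ?_)
  rw [h.pl.mul h.tL h1, h.lt, h.lam_inv h1 (by rw [conj_mul, h.t2]; simp) (by simpa using h.t1)]
  simp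

theorem plt : PH (L ⊓ centralizer {t}) 𝐙 lam :=
  ⟨⟨le_inf (h.ZQ.trans h.pl.le) (zpowers_le.2 (mem_cent.2 h.tz.symm)),
    fun a b => h.pl.mul a.1 b.1, fun a => (h.pl.ker a.1).trans
      ⟨fun e => h.ft e (mem_cent.1 a.2), fun e => h.ZQ e⟩⟩, fun x => by
    obtain ⟨l, hl, rfl⟩ := h.pl.surj x
    obtain ⟨q, hq, c⟩ := h.fratQ (h.LN hl)
    exact ⟨_, ⟨mul_mem (h.pl.le hq) hl, mem_cent.2 c⟩, by
      rw [h.pl.mul (h.pl.le hq) hl, h.pl.of_mem hq, one_mul]⟩⟩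

theorem liftT {σ : A6} (c : Commute σ tA) {n : ℕ} (hn : n.Coprime 81) (e : σ ^ n = 1) :
    ∃ m ∈ M, π m = σ ∧ Commute m t ∧ m ^ n = 1 := by
  obtain ⟨g, hg, rfl⟩ := h.pm.surj σ
  have h1 := mul_mem (mul_mem hg h.tM) (inv_mem hg)
  obtain ⟨k, hk, c'⟩ := frat2 h.pJ h.t2 ((h.pm.ker (mul_mem h.tM h1)).1 (by
    rw [h.pm.mul h.tM h1, h.pm.map_conj hg h.tM, h.πt, conj_of_comm c]; exact pd!))
  have h2 := mul_mem (h.pm.le hk) hg
  have h3 : π (k * g) = π g := by rw [h.pm.mul (h.pm.le hk) hg, h.pm.of_mem hk, one_mul]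
  obtain ⟨_, ⟨i, rfl⟩, e1, e2⟩ := h.pm.exists_lift (h.cJ ▸ hn) h2 (h3 ▸ e)
  exact ⟨_, zpow_mem h2 i, e1.trans h3, c'.zpow_left i, e2⟩

omit [Finite G] in
theorem memD {x : G} : x ∈ 𝐃 ↔ x ∈ 𝐉 ∧ Commute t x := by
  rw [mem_map_pair]
  refine ⟨?_, fun ⟨⟨v, e⟩, c⟩ => ⟨v, ?_, e⟩⟩
  · rintro ⟨v, hv, rfl⟩
    exact ⟨mJ φ v, h.ct.2 ((fixT v).2 ((mem_pair (v4_cube _) (v4_cube _) (Commute.all _ _)).1 hv))⟩
  · exact (mem_pair (v4_cube _) (v4_cube _) (Commute.all _ _)).2 ((fixT v).1 (h.ct.1 (e ▸ c)))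

omit [Finite G] in
theorem memE {x : G} : x ∈ 𝐄 ↔ ∃ v, act tA v = v⁻¹ ∧ φ v = x := by
  simp only [mem_map_pair, mem_pair (v4_cube _) (v4_cube _) (Commute.all _ _), ← negT]

omit [Finite G] in
theorem memE' {x : G} : x ∈ 𝐄 ↔ x ∈ 𝐉 ∧ t * x * t⁻¹ = x⁻¹ := by
  rw [h.memE]
  refine ⟨?_, fun ⟨⟨v, e⟩, c⟩ => ⟨v, h.inj ?_, e⟩⟩
  · rintro ⟨v, hv, rfl⟩
    exact ⟨mJ φ v, by rw [h.ac h.tM, h.πt, hv, map_inv]⟩
  · rw [← h.πt, ← h.ac h.tM, map_inv, e, c]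

omit [Finite G] in
theorem not_zp {u v : V4} (e : ¬ (u = 1 ∨ u = v ∨ u = v⁻¹)) : φ u ∉ zpowers (φ v) := by
  rw [mem_zpowers_three (cube φ _), ← map_inv, ← map_one φ]
  simpa only [h.inj.eq_iff] using e

theorem cD : Nat.card 𝐃 = 9 :=
  card_nine (cube φ _) (cube φ _) (cm φ _ _) (h.ne1 pd!) (h.not_zp pd!)

theorem cE : Nat.card 𝐄 = 9 :=
  card_nine (cube φ _) (cube φ _) (cm φ _ _) (h.ne1 pd!) (h.not_zp pd!)

theorem ND {g : G} (hg : g ∈ 𝐍[𝐃]) : g ∈ 𝐍[𝐉] := h.cz2 (v := zv) (u := wv) pd! pd! (h.not_zp pd!)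
  (h.memD.1 (conj_mem_of_mem_normalizer hg mem_l)).1
  (h.memD.1 (conj_mem_of_mem_normalizer hg mem_r)).1

theorem ND' {g : G} (hg : g ∈ 𝐍[𝐉]) (c : Commute g t) : g ∈ 𝐍[𝐃] :=
  mem_normalizer_of_cj_le (cj_le_iff_forall.2 fun x hx => h.memD.2
    ⟨conj_mem_of_mem_normalizer hg (h.memD.1 hx).1,
      conj_of_comm c ▸ Commute.cj (h.memD.1 hx).2 g⟩)

theorem sylD : IsSyl 3 𝐃 (centralizer {t}) := isSyl_of_isSyl_normalizer
  ⟨le_inf (fun x hx => mem_cent.2 (h.memD.1 hx).2.symm) le_normalizer,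
    h.pJ.to_le fun x hx => (h.memD.1 hx).1, fun T hT _ h2 g hg => by
      have hM := h.le_M hT (fun x hx => h.ND (h2 hx).2) hg
      have c := mem_cent.1 (h2 hg).1
      obtain ⟨k, e⟩ := isPGroup_iff.1 hT g hg
      refine h.memD.2 ⟨(h.pm.ker hM).1 ((pow_eq_one_iff_of_coprime
        (Nat.Coprime.pow_right k (show Nat.Coprime 4 3 by norm_num))).1 ⟨c_tA _ ?_,
          by rw [← h.pm.map_pow hM, e, h.pm.map_one]⟩), c.symm⟩
      exact comm_of_conj (by rw [← h.πt, ← h.pm.map_conj hM h.tM, conj_of_comm c])⟩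

omit [Finite G] in
theorem NE {g x : G} (hg : g ∈ 𝐍[𝐉]) (c : Commute g t) (hx : x ∈ 𝐄) : g * x * g⁻¹ ∈ 𝐄 :=
  h.memE'.2 ⟨conj_mem_of_mem_normalizer hg (h.memE'.1 hx).1, by
    rw [conj_inv, ← (h.memE'.1 hx).2]
    calc _ = t * g * x * (t * g)⁻¹ := by group
      _ = _ := by rw [← c.eq]; group⟩

theorem wL : 𝐰 ∈ L := h.SL (h.mS _)

theorem lw : mu (lam 𝐰) ≠ 1 := fun e => by
  have h3 : lam 𝐰 ^ 3 = 1 := by rw [← h.pl.map_pow h.wL, cube, h.pl.map_one]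
  rcases mu_ker.1 e with e | e
  · exact absurd (h.memQ.1 ((h.pl.ker h.wL).1 e)) pd!
  · rw [e] at h3; exact sl_ne (by simpa [pow_succ] using h3)

theorem w_sing {a : G} (ha : a ∈ 𝐙) (e : IsConj 𝐳 (𝐰⁻¹ * a)) : a = 1 := by
  obtain ⟨v, rfl⟩ := zpowers_le.2 (mJ φ zv) ha
  rw [zw_sing v (h.memZ.1 ha) (h.f2' (by rwa [map_mul, map_inv])), map_one]

theorem exists_J0 : ∃ j, J0 φ L t j := by
  have h3 : lam 𝐰 ^ 3 = 1 := by rw [← h.pl.map_pow h.wL, cube, h.pl.map_one]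
  obtain ⟨d, e1, e2⟩ := a5_inv _ (by rw [← map_pow, h3, map_one]) h.lw
  obtain ⟨d, rfl⟩ := mu_surj d
  have k1 : d * d = -1 := (mu_ker.1 (map_mul mu d d ▸ e2)).resolve_left fun e => h.lw (by
    rw [mu_ker.2 (sl_inv e)] at e1
    exact one_of_two_three (mul_eq_one_iff_eq_inv.2 (by simpa using e1)) (k := 1)
      (by rw [← map_pow, pow_one, h3, map_one]))
  obtain ⟨j, hj, rfl, j4⟩ := h.plt.exists_lift' (m := 4) (by rw [h.cZ]; norm_num)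
    (show d ^ 4 = 1 by rw [show 4 = 2 * 2 from rfl, pow_mul, pow_two d, k1]; simp)
  have c := mem_cent.1 hj.2
  have hw : 𝐰 ∈ L ⊓ centralizer {t} := ⟨h.wL, mem_cent.2 h.tw.symm⟩
  have ht : t ∈ L ⊓ centralizer {t} := ⟨h.tL, mem_cent.2 (Commute.refl t)⟩
  refine ⟨j, hj.1, c, mul_inv_eq_one.1 (one_of_two_three ?_ (k := 1) (h.Z3
    ((h.plt.eq_iff (mul_mem hj hj) ht).1 (by rw [h.plt.mul hj hj, k1, h.lt])))), ?_⟩
  · rw [← pow_two, ((c.mul_left c).inv_right).mul_pow, inv_pow, pow_two t, h.t2, ← pow_two j,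
      ← pow_mul, j4]; simp
  · have h1 := mul_mem (mul_mem hj hw) (inv_mem hj)
    have h2 : 𝐰 * (j * 𝐰 * j⁻¹) ∈ 𝐙 := (h.plt.ker (mul_mem hw h1)).1 (by
      rw [h.plt.mul hw h1, h.plt.map_conj hj hw]
      rcases mu_ker.1 (show mu (lam 𝐰 * (lam j * lam 𝐰 * (lam j)⁻¹)) = 1 by
        simp only [map_mul, map_inv, e1, mul_inv_cancel]) with e | e
      · exact e
      · have := cube_conj (g := lam j) h3
        rw [eq_inv_mul_iff_mul_eq.2 e, mul_neg, mul_one, Odd.neg_pow (by decide), inv_pow, h3,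
          inv_one] at this
        exact absurd this sl_ne)
    exact eq_inv_of_mul_eq_one_right (h.w_sing h2 ((h.cjz (v := wv) pd! pd!).trans
      (isConj_iff.2 ⟨j, by group⟩)))

theorem tr_of {c : G} (hc : c ∈ 𝐍[𝐙]) (ct : Commute c t) (e : ∀ l ∈ L, Commute l t →
    (∃ k, l ^ 3 ^ k = 1) → l * c * l⁻¹ * c⁻¹ ∈ 𝐙 ∨ l * c * l⁻¹ * c⁻¹ * t ∈ 𝐙) : Tr φ L t c :=
  fun l hl c' => (h.plt.le_of (h.pQ.to_le h.ZQ) gen_SL25 (Y := Wq (inf_le_left.trans h.LN) c)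
    (fun l hl ⟨k, l3⟩ => ⟨hl, (e l hl.1 (mem_cent.1 hl.2) ⟨k, l3⟩).resolve_right fun e => h.t1 (by
      have lt := mem_cent.1 hl.2
      have h1 : (c * l⁻¹ * c⁻¹) ^ 3 ^ (k + 1) = 1 := cube_conj (by rw [inv_pow, pow_succ, pow_mul, l3]; simp)
      have h2 : (l * c * l⁻¹ * c⁻¹ * t) ^ 3 ^ (k + 1) = 1 := by
        rw [pow_succ' 3, pow_mul, h.Z3 e, one_pow]
      have h3 : l⁻¹ ^ 3 ^ (k + 1) = 1 := by rw [inv_pow, pow_succ, pow_mul, l3]; simp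
      rw [show c * l⁻¹ * c⁻¹ = l⁻¹ * (l * c * l⁻¹ * c⁻¹ * t) * t by simp [mul_assoc, h.t2],
        (lt.inv_left.mul_left (h.LZ' h.tL e).symm).mul_pow, (h.LZ' (inv_mem hl.1) e).mul_pow, h2, h3,
        one_mul, one_mul] at h1
      exact one_of_two_three h.t2 h1)⟩) ⟨hl, mem_cent.2 c'⟩).2

omit [Finite G] in
theorem tr_t {c : G} (e : Tr φ L t c) : Tr φ L t (c * t) := fun l hl c' => by
  convert e l hl c' using 1
  calc _ = l * c * (t * l⁻¹ * t⁻¹) * c⁻¹ := by group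
    _ = _ := by rw [conj_of_comm c'.symm.inv_right]

theorem tr_lam {c l : G} (hc : c ∈ 𝐍[𝐙]) (e : Tr φ L t c) (hl : l ∈ L) (c' : Commute l t) :
    lam (c * l * c⁻¹) = lam l := by
  have := h.pl.of_mem (h.ZQ (e l⁻¹ (inv_mem hl) c'.inv_left))
  rw [inv_inv, mul_assoc, mul_assoc, ← mul_assoc c, h.pl.mul (inv_mem hl)
    (conj_mem_of_mem_normalizer (h.NL hc) hl), h.pl.map_inv hl] at this
  exact (inv_mul_eq_one.1 this).symm

theorem tr_NJ {c : G} (hc : c ∈ 𝐍[𝐙]) (e : Tr φ L t c) : c ∈ 𝐍[𝐉] :=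
  h.cz1 hc (v := wv⁻¹) pd! (by
    simpa [mul_assoc] using mul_mem (inv_mem (mJ φ wv))
      (zpowers_le.2 (mJ φ zv) (e _ h.wL h.tw.symm)))

theorem j_NJ {j : G} (hj : J0 φ L t j) : j ∈ 𝐍[𝐉] :=
  h.cz1 (h.LN hj.mem) (v := wv) pd! (hj.inv ▸ inv_mem (mJ φ wv))

theorem cE3 {k : G} (kz : Commute k 𝐳) (c : ∀ x ∈ 𝐄, k * x * k⁻¹ = x) : k ^ 3 ∈ 𝐙 ∧ k ∈ L := by
  have := h.cA (g := k) fun v hv => by
    obtain ⟨u, hu, e⟩ := pz_dec v hv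
    obtain ⟨n, e⟩ := h.memZ.2 e
    rw [← mul_inv_cancel_left u v, map_mul, ← e]
    exact (comm_of_conj (c _ (h.memE.2 ⟨u, hu, rfl⟩))).mul_right (kz.zpow_right n)
  exact ⟨this, h.L3 k (nz kz) ⟨2, by rw [pow_two, pow_mul, h.Z3 this]⟩⟩

omit [Finite G] in
theorem pm_fix {k : G} (c : (∀ x ∈ 𝐄, k * x * k⁻¹ = x) ∨ ∀ x ∈ 𝐄, k * x * k⁻¹ = x⁻¹) :
    ∃ s, (s = 1 ∨ s = t) ∧ (∀ x ∈ 𝐄, k * s * x * (k * s)⁻¹ = x) ∧
      ∀ x ∈ 𝐄, k * s * t * x * (k * s * t)⁻¹ = x⁻¹ := by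
  have key : ∀ k : G, ∀ x ∈ 𝐄, k * t * x * (k * t)⁻¹ = (k * x * k⁻¹)⁻¹ := fun k x hx => by
    rw [conj_inv, ← (h.memE'.1 hx).2]; group
  rcases c with c | c
  · exact ⟨1, Or.inl rfl, by simpa using c, fun x hx => by rw [key _ _ hx, mul_one, c _ hx]⟩
  · exact ⟨t, Or.inr rfl, fun x hx => by rw [key _ _ hx, c _ hx, inv_inv],
      fun x hx => by rw [key _ _ hx, key _ _ hx, c _ hx, inv_inv]⟩

theorem no_inv {c j : G} (hj : J0 φ L t j) (cz : Commute c 𝐳) (e : Tr φ L t c) :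
    ¬ ((∀ x ∈ 𝐄, c * j * x * (c * j)⁻¹ = x) ∨ ∀ x ∈ 𝐄, c * j * x * (c * j)⁻¹ = x⁻¹) := fun k => by
  obtain ⟨s, hs, k, -⟩ := h.pm_fix k
  have sz : Commute s 𝐳 ∧ Commute s 𝐰 := by
    rcases hs with rfl | rfl
    exacts [⟨Commute.one_left _, Commute.one_left _⟩, ⟨h.tz, h.tw⟩]
  obtain ⟨k3, kL⟩ := h.cE3 ((cz.mul_left (h.Lz hj.mem)).mul_left sz.1) k
  have h1 : lam (c * j * s) * lam 𝐰 * (lam (c * j * s))⁻¹ = (lam 𝐰)⁻¹ := by
    rw [← h.pl.map_conj kL h.wL, ← h.pl.map_inv h.wL,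
      ← h.tr_lam (nz cz) e (inv_mem h.wL) h.tw.symm.inv_left, ← hj.inv, ← conj_of_comm sz.2]
    congr 1
    rw [conj_of_comm sz.2]
    calc _ = c * (j * (s * 𝐰 * s⁻¹) * j⁻¹) * c⁻¹ := by group
      _ = _ := by rw [conj_of_comm sz.2]
  have h2 : lam (c * j * s) ^ 3 = 1 := by rw [← h.pl.map_pow kL, h.pl.of_mem (h.ZQ k3)]
  generalize lam (c * j * s) = x at h1 h2
  have h3 : x ^ 3 * lam 𝐰 * (x ^ 3)⁻¹ = (lam 𝐰)⁻¹ :=
    calc _ = x * (x * (x * lam 𝐰 * x⁻¹) * x⁻¹) * x⁻¹ := by simp [pow_succ, mul_assoc]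
      _ = _ := by rw [h1, ← conj_inv, h1, inv_inv, h1]
  rw [h2, one_mul, inv_one, mul_one] at h3
  exact h.lw (by rw [one_of_two_three (mul_eq_one_iff_eq_inv.2 h3) (k := 1) (by
    rw [pow_one, ← h.pl.map_pow h.wL, cube, h.pl.map_one]), map_one])

theorem cases9 {c j : G} (hj : J0 φ L t j) (hc : c ∈ 𝐍[𝐙]) (ct : Commute c t) (e : Tr φ L t c) :
    ((∀ x ∈ 𝐄, c * x * c⁻¹ = x) ∨ ∀ x ∈ 𝐄, c * x * c⁻¹ = x⁻¹) ∨
      ((∀ x ∈ 𝐄, c * j * x * (c * j)⁻¹ = x) ∨ ∀ x ∈ 𝐄, c * j * x * (c * j)⁻¹ = x⁻¹) := by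
  have EJ : ∀ x ∈ 𝐄, x ∈ 𝐉 := fun x hx => (h.memE'.1 hx).1
  rcases elem9 h.cE (fun x hx => h.J3 x (EJ x hx)) (fun x hx y hy => h.Jc x (EJ x hx) y (EJ y hy))
    (α := MulAut.conj j) (β := MulAut.conj c) (fun x => h.NE (h.j_NJ hj) hj.ct)
    (fun x => h.NE (h.tr_NJ hc e) ct) (fun x hx => by
      rw [← MulAut.mul_apply, ← map_mul, hj.sq]; exact (h.memE'.1 hx).2) (fun x hx => by
      have := h.Jc _ (zpowers_le.2 (mJ φ zv) (e j hj.mem hj.ct)) _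
        (EJ _ (h.NE (h.tr_NJ hc e) ct (h.NE (h.j_NJ hj) hj.ct hx)))
      exact (conj_of_comm this).symm.trans (by simp [mul_assoc])) with k | k | k
  · exact Or.inl k
  · exact Or.inr (by simpa [mul_assoc] using k)
  · refine absurd (by simpa [mul_assoc] using k) (h.no_inv hj (c := c * c) (comm_of_conj ?_)
      fun l hl lt => ?_)
    · rcases (mem_norm_three (cube φ _) (h.ne1 pd!)).1 hc with k | k
      · simp only [mul_inv_rev, ← mul_assoc]; rw [mul_assoc c c, mul_assoc c, k, k]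
      · simp only [mul_inv_rev, ← mul_assoc]; rw [mul_assoc c c, mul_assoc c, k, ← conj_inv, k, inv_inv]
    · simpa [mul_assoc] using mul_mem (e l hl lt) (conj_mem_of_mem_normalizer hc (e l hl lt))

theorem kerR {c : G} (cz : Commute c 𝐳) (ct : Commute c t) (e : Tr φ L t c) :
    c ∈ 𝐙 ∨ c * t ∈ 𝐙 := by
  obtain ⟨j, hj⟩ := h.exists_J0
  obtain ⟨s, hs, k, -⟩ := h.pm_fix ((h.cases9 hj (nz cz) ct e).resolve_right (h.no_inv hj cz e))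
  have key : ∀ c, Commute c 𝐳 → Commute c t → Tr φ L t c → (∀ x ∈ 𝐄, c * x * c⁻¹ = x) → c ∈ 𝐙 :=
    fun c cz ct e k => by
    obtain ⟨k3, kL⟩ := h.cE3 cz k
    have h1 : ∀ x, Commute (mu (lam c)) x := fun x => by
      obtain ⟨x, rfl⟩ := mu_surj x
      obtain ⟨l, hl, rfl⟩ := h.plt.surj x
      refine (comm_of_conj ?_).map mu
      rw [← h.pl.map_conj kL hl.1, h.tr_lam (nz cz) e hl.1 (mem_cent.1 hl.2)]
    refine h.ft ((h.pl.ker kL).1 ((mu_ker.1 (a5_cen _ (h1 _) (h1 _))).resolve_right fun e => ?_)) ct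
    have := h.pl.of_mem (h.ZQ k3)
    rw [h.pl.map_pow kL, e] at this
    exact sl_ne (by simpa [pow_succ] using this)
  rcases hs with rfl | rfl
  · exact Or.inl (key c cz ct e (by simpa using k))
  · exact Or.inr (key _ (cz.mul_left h.tz) (ct.mul_left (Commute.refl _)) (h.tr_t e) k)

theorem exE {i j : G} (hj : J0 φ L t j) (iz : i * 𝐳 * i⁻¹ = 𝐳⁻¹) (ct : Commute i t)
    (e : Tr φ L t i) : ∃ s, (s = 1 ∨ s = t) ∧ IsE φ (i * j * s * t) := by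
  have nz' : ∀ {i}, i * 𝐳 * i⁻¹ = 𝐳⁻¹ → i ∈ 𝐍[𝐙] := fun e =>
    (mem_norm_three (cube φ _) (h.ne1 pd!)).2 (Or.inr e)
  have sz : ∀ {s}, s = 1 ∨ s = t → ∀ x ∈ 𝐃, s * x * s⁻¹ = x := by
    rintro _ (rfl | rfl) x hx
    exacts [by simp, conj_of_comm (h.memD.1 hx).2]
  rcases h.cases9 hj (nz' iz) ct e with k | k <;> obtain ⟨s, hs, k, k'⟩ := h.pm_fix k
  · have : Fact (Nat.Prime 5) := ⟨by norm_num⟩
    obtain ⟨x, hx⟩ := exists_prime_orderOf_dvd_card' (G := SL25) 5 (by rw [card_SL25]; norm_num)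
    obtain ⟨f, hf, rfl, f5⟩ := h.plt.exists_lift' (m := 5) (by rw [h.cZ]; norm_num)
      (hx ▸ pow_orderOf_eq_one x)
    have iz' : i * s * 𝐳 * (i * s)⁻¹ = 𝐳⁻¹ := by rw [← iz, ← sz hs _ mem_l, sz hs _ mem_l]; nth_rewrite 2 [← sz hs _ mem_l]; group
    have e' : Tr φ L t (i * s) := by
      rcases hs with rfl | rfl
      exacts [by simpa using e, h.tr_t e]
    rcases h.irr hf.1 f5 (by rintro rfl; simp [h.pl.map_one] at hx) (nz' iz')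
      (h.ZQ (by simpa using e' _ (inv_mem hf.1) (mem_cent.1 hf.2).inv_left)) with c | c
    · refine absurd (h.memZ.1 (c (φ ev) (h.memQ.2 pd!) ?_)) pd!
      rw [conj_of_comm (comm_of_conj (k _ mem_l)).symm, mul_inv_cancel]; exact one_mem _
    · rw [conj_of_comm c.1, ← map_inv] at iz'
      exact absurd (h.inj iz') pd!
  · refine ⟨s, hs, fun v => ?_⟩
    have iw : i * 𝐰⁻¹ * i⁻¹ = 𝐰⁻¹ := by
      have := h.w_sing (e _ h.wL h.tw.symm) ((h.cjz (v := wv⁻¹) pd! pd!).trans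
        (isConj_iff.2 ⟨i, by rw [map_inv]; group⟩))
      exact Eq.trans (by group) ((congrArg (𝐰⁻¹ * ·) this).trans (mul_one _))
    have h1 : ∀ x ∈ 𝐃, i * j * s * t * x * (i * j * s * t)⁻¹ = x⁻¹ := fun x hx => by
      rw [show i * j * s * t * x * (i * j * s * t)⁻¹ =
        i * (j * (s * (t * x * t⁻¹) * s⁻¹) * j⁻¹) * i⁻¹ by group, sz (Or.inr rfl) x hx, sz hs x hx]
      refine closure_induction (p := fun x _ => i * (j * x * j⁻¹) * i⁻¹ = x⁻¹) ?_ (by simp)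
        (fun a b ha hb e1 e2 => ?_) (fun a _ e => by rw [← conj_inv, ← conj_inv, e]) hx
      · rintro _ (rfl | rfl)
        · rw [conj_of_comm (h.Lz hj.mem), iz]
        · rw [hj.inv, iw]
      · rw [← conj_mul (b := j), ← conj_mul, e1, e2, ← mul_inv_rev,
          (h.Jc _ (h.memD.1 ha).1 _ (h.memD.1 hb).1).eq]
    obtain ⟨u, hu, hv⟩ := v_dec v
    rw [← mul_inv_cancel_left u v, map_mul, ← conj_mul, k' _ (h.memE.2 ⟨u, hu, rfl⟩),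
      h1 _ (h.memD.2 ⟨mJ φ _, h.ct.2 hv⟩), ← mul_inv_rev, (cm φ _ _).eq]

end MT

end Cfsg.Agent.Loc3
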