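import Cfsg.Agent.Loc3.PrY

/-!
The frame in the centraliser of a fixed point free element of order three of `Sym(9)`.
-/

set_option autoImplicit false
set_option maxRecDepth 100000
set_option synthInstance.maxHeartbeats 400000
set_option synthInstance.maxSize 4000

namespace Cfsg.Agent.Loc3.Pr

open Subgroup Cfsg Cfsg.Agent.Comp Cfsg.Agent.X32.TG Cfsg.Agent.PLocal.Amb
open Cfsg.Agent.X32 (TG Tab)
open Equiv (Perm swap)

abbrev d9 : Perm (Fin 9) := swap 0 1 * swap 1 2 * swap 3 4 * swap 4 5 * swap 6 7 * swap 7 8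

abbrev K9 : Subgroup (Perm (Fin 9)) := centralizer {d9}

def kz1 : K9 := ⟨swap 0 1 * swap 1 2, mem_cent.2 pd!⟩
def kz2 : K9 := ⟨swap 3 4 * swap 4 5, mem_cent.2 pd!⟩
def kz3 : K9 := ⟨swap 6 7 * swap 7 8, mem_cent.2 pd!⟩
def kρ : K9 := ⟨swap 0 3 * swap 3 6 * (swap 1 4 * swap 4 7) * (swap 2 5 * swap 5 8), mem_cent.2 pd!⟩
def ks : K9 := ⟨swap 0 3 * swap 1 4 * swap 2 5, mem_cent.2 pd!⟩
instance pv_kz1 : PV kz1.1 0x876543021 := PV.of_beq (σ := _ * _) _ (by decide +kernel)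
instance pv_kz2 : PV kz2.1 0x876354210 := PV.of_beq (σ := _ * _) _ (by decide +kernel)
instance pv_kz3 : PV kz3.1 0x687543210 := PV.of_beq (σ := _ * _) _ (by decide +kernel)
instance pv_kρ : PV kρ.1 0x210876543 := PV.of_beq (σ := _ * _) _ (by decide +kernel)
instance pv_ks : PV ks.1 0x876210543 := PV.of_beq (σ := _ * _) _ (by decide +kernel)

variable {G : Type*} [Group G] [Finite G]

theorem exists_NF {φ : K9 →* G} (inj : Function.Injective φ)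
    (cu : ∀ g, Commute g (φ (kz1 * kz2 * kz3)) → g ∈ φ.range) {J : Subgroup G} (hJ : J ≤ φ.range)
    (h3 : ∀ g ∈ J, g ^ 3 = 1) (hc : ∀ g ∈ J, ∀ k ∈ J, Commute g k) (c : Nat.card J = 27)
    (sig : Sig J) : ∃ x ρ s, NF x ρ s ∧ x.range = J := by
  obtain ⟨f, f1, f3, f9⟩ := exists_lin (A := kz1) (B := kz2) (C := kz3) pd! pd! pd! pd! pd! pd!
  have fi : Function.Injective (φ.comp f) := inj.comp ((injective_iff_map_eq_one f).2 fun v a => by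
    obtain ⟨i, hi, j, hj, k, hk, rfl⟩ := (bd! : ∀ v : V, ∃ i ∈ [0, 1, 2], ∃ j ∈ [0, 1, 2],
      ∃ k ∈ [0, 1, 2], v = e 1 ^ i * e 3 ^ j * e 9 ^ k) v
    simp only [map_mul, map_pow, f1, f3, f9] at a
    simp only [List.mem_cons, List.not_mem_nil, or_false] at hi hj hk
    rcases hi with rfl | rfl | rfl <;> rcases hj with rfl | rfl | rfl <;>
      rcases hk with rfl | rfl | rfl <;> first | exact bd! | exact absurd a pd!)
  have act : ∀ (k : K9) (h : H) (a b c : V), ac h (e 1) = a ∧ ac h (e 3) = b ∧ ac h (e 9) = c →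
      k * kz1 * k⁻¹ = f a ∧ k * kz2 * k⁻¹ = f b ∧ k * kz3 * k⁻¹ = f c → Act (φ.comp f) (φ k) h :=
    fun k h a b c p q => Act.of_three (hcj (by rw [f1, p.1, q.1])) (hcj (by rw [f3, p.2.1, q.2.1]))
      (hcj (by rw [f9, p.2.2, q.2.2]))
  have aρ := act kρ (e 1) (e 3) (e 9) (e 1) bd! (by rw [f1, f3, f9]; exact pd!)
  have as := act ks (e 3) (e 3) (e 1) (e 9) bd! (by rw [f1, f3, f9]; exact pd!)
  have st : ∀ k : K9, ∃ h ∈ (es [0, 1, 2, 3, 4, 5] : List H), Act (φ.comp f) (φ k) h := fun k => by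
    obtain ⟨i, hi, j, hj, c⟩ := (pd! : ∀ σ, Commute σ d9 → ∃ i ∈ [0, 1, 2], ∃ j ∈ [0, 1],
      σ * (kρ ^ i * ks ^ j).1 * kz1.1 * (σ * (kρ ^ i * ks ^ j).1)⁻¹ = kz1.1 ∧
      σ * (kρ ^ i * ks ^ j).1 * kz2.1 * (σ * (kρ ^ i * ks ^ j).1)⁻¹ = kz2.1 ∧
      σ * (kρ ^ i * ks ^ j).1 * kz3.1 * (σ * (kρ ^ i * ks ^ j).1)⁻¹ = kz3.1) k (mem_cent.1 k.2)
    have b := act (k * (kρ ^ i * ks ^ j)) 1 (e 1) (e 3) (e 9) bd! (by
      rw [f1, f3, f9]; exact ⟨Subtype.ext c.1, Subtype.ext c.2.1, Subtype.ext c.2.2⟩)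
    exact ⟨_, (bd! : ∀ i ∈ [0, 1, 2], ∀ j ∈ [0, 1], (e 1 ^ i * e 3 ^ j : H)⁻¹ ∈ es [0, 1, 2, 3, 4, 5])
      i hi j hj, by simpa [mul_assoc] using b.mul ((aρ.pow i).mul (as.pow j)).inv⟩
  have xa : (φ.comp f) (e 13) = φ (kz1 * kz2 * kz3) := by
    rw [(bd! : (e 13 : V) = e 1 * e 3 * e 9), ← f1, ← f3, ← f9]; simp
  have cent : ∀ g, (∀ v, Commute g ((φ.comp f) v)) → g ∈ (φ.comp f).range := fun g a => by
    obtain ⟨k, rfl⟩ := cu g (xa ▸ a _)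
    obtain ⟨i, -, j, -, l, -, b⟩ := (pd! : ∀ σ, Commute σ d9 → Commute σ kz1.1 → Commute σ kz2.1 →
      ∃ i ∈ [0, 1, 2], ∃ j ∈ [0, 1, 2], ∃ l ∈ [0, 1, 2], (kz1 ^ i * kz2 ^ j * kz3 ^ l).1 = σ) k
      (mem_cent.1 k.2) ((f1 ▸ Commute.of_map inj (a _)).map K9.subtype)
      ((f3 ▸ Commute.of_map inj (a _)).map K9.subtype)
    exact ⟨e 1 ^ i * e 3 ^ j * e 9 ^ l, congrArg φ (by
      simp only [map_mul, map_pow, f1, f3, f9]; exact Subtype.ext b)⟩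
  obtain rfl : J = (φ.comp f).range := eq_of_le_of_card_ge (le_range fi
    (fun g a => cent g fun v => a.comm (ac_one v)) (fun g a => by
      obtain ⟨k, rfl⟩ := hJ a
      exact (st k).imp fun _ b => b.2) h3 hc c) (c.trans (card_range fi).symm).ge
  have ca : ∀ n, Commute n ((φ.comp f) (e 13)) → ∃ h ∈ (es [0, 1, 2, 3, 4, 5] : List H),
      Act (φ.comp f) n h := fun n a => by
    obtain ⟨k, rfl⟩ := cu n (xa ▸ a)
    exact st k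
  obtain ⟨b, hb, mon⟩ := exists_frame fi ⟨_, trivial, aρ⟩ ⟨_, trivial, as⟩ fun n _ => ca n
  obtain ⟨b1, b2, b3, b4⟩ := (bd! : ∀ b ∈ (es [0, 13, 26] : List V),
    (∀ v, ac (e 1) (bt b v) = bt b (ac (e 1) v)) ∧ (∀ v, ac (e 3) (bt b v) = bt b (ac (e 3) v)) ∧
      bt b (e 13) = e 13 ∧ ∀ v, bt b (bt b⁻¹ v) = v) b hb
  have R : ((φ.comp f).comp (bt b)).range = (φ.comp f).range :=
    le_antisymm (by rintro _ ⟨v, rfl⟩; exact ⟨_, rfl⟩) (by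
      rintro _ ⟨v, rfl⟩; exact ⟨_, congrArg (φ.comp f) (b4 v)⟩)
  refine ⟨(φ.comp f).comp (bt b), φ kρ, φ ks, ⟨⟨⟨fi.comp (Finite.injective_iff_surjective.2
    fun v => ⟨_, b4 v⟩), fun g a => R ▸ cent g fun v => b4 v ▸ a _, fun n a => mon n (R ▸ a),
    R ▸ sig⟩, hpow pd!, hsq pd!, (hcj pd!).trans (map_inv ..), aρ.bt b1, as.bt b2⟩, fun g a => ?_⟩, R⟩
  obtain ⟨k, -, a⟩ := ca g (b3 ▸ a)
  exact R ▸ a.norm

end Cfsg.Agent.Loc3.Pr
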