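import Cfsg.Agent.Loc3.V4

/-!
Finite facts on the module `V4` for `A₆`.
-/

set_option autoImplicit false
set_option synthInstance.maxSize 100000

namespace Cfsg.Agent.Loc3

/-- the Sylow 3-subgroup fixing `zv` -/
abbrev P6 (σ : A6) : Prop := σ ^ 3 = 1 ∧ act σ zv = zv

/-- multiples of `zv` -/
abbrev Zv (v : V4) : Prop := v = 1 ∨ v = zv ∨ v = zv⁻¹

/-- orthogonal to `zv` -/
abbrev Pz (v : V4) : Prop := v * act c1 v * act (c1 * c1 : A6) v = 1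

theorem p6_mem : ∀ σ : A6, σ ^ 3 = 1 → act σ zv = zv →
    ∃ x ∈ [1, c1, c1⁻¹], ∃ y ∈ [1, c2, c2⁻¹], σ = x * y := pd!

theorem p6_of : ∀ x ∈ [1, c1, c1⁻¹], ∀ y ∈ [1, c2, c2⁻¹], P6 (x * y) := pd!

theorem p6_tv : ∀ σ : A6, σ ^ 3 = 1 → act σ zv = zv → ∀ v, ¬ Pz v → Zv (act σ v * v⁻¹) → σ = 1 :=
  pd!

theorem p6_nine : ∀ σ : A6, σ ^ 3 = 1 → act σ zv = zv → ∀ v, ¬ Pz v →
    v * act σ v * act (σ * σ : A6) v = 1 → σ = 1 := pd!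

theorem p6_cA : ∀ σ : A6, σ ^ 3 = 1 → act σ zv = zv → (∀ v, Pz v → act σ v = v) → σ = 1 := pd!

theorem p6_fix : ∀ σ : A6, σ ^ 3 = 1 → act σ zv = zv → σ ≠ 1 → ∃ u, ∀ v, act σ v = v →
    ∃ x ∈ [1, zv, zv⁻¹], ∃ y ∈ [1, u, u⁻¹], v = x * y := pd!

theorem p6_conj : ∀ σ : A6, σ ^ 3 = 1 → ∃ k : A6, act (k * σ * k⁻¹ : A6) zv = zv := pd!

theorem pz_gen : ∀ v, Pz v → ∃ u w, v = act c1 u * u⁻¹ * (act c2 w * w⁻¹) := pd!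

theorem pz_max : ∀ v, ¬ Pz v → ∀ u, ∃ k ∈ [1, v, v⁻¹], Pz (u * k) := pd!

theorem fix_p6 : ∀ v, act c1 v = v → act c2 v = v → Zv v := pd!

theorem qn_cases : ∀ v, qn v = 0 ∨ qn v = 1 ∨ qn v = 2 := pd!

theorem tr0 : ∀ v, qn v = 0 → v ≠ 1 → ∃ σ : A6, act σ zv = v := pd!

theorem tr1 : ∀ v, qn v = 1 → ∃ σ : A6, act σ (zv * wv⁻¹) = v := pd!

theorem tr2 : ∀ v, qn v = 2 → ∃ σ : A6, act σ yv = v := pd!

theorem pz_sing : ∀ v, Pz v → qn v = 0 → Zv v := pd!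

theorem zv_sing : ∀ v, Zv v → qn v = 0 := pd!

end Cfsg.Agent.Loc3
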