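import Cfsg.Agent.Loc3.Tools5
import Cfsg.Agent.Loc3.V4F

/-!
The 3-local configuration of the McLaughlin group: set-up.
-/

set_option autoImplicit false
set_option synthInstance.maxSize 100000

namespace Cfsg.Agent.Loc3

open Subgroup Cfsg Cfsg.Agent.PLocal.Amb

variable {G : Type*} [Group G]

/-- the hypotheses -/
structure MC0 (S Q J Z L M : Subgroup G) (lam : G → SL25) (π : G → A6) : Prop where
  syl : IsSyl 3 S ⊤
  JS : J ≤ S
  Jc : ∀ x ∈ J, ∀ y ∈ J, Commute x y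
  J3 : ∀ x ∈ J, x ^ 3 = 1
  cJ : Nat.card J = 81
  pm : PH M J π
  M3 : ∀ g ∈ 𝐍[J], (∃ k, g ^ 3 ^ k = 1) → g ∈ M
  cZ : Nat.card Z = 3
  SZ : S ≤ 𝐂[Z]
  ZQ : Z ≤ Q
  QS : Q ≤ S
  cQ : Nat.card Q = 243
  Q3 : ∀ x ∈ Q, x ^ 3 = 1
  Qc : ∀ x ∈ Q, ∀ y ∈ Q, x * y * x⁻¹ * y⁻¹ ∈ Z
  CQ : 𝐂[Q] ≤ Z
  pl : PH L Q lam
  LZ : L ≤ 𝐂[Z]
  L3 : ∀ g ∈ 𝐍[Z], (∃ k, g ^ 3 ^ k = 1) → g ∈ L
  NQ : 𝐍[Z] ≤ 𝐍[Q]

/-- the hypotheses, normalised -/
structure MC (φ : V4 →* G) (S Q L M : Subgroup G) (lam : G → SL25) (π : G → A6) : Prop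
    extends MC0 S Q φ.range (zpowers (φ zv)) L M lam π where
  inj : Function.Injective φ
  ac : ∀ {g : G}, g ∈ M → ∀ v, g * φ v * g⁻¹ = φ (act (π g) v)
  memS : ∀ {g : G}, g ∈ S ↔ g ∈ M ∧ P6 (π g)

theorem mem_P6 {σ : A6} : σ ∈ closure ({c1, c2} : Set A6) ↔ P6 σ :=
  (mem_pair pd! pd! pd!).trans ⟨fun ⟨x, hx, y, hy, e⟩ => e ▸ p6_of x hx y hy,
    fun h => p6_mem σ h.1 h.2⟩

theorem card_P6 : Nat.card (closure ({c1, c2} : Set A6)) = 9 :=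
  card_nine pd! pd! pd! pd! (by rw [mem_zpowers_three pd!]; exact pd!)

theorem isSyl_P6 : IsSyl 3 (closure ({c1, c2} : Set A6)) ⊤ :=
  isSyl_of_not_dvd_relIndex (isPGroup_pair pd! pd! pd!) le_top (by
    have := Grp.card_mul_relIndex (le_top (a := closure ({c1, c2} : Set A6)))
    rw [card_P6, card_top, card_A6] at this
    omega)

variable [Finite G]

namespace MC0

variable {S Q J Z L M : Subgroup G} {lam : G → SL25} {π : G → A6} (h : MC0 S Q J Z L M lam π)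
include h

theorem LN : L ≤ 𝐍[Z] := h.LZ.trans (centralizer_le_normalizer' _)

theorem SL : S ≤ L := fun g hg =>
  h.L3 g (centralizer_le_normalizer' _ (h.SZ hg)) (isPGroup_iff.1 h.syl.pgrp g hg)

theorem cL : Nat.card L = 29160 := by rw [← h.pl.card_mul, card_SL25, h.cQ]

theorem cM : Nat.card M = 29160 := by rw [← h.pm.card_mul, card_A6, h.cJ]

theorem sylL : IsSyl 3 S L := h.syl.mono h.SL le_top

theorem cS : Nat.card S = 729 := by rw [h.sylL.card_eq_pow, h.cL]; decide +kernel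

theorem pJ : IsPGroup 3 J := h.syl.pgrp.to_le h.JS

theorem pQ : IsPGroup 3 Q := h.syl.pgrp.to_le h.QS

theorem NM : 𝐍[J] ≤ 𝐍[M] := h.pm.norm_of h.pJ gen_A6 h.pm.norm h.M3

theorem NL : 𝐍[Z] ≤ 𝐍[L] := h.pl.norm_of h.pQ gen_SL25 h.LN h.L3

theorem exists_le : ∃ J M π, MC0 S Q J Z L M lam π ∧ S ≤ M := by
  obtain ⟨T, hT, hJ⟩ := exists_isSyl_ge h.pJ h.pm.le
  obtain ⟨g, -, e⟩ := h.syl.exists_cj_eq (h.syl.of_card_ge hT.pgrp le_top (by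
    rw [hT.card_eq_pow, h.cM, h.cS]; decide +kernel))
  refine ⟨cj(g, J), cj(g, M), _, { h with
    JS := e ▸ cj_mono _ hJ
    Jc := ?_
    J3 := ?_
    cJ := (card_cj _ _).trans h.cJ
    pm := h.pm.cj g
    M3 := fun x hx ⟨k, e⟩ => mem_cj.2 (h.M3 _ (mem_cj.1 (normalizer_cj g J ▸ hx))
      ⟨k, by rw [← inv_inv g, inv_inv g⁻¹, conj_pow, e]; simp⟩) }, e ▸ cj_mono _ hT.le⟩
  · rintro _ ⟨x, hx, rfl⟩ _ ⟨y, hy, rfl⟩; exact (h.Jc x hx y hy).map _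
  · rintro _ ⟨x, hx, rfl⟩; rw [← map_pow, h.J3 x hx, map_one]

theorem exists_P6 (hS : S ≤ M) :
    ∃ π, MC0 S Q J Z L M lam π ∧ ∀ g, g ∈ S ↔ g ∈ M ∧ P6 (π g) := by
  obtain ⟨k, -, e⟩ := isSyl_P6.exists_cj_le
    ((isPGroup_subgroupOf h.syl.pgrp M).map h.pm.hom) le_top
  have p := h.pm.equiv (MulAut.conj k)
  have k1 : ∀ g ∈ S, P6 (MulAut.conj k (π g)) := fun g hg =>
    mem_P6.1 (e (conj_mem_cj k ⟨⟨g, hS hg⟩, hg, rfl⟩))
  refine ⟨_, { h with pm := p }, fun g => ⟨fun hg => ⟨hS hg, k1 g hg⟩, fun ⟨hg, e⟩ => ?_⟩⟩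
  refine h.syl.max (((closure {c1, c2}).comap p.hom).map M.subtype) (isPGroup_iff.2 ?_)
    (fun x hx => ⟨⟨x, hS hx⟩, mem_P6.2 (k1 x hx), rfl⟩) le_top ⟨⟨g, hg⟩, mem_P6.2 e, rfl⟩
  rintro _ ⟨x, hx, rfl⟩
  exact p.pelt h.pJ x.2 (mem_P6.1 hx).1

open scoped IsMulCommutative in
theorem exists_phi (hS : ∀ g, g ∈ S ↔ g ∈ M ∧ P6 (π g)) : ∃ φ, MC φ S Q L M lam π := by
  have : IsMulCommutative J := ⟨⟨fun a b => Subtype.ext (h.Jc _ a.2 _ b.2)⟩⟩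
  obtain ⟨α, hα⟩ := h.pm.exists_hom (J.normalizerMonoidHom.comp (inclusion h.pm.norm))
    fun g hg => MulEquiv.ext fun x => Subtype.ext (conj_of_comm (h.Jc _ hg _ x.2))
  have ha : ∀ {g}, g ∈ M → ∀ x : J, (α (π g) x : G) = g * x * g⁻¹ := fun hg x => by
    rw [hα ⟨_, hg⟩]; rfl
  have cz : ∀ x : J, (∀ σ, P6 σ → α σ x = x) → x.1 ∈ Z := fun x e => h.CQ
    (mem_centralizer_iff.2 fun g hg => (comm_of_conj ((ha ((hS g).1 (h.QS hg)).1 x).symm.trans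
      (congrArg Subtype.val (e _ ((hS g).1 (h.QS hg)).2)))).eq)
  have inj : Function.Injective α := by
    by_contra hn
    have : J ≤ Z := fun x hx => cz ⟨x, hx⟩ fun σ _ => by
      rw [show α σ = 1 from by_contra fun e => hn (inj_of_alt (by norm_num) α e)]; rfl
    exact absurd (h.cJ.symm.trans_le ((card_le_of_le this).trans_eq h.cZ)) (by norm_num)
  have ZJ : Z ≤ J := fun x hx => by
    have hx' := ((hS x).1 (h.QS (h.ZQ hx))).1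
    refine (h.pm.ker hx').1 (inj ((MulEquiv.ext fun y => Subtype.ext ?_).trans (map_one α).symm))
    exact (ha hx' y).trans (conj_of_comm (mem_centralizer_iff.1 (h.SZ (h.JS y.2)) x hx))
  have fz : Grp.APC.fixSub (α c1) ⊓ Grp.APC.fixSub (α c2) = Z.subgroupOf J := by
    ext x
    refine ⟨fun e => cz x fun σ hσ => ?_, fun e => ?_⟩
    · exact (closure_le (MulAction.stabilizer (MulAut J) x |>.comap α)).2
        (by rintro _ (rfl | rfl); exacts [e.1, e.2]) (mem_P6.2 hσ)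
    · have : ∀ σ, P6 σ → α σ x = x := fun σ hσ => by
        obtain ⟨g, hg, rfl⟩ := h.pm.surj σ
        exact Subtype.ext ((ha hg x).trans (conj_of_comm
          (mem_centralizer_iff.1 (h.SZ ((hS g).2 ⟨hg, hσ⟩)) x e).symm))
      exact ⟨this _ pd!, this _ pd!⟩
  obtain ⟨φ, hb, hφ⟩ := exists_mod (fun x : J => Subtype.ext (h.J3 _ x.2)) h.cJ inj (by
    rw [fz, Grp.card_subgroupOf_of_le ZJ, h.cZ])
  have hr : (J.subtype.comp φ).range = J := by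
    rw [MonoidHom.range_comp, MonoidHom.range_eq_top.2 hb.2, ← MonoidHom.range_eq_map, range_subtype]
  have hz : (φ zv).1 ∈ Z := cz _ fun σ hσ => by rw [← hφ, hσ.2]
  have z1 : (φ zv).1 ≠ 1 := fun e => absurd (hb.1 ((Subtype.ext e).trans (map_one φ).symm)) pd!
  have hZ : zpowers (J.subtype.comp φ zv) = Z := eq_of_le_of_card_ge (zpowers_le.2 hz) (by
    rw [h.cZ, Nat.card_zpowers]; exact (orderOf_three (h.J3 _ (φ zv).2) z1).ge)
  exact ⟨J.subtype.comp φ, by rw [hr, hZ]; exact h, Subtype.val_injective.comp hb.1,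
    fun hg v => (ha hg (φ v)).symm.trans (congrArg Subtype.val (hφ _ _).symm), hS _⟩

theorem exists_MC : ∃ φ M π, MC φ S Q L M lam π := by
  obtain ⟨J, M, π, h, e⟩ := h.exists_le
  obtain ⟨π, h, e⟩ := h.exists_P6 e
  obtain ⟨φ, h⟩ := h.exists_phi e
  exact ⟨φ, M, π, h⟩

end MC0

end Cfsg.Agent.Loc3
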