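import Cfsg.Agent.Loc3.McA
import Cfsg.Agent.PLocal.Hyperplane
import Cfsg.Agent.Grp.MinNormal

/-!
The 3-local configuration of the McLaughlin group: fusion of 3-elements.
-/

set_option autoImplicit false
set_option synthInstance.maxSize 100000

namespace Cfsg.Agent.Loc3

open Subgroup Cfsg Cfsg.Agent.PLocal.Amb

variable {G : Type*} [Group G]

theorem relIndex_cent_le [Finite G] {L Q : Subgroup G} {x : G} (h : ∀ l ∈ L, l * x * l⁻¹ ∈ Q) :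
    (centralizer {x}).relIndex L ≤ Nat.card Q := by
  refine Nat.card_le_card_of_injective (fun c => ⟨c.out.1 * x * c.out.1⁻¹, h _ c.out.2⟩)
    fun c d e => ?_
  rw [← c.out_eq, ← d.out_eq]
  refine QuotientGroup.eq.2 (mem_subgroupOf.2 (mem_cent.2 (comm_of_conj ?_)))
  have e : c.out.1 * x * c.out.1⁻¹ = d.out.1 * x * d.out.1⁻¹ := congrArg Subtype.val e
  calc _ = c.out.1⁻¹ * (d.out.1 * x * d.out.1⁻¹) * c.out.1 := by simp [mul_assoc]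
    _ = x := by rw [← e]; group

theorem card_pair_le [Finite G] {z w : G} (z3 : z ^ 3 = 1) (w3 : w ^ 3 = 1) (c : Commute z w) :
    Nat.card (closure ({z, w} : Set G)) ≤ 9 := by
  refine (Nat.card_le_card_of_surjective (fun p : Fin 3 × Fin 3 => ⟨z ^ p.1.1 * w ^ p.2.1,
    mul_mem (pow_mem mem_l _) (pow_mem mem_r _)⟩) fun ⟨a, ha⟩ => ?_).trans (by simp)
  have key : ∀ z x : G, z ^ 3 = 1 → x ∈ [1, z, z⁻¹] → ∃ i : Fin 3, z ^ i.1 = x := fun z x h e => by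
    simp only [List.mem_cons, List.not_mem_nil, or_false] at e
    rcases e with rfl | rfl | rfl
    exacts [⟨0, by simp⟩, ⟨1, by simp⟩, ⟨2, by rw [inv_eq_sq h]; exact pow_two _⟩]
  obtain ⟨x, hx, y, hy, rfl⟩ := (mem_pair z3 w3 c).1 ha
  obtain ⟨i, rfl⟩ := key _ _ z3 hx
  obtain ⟨j, rfl⟩ := key _ _ w3 hy
  exact ⟨(i, j), rfl⟩

theorem card_three [Finite G] {S T : Subgroup G} {n : ℕ} (h : T ≤ S) (e : Nat.card S = 3 ^ n) :
    ∃ k ≤ n, Nat.card T = 3 ^ k := (Nat.dvd_prime_pow Nat.prime_three).1 (e ▸ card_dvd_of_le h)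

theorem cube_conj {g x : G} {n : ℕ} (h : x ^ n = 1) : (g * x * g⁻¹) ^ n = 1 := by
  rw [conj_pow, h]; simp

theorem cube_cent {g x a : G} (e : g * x * g⁻¹ = x * a) (c : Commute g a) (h : a ^ 3 = 1) :
    Commute (g ^ 3) x := by
  have k : ∀ y, g * (y * a) * g⁻¹ = g * y * g⁻¹ * a := fun y => by rw [← conj_mul, conj_of_comm c]
  refine comm_of_conj ?_
  calc _ = g * (g * (g * x * g⁻¹) * g⁻¹) * g⁻¹ := by simp [pow_succ, mul_assoc]
    _ = x * a ^ 3 := by rw [e, k, e, k, k, e]; simp [pow_succ, mul_assoc]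
    _ = x := by rw [h, mul_one]

/-- elements centralised by `g` modulo `Z` -/
def Wq {Q Z : Subgroup G} (h : Q ≤ 𝐍[Z]) (g : G) : Subgroup G where
  carrier := {x | x ∈ Q ∧ x * g * x⁻¹ * g⁻¹ ∈ Z}
  one_mem' := ⟨one_mem _, by simp [one_mem]⟩
  mul_mem' := fun {x y} a b => ⟨mul_mem a.1 b.1, by
    simpa [mul_assoc] using mul_mem (conj_mem_of_mem_normalizer (h a.1) b.2) a.2⟩
  inv_mem' := fun {x} a => ⟨inv_mem a.1, by
    simpa [mul_assoc] using inv_conj_mem_of_mem_normalizer (h a.1) (inv_mem a.2)⟩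

theorem exists_sing {B : Subgroup V4} (h : B.index = 3) : ∃ v ∈ B, qn v = 0 ∧ v ≠ 1 := by
  let f := (mulEquivOfPrimeCardEq (G' := Multiplicative (ZMod 3)) h (by simp)).toMonoidHom.comp
    (QuotientGroup.mk' B)
  have k1 : ∀ v : V4, v = v4 1 0 0 0 ^ v.toAdd.1.val * v4 0 1 0 0 ^ v.toAdd.2.1.val *
      v4 0 0 1 0 ^ v.toAdd.2.2.1.val * v4 0 0 0 1 ^ v.toAdd.2.2.2.val := by decide +kernel
  have k2 : ∀ a b c d : Multiplicative (ZMod 3), ∃ v : V4, a ^ v.toAdd.1.val *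
      b ^ v.toAdd.2.1.val * c ^ v.toAdd.2.2.1.val * d ^ v.toAdd.2.2.2.val = 1 ∧ qn v = 0 ∧ v ≠ 1 := by
    decide +kernel
  obtain ⟨v, e, hv⟩ := k2 (f (v4 1 0 0 0)) (f (v4 0 1 0 0)) (f (v4 0 0 1 0)) (f (v4 0 0 0 1))
  simp only [← map_pow, ← map_mul, ← k1] at e
  exact ⟨v, by simpa [f] using e, hv⟩

namespace MC

variable {φ : V4 →* G} {S Q L M : Subgroup G} {lam : G → SL25} {π : G → A6}
  (h : MC φ S Q L M lam π)

local notation "𝐉" => MonoidHom.range φ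
local notation "𝐳" => φ zv
local notation "𝐙" => zpowers (φ zv)

variable (φ) in
theorem cube (v : V4) : φ v ^ 3 = 1 := hpow (v4_cube v)

variable (φ) in
theorem cm (v w : V4) : Commute (φ v) (φ w) := (Commute.all v w).map φ

variable (φ) in
theorem mJ (v : V4) : φ v ∈ 𝐉 := ⟨v, rfl⟩

include h

theorem ne1 {v : V4} (e : v ≠ 1) : φ v ≠ 1 := by simpa using h.inj.ne e

theorem memZ {v : V4} : φ v ∈ 𝐙 ↔ Zv v := by
  rw [mem_zpowers_three (cube φ _), ← map_inv, ← map_one φ]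
  simp only [h.inj.eq_iff]

theorem mM (v : V4) : φ v ∈ M := h.pm.le (mJ φ v)

theorem mS (v : V4) : φ v ∈ S := h.JS (mJ φ v)

theorem πφ (v : V4) : π (φ v) = 1 := h.pm.of_mem (mJ φ v)

theorem SM : S ≤ M := fun _ hg => (h.memS.1 hg).1

theorem QM : Q ≤ M := h.QS.trans h.SM

theorem fix {g : G} (hg : g ∈ M) {v : V4} : Commute g (φ v) ↔ act (π g) v = v :=
  ⟨fun c => h.inj ((h.ac hg v).symm.trans (conj_of_comm c)),
    fun e => comm_of_conj (by rw [h.ac hg, e])⟩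

theorem Lz {g : G} (hg : g ∈ L) : Commute g 𝐳 := mem_cent.1 (centralizer_zpowers 𝐳 ▸ h.LZ hg)

theorem LZ' {g x : G} (hg : g ∈ L) (hx : x ∈ 𝐙) : Commute g x :=
  (mem_centralizer_iff.1 (h.LZ hg) x hx).symm

theorem QZ {g x : G} (hg : g ∈ Q) (hx : x ∈ 𝐙) : Commute g x := h.LZ' (h.pl.le hg) hx

omit h in
theorem nz {g : G} (c : Commute g 𝐳) : g ∈ 𝐍[𝐙] :=
  centralizer_le_normalizer' _ ((centralizer_zpowers 𝐳).ge (mem_cent.2 c))

theorem conjQ {g x : G} (hg : g ∈ 𝐍[𝐙]) (hx : x ∈ Q) : g * x * g⁻¹ ∈ Q :=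
  conj_mem_of_mem_normalizer (h.NQ hg) hx

theorem cenQ {g : G} (c : ∀ x ∈ Q, Commute g x) : g ∈ 𝐙 :=
  h.CQ (mem_centralizer_iff.2 fun x hx => (c x hx).symm)

theorem Z3 {g : G} (hg : g ∈ 𝐙) : g ^ 3 = 1 := h.Q3 _ (h.ZQ hg)

variable [Finite G]

theorem SN : S ≤ 𝐍[𝐙] := h.SL.trans h.LN

theorem not_JQ : ¬ 𝐉 ≤ Q := fun e => by
  have : Q ≤ 𝐉 := fun q hq => by
    have p := h.memS.1 (h.QS hq)
    refine (h.pm.ker p.1).1 (p6_tv _ p.2.1 p.2.2 wv pd! (h.memZ.1 ?_))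
    rw [map_mul, map_inv, ← h.ac p.1]
    exact h.Qc _ hq _ (e (mJ φ _))
  exact absurd (h.cQ.symm.trans_le ((card_le_of_le this).trans_eq h.cJ)) (by norm_num)

theorem supQ {x : G} (hx : x ∈ S) (hQ : x ∉ Q) : Q ⊔ zpowers x = S := by
  have h1 : Q ⊔ zpowers x ≤ S := sup_le h.QS (zpowers_le.2 hx)
  obtain ⟨k, hk, e⟩ := card_three (n := 6) h1 h.cS
  have h2 := Grp.card_lt_of_lt (left_lt_sup.2 fun e => hQ (e (mem_zpowers x)))
  rw [e, h.cQ] at h2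
  obtain rfl : k = 6 := by
    have := (Nat.pow_lt_pow_iff_right (a := 3) (n := 5) (by norm_num)).1 h2
    omega
  exact eq_of_le_of_card_ge h1 (h.cS.trans e.symm).le

theorem le_S {T : Subgroup G} (hT : IsPGroup 3 T) (hn : T ≤ 𝐍[𝐙]) {x : G} (hx : x ∈ S)
    (hQ : x ∉ Q) (xT : x ∈ T) : T ≤ S :=
  le_sup_left.trans (h.syl.max _ (isPGroup_sup hT h.pQ (hn.trans h.NQ)) ((h.supQ hx hQ).ge.trans
    (sup_le le_sup_right ((zpowers_le.2 xT).trans le_sup_left))) le_top)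

theorem decS {s : G} (hs : s ∈ S) : ∃ q ∈ Q, ∃ v, s = q * φ v := by
  obtain ⟨_, ⟨v, rfl⟩, hv⟩ := SetLike.not_le_iff_exists.1 h.not_JQ
  obtain ⟨q, hq, _, ⟨n, rfl⟩, e⟩ := (mem_sup_of_le_normalizer_left
    (zpowers_le.2 (h.NQ (h.SN (h.mS v))))).1 ((h.supQ (h.mS v) hv).ge hs)
  exact ⟨q, hq, v ^ n, by rw [e, map_zpow]⟩

theorem exists_q {σ : A6} (hσ : P6 σ) : ∃ q ∈ Q, π q = σ := by
  obtain ⟨g, hg, rfl⟩ := h.pm.surj σ
  obtain ⟨q, hq, v, rfl⟩ := h.decS (h.memS.2 ⟨hg, hσ⟩)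
  exact ⟨q, hq, by rw [h.pm.mul (h.QM hq) (h.mM v), h.πφ, mul_one]⟩

theorem memQ {v : V4} : φ v ∈ Q ↔ Pz v := by
  have key : ∀ v, Pz v → φ v ∈ Q := fun v hv => by
    have k : ∀ σ, P6 σ → ∀ u, φ (act σ u * u⁻¹) ∈ Q := fun σ hσ u => by
      obtain ⟨q, hq, rfl⟩ := h.exists_q hσ
      rw [map_mul, map_inv, ← h.ac (h.QM hq), mul_assoc, mul_assoc, ← mul_assoc (φ u)]
      exact mul_mem hq (h.conjQ (h.SN (h.mS u)) (inv_mem hq))
    obtain ⟨u, w, rfl⟩ := pz_gen v hv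
    rw [map_mul]
    exact mul_mem (k _ pd! u) (k _ pd! w)
  refine ⟨fun e => by_contra fun hv => h.not_JQ ?_, key v⟩
  rintro _ ⟨u, rfl⟩
  obtain ⟨k, hk, e'⟩ := pz_max v hv u
  refine (mul_mem_cancel_right (?_ : φ k ∈ Q)).1 (map_mul φ u k ▸ key _ e')
  simp only [List.mem_cons, List.not_mem_nil, or_false] at hk
  rcases hk with rfl | rfl | rfl <;> simp [e, one_mem]

/-- `J` is the only abelian subgroup of its order in `S` -/
theorem uq {B : Subgroup G} (hB : B ≤ S) (hc : ∀ x ∈ B, ∀ y ∈ B, Commute x y)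
    (c : Nat.card B = 81) : B ≤ 𝐉 := fun b hb => by
  by_contra hn
  have p := h.memS.1 (hB hb)
  obtain ⟨u, hu⟩ := p6_fix _ p.2.1 p.2.2 fun e => hn ((h.pm.ker p.1).1 e)
  have h1 := card_le_of_le (show B ⊓ 𝐉 ≤ closure {𝐳, φ u} by
    rintro _ ⟨e, v, rfl⟩
    have := (mem_pair (v4_cube _) (v4_cube _) (Commute.all _ _)).2 (hu v ((h.fix p.1).1 (hc _ hb _ e)))
    simpa [MonoidHom.map_closure, Set.image_pair] using mem_map_of_mem φ this)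
  have h2 := card_pair_le (cube φ zv) (cube φ u) (cm φ _ _)
  have h3 := Grp.card_sup_mul_card_inf_of_le_normalizer (hB.trans (h.SM.trans h.pm.norm))
  have h4 : B ⊔ 𝐉 ≤ S := sup_le hB h.JS
  have h5 := card_le_of_le h4
  rw [c, h.cJ] at h3
  rw [h.cS] at h5
  have h6 := eq_of_le_of_card_ge h4 (by rw [h.cS]; nlinarith)
  have h7 := card_le_of_le (show B ⊓ 𝐉 ≤ 𝐙 from fun x hx => h.cenQ fun q hq =>
    (mem_cent.1 ((sup_le (fun y hy => mem_cent.2 (hc y hy x hx.1)) fun y hy =>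
      mem_cent.2 (h.Jc y hy x hx.2) : B ⊔ 𝐉 ≤ centralizer {x}) (h6.ge (h.QS hq)))).symm)
  rw [h.cZ] at h7
  nlinarith

theorem wclS {g : G} (e : cj(g, 𝐉) ≤ S) : g ∈ 𝐍[𝐉] := mem_normalizer_of_cj_le (h.uq e
  (by rintro _ ⟨x, hx, rfl⟩ _ ⟨y, hy, rfl⟩; exact (h.Jc x hx y hy).map _)
  ((card_cj _ _).trans h.cJ))

theorem le_M {T : Subgroup G} (hT : IsPGroup 3 T) (e : T ≤ 𝐍[𝐉]) : T ≤ M := fun g hg =>
  h.M3 g (e hg) (isPGroup_iff.1 hT g hg)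

theorem wcl {g : G} (e : cj(g, 𝐉) ≤ 𝐍[𝐉]) : g ∈ 𝐍[𝐉] := by
  have p := isPGroup_cj g h.pJ
  obtain ⟨m, hm, k⟩ := (h.syl.mono h.SM le_top).exists_cj_le p (h.le_M p e)
  rw [← cj_mul] at k
  exact (mul_mem_cancel_left (h.pm.norm hm)).1 (h.wclS k)

/-- conjugates of `z` in `J` are singular -/
theorem f2 {g : G} {v : V4} (e : g * 𝐳 * g⁻¹ = φ v) : qn v = 0 := by
  have h1 : cj(g, S) ≤ centralizer {φ v} := by
    rw [← e, centralizer_singleton_conj]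
    exact cj_mono _ fun x hx => mem_cent.2 (h.Lz (h.SL hx))
  obtain ⟨k, hk, e1⟩ := ((h.syl.cj_of_mem (mem_top g)).mono h1 le_top).exists_cj_le h.pJ
    (by rintro _ ⟨u, rfl⟩; exact mem_cent.2 (cm φ _ _))
  rw [← cj_le_cj_iff (g := g⁻¹), cj_inv_cj, ← cj_mul] at e1
  have h2 := cj_le_of_mem_normalizer h.SM (h.NM (inv_mem (h.wclS e1)))
  obtain ⟨m, hm, e2⟩ := (h.syl.mono h.SM le_top).exists_cj_eq
    ((h.syl.cj_of_mem (mem_top _)).mono h2 le_top)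
  rw [← qn_act (π m), ]
  refine zv_sing _ (h.memZ.1 (h.cenQ fun q hq => ?_))
  obtain ⟨_, ⟨x, hx, rfl⟩, rfl⟩ := e2.ge (h.QS hq)
  rw [← h.ac hm]
  refine Commute.cj (Commute.symm (mem_cent.1 ?_)) m
  simpa [mul_assoc] using mul_mem (mul_mem (inv_mem hk) (h1 (conj_mem_cj g hx))) hk

theorem fix5 {f x : G} (hf : f ∈ L) (f5 : f ^ 5 = 1) (f1 : f ≠ 1) (hx : x ∈ Q) (c : Commute x f) :
    x ∈ 𝐙 := by
  have h1 := card_mod (by norm_num) f5 fun x hx => h.conjQ (h.LN hf) hx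
  obtain ⟨k, hk, e⟩ := card_three (n := 5) (inf_le_left (b := centralizer {f})) h.cQ
  rw [h.cQ, e] at h1
  interval_cases k
  · exact absurd h1 (by decide)
  · exact (eq_of_le_of_card_ge (le_inf h.ZQ fun y hy => mem_cent.2 (h.LZ' hf hy).symm)
      (e.trans h.cZ.symm).le).ge ⟨hx, mem_cent.2 c⟩
  iterate 3 exact absurd h1 (by decide)
  have h2 := h.Z3 (h.cenQ fun y hy => (mem_cent.1 ((eq_of_le_of_card_ge inf_le_left
    (h.cQ.trans e.symm).le).ge hy).2).symm)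
  exact absurd ((pow_eq_one_iff_of_coprime (by norm_num)).1 ⟨h2, f5⟩) f1

theorem irr {f g : G} (hf : f ∈ L) (f5 : f ^ 5 = 1) (f1 : f ≠ 1) (hg : g ∈ 𝐍[𝐙])
    (e : f⁻¹ * g * f * g⁻¹ ∈ Q) :
    (∀ x ∈ Q, x * g * x⁻¹ * g⁻¹ ∈ 𝐙 → x ∈ 𝐙) ∨ (Commute g 𝐳 ∧ g ^ 3 ∈ 𝐙) := by
  have QN := h.QS.trans h.SN
  have h1 := card_mod (W := Wq QN g) (by norm_num) f5 fun x hx => ⟨h.conjQ (h.LN hf) hx.1, by
    simpa [mul_assoc] using conj_mem_of_mem_normalizer (h.LN hf) (mul_mem (h.Qc _ hx.1 _ e)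
      (conj_mem_of_mem_normalizer (QN e) hx.2))⟩
  have h2 : 𝐙 ≤ Wq QN g := fun x hx => ⟨h.ZQ hx, by
    simpa [mul_assoc] using mul_mem hx (conj_mem_of_mem_normalizer hg (inv_mem hx))⟩
  have h3 : Wq QN g ≤ Q := fun x hx => hx.1
  rw [le_antisymm (fun x hx => h.fix5 hf f5 f1 hx.1.1 (mem_cent.1 hx.2))
    (le_inf h2 fun y hy => mem_cent.2 (h.LZ' hf hy).symm), h.cZ] at h1
  obtain ⟨k, hk, e⟩ := card_three (n := 5) h3 h.cQ
  rw [e] at h1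
  interval_cases k
  · exact absurd h1 (by decide)
  · exact Or.inl fun x hx k => (eq_of_le_of_card_ge h2 (e.trans h.cZ.symm).le).ge ⟨hx, k⟩
  iterate 3 exact absurd h1 (by decide)
  have h4 : ∀ x ∈ Q, ∃ a ∈ 𝐙, g * x * g⁻¹ = x * a := fun x hx => ⟨_, ((eq_of_le_of_card_ge h3
    (h.cQ.trans e.symm).le).ge (inv_mem hx)).2, by group⟩
  have h5 : Commute g 𝐳 := by
    obtain ⟨x, hx, k⟩ := SetLike.not_le_iff_exists.1 fun k : Q ≤ 𝐙 =>
      absurd (h.cQ.symm.trans_le ((card_le_of_le k).trans_eq h.cZ)) (by norm_num)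
    obtain ⟨y, k⟩ := not_forall.1 (mt h.cenQ k)
    obtain ⟨hy, k⟩ := Classical.not_imp.1 k
    obtain ⟨a, ha, e1⟩ := h4 x hx
    obtain ⟨b, hb, e2⟩ := h4 y hy
    have c : Commute g (x * y * x⁻¹ * y⁻¹) := comm_of_conj (by
      rw [← conj_mul, ← conj_mul, ← conj_mul, ← conj_inv, ← conj_inv, e1, e2]
      calc _ = x * (a * (y * b) * a⁻¹) * x⁻¹ * b⁻¹ * y⁻¹ := by group
        _ = x * y * (b * x⁻¹ * b⁻¹) * y⁻¹ := by
          rw [conj_of_comm (h.QZ (mul_mem hy (h.ZQ hb)) ha).symm]; group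
        _ = _ := by rw [conj_of_comm (h.QZ (inv_mem hx) hb).symm])
    rcases (mem_zpowers_three (cube φ _)).1 (h.Qc x hx y hy) with e | e | e
    · exact absurd (comm_of_conj (mul_inv_eq_one.1 e)) k
    · exact e ▸ c
    · exact Commute.inv_right_iff.1 (e ▸ c)
  refine Or.inr ⟨h5, h.cenQ fun x hx => ?_⟩
  obtain ⟨a, ha, e⟩ := h4 x hx
  obtain ⟨n, rfl⟩ := ha
  exact cube_cent e (h5.zpow_right n) (h.Z3 ⟨n, rfl⟩)

theorem exists_five : ∃ f ∈ L, f ^ 5 = 1 ∧ f ≠ 1 := by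
  have : Fact (Nat.Prime 5) := ⟨by norm_num⟩
  obtain ⟨f, hf⟩ := exists_prime_orderOf_dvd_card' (G := L) 5 (by rw [h.cL]; norm_num)
  exact ⟨f, f.2, congrArg Subtype.val (hf ▸ pow_orderOf_eq_one f),
    fun e => by rw [show f = 1 from Subtype.ext e] at hf; simp at hf⟩

theorem lam_inv {t : G} (ht : t ∈ L) (t2 : t * t = 1) (t1 : t ≠ 1) : lam t = -1 :=
  (sl_inv (by rw [← h.pl.mul ht ht, t2, h.pl.map_one])).resolve_left fun e => t1
    ((pow_eq_one_iff_of_coprime (m := 3) (n := 2) (by norm_num)).1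
      ⟨h.Q3 _ ((h.pl.ker ht).1 e), pow_two t ▸ t2⟩)

theorem fix2 {t x : G} (ht : t ∈ L) (t2 : t * t = 1) (t1 : t ≠ 1) (hx : x ∈ Q) (c : Commute x t) :
    x ∈ 𝐙 := by
  obtain ⟨f, hf, f5, f1⟩ := h.exists_five
  rcases h.irr hf f5 f1 (h.LN ht) ((h.pl.eq_iff (mul_mem (mul_mem (inv_mem hf) ht) hf) ht).1 (by
    rw [h.pl.mul (mul_mem (inv_mem hf) ht) hf, h.pl.mul (inv_mem hf) ht, h.pl.map_inv hf,
      h.lam_inv ht t2 t1]; simp)) with e | e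
  · exact e x hx (by rw [conj_of_comm c]; simp [one_mem])
  · rw [pow_succ, pow_two, t2, one_mul] at e
    exact absurd ((pow_eq_one_iff_of_coprime (m := 3) (n := 2) (by norm_num)).1
      ⟨h.Z3 e.2, pow_two t ▸ t2⟩) t1

theorem pCL {x : G} (hx : x ∈ Q) (hZ : x ∉ 𝐙) : IsPGroup 3 ↥(centralizer {x} ⊓ L) := by
  refine isPGroup_of_forall_coprime fun g hg hc => by_contra fun g1 => hZ ?_
  have h1 : orderOf g ∣ 40 := (Nat.Coprime.pow_right 6 hc).dvd_of_dvd_mul_left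
    ((orderOf_dvd_natCard L hg.2).trans h.cL.dvd)
  obtain ⟨p, hp, hd⟩ := Nat.exists_prime_and_dvd (mt orderOf_eq_one_iff.1 g1)
  have h2 := orderOf_pow_orderOf_div (orderOf_pos g).ne' hd
  have h3 := pow_orderOf_eq_one (g ^ (orderOf g / p))
  have h4 : g ^ (orderOf g / p) ≠ 1 := fun e => hp.ne_one (by rw [← h2, e, orderOf_one])
  have c := ((mem_cent.1 hg.1).pow_left (orderOf g / p)).symm
  rw [h2] at h3
  rcases (hp.dvd_mul (m := 2 ^ 3) (n := 5)).1 (hd.trans h1) with e | e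
  · obtain rfl := (Nat.prime_dvd_prime_iff_eq hp Nat.prime_two).1 (hp.dvd_of_dvd_pow e)
    exact h.fix2 (pow_mem hg.2 _) ((pow_two _).symm.trans h3) h4 hx c
  · obtain rfl := (Nat.prime_dvd_prime_iff_eq hp Nat.prime_five).1 e
    exact h.fix5 (pow_mem hg.2 _) h3 h4 hx c

theorem conjJ {x : G} (hx : x ∈ Q) : ∃ l ∈ L, l * x * l⁻¹ ∈ 𝐉 := by
  by_cases hZ : x ∈ 𝐙
  · exact ⟨1, one_mem _, by simpa using zpowers_le.2 (mJ φ zv) hZ⟩
  have p := h.pCL hx hZ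
  obtain ⟨s, hs, hQ⟩ := SetLike.not_le_iff_exists.1 fun e : centralizer {x} ⊓ L ≤ Q => by
    have h1 := relIndex_cent_le (x := x) fun l hl => h.conjQ (h.LN hl) hx
    have h2 := Grp.card_inf_mul_relIndex' (centralizer {x}) L
    obtain ⟨k, hk, e'⟩ := card_three (n := 5) e h.cQ
    rw [e', h.cL] at h2
    rw [h.cQ] at h1
    refine hZ (h.cenQ fun y hy => (mem_cent.1 ((eq_of_le_of_card_ge e ?_).ge hy).1).symm)
    rw [h.cQ, e']
    interval_cases k <;> omega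
  obtain ⟨l, hl, e⟩ := h.sylL.exists_cj_le p inf_le_right
  obtain ⟨q, hq, v, e1⟩ := h.decS (e (conj_mem_cj l hs))
  have hy := h.conjQ (h.LN hl) hx
  have c := e1 ▸ Commute.cj (mem_cent.1 hs.1) l
  refine ⟨l, hl, ?_⟩
  generalize l * x * l⁻¹ = y at hy c ⊢
  have p := h.memS.1 (h.QS hy)
  refine (h.pm.ker p.1).1 (p6_tv _ p.2.1 p.2.2 v (fun k => hQ ?_) (h.memZ.1 ?_))
  · simpa [← e1, mul_assoc] using h.conjQ (inv_mem (h.LN hl)) (mul_mem hq (h.memQ.2 k))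
  · rw [map_mul, map_inv, ← h.ac p.1]
    convert h.Qc _ hy _ (inv_mem hq) using 1
    calc _ = y * q⁻¹ * y⁻¹ * (y * (q * φ v) * y⁻¹) * (φ v)⁻¹ := by group
      _ = _ := by rw [conj_of_comm c.symm]; group

theorem cz1 {g : G} (hg : g ∈ 𝐍[𝐙]) {v : V4} (hv : ¬ Zv v) (e : g * φ v * g⁻¹ ∈ 𝐉) :
    g ∈ 𝐍[𝐉] := by
  refine h.wclS ?_
  by_cases hQ : φ v ∈ Q
  · obtain ⟨_, ⟨w, rfl⟩, hw⟩ := SetLike.not_le_iff_exists.1 h.not_JQ
    refine le_trans ?_ (h.le_S (h.pCL (h.conjQ hg hQ) fun k => hv (h.memZ.1 ?_))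
      (inf_le_right.trans h.LN) (h.mS w) hw ⟨mem_cent.2 (h.Jc _ (mJ φ w) _ e), h.SL (h.mS w)⟩)
    · rintro _ ⟨_, ⟨u, rfl⟩, rfl⟩
      exact ⟨mem_cent.2 (Commute.cj (cm φ _ _) g), conj_mem_of_mem_normalizer (h.NL hg)
        (h.SL (h.mS u))⟩
    · simpa [mul_assoc] using inv_conj_mem_of_mem_normalizer hg k
  · refine (cj_mono g h.JS).trans ?_
    nth_rewrite 1 [← h.supQ (h.mS v) hQ]
    rw [cj_sup, cj_of_mem_normalizer (h.NQ hg)]
    exact sup_le h.QS (cj_le_iff.2 (zpowers_le.2 (mem_cj.2 (by simpa using h.JS e))))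

theorem exists_sing' {v : V4} (hv : qn v = 0) (v1 : v ≠ 1) : ∃ m ∈ M, m * 𝐳 * m⁻¹ = φ v := by
  obtain ⟨σ, rfl⟩ := tr0 v hv v1
  obtain ⟨m, hm, rfl⟩ := h.pm.surj σ
  exact ⟨m, hm, h.ac hm _⟩

theorem cz2 {g : G} {v u : V4} (hv : qn v = 0) (v1 : v ≠ 1) (hu : φ u ∉ zpowers (φ v))
    (e1 : g * φ v * g⁻¹ ∈ 𝐉) (e2 : g * φ u * g⁻¹ ∈ 𝐉) : g ∈ 𝐍[𝐉] := by
  obtain ⟨m, hm, k⟩ := h.exists_sing' hv v1
  obtain ⟨v', e1⟩ := e1
  obtain ⟨n, hn, k'⟩ := h.exists_sing' (h.f2 (g := g * m) (v := v') (by rw [e1, ← k]; group))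
    (by rintro rfl; exact h.ne1 v1 (by simpa using e1.symm))
  obtain ⟨x, hx⟩ := inv_conj_mem_of_mem_normalizer (h.pm.norm hm) (mJ φ u)
  have := h.cz1 (g := n⁻¹ * g * m) (nz (comm_of_conj (by
    calc _ = n⁻¹ * (g * (m * 𝐳 * m⁻¹) * g⁻¹) * n := by group
      _ = _ := by rw [k, ← e1, ← k']; group))) (v := x) (fun e => hu (by
    rw [← k, ← MulAut.conj_apply, ← MulEquiv.coe_toMonoidHom, ← MonoidHom.map_zpowers]
    exact mem_cj.2 (hx ▸ h.memZ.2 e))) (by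
    simpa [hx, mul_assoc] using inv_conj_mem_of_mem_normalizer (h.pm.norm hn) e2)
  exact (mul_mem_cancel_left (inv_mem (h.pm.norm hn))).1
    ((mul_mem_cancel_right (h.pm.norm hm)).1 this)

/-- conjugates of `z` normalising `J` lie in `J` -/
theorem wc {g : G} (e : g * 𝐳 * g⁻¹ ∈ 𝐍[𝐉]) : g * 𝐳 * g⁻¹ ∈ 𝐉 := by
  have u3 := cube_conj (g := g) (cube φ zv)
  have hu := h.M3 _ e ⟨1, u3⟩
  have k3 : π (g * 𝐳 * g⁻¹) ^ 3 = 1 := by rw [← h.pm.map_pow hu, u3, h.pm.map_one]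
  obtain ⟨k, hk⟩ := p6_conj _ k3
  obtain ⟨m, hm, rfl⟩ := h.pm.surj k
  obtain ⟨q, hq, v, e1⟩ := h.decS (h.memS.2 ⟨mul_mem (mul_mem hm hu) (inv_mem hm), by
    rw [h.pm.map_conj hm hu]; exact ⟨cube_conj k3, hk⟩⟩)
  suffices q * φ v ∈ 𝐉 by
    rw [← e1] at this
    simpa [mul_assoc] using inv_conj_mem_of_mem_normalizer (h.pm.norm hm) this
  by_cases hv : Pz v
  · have hQ := mul_mem hq (h.memQ.2 hv)
    obtain ⟨l, hl, w, e2⟩ := h.conjJ hQ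
    have := h.memZ.2 (pz_sing w (h.memQ.1 (e2 ▸ h.conjQ (h.LN hl) hQ))
      (h.f2 (g := l * m * g) (by rw [e2, ← e1]; group)))
    simpa [e2, mul_assoc] using zpowers_le.2 (mJ φ zv)
      (inv_conj_mem_of_mem_normalizer (h.LN hl) this)
  · have p := h.memS.1 (h.QS hq)
    refine mul_mem ((h.pm.ker p.1).1 (p6_nine _ p.2.1 p.2.2 v hv (h.inj ?_))) (mJ φ v)
    rw [map_mul, map_mul, ← h.pm.mul p.1 p.1, ← h.ac p.1, ← h.ac (mul_mem p.1 p.1), map_one]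
    calc _ = q⁻¹ * (q * φ v) ^ 3 * q * (q ^ 3)⁻¹ := by simp [pow_succ, mul_assoc]
      _ = _ := by rw [← e1, cube_conj u3, h.Q3 q hq]; simp

theorem cA {g : G} (c : ∀ v, Pz v → Commute g (φ v)) : g ^ 3 ∈ 𝐙 := h.cenQ fun x hx => by
  have hg := nz (c zv pd!)
  have hy := mul_mem (inv_mem hx) (h.conjQ hg hx)
  have p := h.memS.1 (h.QS hy)
  obtain ⟨v, e⟩ := (h.pm.ker p.1).1 (p6_cA _ p.2.1 p.2.2 fun v hv => (h.fix p.1).1 (comm_of_conj (by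
    obtain ⟨n, e⟩ := h.Qc _ hx _ (h.memQ.2 hv)
    have e : 𝐳 ^ n = _ := e
    calc _ = x⁻¹ * (g * (x * (g⁻¹ * φ v * g⁻¹⁻¹) * x⁻¹) * g⁻¹) * x := by group
      _ = x⁻¹ * (g * 𝐳 ^ n * g⁻¹ * (g * φ v * g⁻¹)) * x := by
        rw [conj_of_comm (c v hv).inv_left, e]; group
      _ = _ := by rw [conj_of_comm ((c zv pd!).zpow_right n), conj_of_comm (c v hv), e]; group)))
  exact cube_cent (a := φ v) (by rw [e]; group) (c v (h.memQ.1 (e ▸ hy))) (cube φ v)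

theorem cJ' {g : G} (c : ∀ v, Commute g (φ v)) : g ∈ 𝐉 := by
  have hg := h.M3 g (mem_normalizer_of_cj_le (cj_le_iff_forall.2 (by
    rintro _ ⟨v, rfl⟩; rw [conj_of_comm (c v)]; exact mJ φ v)))
    ⟨2, by rw [pow_two, pow_mul, h.Z3 (h.cA fun v _ => c v)]⟩
  exact (h.pm.ker hg).1 (act_faith _ fun v => (h.fix hg).1 (c v))

/-- `J` normalises no `3'`-subgroup -/
theorem no3 {K : Subgroup G} (hK : (Nat.card K).Coprime 3) (hn : 𝐉 ≤ 𝐍[K]) : K = ⊥ := by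
  have : Fact (Nat.Prime 3) := ⟨Nat.prime_three⟩
  have h1 := PLocal.le_of_hyperplane_centralizers_le (p := 3)
    ⟨⟨⟨fun a b => Subtype.ext (h.Jc _ a.2 _ b.2)⟩⟩, h.J3⟩
    (fun e => by simpa [e] using h.cJ) hn hK 𝐍[𝐉] fun B hB e g hg => by
      obtain ⟨v, hv, v0, v1⟩ := exists_sing ((index_comap B φ).trans e)
      obtain ⟨x, hx, k⟩ := SetLike.not_le_iff_exists.1 fun k : B ≤ zpowers (φ v) => by
        have h1 := card_le_of_le k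
        have h2 := Grp.card_mul_relIndex hB
        rw [Nat.card_zpowers, orderOf_three (cube φ v) (h.ne1 v1)] at h1
        rw [e, h.cJ] at h2
        omega
      obtain ⟨u, rfl⟩ := hB hx
      have c : ∀ y ∈ B, g * y * g⁻¹ ∈ 𝐉 := fun y hy => by
        rw [conj_of_comm (mem_centralizer_iff.1 hg.2 y hy).symm]; exact hB hy
      exact h.cz2 v0 v1 k (c _ hv) (c _ hx)
  have h2 : ∀ x ∈ K, x ∈ 𝐉 → x = 1 := fun x hx e => eq_one_of_cop hK hx (h.J3 x e)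
  refine eq_bot_iff.2 fun x hx => h2 x hx (h.cJ' fun v => comm_of_conj (mul_inv_eq_one.1 (h2 _ ?_
    (mul_mem (conj_mem_of_mem_normalizer (h1 hx) (mJ φ v)) (inv_mem (mJ φ v))))))
  simpa [mul_assoc] using mul_mem hx (conj_mem_of_mem_normalizer (hn (mJ φ v)) (inv_mem hx))

end MC

end Cfsg.Agent.Loc3
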