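import Cfsg.Agent.Loc3.McC
import Cfsg.Agent.S0051
import Cfsg.Agent.S2119

/-!
The 3-local configuration of the McLaughlin group: the group `C(t) ∩ N(z)`.
-/

set_option autoImplicit false
set_option synthInstance.maxSize 100000

namespace Cfsg.Agent.Loc3

open Subgroup Cfsg Cfsg.Agent.PLocal.Amb MC Equiv Equiv.Perm

theorem s3_cen : ∀ x : Perm (Fin 3), x ^ 3 = 1 → x ≠ 1 → (∀ y, y * x * y⁻¹ = x ∨ y * x * y⁻¹ = x⁻¹) ∧
    x ≠ x⁻¹ ∧ ∀ y, Commute y x → sign y = 1 ∧ (y = 1 ∨ y = x ∨ y = x⁻¹) ∧ (y * y = 1 → y = 1) := pd!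

theorem m8_z' : ∀ x : M8, x ^ 3 = 1 → x ≠ 1 →
    (∀ g ∈ [aM, rM, bM, pM], g * x * g⁻¹ = x ∨ g * x * g⁻¹ = x⁻¹) → x ∈ [zM, zM⁻¹] := pd!

theorem m8_nf : ∀ x ∈ [zM, zM⁻¹], ∀ y : M8, y ^ 3 = 1 → y ≠ 1 → ∀ d, d * y * d⁻¹ = y⁻¹ →
    Commute d x → d * d = 1 → sign d.1 = 1 →
    ∃ k, k * y * k⁻¹ = wM ∧ k * x * k⁻¹ = zM ∧ k * d * k⁻¹ = dM := pd!

theorem m8_odd : ∀ x : M8, x * wM * x⁻¹ = wM⁻¹ → x * zM * x⁻¹ = zM⁻¹ → sign x.1 = -1 →
    ∃ a ∈ [1, zM, zM⁻¹], ∃ b ∈ [1, wM, wM⁻¹], x * (a * b) * dM⁻¹ = aM := pd!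

theorem m8_ND : ∀ y : M8, y * wM * y⁻¹ = wM⁻¹ → y * zM * y⁻¹ = zM⁻¹ → sign y.1 = 1 →
    ∀ u ∈ [wM, wM⁻¹], ∀ x : M8, x * wM * x⁻¹ = u → ∃ a ∈ [1, zM, zM⁻¹], ∃ b ∈ [1, wM, wM⁻¹],
      ∃ c ∈ [1, y], ∃ d ∈ [1, dM], x = a * b * c * d ∨
        (sign x.1 = -1 ∧ (a * b * c * d)⁻¹ * x * dM⁻¹ = aM) := pd!

theorem m8_tr : ∀ x : M8, Commute x zM → x * aM * x⁻¹ * aM⁻¹ ∈ [1, zM, zM⁻¹] := pd!

variable {G : Type*} [Group G]

/-- `C(t) ∩ N(z)` -/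
abbrev RR (φ : V4 →* G) (t : G) : Subgroup G := 𝐍[zpowers (φ zv)] ⊓ centralizer {t}

/-- the homomorphism to `S₃ × S₅` -/
structure RH (φ : V4 →* G) (L : Subgroup G) (t j : G) (ρ : G → M8) : Prop
    extends WH (RR φ t) (zpowers t) ρ where
  z : ρ (φ zv) = zM
  w : ρ (φ wv) = wM
  j : ρ j = dM
  rf : ∀ x : M8, sign x.1 = 1 → Commute x zM → ∃ r ∈ L, Commute r t ∧ ρ r = x

variable {φ : V4 →* G} {S Q L M : Subgroup G} {lam : G → SL25} {π : G → A6} {t : G}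

local notation "𝐉" => MonoidHom.range φ
local notation "𝐳" => φ zv
local notation "𝐰" => φ wv
local notation "𝐙" => zpowers (φ zv)
local notation "𝐃" => closure ({φ zv, φ wv} : Set G)
local notation "𝐑" => RR φ t

variable [Finite G]

namespace MT

variable (h : MT φ S Q L M lam π t)
include h

theorem mR {l : G} (hl : l ∈ L) (c : Commute l t) : l ∈ 𝐑 := ⟨h.LN hl, mem_cent.2 c⟩

theorem tR : t ∈ 𝐑 := h.mR h.tL (Commute.refl _)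

theorem DR : 𝐃 ≤ 𝐑 := fun _ hx => h.mR (h.SL (h.JS (h.memD.1 hx).1)) (h.memD.1 hx).2.symm

theorem mu_one {a : G} (ha : a ∈ L) (e : mu (lam a) = 1) : a ∈ Q ∨ a * t ∈ Q :=
  (mu_ker.1 e).imp (h.pl.ker ha).1 fun e => (h.pl.ker (mul_mem ha h.tL)).1 (by
    rw [h.pl.mul ha h.tL, e, h.lt]; simp)

theorem exists_sigma : ∃ σ : ↥𝐑 →* Perm (Fin 5), (∀ r : ↥𝐑, ∀ l ∈ L,
    (mu (lam (r * l * r.1⁻¹)) : Perm (Fin 5)) = σ r * mu (lam l) * (σ r)⁻¹) ∧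
    ∀ r : ↥𝐑, r.1 ∈ L → σ r = mu (lam r) := by
  have p : PH L ((mu.comp h.pl.hom).ker.map L.subtype) fun g => mu (lam g) :=
    ⟨⟨map_subtype_le _, fun a b => by rw [h.pl.mul a b, map_mul],
      fun a => ⟨fun e => ⟨⟨_, a⟩, e, rfl⟩, fun ⟨x, hx, e⟩ => e ▸ hx⟩⟩, fun x => by
      obtain ⟨x, rfl⟩ := mu_surj x
      obtain ⟨l, hl, rfl⟩ := h.pl.surj x
      exact ⟨l, hl, rfl⟩⟩
  obtain ⟨β, hβ⟩ := p.exists_aut (N := 𝐑) (inf_le_left.trans h.NL)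
    (le_normalizer_iff_cj.2 fun r hr => cj_le_iff_forall.2 fun x hx => by
      have hx' := p.le hx
      have h1 := conj_mem_of_mem_normalizer (h.NL hr.1) hx'
      refine (p.ker h1).1 (mu_ker.2 ((h.mu_one hx' (p.of_mem hx)).imp (fun e => h.pl.of_mem
        (h.conjQ hr.1 e)) fun e => ?_))
      have := h.pl.of_mem (h.conjQ hr.1 e)
      rw [← conj_mul, conj_of_comm (mem_cent.1 hr.2), h.pl.mul h1 h.tL, h.lt] at this
      simpa [neg_eq_iff_eq_neg] using this)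
  have b := S2119.result 5 (by norm_num) (by norm_num)
  let e := MulEquiv.ofBijective _ b
  have k : ∀ r x, ((β r x : A5) : Perm (Fin 5)) = e.symm (β r) * x * (e.symm (β r))⁻¹ := fun r x => by
    nth_rewrite 1 [← e.apply_symm_apply (β r)]
    exact MulAut.conjNormal_apply _ _
  refine ⟨e.symm.toMonoidHom.comp β, fun r l hl => by rw [← hβ r l hl]; exact k _ _,
    fun r hr => e.symm_apply_eq.2 (MulEquiv.ext fun x => ?_)⟩
  obtain ⟨l, hl, rfl⟩ := p.surj x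
  rw [hβ r l hl, p.map_conj hr hl]
  exact Subtype.ext (MulAut.conjNormal_apply _ _).symm

theorem exists_tau : ∃ τ : ↥𝐑 →* Perm (Fin 3), τ ⟨𝐳, h.DR mem_l⟩ ≠ 1 := by
  have : ((zpowers 𝐳).subgroupOf 𝐑).Normal := normal_subgroupOf' inf_le_left
  have zR : 𝐙 ≤ 𝐑 := zpowers_le.2 (h.DR mem_l)
  have c3 := (Grp.card_subgroupOf_of_le zR).trans h.cZ
  obtain ⟨H, hH⟩ := S0051.result ((zpowers 𝐳).subgroupOf 𝐑) (Subgroup.subgroupOf 𝐃 𝐑)
    (comap_mono (zpowers_le.2 mem_l)) (by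
      rw [c3]; exact (Nat.prime_three.coprime_iff_not_dvd.2
        (h.sylD.mono h.DR inf_le_right).not_dvd_relIndex)) ((zpowers 𝐰).subgroupOf 𝐑)
    (comap_mono (zpowers_le.2 mem_r)) (eq_bot_iff.2 fun x hx => Subtype.ext (by
      rcases (mem_zpowers_three (cube φ _)).1 hx.1 with e | e | e
      · exact e
      · exact absurd ((show x.1 = _ from e) ▸ mem_subgroupOf.1 hx.2) (h.not_zp (u := wv) (v := zv) pd!)
      · exact absurd (inv_mem_iff.1 ((show x.1 = _ from e) ▸ mem_subgroupOf.1 hx.2))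
          (h.not_zp (u := wv) (v := zv) pd!))) (by
      rw [← subgroupOf_sup zR (zpowers_le.2 (h.DR mem_r)), zpowers_eq_closure, zpowers_eq_closure,
        ← Subgroup.closure_union]; rfl)
  have e : (↥𝐑 ⧸ H) ≃ Fin 3 := Finite.equivFinOfCardEq (hH.index_eq_card.trans c3)
  refine ⟨e.permCongrHom.toMonoidHom.comp (MulAction.toPermHom _ _), fun k => h.ne1 (v := zv) pd! ?_⟩
  exact congrArg Subtype.val (disjoint_def.1 hH.disjoint (mem_zpowers 𝐳) (H.normalCore_le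
    (H.normalCore_eq_ker.ge (e.permCongrHom.map_eq_one_iff.1 k))))

theorem exists_RH {j : G} (hj : J0 φ L t j) : ∃ ρ, RH φ L t j ρ := by
  obtain ⟨σ, h1, h2⟩ := h.exists_sigma
  obtain ⟨τ, h3⟩ := h.exists_tau
  obtain ⟨e, he⟩ := exists_e35
  set z : ↥𝐑 := ⟨𝐳, h.DR mem_l⟩
  have z3 : z ^ 3 = 1 := Subtype.ext (cube φ _)
  obtain ⟨a1, a2, a3⟩ := s3_cen (τ z) (hpow z3) h3
  have a4 := fun (l : ↥𝐑) (c : Commute l.1 𝐳) => a3 (τ l) ((show Commute l z from Subtype.ext c).map τ)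
  have σz : σ z = 1 := by rw [h2 z (h.SL (h.mS _)), h.pl.of_mem (h.ZQ (mem_zpowers _))]; simp
  have τt : τ ⟨t, h.tR⟩ = 1 := (a4 _ h.tz).2.2 (hsq (Subtype.ext h.t2))
  have τZ : ∀ c : ↥𝐑, τ c = 1 → c.1 ∈ 𝐙 → c.1 = 1 := fun c e k => by
    rcases (mem_zpowers_three (cube φ _)).1 k with k | k | k
    · exact k
    · exact absurd (by rw [← e]; congr 1; exact Subtype.ext k.symm) h3
    · exact absurd (by rw [← inv_eq_one, ← map_inv, ← e]; congr 1; exact Subtype.ext k.symm) h3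
  obtain ⟨ρ, p, hρ⟩ := WH.of_hom (zpowers_le.2 h.tR) (e.toMonoidHom.comp (τ.prod σ)) fun c => by
    simp only [MonoidHom.comp_apply, MulEquiv.coe_toMonoidHom, e.map_eq_one_iff,
      MonoidHom.prod_apply, Prod.mk_eq_one, mem_zpowers_two h.t2]
    refine ⟨fun ⟨k1, k2⟩ => ?_, ?_⟩
    · have ct := mem_cent.1 c.2.2
      refine (h.kerR (comm_of_conj (((mem_norm_three (cube φ _) (h.ne1 pd!)).1 c.2.1).resolve_right
        fun k => a2 ?_)) ct (h.tr_of c.2.1 ct fun l hl lt _ => ?_)).imp (τZ c k1) fun k => ?_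
      · simpa [k1] using congrArg τ (show c * z * c⁻¹ = z⁻¹ from Subtype.ext k)
      · have h4 := conj_mem_of_mem_normalizer (h.NL c.2.1) (inv_mem hl)
        have h5 := lt.mul_left ((ct.mul_left lt.inv_left).mul_left ct.inv_left)
        rw [mul_assoc, mul_assoc, ← mul_assoc c.1]
        refine (h.mu_one (mul_mem hl h4) (Subtype.ext ?_)).imp (h.ft · h5)
          (h.ft · (h5.mul_left (Commute.refl t)))
        rw [h.pl.mul hl h4, map_mul, Subgroup.coe_mul, h1 c _ (inv_mem hl), k2, h.pl.map_inv hl]; simp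
      · exact (eq_inv_of_mul_eq_one_left (τZ (c * ⟨t, h.tR⟩) (by rw [map_mul, k1, τt, one_mul]) k)).trans
          (inv_eq_of_mul_eq_one_left h.t2)
    · rintro (k | k)
      · simp [show c = 1 from Subtype.ext k]
      · rw [show c = ⟨t, h.tR⟩ from Subtype.ext k, τt, h2 _ h.tL]
        exact ⟨rfl, by simp [h.lt, mu_ker]⟩
  have hρ : ∀ r : ↥𝐑, ρ r = e (τ r, σ r) := hρ
  have ρz : ρ 𝐳 = e (τ z, 1) := σz ▸ hρ z
  have wR := h.DR mem_r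
  have jR := h.mR hj.mem hj.ct
  obtain ⟨k, k1, k2, k3⟩ := m8_nf (ρ 𝐳) (m8_z' _ (by rw [← p.map_pow z.2, cube, p.map_one])
    (by simp [ρz, h3]) fun g _ => by
      obtain ⟨⟨a, b⟩, rfl⟩ := e.surjective g
      simp only [ρz, ← map_mul, ← map_inv, e.injective.eq_iff]
      simpa using a1 a) (ρ 𝐰) (by rw [← p.map_pow wR, cube, p.map_one]) (fun k => h.ne1 (v := wv) pd!
      (((mem_zpowers_two h.t2).1 ((p.ker wR).1 k)).resolve_right fun k =>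
        h.t1 (one_of_two_three h.t2 (k := 1) (k ▸ cube φ _)))) (ρ j)
    (by rw [← p.map_conj jR wR, hj.inv, p.map_inv wR])
    ((show Commute (⟨j, jR⟩ : ↥𝐑) z from Subtype.ext (h.Lz hj.mem)).map p.hom)
    (by rw [← p.mul jR jR, hj.sq, p.of_mem (mem_zpowers t)])
    (by rw [hρ ⟨j, jR⟩, he, h2 _ hj.mem, (a4 _ (h.Lz hj.mem)).1, one_mul]; exact (mu _).2)
  refine ⟨_, p.equiv (MulAut.conj k), k2, k1, k3, fun x s c => ?_⟩
  obtain ⟨⟨a, b⟩, k4⟩ := e.surjective (k⁻¹ * x * k)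
  have c' : Commute a (τ z) := congrArg Prod.fst (e.injective (by
    have := Commute.cj c k⁻¹
    rw [← k2, inv_inv, ← k4] at this
    rw [map_mul, map_mul]
    simpa [ρz, mul_assoc, -Prod.mk_mul_mk] using this.eq) : (a, b) * (τ z, 1) = (τ z, 1) * (a, b))
  have sb : sign b = 1 := by simpa [k4, s, (a3 a c').1] using (he (a, b)).symm
  obtain ⟨y, k5⟩ := mu_surj ⟨b, sb⟩
  obtain ⟨l, hl, rfl⟩ := h.plt.surj y
  have lR := h.mR hl.1 (mem_cent.1 hl.2)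
  obtain ⟨n, k6⟩ : a * (τ ⟨l, lR⟩)⁻¹ ∈ zpowers (τ z) := (mem_zpowers_three (hpow z3)).2
    (a3 _ (c'.mul_left (((show Commute ⟨l, lR⟩ z from Subtype.ext (h.Lz hl.1)).map τ).inv_left))).2.1
  refine ⟨(z ^ n * ⟨l, lR⟩).1, mul_mem (zpow_mem (h.SL (h.mS _)) n) hl.1,
    mem_cent.1 (z ^ n * ⟨l, lR⟩).2.2, ?_⟩
  simp only [hρ, map_mul, map_zpow, σz, h2 ⟨l, lR⟩ hl.1, k5, show τ z ^ n = _ from k6]
  simp [k4, mul_assoc]

theorem exists_jA : ∃ k ∈ M, π k = jA ∧ Commute k t ∧ k * k = t := by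
  obtain ⟨k, hk, e, c, k4⟩ := h.liftT (σ := jA) (n := 4) pd! (by norm_num) pd!
  refine ⟨k, hk, e, c, mul_inv_eq_one.1 (one_of_two_three ?_ (k := 1) (h.J3 _
    ((h.pm.eq_iff (mul_mem hk hk) h.tM).1 (by rw [h.pm.mul hk hk, e, h.πt]; exact pd!))))⟩
  rw [← pow_two, ((c.mul_left c).inv_right).mul_pow, inv_pow, pow_two t, h.t2, ← pow_two k,
    ← pow_mul, k4]; simp

omit [Finite G] in
theorem not_E {e : G} (he : IsE φ e) : e ∉ M := fun k => no_neg (π e) fun v => h.inj (by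
  rw [← h.ac k, he, map_inv])

theorem sq_E {e : G} (he : IsE φ e) : e * e = 1 := by
  obtain ⟨v, k⟩ := h.cJ' (g := e * e) fun v => comm_of_conj (by
    rw [show e * e * φ v * (e * e)⁻¹ = e * (e * φ v * e⁻¹) * e⁻¹ by group, he, ← conj_inv, he, inv_inv])
  have := he v
  rw [k, ← mul_assoc, mul_inv_cancel_right] at this
  exact one_of_two_three (mul_eq_one_iff_eq_inv.2 this) (k := 1) (k ▸ cube φ v)

theorem NJ_E {e : G} (he : IsE φ e) : e ∈ 𝐍[𝐉] := mem_normalizer_of_cj_le (cj_le_iff_forall.2 (by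
  rintro _ ⟨v, rfl⟩; rw [he]; exact inv_mem (mJ φ v)))

variable {j : G} (hj : J0 φ L t j) {ρ : G → M8} (p : RH φ L t j ρ)
include p

theorem rho_D {a b : M8} (ha : a ∈ [1, zM, zM⁻¹]) (hb : b ∈ [1, wM, wM⁻¹]) :
    ∃ d ∈ 𝐃, ρ d = a * b := by
  have key : ∀ x ∈ 𝐃, ∀ a ∈ [1, ρ x, (ρ x)⁻¹], ∃ d ∈ 𝐃, ρ d = a := fun x hx a ha => by
    simp only [List.mem_cons, List.not_mem_nil, or_false] at ha
    rcases ha with rfl | rfl | rfl
    exacts [⟨1, one_mem _, p.map_one⟩, ⟨x, hx, rfl⟩, ⟨x⁻¹, inv_mem hx, p.map_inv (h.DR hx)⟩]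
  obtain ⟨x, hx, rfl⟩ := key _ mem_l a (p.z ▸ ha)
  obtain ⟨y, hy, rfl⟩ := key _ mem_r b (p.w ▸ hb)
  exact ⟨_, mul_mem hx hy, p.mul (h.DR hx) (h.DR hy)⟩

include hj

theorem exE' {i : G} (hi : i ∈ 𝐑) (e : ρ i = aM) : ∃ s, (s = 1 ∨ s = t) ∧ IsE φ (i * j * s * t) := by
  have zR := h.DR mem_l
  refine h.exE hj (((mem_norm_three (cube φ _) (h.ne1 pd!)).1 hi.1).resolve_left fun k => ?_)
    (mem_cent.1 hi.2) (h.tr_of hi.1 (mem_cent.1 hi.2) fun l hl c _ => ?_)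
  · have := p.map_conj hi zR
    rw [k, p.z, e] at this
    exact absurd this pd!
  · have lR := h.mR hl c
    have h1 := mul_mem (mul_mem (mul_mem lR hi) (inv_mem lR)) (inv_mem hi)
    have h2 := m8_tr (ρ l) (p.z ▸ (show Commute (⟨l, lR⟩ : ↥𝐑) ⟨𝐳, zR⟩ from
      Subtype.ext (h.Lz hl)).map p.hom)
    rw [← e, ← p.map_conj lR hi, ← p.map_inv hi, ← p.mul (mul_mem (mul_mem lR hi) (inv_mem lR))
      (inv_mem hi), ← p.z, ← p.map_inv zR, ← p.map_one] at h2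
    generalize l * i * l⁻¹ * i⁻¹ = a at h1 h2
    obtain ⟨b, hb, k⟩ : ∃ b ∈ 𝐙, ρ a = ρ b := by
      simp only [List.mem_cons, List.not_mem_nil, or_false] at h2
      rcases h2 with k | k | k <;> exact ⟨_, by simp, k⟩
    rcases (mem_zpowers_two h.t2).1 ((p.eq_iff h1 (zpowers_le.2 zR hb)).1 k) with k | k <;>
      rw [mul_inv_eq_iff_eq_mul.1 k]
    · exact Or.inl (by simpa using hb)
    · exact Or.inr (by rwa [(h.LZ' h.tL hb).eq, mul_assoc, h.t2, mul_one])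

theorem jA_even {k : G} (hk : k ∈ M) (e : π k = jA) (c : Commute k t) : k ∈ 𝐑 ∧
    ρ k * wM * (ρ k)⁻¹ = wM⁻¹ ∧ ρ k * zM * (ρ k)⁻¹ = zM⁻¹ ∧ sign (ρ k).1 = 1 := by
  have kz : k * 𝐳 * k⁻¹ = 𝐳⁻¹ := by rw [h.ac hk, e, ← map_inv]; exact congrArg φ pd!
  have kw : k * 𝐰 * k⁻¹ = 𝐰⁻¹ := by rw [h.ac hk, e, ← map_inv]; exact congrArg φ pd!
  have kR : k ∈ 𝐑 := ⟨(mem_norm_three (cube φ _) (h.ne1 pd!)).2 (Or.inr kz), mem_cent.2 c⟩
  have h1 : ρ k * wM * (ρ k)⁻¹ = wM⁻¹ := by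
    rw [← p.w, ← p.map_conj kR (h.DR mem_r), kw, p.map_inv (h.DR mem_r)]
  have h2 : ρ k * zM * (ρ k)⁻¹ = zM⁻¹ := by
    rw [← p.z, ← p.map_conj kR (h.DR mem_l), kz, p.map_inv (h.DR mem_l)]
  refine ⟨kR, h1, h2, (Int.units_eq_one_or _).resolve_right fun s => ?_⟩
  obtain ⟨a, ha, b, hb, e⟩ := m8_odd _ h1 h2 s
  obtain ⟨d, hd, e'⟩ := h.rho_D p ha hb
  have jR := h.mR hj.mem hj.ct
  have h3 := mul_mem kR (h.DR hd)
  obtain ⟨s, hs, k⟩ := h.exE' hj p (mul_mem h3 (inv_mem jR)) (by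
    rw [p.mul h3 (inv_mem jR), p.mul kR (h.DR hd), p.map_inv jR, p.j, e', e])
  refine h.not_E k (mul_mem (mul_mem ?_ ?_) h.tM)
  · simpa using mul_mem hk (h.pm.le (h.memD.1 hd).1)
  · rcases hs with rfl | rfl
    exacts [one_mem _, h.tM]

theorem decN {g : G} (hg : g ∈ 𝐍[𝐉]) : ∃ m ∈ M, ∃ b, (b = 1 ∨ b = j) ∧ (g = m * b ∨
    (∃ r ∈ 𝐑, sign (ρ r).1 = -1) ∧ ∃ e, IsE φ e ∧ g = m * b * e) := by
  obtain ⟨m, hm, n, hn, rfl⟩ := (h.syl.mono h.SM le_top).frattini (h.NM hg)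
  have nZ : n ∈ 𝐍[𝐙] := mem_normalizer_of_cj_le (cj_le_iff.2 (zpowers_le.2 (mem_cj.2 (h.cenQ
    fun x hx => comm_conj_iff.2 (h.Lz (h.SL (inv_conj_mem_of_mem_normalizer hn (h.QS hx)))).symm
      |> fun k => by simpa using k))))
  obtain ⟨q, hq, c⟩ := h.fratQ nZ
  have rR : q * n ∈ 𝐑 := ⟨mul_mem (h.SN (h.QS hq)) nZ, mem_cent.2 c⟩
  have rJ := mul_mem (h.pm.norm (h.QM hq)) ((mul_mem_cancel_left (h.pm.norm hm)).1 hg)
  rw [show m * n = m * q⁻¹ * (q * n) by group]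
  generalize q * n = r at c rR rJ
  obtain ⟨u, hu, e⟩ : ∃ u ∈ [wM, wM⁻¹], ρ r * wM * (ρ r)⁻¹ = u := by
    obtain ⟨⟨v, e⟩, k⟩ := h.memD.1 (conj_mem_of_mem_normalizer (h.ND' rJ c) mem_r)
    have nz : r * 𝐰 * r⁻¹ ∉ 𝐙 := fun k => h.not_zp (u := wv) (v := zv) pd!
      (by simpa [mul_assoc] using inv_conj_mem_of_mem_normalizer rR.1 k)
    refine ⟨_, ?_, rfl⟩
    rw [← p.w, ← p.map_conj rR (h.DR mem_r), ← p.map_inv (h.DR mem_r), ← e]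
    rcases sing_D v (h.ct.1 (e ▸ k)) (h.f2' ((h.cjz (v := wv) pd! pd!).trans
      (isConj_iff.2 ⟨r, e.symm⟩))) with k | k | k
    · exact absurd (e ▸ h.memZ.2 (Or.inl k)) nz
    · exact absurd (e ▸ h.memZ.2 (Or.inr k)) nz
    · rcases k with rfl | rfl <;> simp
  obtain ⟨k, hk, k1, k2, -⟩ := h.exists_jA
  obtain ⟨kR, k3, k4, k5⟩ := h.jA_even hj p hk k1 k2
  obtain ⟨a, ha, b, hb, c', hc, d', hd', e'⟩ := m8_ND _ k3 k4 k5 u hu _ e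
  obtain ⟨d, hd, e1⟩ := h.rho_D p ha hb
  have jR := h.mR hj.mem hj.ct
  obtain ⟨x, xM, xR, rfl⟩ : ∃ x ∈ M, x ∈ 𝐑 ∧ ρ x = c' := by
    simp only [List.mem_cons, List.not_mem_nil, or_false] at hc
    rcases hc with rfl | rfl
    exacts [⟨1, one_mem _, one_mem _, p.map_one⟩, ⟨k, hk, kR, rfl⟩]
  obtain ⟨y, hy, yR, rfl⟩ : ∃ y, (y = 1 ∨ y = j) ∧ y ∈ 𝐑 ∧ ρ y = d' := by
    simp only [List.mem_cons, List.not_mem_nil, or_false] at hd'
    rcases hd' with rfl | rfl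
    exacts [⟨1, Or.inl rfl, one_mem _, p.map_one⟩, ⟨j, Or.inr rfl, jR, p.j⟩]
  have h1 := mul_mem (h.DR hd) xR
  have h2 := mul_mem h1 yR
  have h3 := fun {x} (hx : x ∈ M) => mul_mem (mul_mem hm (inv_mem (h.QM hq))) hx
  have h4 := mul_mem (h.pm.le (h.memD.1 hd).1) xM
  rw [← e1, ← p.mul (h.DR hd) xR, ← p.mul h1 yR] at e'
  rcases e' with e' | ⟨s, e'⟩
  · exact ⟨_, h3 (mul_mem (zpowers_le.2 h.tM ((p.eq_iff rR h2).1 e')) h4), y, hy, Or.inl (by group)⟩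
  · have h5 := mul_mem (mul_mem (inv_mem h2) rR) (inv_mem jR)
    obtain ⟨s', hs, E⟩ := h.exE' hj p h5 (by
      rw [p.mul (mul_mem (inv_mem h2) rR) (inv_mem jR), p.mul (inv_mem h2) rR, p.map_inv h2,
        p.map_inv jR, p.j, e'])
    have c1 : ∀ g ∈ 𝐑, Commute g (s' * t) := fun g hg => by
      rcases hs with rfl | rfl
      exacts [by simpa using mem_cent.1 hg.2, by simp [h.t2]]
    refine ⟨_, h3 (mul_mem h4 (inv_mem (show s' * t ∈ M by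
      rcases hs with rfl | rfl; exacts [by simpa using h.tM, mul_mem h.tM h.tM]))), y, hy,
      Or.inr ⟨⟨r, rR, s⟩, _, E, ?_⟩⟩
    calc _ = m * q⁻¹ * (d * x * ((s' * t)⁻¹ * (s' * t)) * (d * x)⁻¹ * r) := by group
      _ = m * q⁻¹ * (d * x * (s' * t)⁻¹ * ((d * x)⁻¹ * r * (s' * t))) := by
        rw [(c1 _ (mul_mem (inv_mem h1) rR)).eq]; group
      _ = _ := by group

theorem actY {g : G} (hg : g ∈ 𝐍[𝐉]) (c : Commute g (φ yv)) :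
    g ∈ M ∨ (∃ r ∈ 𝐑, sign (ρ r).1 = -1) ∧ ∃ e, IsE φ e ∧ g * e ∈ M := by
  have jy : j * φ yv * j⁻¹ = φ (zv * wv⁻¹) := by
    rw [show yv = zv * wv from pd!, map_mul, ← conj_mul, hj.inv, conj_of_comm (h.Lz hj.mem), map_mul,
      map_inv]
  have key : ∀ m ∈ M, ∀ v, m * φ v * m⁻¹ = φ yv → qn v = 2 := fun m hm v e => by
    rw [← qn_act (π m), h.inj ((h.ac hm v).symm.trans e)]; exact pd!
  obtain ⟨m, hm, b, rfl | rfl, rfl | ⟨k, e, E, rfl⟩⟩ := h.decN hj p hg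
  · exact Or.inl (by simpa using hm)
  · exact Or.inr ⟨k, e, E, by simpa [mul_assoc, h.sq_E E] using hm⟩
  · exact absurd (key m hm (zv * wv⁻¹) (by
      rw [← jy]; exact Eq.trans (by group) (conj_of_comm c))) pd!
  · exact absurd (key m hm (zv * wv⁻¹)⁻¹ (by
      rw [map_inv, ← jy, conj_inv, ← E]; exact Eq.trans (by group) (conj_of_comm c))) pd!

end MT

end Cfsg.Agent.Loc3
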