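import Cfsg.Agent.Loc3.McD
import Cfsg.Agent.S3702
import Cfsg.Agent.Transfer.ThompsonTransfer

/-!
The 3-local configuration of the McLaughlin group: the centraliser of a non-singular vector.
-/

set_option autoImplicit false
set_option synthInstance.maxSize 100000

namespace Cfsg.Agent.Loc3

open Subgroup Cfsg Cfsg.Agent.PLocal.Amb MC Cfsg.Agent.Char Cfsg.Agent.Char.Euclid

variable {G : Type*} [Group G]

theorem four_cube : ∀ σ : A6, act σ yv = yv → σ ^ 3 ∈ [1, tA, nA, tA * nA] ∧ ∀ τ : A6,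
    act τ yv = yv → σ * τ * σ⁻¹ * τ⁻¹ ∈ [1, tA, nA, tA * nA] := pd!

/-- the group `3³ : A₄` -/
theorem hay4 [Finite G] {φ : V3 →* G} {κ : W2 →* G} {K H : Subgroup G}
    (h : Split φ κ S3701.act K) (hK : K ≤ H) (uf : ∀ v, v ≠ 1 → UF H (φ v)) (hn : H ≤ 𝐍[φ.range])
    (hc : ∀ a ∈ H, ∀ b ∈ H, a * b * a⁻¹ * b⁻¹ ∈ K) (h3 : ∀ a ∈ H, a ^ 3 ∈ K) (g : G) : g ∈ H := by
  have c3 : ∀ v, φ v ^ 3 = 1 := S3702.Hyp.pow3
  have w2 : ∀ w : W2, w ^ 2 = 1 ∧ w ^ 4 = 1 := by decide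
  have u0 := uf (v3 1 0 0) (by decide)
  have hi : ¬ 3 ∣ H.index := relIndex_top_right (H := H) ▸ u0.not_dvd (c3 _) (mem_top _)
  have fx : ∀ x ∈ H, x ^ 3 ^ 2 = 1 → ∃ v, v ≠ 1 ∧ Commute (φ v) x := fun x hx e => by
    obtain ⟨⟨_, ⟨v, rfl⟩, k⟩, k1⟩ := ne_bot_iff_exists_ne_one.1 (inf_centralizer_ne_bot
      (isPGroup_zpowers ⟨2, e⟩) (isPGroup_iff.2 (by rintro _ ⟨v, rfl⟩; exact ⟨1, c3 v⟩))
      (zpowers_le.2 (hn hx)) fun k => absurd (h.inj ((mem_bot.1 (k.le ⟨v3 1 0 0, rfl⟩)).trans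
        (map_one φ).symm)) (by decide))
    exact ⟨v, fun e => k1 (Subtype.ext (by simp [e])),
      (mem_centralizer_iff.1 k x (mem_zpowers x)).symm⟩
  let V := (powMonoidHom 4).comp (MonoidHom.transfer (Abelianization.of (G := H)))
  have key : ∀ x ∈ H, V x = 1 → x ∈ K := fun x hx e => by
    obtain ⟨v, w, k⟩ := (h.mem _).1 (h3 x hx)
    obtain ⟨v', k'⟩ := h.exists_pow v w 2
    have x9 : (x ^ 4) ^ 3 ^ 2 = 1 := by
      rw [← pow_mul, show 4 * 3 ^ 2 = 3 * 2 * 3 * 2 from rfl, pow_mul, pow_mul, pow_mul, k, k',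
        (w2 w).1, map_one, mul_one, c3, one_pow]
    have h1 := Transfer.transfer_eq_pow_of_forall (Abelianization.of (G := H)) (x ^ 4)
      (Abelianization.of ⟨_, pow_mem hx 4⟩) fun g n hg => by
      have h2 : ((x ^ 4) ^ n) ^ 3 ^ 2 = 1 := by rw [← pow_mul, mul_comm, pow_mul, x9, one_pow]
      obtain ⟨a, a1, c⟩ := fx _ (pow_mem (pow_mem hx 4) n) h2
      obtain ⟨b, b1, d⟩ := fx _ hg (by simpa using cube_conj (g := g⁻¹) h2)
      obtain ⟨m, hm, e⟩ := (uf a a1).fusion' (g := g⁻¹) (uf b b1) (c3 _) (c3 _) c (by simpa using d)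
      rw [show (⟨_, hg⟩ : H) = ⟨m, hm⟩ * ⟨_, pow_mem hx 4⟩ ^ n * ⟨m, hm⟩⁻¹ from
        Subtype.ext (by simpa using e.symm), map_mul, map_mul, map_inv, map_pow, mul_inv_cancel_comm]
    rw [map_pow, ← powMonoidHom_apply, ← MonoidHom.comp_apply, e, ← map_pow] at h1
    have h2 : (x ^ 4) ^ H.index ∈ K := (commutator_le.2 fun a _ b _ => hc a a.2 b b.2 :
      commutator H ≤ K.subgroupOf H) ((Abelianization.ker_of H).le h1.symm)
    have h4 := mem_of_pow_mem_of_coprime h2 (((Nat.prime_three.coprime_iff_not_dvd.2 hi).pow_left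
      2).coprime_dvd_left (orderOf_dvd_of_pow_eq_one x9))
    rw [pow_succ] at h4
    exact (mul_mem_cancel_left (h3 x hx)).1 h4
  have hφ : ∀ v, φ v ∈ V.ker := fun v => by
    have e : ∀ w, V (φ (S3701.act w v)) = V (φ v) := fun w => by rw [← h.conj]; simp
    have k : ∀ v : V3, v * S3701.act (.ofAdd (1, 0)) v * S3701.act (.ofAdd (0, 1)) v *
      S3701.act (.ofAdd (1, 1)) v = 1 := by decide +kernel
    have := congrArg (fun v => V (φ v)) (k v)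
    simp only [map_mul, e, map_one] at this
    exact (pow_eq_one_iff_of_coprime (show Nat.Coprime 3 4 by norm_num)).1
      ⟨by rw [← map_pow, c3, map_one], by simpa [pow_succ] using this⟩
  have hκ : ∀ w, κ w ∈ V.ker := fun w => by
    rw [MonoidHom.mem_ker, MonoidHom.comp_apply, powMonoidHom_apply, ← map_pow, ← map_pow, (w2 w).2,
      map_one, map_one]
  have hs : Split (φ.codRestrict _ hφ) (κ.codRestrict _ hκ) S3701.act (K.subgroupOf V.ker) :=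
    ⟨fun a b e => h.inj (congrArg Subtype.val e), fun w v => Subtype.ext (h.conj w v),
      fun k => (h.mem k).trans ⟨fun ⟨v, w, e⟩ => ⟨v, w, Subtype.ext e⟩,
        fun ⟨v, w, e⟩ => ⟨v, w, congrArg Subtype.val e⟩⟩, h.faith⟩
  have h1 := S3702.eq_top_of_four hs (fun n hn => by
    obtain ⟨v, hv⟩ := (mem_normalizer_iff.1 hn _).1 ⟨v3 1 0 0, rfl⟩
    exact key _ (u0.2 _ ((show φ v = n * φ (v3 1 0 0) * (n : G)⁻¹ from congrArg Subtype.val hv) ▸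
      hK (h.φ_mem v))) n.2) (by
    rintro _ ⟨v, rfl⟩ hv n hn
    exact key _ ((uf v (by rintro rfl; exact hv (map_one _))).comm
      (congrArg Subtype.val (mem_centralizer_singleton_iff.1 hn))) n.2)
  exact u0.2 _ (hK (h1 ⟨_, (inferInstance : V.ker.Normal).conj_mem _ (hφ _) g⟩))

variable {φ : V4 →* G} {S Q L M : Subgroup G} {lam : G → SL25} {π : G → A6} {t : G}

local notation "𝐉" => MonoidHom.range φ
local notation "𝐲" => φ yv

variable [Finite G]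

namespace MT

variable (h : MT φ S Q L M lam π t)
include h

theorem actY' {g : G} (hg : g ∈ 𝐍[𝐉]) (c : Commute g 𝐲) : g ∈ M ∨ ∃ e, IsE φ e ∧ g * e ∈ M := by
  obtain ⟨j, hj⟩ := h.exists_J0
  obtain ⟨ρ, p⟩ := h.exists_RH hj
  exact (h.actY hj p hg c).imp id And.right

omit [Finite G] in
theorem acE {g e : G} (E : IsE φ e) (hg : g * e ∈ M) (v : V4) :
    g * φ v * g⁻¹ = φ (act (π (g * e)) v)⁻¹ := by
  rw [map_inv, ← h.ac hg, conj_inv, show g * e * (φ v)⁻¹ * (g * e)⁻¹ =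
    g * (e * φ v * e⁻¹)⁻¹ * g⁻¹ by group, E, inv_inv]

theorem cenYV {g : G} {v : V4} (hv : ¬ Yv v) (c : Commute g 𝐲) (c' : Commute g (φ v)) :
    g ∈ 𝐍[𝐉] := by
  have cP : ∀ {g a b}, Commute g 𝐲 → Commute g (φ v) → a ∈ [1, yv, yv⁻¹] → b ∈ [1, v, v⁻¹] →
      φ (a * b) ∈ closure {𝐲, φ v} := fun _ _ ha hb => mem_map_pair φ |>.2
    ⟨_, (mem_pair (v4_cube _) (v4_cube _) (Commute.all _ _)).2 ⟨_, ha, _, hb, rfl⟩, rfl⟩
  rcases plane v hv with ⟨a, ha, k0, k1, k2, k3⟩ | an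
  · refine h.cz2 (u := yv) k0 k1 (h.not_zp (not_or.2 ⟨pd!, not_or.2 ⟨k2, k3⟩⟩)) ?_
      (by rw [conj_of_comm c]; exact mJ φ _)
    rw [mul_comm, conj_of_comm (comm_pair (cP c c' ha (by simp)) c c')]
    exact mJ φ _
  have JY : 𝐉 ≤ centralizer {𝐲} ⊓ centralizer {φ v} := by
    rintro _ ⟨u, rfl⟩
    exact ⟨mem_cent.2 (cm φ _ _), mem_cent.2 (cm φ _ _)⟩
  have fx : ∀ n ∈ centralizer {𝐲} ⊓ centralizer {φ v}, n ∈ M → n ∈ 𝐉 := fun n hn hM =>
    (h.pm.ker hM).1 (an_fix _ ((h.fix hM).1 (mem_cent.1 hn.1)) v an ((h.fix hM).1 (mem_cent.1 hn.2)))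
  refine st1 (P := closure {𝐲, φ v}) (isSyl_of_isSyl_normalizer ⟨le_inf JY le_normalizer, h.pJ,
    fun T hT _ h2 n hn => fx n (h2 hn).1 (h.le_M hT (h2.trans inf_le_right) hn)⟩)
    ((closure_le _).2 (by rintro _ (rfl | rfl) <;> exact mJ φ _))
    (fun x hx n hn => comm_pair hx (mem_cent.1 hn.1) (mem_cent.1 hn.2))
    (h.no3 (coprime_Op' 3 _) (JY.trans (le_norm_Op' 3 _))) h.Jc h.J3 (by
      have := card_pair_le (cube φ yv) (cube φ v) (cm φ _ _)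
      rw [h.cJ]; omega) (fun n hn hJ => ?_) ⟨mem_cent.2 c, mem_cent.2 c'⟩
  have c1 := mem_cent.1 hn.1
  have c2 := mem_cent.1 hn.2
  refine (h.actY' hJ c1).imp (fun hM x hx => ?_) ?_
  · rw [conj_of_comm (h.Jc _ (fx n hn hM) _ hx), mul_inv_cancel]; exact one_mem _
  · rintro ⟨e, E, hM⟩ _ ⟨u, rfl⟩
    have k : ∀ a, Commute n (φ a) → act (π (n * e)) a = a⁻¹ := fun a c =>
      inv_eq_iff_eq_inv.1 (h.inj ((h.acE E hM a).symm.trans (conj_of_comm c)))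
    obtain ⟨a, ha, b, hb, k⟩ := an_neg _ (k _ c1) v an (k _ c2) u
    rw [h.acE E hM, ← map_mul, k]
    exact cP c c' ha hb

theorem scY {g : G} {u : V4} (c : Commute g 𝐲) (hu : ¬ Yv u) (e : g * φ u * g⁻¹ ∈ 𝐍[𝐉]) :
    g ∈ 𝐍[𝐉] := by
  have u3 := cube_conj (g := g) (cube φ u)
  have hM := h.M3 _ e ⟨1, u3⟩
  obtain ⟨s, k, k0, k1, k2, k3⟩ := fix_sing _ (by rw [← h.pm.map_pow hM, u3, h.pm.map_one])
  obtain ⟨m, -, e1⟩ := h.exists_sing' k0 k1
  have e2 : g⁻¹ * m * φ zv * (g⁻¹ * m)⁻¹ = g⁻¹ * φ s * g⁻¹⁻¹ := by rw [← e1]; group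
  refine inv_mem_iff.1 (h.cz2 (u := yv) k0 k1 (h.not_zp (not_or.2 ⟨pd!, not_or.2 ⟨k2, k3⟩⟩))
    (e2 ▸ h.wc (e2 ▸ h.cenYV hu ?_ ?_)) (by rw [conj_of_comm c.inv_left]; exact mJ φ _))
  · exact (c.inv_left.mul_left (cm φ _ _)).mul_left c.inv_left.inv_left
  · simpa using (comm_conj_iff.1 ((h.fix hM).2 k)).symm

variable {X : Type*} [Group X] {η : G → X} (q : CQ (φ yv) η)
include q

omit [Finite G] in
theorem splitY {W : Type*} [Group W] (ε : W →* G) {a : W → V3 → V3} (c : ∀ w, Commute (ε w) 𝐲)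
    (hc : ∀ w v, ε w * φ (emb v) * (ε w)⁻¹ = φ (emb (a w v))) (hN : ∀ w, ε w ∈ 𝐍[𝐉])
    (faith : ∀ w, (∀ v, a w v = v) → w = 1) : ∃ (ψ : V3 →* X) (κ : W →* X) (K : Subgroup X),
      Split ψ κ a K ∧ (∀ v, ψ v = η (φ (emb v))) ∧ K ≤ q.im 𝐍[𝐉] ∧
      ∀ g w, Commute g 𝐲 → g * (ε w)⁻¹ ∈ 𝐉 → η g ∈ K := by
  let ψ : V3 →* X := MonoidHom.mk' (fun v => η (φ (emb v))) fun a b => by
    rw [map_mul, map_mul, q.mul (cm φ _ _) (cm φ _ _)]
  let κ : W →* X := MonoidHom.mk' (fun w => η (ε w)) fun a b => by rw [map_mul, q.mul (c _) (c _)]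
  have key : ∀ v, η (φ v) = 1 ↔ Yv v := fun v => by
    rw [q.ker (cm φ _ _), mem_zpowers_three (cube φ _), ← map_inv, ← map_one φ]
    simp only [h.inj.eq_iff]
  have sp := Split.of_closure (φ := ψ) (κ := κ) (X := {x | ∃ v w, x = ψ v * κ w})
    ((injective_iff_map_eq_one _).2 fun v e => emb_inj v ((key _).1 e))
    (fun w v => (q.map_conj (c w) (cm φ _ _)).symm.trans (congrArg η (hc w v))) faith
    (fun _ e => e) (fun v => subset_closure ⟨v, 1, by simp⟩) fun w => subset_closure ⟨1, w, by simp⟩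
  refine ⟨ψ, κ, _, sp, fun _ => rfl, fun x hx => ?_, fun g w cg ⟨u, e⟩ => ?_⟩
  · obtain ⟨v, w, rfl⟩ := (sp.mem x).1 hx
    exact mul_mem (q.mem_im_of (le_normalizer (mJ φ _)) (cm φ _ _)) (q.mem_im_of (hN w) (c w))
  · obtain ⟨v, hv⟩ := emb_dec u
    rw [eq_mul_inv_iff_mul_eq.1 e |>.symm, q.mul (cm φ _ _) (c w), ← mul_inv_cancel_left (emb v) u,
      map_mul, q.mul (cm φ _ _) (cm φ _ _), (key _).2 hv, mul_one]
    exact mul_mem (sp.φ_mem v) (sp.κ_mem w)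

theorem ufY {v : V3} (hv : v ≠ 1) : UF (q.im 𝐍[𝐉]) (η (φ (emb v))) :=
  ⟨q.mem_im_of (le_normalizer (mJ φ _)) (cm φ _ _), fun x hx => by
    obtain ⟨g, c, rfl⟩ := q.surj x
    rw [← q.map_conj c (cm φ _ _)] at hx
    exact q.mem_im_of (h.scY c (mt (emb_inj v) hv) (q.mem_of_mem_im (le_normalizer (mJ φ _))
      ((c.mul_left (cm φ _ _)).mul_left c.inv_left) hx)) c⟩

omit q in
theorem exists_sec {e : G} (E : IsE φ e) :
    ∃ s : A6 →* G, ∀ σ, s σ ∈ M ∧ Commute (s σ) e ∧ π (s σ) = σ := by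
  have p : PH (M ⊓ centralizer {e}) ⊥ π := ⟨⟨bot_le, fun a b => h.pm.mul a.1 b.1, fun {g} a =>
    ⟨fun k => by
      obtain ⟨v, rfl⟩ := (h.pm.ker a.1).1 k
      exact one_of_two_three (mul_eq_one_iff_eq_inv.2 ((conj_of_comm (mem_cent.1 a.2).symm).symm.trans
        (E v))) (k := 1) (cube φ v), fun k => mem_bot.1 k ▸ h.pm.map_one⟩⟩, fun σ => by
    obtain ⟨m, hm, rfl⟩ := h.pm.surj σ
    obtain ⟨k, hk, c⟩ := frat2 (g := m) h.pJ (h.sq_E E) (h.cJ' fun v => comm_of_conj (by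
      obtain ⟨u, e'⟩ := inv_conj_mem_of_mem_normalizer (h.pm.norm hm) (mJ φ v)
      calc _ = e * (m * (e * (m⁻¹ * φ v * m) * e⁻¹) * m⁻¹) * e⁻¹ := by group
        _ = e * (φ v)⁻¹ * e⁻¹ := by rw [← e', E, e']; group
        _ = _ := by rw [← conj_inv, E, inv_inv]))
    exact ⟨_, ⟨mul_mem (h.pm.le hk) hm, mem_cent.2 c⟩, by
      rw [h.pm.mul (h.pm.le hk) hm, h.pm.of_mem hk, one_mul]⟩⟩
  obtain ⟨s, hs⟩ := p.exists_hom (Subgroup.subtype _) fun g hg => hg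
  refine ⟨s, fun σ => ?_⟩
  obtain ⟨g, hg, rfl⟩ := p.surj σ
  rw [hs ⟨g, hg⟩]
  exact ⟨hg.1, mem_cent.1 hg.2, rfl⟩

theorem topE [Finite X] {e : G} (E : IsE φ e) (x : X) : x ∈ q.im 𝐍[𝐉] := by
  obtain ⟨s, hs⟩ := h.exists_sec E
  have e2 := h.sq_E E
  let ε : Cube.W →* G := MonoidHom.mk' (fun w => s (th w) * if Equiv.Perm.sign w = 1 then 1 else e)
    fun a b => by
      rcases Int.units_eq_one_or (Equiv.Perm.sign a) with k | k <;>
      rcases Int.units_eq_one_or (Equiv.Perm.sign b) with k' | k' <;>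
      simp [k, k', mul_assoc, e2, ← (hs _).2.1.eq, (hs _).2.1.symm.left_comm]
  have hε : ∀ w v, ε w * φ v * (ε w)⁻¹ =
      φ (if Equiv.Perm.sign w = 1 then act (th w) v else (act (th w) v)⁻¹) := fun w v => by
    change s _ * _ * _ * (s _ * _)⁻¹ = _
    split_ifs
    · rw [mul_one, h.ac (hs _).1, (hs _).2.2]
    · rw [h.acE E (by simpa [mul_assoc, e2] using (hs _).1), mul_assoc, e2, mul_one, (hs _).2.2]
  obtain ⟨ψ, κ, K, sp, hψ, hK, mem⟩ := h.splitY q ε (a := Cube.act)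
    (fun w => comm_of_conj (by rw [hε, th_y]; split_ifs <;> simp))
    (fun w v => by rw [hε, th_act]; split_ifs <;> simp)
    (fun w => mul_mem (h.pm.norm (hs _).1) (by split_ifs; exacts [one_mem _, h.NJ_E E]))
    Cube.split0.faith
  obtain rfl : K = q.im 𝐍[𝐉] := le_antisymm hK fun x hx => by
    obtain ⟨g, hg, c, rfl⟩ := q.mem_im.1 hx
    rcases h.actY' hg c with hM | ⟨e', E', hM⟩
    · have k := (h.fix hM).1 c
      obtain ⟨w, k1⟩ := th_surj _ (Or.inl k)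
      refine mem g w c ?_
      rw [← k1, th_y] at k
      change g * (s _ * _)⁻¹ ∈ _
      split_ifs at k ⊢
      · rw [mul_one, ← h.pm.eq_iff hM (hs _).1, (hs _).2.2, k1]
      · exact absurd k pd!
    · have hM' : g * e ∈ M := by
        simpa [mul_assoc] using mul_mem hM (h.pm.le (h.cJ' (g := e'⁻¹ * e) fun v => comm_of_conj (by
          rw [show e'⁻¹ * e * φ v * (e'⁻¹ * e)⁻¹ = e'⁻¹ * (e * φ v * e⁻¹) * e' by group, E, ← E']
          group)))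
      have k := inv_eq_iff_eq_inv.1 (h.inj ((h.acE E hM' yv).symm.trans (conj_of_comm c)))
      obtain ⟨w, k1⟩ := th_surj _ (Or.inr k)
      refine mem g w c ?_
      rw [← k1, th_y] at k
      change g * (s _ * _)⁻¹ ∈ _
      split_ifs at k ⊢
      · exact absurd k pd!
      · rw [mul_inv_rev, inv_eq_of_mul_eq_one_left e2, ← mul_assoc, ← h.pm.eq_iff hM' (hs _).1,
          (hs _).2.2, k1]
  refine S3702.Hyp.mem ⟨sp, fun v hv g hg => (hψ v ▸ h.ufY q hv).comm (mem_cent.1 hg),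
    fun v g hg => ?_⟩ x
  by_cases hv : v = 1
  · simp [hv, one_mem]
  · exact sp.conj_mem_range ((hψ v ▸ h.ufY q hv).2 g hg) v

theorem topM [Finite X] (hM : ∀ g ∈ 𝐍[𝐉], Commute g 𝐲 → g ∈ M) (x : X) : x ∈ q.im 𝐍[𝐉] := by
  obtain ⟨n, hn, e, c, n2⟩ := h.liftT (σ := nA) (n := 2) pd! (by norm_num) pd!
  let ε := fourHom ((pow_two t).trans h.t2) n2 c.symm
  have εM : ∀ w, ε w ∈ M := fun w => mul_mem (pow_mem h.tM _) (pow_mem hn _)
  have hε : ∀ w, π (ε w) = tA ^ w.toAdd.1.val * nA ^ w.toAdd.2.val := fun w =>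
    (h.pm.mul (pow_mem h.tM _) (pow_mem hn _)).trans (by
      rw [h.pm.map_pow h.tM, h.pm.map_pow hn, h.πt, e])
  obtain ⟨ψ, κ, K, sp, hψ, hK, mem⟩ := h.splitY q ε (a := S3701.act)
    (fun w => ((h.ct.2 pd!).pow_left _).mul_left (((h.fix hn).2 (e ▸ pd!)).pow_left _))
    (fun w v => by rw [h.ac (εM w), hε, emb_four]) (fun w => h.pm.norm (εM w)) S3701.split0.faith
  have key : ∀ g ∈ M, Commute g 𝐲 → π g ∈ [1, tA, nA, tA * nA] → η g ∈ K := fun g hg c k => by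
    obtain ⟨w, k⟩ : ∃ w : W2, π g = tA ^ w.toAdd.1.val * nA ^ w.toAdd.2.val := by
      simp only [List.mem_cons, List.not_mem_nil, or_false] at k
      rcases k with k | k | k | k <;> rw [k]
      exacts [⟨.ofAdd (0, 0), (mul_one _).symm⟩, ⟨.ofAdd (1, 0), by simp [ZMod.val_one]⟩,
        ⟨.ofAdd (0, 1), by simp [ZMod.val_one]⟩, ⟨.ofAdd (1, 1), by simp [ZMod.val_one]⟩]
    exact mem g w c ((h.pm.eq_iff hg (εM w)).1 (k.trans (hε w).symm))
  refine hay4 sp hK (fun v hv => hψ v ▸ h.ufY q hv) (le_normalizer_iff_cj.2 fun a ha =>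
    cj_le_iff_forall.2 ?_) (fun a ha b hb => ?_) (fun a ha => ?_) x <;>
  obtain ⟨g, hg, c, rfl⟩ := q.mem_im.1 ha
  · rintro _ ⟨v, rfl⟩
    obtain ⟨u, e⟩ := conj_mem_of_mem_normalizer hg (mJ φ (emb v))
    rw [hψ, ← q.map_conj c (cm φ _ _), ← e]
    exact sp.mem_range_of_pow (n := 3) (by decide) (mem _ 1 (cm φ _ _) (by simp))
      (by rw [← q.map_pow (cm φ _ _), cube, q.map_one])
  · obtain ⟨k, hk, c', rfl⟩ := q.mem_im.1 hb
    have h1 := (c.mul_left c').mul_left c.inv_left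
    have h2 := mul_mem (mul_mem (hM g hg c) (hM k hk c')) (inv_mem (hM g hg c))
    rw [← q.map_conj c c', ← q.map_inv c', ← q.mul h1 c'.inv_left]
    refine key _ (mul_mem h2 (inv_mem (hM k hk c'))) (h1.mul_left c'.inv_left) ?_
    rw [h.pm.mul h2 (inv_mem (hM k hk c')), h.pm.map_conj (hM g hg c) (hM k hk c'),
      h.pm.map_inv (hM k hk c')]
    exact (four_cube _ ((h.fix (hM g hg c)).1 c)).2 _ ((h.fix (hM k hk c')).1 c')
  · rw [← q.map_pow c]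
    exact key _ (pow_mem (hM g hg c) 3) (c.pow_left 3)
      (h.pm.map_pow (hM g hg c) 3 ▸ (four_cube _ ((h.fix (hM g hg c)).1 c)).1)

omit q in
/-- `C(y) ≤ N(J)` -/
theorem cenY {g : G} (c : Commute g 𝐲) : g ∈ 𝐍[𝐉] := by
  obtain ⟨X, _, _, η, q⟩ := exists_CQ 𝐲
  refine q.mem_of_mem_im (le_normalizer (mJ φ _)) c ?_
  by_cases k : ∃ e, IsE φ e
  · exact h.topE q k.choose_spec _
  · exact h.topM q (fun g hg c => (h.actY' hg c).resolve_right fun ⟨e, E, _⟩ => k ⟨e, E⟩) _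

end MT

end Cfsg.Agent.Loc3
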