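import Cfsg.Agent.Loc3.Sym8
import Cfsg.Agent.KSG.SymCoxeter
import Cfsg.Agent.Transfer.ThompsonTransfer

/-!
The 3-local characterization of `S₈`, generic case.
-/

set_option autoImplicit false
set_option synthInstance.maxSize 100000

namespace Cfsg.Agent.Loc3

open Subgroup Cfsg Cfsg.Agent.PLocal.Amb Cfsg.Agent.KSG

theorem m8_e : ∀ x : M8, Commute x sM → Commute x zM → (x * x = 1 ∨ x * x = sM) →
    (x = 1 ∨ x = sM) ∨ (x = rM ∨ x = rM * sM) ∨ ∃ p ∈ [pM, qM], x = p ∨ x = p * sM := pd!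

theorem s8_t : ∀ x : S8, Commute x t8.1 → Commute x w8.1 →
    (x = 1 ∨ x = w8.1 ∨ x = w8.1⁻¹) ∨ (x ^ 3 ≠ 1 ∧ (x ^ 3) ^ 4 = 1) := pd!

theorem s8_u : ∀ x : S8, Commute x v8.1 → Commute x u8.1 →
    (x = 1 ∨ x = v8.1 ∨ x = v8.1⁻¹) ∨ (x ^ 3 ≠ 1 ∧ (x ^ 3) ^ 4 = 1) := pd!

theorem s8_s : ∀ x : S8, Commute x v8.1 → Commute x (u8.1 * Equiv.swap 6 7) →
    (x = 1 ∨ x = v8.1 ∨ x = v8.1⁻¹) ∨ (x ^ 3 ≠ 1 ∧ (x ^ 3) ^ 4 = 1) := pd!

theorem s8_inv {x : S8} (h2 : x * x = 1) (h1 : x ≠ 1) : IsConj aM.1 x ∨ IsConj t8.1 x ∨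
    IsConj (u8.1 * Equiv.swap 6 7) x ∨ IsConj u8.1 x := by
  have h2' : x ^ 2 = 1 := by rw [pow_two, h2]
  have e2 := dvd_supp Nat.prime_two h2'
  have e5 : x.support.card ≤ 8 := (Finset.card_le_univ _).trans (by simp)
  have e6 : x.support.card ≠ 0 := by simpa using h1
  have : x.support.card = 2 ∨ x.support.card = 4 ∨ x.support.card = 6 ∨ x.support.card = 8 := by
    omega
  refine this.imp (fun e => ?_) (Or.imp (fun e => ?_) (Or.imp (fun e => ?_) fun e => ?_)) <;>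
    exact isConj_of_supp Nat.prime_two pd! h2' (by rw [e]; exact pd!)

theorem card_cent_aM : Nat.card (centralizer ({aM.1} : Set S8)) = 1440 := by
  have : aM.1.cycleType = {2} := Equiv.Perm.isSwap_iff_cycleType.1 ⟨0, 1, by decide, rfl⟩
  rw [Equiv.Perm.nat_card_centralizer, this]
  simp [Nat.factorial]

universe u

variable {G : Type u} [Group G] [Finite G]

theorem not_nine_hom {A : Type*} [Group A] {φ : A →* G} (inj : Function.Injective φ) {s x : A}
    (c : Commute x s) (x3 : x ^ 3 = 1) (x1 : x ≠ 1) (hC : ∀ g, Commute g (φ x) → g ∈ φ.range)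
    (h : ∀ d, Commute d x → Commute d s → (d = 1 ∨ d = x ∨ d = x⁻¹) ∨ (d ^ 3 ≠ 1 ∧ (d ^ 3) ^ 4 = 1)) :
    ¬ 9 ∣ Nat.card (centralizer ({φ s} : Set G)) :=
  not_nine_of (mem_cent.2 (c.map φ)) (hpow x3) (by simpa using inj.ne x1) fun d hd e ⟨k, hk⟩ => by
    obtain ⟨d, rfl⟩ := hC d e
    rcases h d (inj (by simpa using e.eq)) (inj (by simpa using (mem_cent.1 hd).eq)) with
      e | ⟨e1, e2⟩
    · exact (mem_zpowers_three (hpow x3)).2 (by rcases e with rfl | rfl | rfl <;> simp)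
    · refine absurd (orderOf_eq_one_iff.1 (Nat.eq_one_of_dvd_coprimes
        (show (3 ^ k).Coprime 4 from Nat.Coprime.pow_left k (by norm_num))
        (orderOf_dvd_of_pow_eq_one ?_) (orderOf_dvd_of_pow_eq_one e2))) e1
      rw [← pow_mul, mul_comm, pow_mul, inj (show φ (d ^ 3 ^ k) = φ 1 by simpa using hk), one_pow]

namespace CoreS
variable {ψ : M8 →* G} {u : G} (h : CoreS ψ u) (ua : u * ψ aM * u⁻¹ = ψ sM)
include h ua

theorem cqa : ∃ π : G → Equiv.Perm (Fin 6), CQ (ψ aM) π := by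
  obtain ⟨k, hk⟩ := isConj_iff.1 (show IsConj rM sM from pd!)
  have e : u * ψ k * ψ rM * (u * ψ k)⁻¹ = ψ aM := by
    rw [← swap_conj h.u2 ua, ← hcj hk]; group
  rcases h.cent_r with c | ⟨π, q⟩
  · have c1 : Commute ((u * ψ k)⁻¹ * ψ hM * (u * ψ k)⁻¹⁻¹) (ψ rM) := by
      rw [comm_conj_iff, inv_inv, e]; exact (show Commute hM aM from pd!).map ψ
    have := h.nD12 (c (mem_cent.2 c1))
    rw [conj_pow, ← map_pow, conj_eq_one_iff] at this
    exact (h.ne1 pd! this).elim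
  · exact ⟨_, e ▸ q.cj (u * ψ k)⟩

theorem exists_p : ∃ p ∈ [pM, qM], Commute (u * ψ p * u⁻¹) (ψ fM) := by
  obtain ⟨π, q⟩ := h.cqa ua
  have a2 : ψ aM * ψ aM = 1 := hsq pd!
  have wa : Commute (ψ wM) (ψ aM) := (show Commute wM aM from pd!).map ψ
  have fa : Commute (ψ fM) (ψ aM) := (show Commute fM aM from pd!).map ψ
  have oa : orderOf (ψ aM) = 2 := orderOf_two a2 (h.ne1 pd!)
  obtain ⟨e, e1, e2, e3, e4⟩ := s6_cent (π (ψ wM)) (by rw [← q.map_pow wa, hpow pd!, q.map_one])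
    (π (ψ fM)) (by rw [← q.mul fa fa, hsq pd!, q.map_one])
    (by rw [← q.mul fa wa, ← q.map_pow (fa.mul_left wa), ← map_mul, hpow pd!, q.map_one])
    (by rw [ne_eq, q.eq_one_iff_two a2 fa]; exact fun e => e.elim (h.ne1 pd!) (h.ne pd!))
  obtain ⟨e, ea, rfl⟩ := q.surj e
  have ew := q.comm_of_comm ea wa e1 (hpow (n := 3) pd!) (by rw [oa]; norm_num)
  have ef : Commute e (ψ fM) := by
    have := q.comm_of_comm ea (fa.mul_left wa) (by rw [q.mul fa wa]; exact e2.mul_right e1)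
      (m := 3) (by rw [← map_mul]; exact hpow pd!) (by rw [oa]; norm_num)
    simpa using this.mul_right ew.inv_right
  obtain ⟨x, hx⟩ := h.cz (h.uw ▸ Commute.cj ew u)
  have hx' := swap_conj h.u2 hx.symm
  have k : ∀ y, u * ψ (y * sM) * u⁻¹ = u * ψ y * u⁻¹ * ψ aM := fun y => by
    rw [← swap_conj h.u2 ua]; simp [mul_assoc]
  rw [← q.mul ea ea, q.eq_one_iff_two a2 (ea.mul_left ea)] at e4
  rw [ne_eq, q.eq_one_iff_two a2 ea] at e3
  have rf : ¬ Commute (ψ rM) (ψ fM) := fun e => absurd (h.comm e) pd!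
  rcases m8_e x (h.comm (hx ▸ ua ▸ Commute.cj ea u)) (h.comm (hx ▸ h.uw ▸ Commute.cj ew u))
    (e4.imp (fun e4 => h.inj (by rw [map_mul, hx, ← pow_two, conj_pow, pow_two, e4]; simp))
      fun e4 => h.inj (by rw [map_mul, hx, ← pow_two, conj_pow, pow_two, e4, ua])) with
    (rfl | rfl) | (rfl | rfl) | ⟨p, hp, rfl | rfl⟩
  · exact absurd (Or.inl (by simpa using hx'.symm)) e3
  · exact absurd (Or.inr (hx'.symm.trans (swap_conj h.u2 ua))) e3
  · exact absurd (by rwa [← hx', h.ur] at ef) rf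
  · rw [← hx', k, h.ur] at ef
    exact absurd (by simpa using ef.mul_left fa.symm.inv_left) rf
  · exact ⟨_, hp, hx' ▸ ef⟩
  · rw [← hx', k] at ef
    exact ⟨_, hp, by simpa using ef.mul_left fa.symm.inv_left⟩

theorem exists_hom : ∃ φ : S8 →* G, φ z8 = ψ zM ∧ φ w8 = ψ wM ∧ φ aM = ψ aM := by
  obtain ⟨p, hp, c⟩ := h.exists_p ua
  let f : M8 →* G := (MulAut.conj u).toMonoidHom.comp ψ
  have f0 : f sM = ψ aM := swap_conj h.u2 ua
  have f1 : f s6 = ψ s1 := by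
    rw [show s6 = sM * wM from pd!, map_mul, f0, show f wM = ψ zM from h.uw]; exact hmul pd!
  have f3 : f rM = ψ rM := h.ur
  have f5 : f aM = ψ sM := ua
  have f6 : f s1 = ψ s6 := by
    rw [show s1 = aM * zM from pd!, map_mul, f5, show f zM = ψ wM from h.uz]; exact hmul pd!
  obtain ⟨r0, r1, r2, r3, r4, r5⟩ := (show ∀ p ∈ [pM, qM], p * p = 1 ∧ Commute sM p ∧ Commute p aM ∧
    Commute p s1 ∧ s6 * p * s6 = p * s6 * p ∧ p * rM * p = rM * p * rM from pd!) p hp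
  have c6 : Commute (f p) (ψ s6) := f6 ▸ r3.map f
  have c4 : Commute (f p) (ψ s4) := by
    rw [show s4 = fM * s6 from pd!, map_mul]; exact Commute.mul_right c c6
  have k : ∀ {a b : M8} (g : M8 →* G), a * b * a = b * a * b → g a * g b * g a = g b * g a * g b :=
    fun g e => by simpa using congrArg g e
  obtain ⟨φ, hφ⟩ := exists_hom_perm_of_rels ![ψ aM, ψ s1, f p, ψ rM, ψ s4, ψ sM, ψ s6]
    (fun i => by
      fin_cases i
      iterate 2 exact hsq pd!
      · exact hsq r0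
      all_goals exact hsq pd!)
    (fun i j e => by
      fin_cases i <;> fin_cases j <;> (try (exfalso; revert e; decide))
      · exact f0 ▸ r1.map f
      iterate 8 exact Commute.map pd! ψ
      · exact c4
      · exact f5 ▸ r2.map f
      · exact c6
      all_goals exact Commute.map pd! ψ)
    (fun i j e => by
      fin_cases i <;> fin_cases j <;> (try (exfalso; revert e; decide))
      · exact k ψ pd!
      · exact f1 ▸ k f r4
      · exact f3 ▸ k f r5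
      all_goals exact k ψ pd!)
  exact ⟨φ, (map_mul φ _ _).trans ((congrArg₂ _ (hφ 0) (hφ 1)).trans (hmul pd!)),
    (map_mul φ _ _).trans ((congrArg₂ _ (hφ 5) (hφ 6)).trans (hmul pd!)), hφ 0⟩

theorem iso : Nonempty (G ≃* S8) := by
  obtain ⟨φ, hz, hw, ha⟩ := h.exists_hom ua
  have hy : φ y8 = ψ zM * ψ wM := by rw [show y8.1 = z8.1 * w8.1 from pd!, map_mul, hz, hw]
  have inj : Function.Injective φ := inj_of_perm (by norm_num) φ (x := z8) (hz ▸ h.ne1 pd!)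
  have hr : ψ.range ≤ φ.range := by
    rw [← range_eq_of_le (φ := φ.comp M8.subtype) (inj.comp Subtype.val_injective) h.inj]
    · rintro _ ⟨x, rfl⟩; exact ⟨_, rfl⟩
    · rintro _ ⟨x, rfl⟩
      refine h.nz _ ?_
      rw [← hz, MonoidHom.comp_apply, ← map_inv φ, ← map_mul, ← map_mul, ← map_inv φ]
      exact (m8_norm x).imp (fun e => congrArg φ (congrArg Subtype.val e))
        fun e => congrArg φ (congrArg Subtype.val e)
  have hu : u ∈ φ.range := by
    have : φ e8 * ψ zM * (φ e8)⁻¹ = ψ wM := by rw [← hz, ← hw]; exact hcj pd!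
    have := h.cz (g := u * φ e8) (comm_of_conj (by
      rw [show u * φ e8 * ψ zM * (u * φ e8)⁻¹ = u * (φ e8 * ψ zM * (φ e8)⁻¹) * u⁻¹ by group, this,
        h.uw]))
    simpa using mul_mem (hr this) (inv_mem (φ.mem_range.2 ⟨e8, rfl⟩))
  have hN : 𝐍[closure {ψ zM, ψ wM}] ≤ φ.range := fun g hg => by
    rcases h.nD hg with e | e
    · exact hr e
    · simpa using mul_mem (inv_mem hu) (hr e)
  have cz : ∀ g, Commute g (φ z8) → g ∈ φ.range := fun g e => hr (h.cz (hz ▸ e))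
  have cy : ∀ g, Commute g (φ y8) → g ∈ φ.range := fun g e => hN (h.cy g (hy ▸ e))
  have cj : ∀ {x y : S8}, IsConj x y → (∀ g, Commute g (φ x) → g ∈ φ.range) →
      ∀ g, Commute g (φ y) → g ∈ φ.range := fun e c g k => by
    obtain ⟨l, rfl⟩ := isConj_iff.1 e
    have := c ((φ l)⁻¹ * g * (φ l)⁻¹⁻¹) (comm_conj_iff.2 (by simpa using k))
    simpa [mul_assoc] using mul_mem (mul_mem (φ.mem_range.2 ⟨l, rfl⟩) this)
      (inv_mem (φ.mem_range.2 ⟨l, rfl⟩))
  obtain ⟨π, q⟩ := h.cqa ua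
  have a2 : ψ aM * ψ aM = 1 := hsq pd!
  have oa : orderOf (ψ aM) = 2 := orderOf_two a2 (h.ne1 pd!)
  have hc : Nat.card (centralizer ({φ aM} : Set G)) = 1440 := by
    rw [ha, ← q.card_mul, oa]; simp [Fintype.card_perm, Nat.factorial]
  have ca : ∀ g, Commute g (φ aM) → g ∈ φ.range := fun g e => by
    have h1 : (centralizer {aM.1}).map φ ≤ centralizer {φ aM} := by
      rintro _ ⟨x, hx, rfl⟩; exact mem_cent.2 ((mem_cent.1 hx).map φ)
    exact map_le_range φ _ ((eq_of_le_of_card_ge h1 (by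
      rw [card_map_of_injective inj, card_cent_aM, hc])).ge (mem_cent.2 e))
  have fu : ∀ y, IsConj (φ aM) (φ y) → IsConj aM.1 y := fun y e => by
    have n : ∀ x, IsConj x y → 9 ∣ Nat.card (centralizer ({φ x} : Set G)) := fun x e' => by
      rw [card_cent_of_isConj ((φ.map_isConj e').trans e.symm), hc]; norm_num
    rcases s8_inv (x := y) (by rw [← pow_two]; exact pow_of_isConj inj e pd!)
      (ne_one_of_isConj inj e pd!) with k | k | k | k
    · exact k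
    · exact absurd (n _ k) (not_nine_hom inj (x := w8.1) pd! pd! pd! (cj pd! cz)
        fun d a b => s8_t d b a)
    · exact absurd (n _ k) (not_nine_hom inj (x := v8.1) pd! pd! pd! (cj pd! cy) s8_s)
    · exact absurd (n _ k) (not_nine_hom inj (x := v8.1) pd! pd! pd! (cj pd! cy) s8_u)
  have uf := UF.of_cent_hom ca fu
  have a2' : φ aM * φ aM = 1 := hsq pd!
  have odd := uf.odd_relIndex a2' (mem_top _)
  rw [relIndex_top_right] at odd
  have i2 : (A8.map φ).relIndex φ.range = 2 := by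
    rw [φ.range_eq_map, relIndex_map_map_of_injective _ _ inj, relIndex_top_right]
    exact alternatingGroup.index_eq_two
  rcases Transfer.thompson_transfer odd i2 (ha ▸ oa : orderOf (φ aM) = 2) with
    ⟨M, hM, iM, aM'⟩ | ⟨g, y, hy, e⟩
  swap
  · have := Equiv.Perm.sign.map_isConj (fu y (isConj_iff.2 ⟨g, e.symm⟩))
    rw [isConj_iff_eq, show Equiv.Perm.sign y = 1 from hy] at this
    exact absurd this pd!
  have hA : M.comap φ = A8 := Equiv.Perm.eq_alternatingGroup_of_index_eq_two (by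
    rw [index_comap]
    exact ((Nat.dvd_prime Nat.prime_two).1 (iM ▸ relIndex_dvd_index_of_normal M _)).resolve_left
      fun e => aM' (relIndex_eq_one.1 e ⟨_, rfl⟩))
  let φ' : A8 →* M := (φ.comp A8.subtype).codRestrict M fun x => (hA.ge x.2 :)
  have key : ∀ g : M, g.1 ∈ φ.range → g ∈ φ'.range := fun g ⟨x, hx⟩ =>
    ⟨⟨x, hA.le (show φ x ∈ M from hx ▸ g.2)⟩, Subtype.ext hx⟩
  have F : Fin8 φ' := ⟨fun a b e => Subtype.ext (inj (congrArg Subtype.val e)),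
    fun g e => key g (cz _ (e.map M.subtype)), fun g e => key g (cy _ (e.map M.subtype)),
    fun e => h.nzy (by rw [← hy, ← hz]; exact M.subtype.map_isConj e), fun s s2 s1 e => by
      have h1 : (centralizer {s}).map M.subtype ≤ centralizer {s.1} := by
        rintro _ ⟨x, hx, rfl⟩; exact mem_cent.2 ((mem_cent.1 hx).map M.subtype)
      have h2 := h.nine (congrArg Subtype.val s2) (by simpa using s1)
        (e.trans (card_subtype M (centralizer {s}) ▸ card_dvd_of_le h1))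
      obtain ⟨g, hg⟩ := isConj_iff.1 (h2.trans ((ψ.map_isConj (show IsConj rM sM from pd!)).trans
        (isConj_iff.2 ⟨u, swap_conj h.u2 ua⟩)))
      exact aM' (ha ▸ hg ▸ hM.conj_mem _ s.2 g)⟩
  have hle : M ≤ φ.range := fun g hg => by
    obtain ⟨x, hx⟩ := (F.top ▸ mem_top _ : (⟨g, hg⟩ : M) ∈ φ'.range)
    exact ⟨x, congrArg Subtype.val hx⟩
  refine ⟨(MulEquiv.ofBijective φ ⟨inj, fun g => ?_⟩).symm⟩
  by_cases hg : g ∈ M
  · exact hle hg
  · simpa using mul_mem (hle ((mul_mem_iff_of_index_two iM).2 (iff_of_false hg aM')))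
      (inv_mem (φ.mem_range.2 ⟨aM, rfl⟩))

end CoreS

theorem m8_a : ∀ x : M8, Commute x zM → x * x = 1 → x * wM * x⁻¹ = wM⁻¹ →
    ∃ d ∈ [1, wM, wM⁻¹], (d * x * d⁻¹ = sM ∨ d * x * d⁻¹ = dM) ∧ Commute d zM ∧ Commute d wM ∧
      Commute d aM := pd!

theorem exists_coreS {ψ : M8 →* G} (inj : Function.Injective ψ)
    (nz : ∀ g, g * ψ zM * g⁻¹ = ψ zM ∨ g * ψ zM * g⁻¹ = (ψ zM)⁻¹ → g ∈ ψ.range)
    (syl : IsSyl 3 (closure {ψ zM, ψ wM}) ⊤)
    (cy : ∀ g, Commute g (ψ zM * ψ wM) → g ∈ 𝐍[closure {ψ zM, ψ wM}])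
    (nzy : ¬ IsConj (ψ zM) (ψ zM * ψ wM)) {n : G} (hn : n * ψ zM * n⁻¹ = ψ wM)
    (n2 : n * n ∈ closure {ψ zM, ψ wM}) :
    ∃ u, CoreS ψ u ∧ ∃ d ∈ closure {ψ zM, ψ wM}, ∃ d' ∈ closure {ψ zM, ψ wM}, u = d * n * d' := by
  have n3 := cube_pair (hpow pd!) (hpow pd!) CoreS.zw n2
  have c1 : Commute (n * n) (ψ zM) := (comm_pair n2 (Commute.refl _) CoreS.zw).symm
  have v2 : n * (n * n) * (n * (n * n)) = 1 := by rw [← n3]; simp [pow_succ, mul_assoc]
  have vz : n * (n * n) * ψ zM * (n * (n * n))⁻¹ = ψ wM := by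
    rw [← hn]; nth_rewrite 2 [← conj_of_comm c1]; group
  generalize hv : n * (n * n) = v at v2 vz
  have vw := swap_conj v2 vz
  have c2 : Commute (v * ψ aM * v⁻¹) (ψ zM) := vw ▸ Commute.cj ((show Commute aM wM from pd!).map ψ) v
  obtain ⟨x, hx⟩ := nz _ (Or.inl (conj_of_comm c2))
  obtain ⟨d, hd, e1, e2, e3, e4⟩ := m8_a x (inj (by simpa [hx] using c2.eq))
    (inj (by rw [map_mul, hx, ← pow_two, conj_pow, pow_two, hsq (x := aM) pd!]; simp))
    (inj (by
      rw [map_mul, map_mul, map_inv, map_inv, hx, ← vz, show v * ψ aM * v⁻¹ * (v * ψ zM * v⁻¹) *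
        (v * ψ aM * v⁻¹)⁻¹ = v * (ψ aM * ψ zM * (ψ aM)⁻¹) * v⁻¹ by group,
        hcj (show aM * zM * aM⁻¹ = zM⁻¹ from pd!)]
      simp [mul_assoc]))
  have dD : ψ d ∈ closure {ψ zM, ψ wM} := by
    simp only [List.mem_cons, List.not_mem_nil, or_false] at hd
    rcases hd with rfl | rfl | rfl
    exacts [by simp, mem_r, map_inv ψ _ ▸ inv_mem mem_r]
  have k : ∀ y, Commute d y → ψ d * v * (ψ d)⁻¹ * ψ y * (ψ d * v * (ψ d)⁻¹)⁻¹ =
      ψ d * (v * ψ y * v⁻¹) * (ψ d)⁻¹ := fun y e => by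
    nth_rewrite 2 [← conj_of_comm (e.map ψ).inv_left]; group
  refine ⟨ψ d * v * (ψ d)⁻¹, ⟨inj, nz, syl, by rw [← pow_two, conj_pow, pow_two, v2]; simp,
    by rw [k _ e2, vz, conj_of_comm (e3.map ψ)], ?_, cy, nzy⟩, _, dD, _,
    mul_mem n2 (inv_mem dD), by rw [← hv]; group⟩
  rw [k _ e4, ← hx]
  exact e1.imp hcj hcj

end Cfsg.Agent.Loc3
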