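import Cfsg.Agent.Loc3.McE
import Cfsg.Agent.Loc3.Sym8I

/-!
The 3-local configuration of the McLaughlin group: the centraliser of the involution `t`.
-/

set_option autoImplicit false
set_option synthInstance.maxSize 100000

namespace Cfsg.Agent.Loc3

open Subgroup Cfsg Cfsg.Agent.PLocal.Amb MC Equiv Equiv.Perm

theorem l8_cD : ∀ x : L8, Commute x wL → Commute x zL →
    ∃ a ∈ [1, zL, zL⁻¹], ∃ b ∈ [1, wL, wL⁻¹], x = a * b := pd!

theorem stab_t' : ∀ σ : A6, Commute σ tA → act σ yv = yv →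
    (σ * nA = 1 ∨ σ * nA = tA) ∨ σ = 1 ∨ σ = tA := pd!

variable {G : Type*} [Group G]

theorem CQ.eta3 {X : Type*} [Group X] {s a b : G} {η : G → X} (q : CQ s η) (s2 : s * s = 1)
    (ca : Commute a s) (cb : Commute b s) (a3 : a ^ 3 = 1) (b3 : b ^ 3 = 1) (e : η a = η b) :
    a = b := by
  rcases (q.eq_iff_two s2 ca cb).1 e with e | e
  · exact e
  · rw [e, cb.mul_pow, b3, one_mul] at a3
    rw [e, one_of_two_three s2 (k := 1) a3, mul_one]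

theorem CQ.cj3 {X : Type*} [Group X] {s g a b : G} {η : G → X} (q : CQ s η) (s2 : s * s = 1)
    (cg : Commute g s) (ca : Commute a s) (cb : Commute b s) (a3 : a ^ 3 = 1) (b3 : b ^ 3 = 1)
    (e : η g * η a * (η g)⁻¹ = η b) : g * a * g⁻¹ = b :=
  q.eta3 s2 ((cg.mul_left ca).mul_left cg.inv_left) cb (cube_conj a3) b3 ((q.map_conj cg ca).trans e)

variable {φ : V4 →* G} {S Q L M : Subgroup G} {lam : G → SL25} {π : G → A6} {t : G}

local notation "𝐉" => MonoidHom.range φ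
local notation "𝐳" => φ zv
local notation "𝐰" => φ wv
local notation "𝐲" => φ yv
local notation "𝐙" => zpowers (φ zv)
local notation "𝐃" => Subgroup.closure ({φ zv, φ wv} : Set G)
local notation "𝐑" => RR φ t

variable [Finite G]

namespace MT

variable (h : MT φ S Q L M lam π t) {X : Type*} [Group X] {η : G → X} (q : CQ t η)
include h

theorem exists_n : ∃ n ∈ M, π n = nA ∧ Commute n t ∧ n * n = 1 ∧ n * 𝐳 * n⁻¹ = 𝐰 := by
  obtain ⟨n, hn, e, c, n2⟩ := h.liftT (σ := nA) (n := 2) pd! (by norm_num) pd!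
  exact ⟨n, hn, e, c, (pow_two n).symm.trans n2, by rw [h.ac hn, e]; exact congrArg φ pd!⟩

omit [Finite G] in
theorem cT {g : G} (hg : g ∈ M) (c : Commute g t) : Commute (π g) tA :=
  comm_of_conj (by rw [← h.πt, ← h.pm.map_conj hg h.tM, conj_of_comm c])

include q

omit [Finite G] in
theorem memDX {x : X} : x ∈ Subgroup.closure {η 𝐳, η 𝐰} ↔ ∃ d ∈ 𝐃, η d = x := by
  let a : centralizer ({t} : Set G) := ⟨𝐳, mem_cent.2 h.tz.symm⟩
  let b : centralizer ({t} : Set G) := ⟨𝐰, mem_cent.2 h.tw.symm⟩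
  have h1 : ∀ {d}, d ∈ 𝐃 ↔ _ := mem_map_pair (Subgroup.subtype _) (a := a) (b := b)
  refine (mem_map_pair q.hom (a := a) (b := b)).trans
    ⟨fun ⟨y, hy, e⟩ => ⟨y, h1.2 ⟨y, hy, rfl⟩, e⟩, fun ⟨d, hd, e⟩ => ?_⟩
  obtain ⟨y, hy, rfl⟩ := h1.1 hd
  exact ⟨y, hy, e⟩

omit [Finite G] in
theorem cubeX {v : V4} (e : act tA v = v) : η (φ v) ^ 3 = 1 := by
  rw [← q.map_pow (h.ct.2 e).symm, cube, q.map_one]

omit [Finite G] in
theorem eqX {u v : V4} (e : act tA u = u) (e' : act tA v = v) (k : η (φ u) = η (φ v)) : u = v :=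
  h.inj (q.eta3 h.t2 (h.ct.2 e).symm (h.ct.2 e').symm (cube φ _) (cube φ _) k)

omit [Finite G] in
theorem zwX : η 𝐳 * η 𝐰 = η 𝐲 := by
  rw [← q.mul h.tz.symm h.tw.symm, ← map_mul]; exact congrArg (η <| φ ·) pd!

omit [Finite G] in
theorem cmX : Commute (η 𝐳) (η 𝐰) := by
  change _ = _
  rw [← q.mul h.tz.symm h.tw.symm, ← q.mul h.tw.symm h.tz.symm, (cm φ _ _).eq]

theorem nzX {x : X} (e : x * η 𝐳 * x⁻¹ = η 𝐳 ∨ x * η 𝐳 * x⁻¹ = (η 𝐳)⁻¹) : ∃ r ∈ 𝐑, η r = x := by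
  obtain ⟨g, c, rfl⟩ := q.surj x
  refine ⟨g, ⟨(mem_norm_three (cube φ _) (h.ne1 pd!)).2 (e.imp (q.cj3 h.t2 c h.tz.symm h.tz.symm
    (cube φ _) (cube φ _)) fun e => q.cj3 h.t2 c h.tz.symm h.tz.symm.inv_left (cube φ _)
      (by rw [inv_pow, cube, inv_one]) (e.trans (q.map_inv h.tz.symm).symm)), mem_cent.2 c⟩, rfl⟩

omit [Finite G] in
theorem cyX {x : X} (e : Commute x (η 𝐳 * η 𝐰)) : ∃ g, Commute g t ∧ Commute g 𝐲 ∧ η g = x := by
  obtain ⟨g, c, rfl⟩ := q.surj x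
  have cy := (h.ct.2 (show act tA yv = yv from pd!)).symm
  exact ⟨g, c, comm_of_conj (q.cj3 h.t2 c cy cy (cube φ _) (cube φ _)
    (conj_of_comm (h.zwX q ▸ e))), rfl⟩

theorem nzyX : ¬ IsConj (η 𝐳) (η 𝐳 * η 𝐰) := fun e => by
  obtain ⟨x, e⟩ := isConj_iff.1 e
  obtain ⟨g, c, rfl⟩ := q.surj x
  exact absurd (h.f2 (q.cj3 h.t2 c h.tz.symm (h.ct.2 (show act tA yv = yv from pd!)).symm (cube φ _)
    (cube φ _) (e.trans (h.zwX q)))) pd!

variable [Finite X]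

theorem cDX : Nat.card (Subgroup.closure ({η 𝐳, η 𝐰} : Set X)) = 9 := by
  have k : ∀ v, act tA v = v → v ≠ 1 → η (φ v) ≠ 1 := fun v e e' k =>
    e' (h.eqX q e pd! (by rw [k, map_one, q.map_one]))
  refine card_nine (h.cubeX q pd!) (h.cubeX q pd!) (h.cmX q) (k _ pd! pd!) ?_
  rw [mem_zpowers_three (h.cubeX q pd!), ← q.map_inv h.tw.symm, ← map_inv]
  rintro (e | e | e)
  exacts [k _ pd! pd! e, absurd (h.eqX q pd! pd! e) pd!, absurd (h.eqX q pd! pd! e) pd!]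

theorem sylX : IsSyl 3 (Subgroup.closure ({η 𝐳, η 𝐰} : Set X)) ⊤ :=
  isSyl_of_not_dvd_relIndex (isPGroup_pair (h.cubeX q pd!) (h.cubeX q pd!) (h.cmX q)) le_top
    fun k => h.sylD.not_dvd_relIndex (by
      have h1 := Grp.card_mul_relIndex (le_top (a := Subgroup.closure ({η 𝐳, η 𝐰} : Set X)))
      have h2 := Grp.card_mul_relIndex h.sylD.le
      have h3 := q.card_mul
      rw [h.cDX q, card_top] at h1
      rw [h.cD] at h2
      rw [orderOf_two h.t2 h.t1] at h3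
      omega)

theorem cyN (x : X) (e : Commute x (η 𝐳 * η 𝐰)) : x ∈ 𝐍[Subgroup.closure ({η 𝐳, η 𝐰} : Set X)] := by
  obtain ⟨g, c, cy, rfl⟩ := h.cyX q e
  have := h.ND' (h.cenY cy) c
  exact mem_norm_pair ((h.memDX q).2 ⟨_, conj_mem_of_mem_normalizer this mem_l, q.map_conj c h.tz.symm⟩)
    ((h.memDX q).2 ⟨_, conj_mem_of_mem_normalizer this mem_r, q.map_conj c h.tw.symm⟩)

theorem card18 (hM : ∀ g ∈ 𝐍[𝐉], Commute g 𝐲 → g ∈ M) :
    Nat.card (centralizer ({η 𝐳 * η 𝐰} : Set X)) = 18 := by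
  obtain ⟨n, hn, e, c, -, -⟩ := h.exists_n
  have cy := (h.ct.2 (show act tA yv = yv from pd!)).symm
  have key : ∀ g ∈ M, Commute g t → π g = 1 ∨ π g = tA → η g ∈ Subgroup.closure {η 𝐳, η 𝐰} := by
    rintro g hg c (k | k)
    · exact (h.memDX q).2 ⟨g, h.memD.2 ⟨(h.pm.ker hg).1 k, c.symm⟩, rfl⟩
    · exact (h.memDX q).2 ⟨g * t⁻¹, h.memD.2 ⟨(h.pm.eq_iff hg h.tM).1 (k.trans h.πt.symm),
        c.symm.mul_right (Commute.refl t).inv_right⟩, by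
          rw [q.mul c (Commute.refl t).inv_left, q.map_inv (Commute.refl t), q.map_s]; simp⟩
  have h1 := Grp.card_mul_relIndex (show Subgroup.closure ({η 𝐳, η 𝐰} : Set X) ≤
    centralizer {η 𝐳 * η 𝐰} from fun x hx => mem_cent.2 (comm_pair hx
      ((Commute.refl _).mul_left (h.cmX q).symm) ((h.cmX q).mul_left (Commute.refl _))).symm)
  rw [h.cDX q, relIndex_eq_two_iff_exists_notMem_and.2 ⟨η n, mem_cent.2 (comm_of_conj ?_),
    fun k => ?_, fun b hb => ?_⟩] at h1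
  · exact h1.symm
  · rw [h.zwX q, ← q.map_conj c cy, conj_of_comm ((h.fix hn).2 (e ▸ pd!))]
  · obtain ⟨d, hd, k⟩ := (h.memDX q).1 k
    have dM := h.pm.le (h.memD.1 hd).1
    rcases (q.eq_iff_two h.t2 c (h.memD.1 hd).2.symm).1 k.symm with k | k <;> rw [k] at e
    · exact absurd (e.symm.trans (h.pm.of_mem (h.memD.1 hd).1)) pd!
    · rw [h.pm.mul dM h.tM, h.pm.of_mem (h.memD.1 hd).1, h.πt] at e
      exact absurd e pd!
  · obtain ⟨g, c', cy, rfl⟩ := h.cyX q (mem_cent.1 hb)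
    have hg := hM g (h.cenY cy) cy
    refine (stab_t' _ (h.cT hg c') ((h.fix hg).1 cy)).imp (fun k => ?_) (key g hg c')
    rw [← q.mul c' c]
    exact key _ (mul_mem hg hn) (c'.mul_left c) (by rwa [h.pm.mul hg hn, e])

variable {j : G} (hj : J0 φ L t j) {ρ : G → M8} (p : RH φ L t j ρ)
include p

omit h [Finite G] [Finite X] in
theorem rho_eq {a b : G} (ha : a ∈ 𝐑) (hb : b ∈ 𝐑) : ρ a = ρ b ↔ η a = η b := by
  have ca := mem_cent.1 ha.2
  have cb := mem_cent.1 hb.2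
  rw [p.eq_iff ha hb, ← q.ker (ca.mul_left cb.inv_left), q.mul ca cb.inv_left, q.map_inv cb,
    mul_inv_eq_one]

omit h [Finite G] [Finite X] in
theorem exists_psi {A : Type*} [Group A] (ι : A →* M8) (inj : Function.Injective ι)
    (hs : ∀ a, ∃ r ∈ 𝐑, ρ r = ι a) :
    ∃ ψ : A →* X, Function.Injective ψ ∧ ∀ r ∈ 𝐑, ∀ a, ι a = ρ r → ψ a = η r := by
  choose f hf he using hs
  refine ⟨MonoidHom.mk' (fun a => η (f a)) fun a b => ?_, fun a b e => inj ?_, fun r hr a e => ?_⟩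
  · rw [← q.mul (mem_cent.1 (hf a).2) (mem_cent.1 (hf b).2), ← rho_eq q p (hf _) (mul_mem (hf a) (hf b)),
      p.mul (hf a) (hf b), he, he, he, map_mul]
  · rw [← he, ← he]; exact (rho_eq q p (hf a) (hf b)).2 e
  · exact (rho_eq q p (hf a) hr).1 ((he a).trans e)

include hj

omit q in
theorem even_surj (x : M8) (s : sign x.1 = 1) : ∃ r ∈ 𝐑, ρ r = x := by
  have key : ∀ x : M8, sign x.1 = 1 → x * zM * x⁻¹ = zM → ∃ r ∈ 𝐑, ρ r = x := fun x s e =>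
    (p.rf x s (comm_of_conj e)).imp fun r k => ⟨h.mR k.1 k.2.1, k.2.2⟩
  rcases m8_norm x with e | e
  · exact key x s e
  obtain ⟨k, hk, k1, k2, -⟩ := h.exists_jA
  obtain ⟨kR, -, k4, k5⟩ := h.jA_even hj p hk k1 k2
  obtain ⟨r, hr, e'⟩ := key (x * ρ k) (by simp [s, k5]) (by
    rw [show x * ρ k * zM * (x * ρ k)⁻¹ = x * (ρ k * zM * (ρ k)⁻¹) * x⁻¹ by group, k4, ← conj_inv, e,
      inv_inv])
  exact ⟨_, mul_mem hr (inv_mem kR), by rw [p.mul hr (inv_mem kR), p.map_inv kR, e']; simp⟩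

theorem isoA (ev : ∀ r ∈ 𝐑, sign (ρ r).1 = 1) : Nonempty (X ≃* A8) := by
  obtain ⟨ψ, inj, hψ⟩ := exists_psi q p (inclusion (inf_le_right : L8 ≤ M8)) (inclusion_injective _)
    fun a => h.even_surj hj p _ a.2.1
  have hz := hψ _ (h.DR mem_l) zL p.z.symm
  have hw := hψ _ (h.DR mem_r) Loc3.wL p.w.symm
  have nz : ∀ g, g * ψ zL * g⁻¹ = ψ zL ∨ g * ψ zL * g⁻¹ = (ψ zL)⁻¹ → g ∈ ψ.range := fun g e => by
    obtain ⟨r, hr, rfl⟩ := h.nzX q (hz ▸ e)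
    exact ⟨⟨(ρ r).1, ev r hr, (ρ r).2⟩, hψ r hr _ rfl⟩
  refine alt8_of inj nz (hz ▸ hw ▸ h.sylX q) (hz ▸ hw ▸ h.cDX q) (fun g hg => ?_)
    (hz ▸ hw ▸ h.card18 q fun g hg c => (h.actY hj p hg c).resolve_right fun ⟨⟨r, hr, k⟩, _⟩ =>
      absurd ((ev r hr).symm.trans k) (by decide)) (hz ▸ hw ▸ h.nzyX q)
  have c1 : Commute g (ψ zL) := (mem_centralizer_iff.1 hg _ mem_l).symm
  have c2 : Commute g (ψ Loc3.wL) := (mem_centralizer_iff.1 hg _ mem_r).symm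
  obtain ⟨a, rfl⟩ := nz g (Or.inl (conj_of_comm c1))
  exact (mem_map_pair ψ).2 ⟨a, (mem_pair pd! pd! pd!).2
    (l8_cD a (inj (by simpa using c2.eq)) (inj (by simpa using c1.eq))), rfl⟩

theorem isoS {r : G} (hr : r ∈ 𝐑) (od : sign (ρ r).1 = -1) : ∃ e : X ≃* S8, e (η 𝐳) = z8 ∧
    ∃ i ∈ 𝐑, ρ i = aM ∧ e (η i) = aM := by
  have sj : ∀ x, ∃ r ∈ 𝐑, ρ r = x := fun x => by
    rcases Int.units_eq_one_or (sign x.1) with s | s
    · exact h.even_surj hj p x s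
    · obtain ⟨a, ha, e⟩ := h.even_surj hj p (x * ρ r) (by simp [s, od])
      exact ⟨_, mul_mem ha (inv_mem hr), by rw [p.mul ha (inv_mem hr), p.map_inv hr, e]; simp⟩
  obtain ⟨ψ, inj, hψ⟩ := exists_psi q p (MonoidHom.id _) (fun _ _ e => e) sj
  have hz := hψ _ (h.DR mem_l) zM p.z.symm
  have hw := hψ _ (h.DR mem_r) wM p.w.symm
  obtain ⟨n, hn, -, c, n2, e⟩ := h.exists_n
  obtain ⟨i, hi, ei⟩ := sj aM
  have ha := hψ _ hi aM ei.symm
  obtain ⟨u, cs, d, g1, d', g2, rfl⟩ := exists_coreS inj (fun g e => by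
      obtain ⟨r, hr, rfl⟩ := h.nzX q (hz ▸ e)
      exact ⟨ρ r, hψ r hr _ rfl⟩) (hz ▸ hw ▸ h.sylX q) (hz ▸ hw ▸ h.cyN q) (hz ▸ hw ▸ h.nzyX q)
    (n := η n) (by rw [hz, hw, ← q.map_conj c h.tz.symm, e])
    (by rw [← q.mul c c, n2, q.map_one]; exact one_mem _)
  have ua := cs.ua.resolve_right fun k => by
    rw [hz, hw] at g1 g2
    obtain ⟨d, hd, rfl⟩ := (h.memDX q).1 g1
    obtain ⟨d', hd', rfl⟩ := (h.memDX q).1 g2
    have c1 := (h.memD.1 hd).2.symm.mul_left c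
    have c2 := c1.mul_left (h.memD.1 hd').2.symm
    have ci := mem_cent.1 hi.2
    have uM := mul_mem (mul_mem (h.pm.le (h.memD.1 hd).1) hn) (h.pm.le (h.memD.1 hd').1)
    rw [← q.mul (h.memD.1 hd).2.symm c, ← q.mul c1 (h.memD.1 hd').2.symm, ha, ← q.map_conj c2 ci,
      hψ _ (h.mR hj.mem hj.ct) dM p.j.symm, q.eq_iff_two h.t2 ((c2.mul_left ci).mul_left c2.inv_left)
        hj.ct] at k
    generalize d * n * d' = u at c2 uM k
    obtain ⟨s, hs, E⟩ := h.exE' hj p hi ei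
    obtain ⟨x, xM, k⟩ : ∃ x ∈ M, u * i * u⁻¹ = j * x :=
      k.elim (fun k => ⟨1, one_mem _, by rw [k, mul_one]⟩) fun k => ⟨t, h.tM, k⟩
    have h2 : i * j ∈ M := by
      convert mul_mem (mul_mem (inv_mem uM) (conj_mem_of_mem_normalizer (h.NM (h.j_NJ hj))
        (mul_mem xM uM))) (hj.sq ▸ h.tM : j * j ∈ M) using 1
      rw [← mul_assoc j x, ← k]; group
    refine h.not_E E (mul_mem (mul_mem h2 ?_) h.tM)
    rcases hs with rfl | rfl
    exacts [one_mem _, h.tM]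
  obtain ⟨f, f1, -, f3⟩ := cs.exists_hom ua
  obtain ⟨e⟩ := cs.iso ua
  let E := MulEquiv.ofBijective f ((Nat.bijective_iff_injective_and_card f).2
    ⟨inj_of_perm (by norm_num) f (x := z8) (f1 ▸ cs.ne1 pd!), (Nat.card_congr e.toEquiv).symm⟩)
  exact ⟨E.symm, E.symm_apply_eq.2 (f1.trans hz).symm, i, hi, ei, E.symm_apply_eq.2 (f3.trans ha).symm⟩

end MT

end Cfsg.Agent.Loc3
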