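import Cfsg.Agent.Loc3.McF
import Cfsg.Agent.Loc3.Tools6

/-!
The 3-local characterisation of the McLaughlin group and its automorphism group.
-/

set_option autoImplicit false
set_option synthInstance.maxSize 100000

namespace Cfsg.Agent.Loc3

open Subgroup Cfsg Cfsg.Agent.PLocal.Amb MC Equiv Equiv.Perm

theorem s8_even {x : S8} (h2 : x * x = 1) (h1 : x ≠ 1) (s : sign x = 1) :
    IsConj t8.1 x ∨ IsConj u8.1 x := by
  rcases s8_inv h2 h1 with k | k | k | k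
  · exact absurd ((isConj_iff_eq.1 (sign.map_isConj k)).trans s) pd!
  · exact Or.inl k
  · exact absurd ((isConj_iff_eq.1 (sign.map_isConj k)).trans s) pd!
  · exact Or.inr k

theorem s8_odd {x : S8} (h2 : x * x = 1) (s : sign x = -1) :
    IsConj aM.1 x ∨ IsConj (u8.1 * swap 6 7) x := by
  rcases s8_inv h2 (by rintro rfl; simp at s) with k | k | k | k
  · exact Or.inl k
  · exact absurd ((isConj_iff_eq.1 (sign.map_isConj k)).trans s) pd!
  · exact Or.inr k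
  · exact absurd ((isConj_iff_eq.1 (sign.map_isConj k)).trans s) pd!

variable {G : Type*} [Group G]

theorem CQ.lift2 {X : Type*} [Group X] {s a b : G} {η : G → X} (q : CQ s η) (s2 : s * s = 1)
    (ca : Commute a s) (cb : Commute b s) (e : IsConj (η a) (η b)) :
    (IsConj a b ∧ IsConj (a * s) (b * s) ∨ IsConj (a * s) b ∧ IsConj a (b * s)) ∧
      (b * b = 1 → a * a = 1) := by
  obtain ⟨x, e⟩ := isConj_iff.1 e
  obtain ⟨g, cg, rfl⟩ := q.surj x
  have k : g * (a * s) * g⁻¹ = g * a * g⁻¹ * s := by rw [← conj_mul, conj_of_comm cg]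
  have k' : g * a * g⁻¹ * (g * a * g⁻¹) = 1 → a * a = 1 := fun e => by simpa [conj_mul] using e
  rcases (q.eq_iff_two s2 ((cg.mul_left ca).mul_left cg.inv_left) cb).1
    ((q.map_conj cg ca).trans e) with e | e
  · exact ⟨Or.inl ⟨isConj_iff.2 ⟨g, e⟩, isConj_iff.2 ⟨g, e ▸ k⟩⟩, fun b2 => k' (e ▸ b2)⟩
  · exact ⟨Or.inr ⟨isConj_iff.2 ⟨g, by rw [k, e, mul_assoc, s2, mul_one]⟩, isConj_iff.2 ⟨g, e⟩⟩,
      fun b2 => k' (by rw [e, cb.symm.mul_mul_mul_comm, b2, s2, one_mul])⟩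

variable {φ : V4 →* G} {S Q L M : Subgroup G} {lam : G → SL25} {π : G → A6} {t : G}

local notation "𝐉" => MonoidHom.range φ
local notation "𝐳" => φ zv
local notation "𝐰" => φ wv
local notation "𝐙" => zpowers (φ zv)
local notation "𝐑" => RR φ t

variable [Finite G]

namespace MT

variable (h : MT φ S Q L M lam π t)
include h

theorem invM {g : G} (hg : g ∈ M) (g2 : g * g = 1) (g1 : g ≠ 1) : IsConj t g := by
  obtain ⟨k, e⟩ := a6_inv (π g) (by rw [← h.pm.mul hg hg, g2, h.pm.map_one]) fun e =>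
    g1 (one_of_two_three g2 (k := 1) (h.J3 _ ((h.pm.ker hg).1 e)))
  obtain ⟨m, hm, rfl⟩ := h.pm.surj k
  have h1 := mul_mem (mul_mem hm hg) (inv_mem hm)
  obtain ⟨a, -, e'⟩ := conj2 h.pJ h.t2 (show m * g * m⁻¹ * (m * g * m⁻¹) = 1 by simp [conj_mul, g2])
    ((h.pm.ker (mul_mem h.tM h1)).1 (by
      rw [h.pm.mul h.tM h1, h.pm.map_conj hm hg, e, h.πt]; exact pd!))
  exact ((isConj_iff.2 ⟨m, rfl⟩).trans (isConj_iff.2 ⟨a, e'⟩)).symm

theorem conjD {x : G} (e : IsConj x t) {P : Subgroup G} (hP : IsPGroup 3 P) (c9 : Nat.card P = 9)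
    (hx : P ≤ centralizer {x}) : ∃ g, g * 𝐳 * g⁻¹ ∈ P := by
  obtain ⟨g, e⟩ := isConj_iff.1 e
  obtain ⟨k, -, e'⟩ := h.sylD.exists_cj_le (isPGroup_cj g hP)
    (by rw [← e, centralizer_singleton_conj]; exact cj_mono _ hx)
  rw [← cj_mul] at e'
  exact ⟨(k * g)⁻¹, by simpa using mem_cj.1 ((eq_of_le_of_card_ge e'
    (h.cD.trans ((card_cj _ _).trans c9).symm).le).ge mem_l)⟩

theorem notE1 {e : G} (E : IsE φ e) : ¬ IsConj e t := fun k => by
  obtain ⟨s, hs⟩ := h.exists_sec E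
  obtain ⟨g, σ, -, e⟩ := h.conjD k (isSyl_P6.pgrp.map s) ((card_map_of_injective
    fun a b e => by rw [← (hs a).2.2, e, (hs b).2.2]).trans card_P6)
    (by rintro _ ⟨σ, -, rfl⟩; exact mem_cent.2 (hs σ).2.1)
  have := h.pm.of_mem (h.wc (g := g) (e ▸ h.pm.norm (hs σ).1))
  rw [← e, (hs σ).2.2] at this
  exact h.ne1 (v := zv) pd! (by simpa [this] using e.symm)

theorem notE2 {e : G} (E : IsE φ e) : ¬ IsConj (e * t) t := fun k => by
  obtain ⟨g, e⟩ := h.conjD k (h.pJ.to_le fun x hx => (h.memE'.1 hx).1) h.cE fun x hx => by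
    obtain ⟨⟨v, rfl⟩, c⟩ := h.memE'.1 hx
    refine mem_cent.2 (comm_of_conj ?_).symm
    rw [show e * t * φ v * (e * t)⁻¹ = e * (t * φ v * t⁻¹) * e⁻¹ by group, c, ← conj_inv, E, inv_inv]
  obtain ⟨v, hv, e⟩ := h.memE.1 e
  rw [(neg_an v hv).2 (h.f2 e.symm)] at e
  exact h.ne1 (v := zv) pd! (by simpa using e.symm)

omit [Finite G] in
theorem exists_m : ∃ m, ¬ Odd (orderOf (t * (m * m * t * (m * m)⁻¹))) := by
  obtain ⟨m, hm, e⟩ := h.pm.surj cA
  have h1 := mul_mem hm hm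
  have h2 := mul_mem (mul_mem h1 h.tM) (inv_mem h1)
  refine ⟨m, fun k => ?_⟩
  have := h.pm.map_pow (mul_mem h.tM h2) (orderOf (t * (m * m * t * (m * m)⁻¹)))
  rw [pow_orderOf_eq_one, h.pm.map_one, h.pm.mul h.tM h2, h.pm.map_conj h1 h.tM, h.pm.mul hm hm, e,
    h.πt] at this
  exact absurd ((pow_eq_one_iff_of_coprime (Nat.coprime_two_left.2 k)).1 ⟨pd!, this.symm⟩) pd!

theorem sq_i {i k : G} (hk : k ∈ 𝐍[𝐉]) (k2 : k * k = t) (E : IsE φ (i * k)) : i * i ≠ 1 := fun i2 => by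
  have key : ∀ v, ∃ u, φ u = k⁻¹ * φ v * k ∧ i * φ v * i⁻¹ = (φ u)⁻¹ := fun v => by
    obtain ⟨u, e⟩ := inv_conj_mem_of_mem_normalizer hk (mJ φ v)
    exact ⟨u, e, by rw [← E, e]; group⟩
  obtain ⟨u, e1, e2⟩ := key ev
  obtain ⟨u', e3, e4⟩ := key u
  rw [← inv_inv (φ u), ← conj_inv, ← e2, swap_conj i2 rfl] at e4
  have : t * φ u' * t⁻¹ = φ ev := by rw [e3, e1, ← k2]; group
  rw [← inv_inj.1 e4, h.ac h.tM, h.πt] at this
  exact absurd (h.inj this) pd!

theorem caseS {j i : G} (hj : J0 φ L t j) {ρ : G → M8} (p : RH φ L t j ρ) {η : G → S8}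
    (q : CQ t η) (hi : i ∈ 𝐑) (e1 : ρ i = aM) (e2 : η i = aM) :
    ∃ H : Subgroup G, H.index = 2 ∧ 𝐂[H] = ⊥ ∧ Nonempty (H ≃* Spor.McL) := by
  classical
  have ci := mem_cent.1 hi.2
  have tt := Commute.refl t
  let K := ((alternatingGroup _).comap q.hom).map (Subgroup.subtype _)
  have hK : ∀ {g}, g ∈ K ↔ Commute g t ∧ sign (η g) = 1 :=
    ⟨by rintro ⟨g, hg, rfl⟩; exact ⟨mem_cent.1 g.2, hg⟩, fun k => ⟨⟨_, mem_cent.2 k.1⟩, k.2, rfl⟩⟩
  have sj : sign (η j) = 1 := (hK.1 (h.plt.le_of (h.pQ.to_le h.ZQ) gen_SL25 (fun g hg ⟨k, e⟩ =>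
    hK.2 ⟨mem_cent.1 hg.2, one_of_two_three (Int.units_mul_self _) (k := k) (by
      rw [← map_pow, ← q.map_pow (mem_cent.1 hg.2), e, q.map_one, map_one])⟩)
    ⟨hj.mem, mem_cent.2 hj.ct⟩)).2
  obtain ⟨s, hs, E⟩ := h.exE' hj p hi e1
  obtain ⟨cs, s1, sN, s2⟩ : Commute s t ∧ η s = 1 ∧ s * t ∈ M ∧ j * (s * t) * (j * (s * t)) = t := by
    rcases hs with rfl | rfl
    · exact ⟨Commute.one_left _, q.map_one, by simpa using h.tM, by
        rw [one_mul, hj.ct.symm.mul_mul_mul_comm, hj.sq, h.t2, mul_one]⟩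
    · exact ⟨tt, q.map_s, mul_mem h.tM h.tM, by simp [h.t2, hj.sq]⟩
  have i2 := h.sq_i (i := i) (mul_mem (h.j_NJ hj) (h.pm.norm sN)) s2 (by simpa [mul_assoc] using E)
  have c1 := ci.mul_left hj.ct
  have ce := (c1.mul_left cs).mul_left tt
  have se : sign (η (i * j * s * t)) = -1 := by
    rw [q.mul (c1.mul_left cs) tt, q.mul c1 cs, q.mul ci hj.ct, s1, q.map_s, e2, mul_one, mul_one,
      map_mul, sj, mul_one]
    exact pd!
  generalize i * j * s * t = e at E ce se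
  have sq : ∀ {x}, Commute x t → x * x = 1 → η x * η x = 1 := fun c k => by
    rw [← q.mul c c, k, q.map_one]
  have od : ∀ {x}, Commute x t → x * x = 1 → sign (η x) = -1 → IsConj (u8.1 * swap 6 7) (η x) :=
    fun c k s => (s8_odd (sq c k) s).resolve_left fun e => i2 ((q.lift2 h.t2 ci c (e2 ▸ e)).2 k)
  have A : ∀ {x}, Commute x t → IsConj t x → sign (η x) = 1 := fun {x} c k =>
    (Int.units_eq_one_or _).resolve_right fun s => by
      obtain ⟨g, rfl⟩ := isConj_iff.1 k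
      rcases (q.lift2 h.t2 ce c ((od ce (h.sq_E E) se).symm.trans
        (od c (by simp [conj_mul, h.t2]) s))).1 with e | e
      exacts [h.notE1 E (e.1.trans k.symm), h.notE2 E (e.1.trans k.symm)]
  obtain ⟨n, hn, en, cn, n2, -⟩ := h.exists_n
  have n1 : n ≠ 1 := fun e => absurd (en.symm.trans (e ▸ h.pm.map_one)) pd!
  have nt : n ≠ t := fun e => absurd (en.symm.trans (e ▸ h.πt)) pd!
  have tn := h.invM hn n2 n1
  have tn' := h.invM (mul_mem hn h.tM) (by rw [cn.symm.mul_mul_mul_comm, n2, h.t2, one_mul])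
    fun e => nt ((eq_inv_of_mul_eq_one_left e).trans (inv_eq_of_mul_eq_one_left h.t2))
  have B : ∀ {x}, Commute x t → x * x = 1 → x ≠ 1 → x ≠ t → sign (η x) = 1 →
      (IsConj t8.1 (η x) ∨ IsConj u8.1 (η x)) ∧ ¬ IsConj (η j) (η x) := fun c k k1 k2 s =>
    ⟨s8_even (sq c k) (fun e => ((q.eq_one_iff_two h.t2 c).1 e).elim k1 k2) s,
      fun e => h.t1 (hj.sq.symm.trans ((q.lift2 h.t2 hj.ct c e).2 k))⟩
  have C : ∀ {x}, Commute x t → x * x = 1 → x ≠ 1 → x ≠ t → sign (η x) = 1 →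
      IsConj t x ∧ IsConj t (x * t) := fun {x} c k k1 k2 s => by
    have b1 := B c k k1 k2 s
    have b2 := B cn n2 n1 nt (A cn tn)
    have : IsConj (η n) (η x) := by
      rcases s8_even (x := η j) (by rw [← q.mul hj.ct hj.ct, hj.sq, q.map_s]) (fun e => by
        have := hj.sq
        rcases (q.eq_one_iff_two h.t2 hj.ct).1 e with e | e <;> rw [e] at this
        exacts [h.t1 (by simpa using this.symm), h.t1 (this.symm.trans h.t2)]) sj with e | e
      · exact (b2.1.resolve_left fun k => b2.2 (e.symm.trans k)).symm.trans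
          (b1.1.resolve_left fun k => b1.2 (e.symm.trans k))
      · exact (b2.1.resolve_right fun k => b2.2 (e.symm.trans k)).symm.trans
          (b1.1.resolve_right fun k => b1.2 (e.symm.trans k))
    rcases (q.lift2 h.t2 cn c this).1 with e | e
    exacts [⟨tn.trans e.1, tn'.trans e.2⟩, ⟨tn'.trans e.1, tn.trans e.2⟩]
  have e0 : e ≠ 1 := fun k => by simp [k, q.map_one] at se
  obtain ⟨H, -, h2, eH⟩ := (Transfer.thompson_transfer (Q := K) (odd_index_cent h.t2 h.t1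
    fun x k c k1 => by
      obtain ⟨g, rfl⟩ := isConj_iff.1 k
      exact (C c (by simp [conj_mul, h.t2]) (by simpa using h.t1) k1 (A c k)).2) (by
      rw [relIndex, subgroupOf, comap_map_eq_self_of_injective (subtype_injective _),
        index_comap_of_surjective _ q.hom_surj, alternatingGroup.index_eq_two])
    (orderOf_two (h.sq_E E) e0)).resolve_right fun ⟨g, k⟩ => h.notE1 E (by
      by_cases k1 : g * e * g⁻¹ = t
      · exact isConj_iff.2 ⟨g, k1⟩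
      · exact (isConj_iff.2 ⟨g, rfl⟩).trans (C (hK.1 k).1 (by simp [conj_mul, h.sq_E E])
          (by simpa using e0) k1 (hK.1 k).2).1.symm)
  have tH : t ∈ H := hj.sq ▸ mul_self_mem_of_index_two h2 j
  have h3 : q.im H = alternatingGroup _ := eq_alternatingGroup_of_index_eq_two
    (index_eq_two_iff_exists_notMem_and.2 ⟨η e, fun k => eH (q.mem_of_mem_im tH ce k), fun b => by
      obtain ⟨g, c, rfl⟩ := q.surj b
      by_cases k : g ∈ H
      · exact Or.inr (q.mem_im_of k c)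
      · exact Or.inl (q.mul c ce ▸ q.mem_im_of ((mul_mem_iff_of_index_two h2).2 (iff_of_false k eH))
          (c.mul_left ce))⟩)
  have hH : ∀ {g}, Commute g t → (g ∈ H ↔ η g ∈ alternatingGroup _) := fun c =>
    h3 ▸ ⟨fun k => q.mem_im_of k c, q.mem_of_mem_im tH c⟩
  have cH : ∀ {g : H}, Commute g ⟨t, tH⟩ → Commute g.1 t := fun c => c.map H.subtype
  have q' : CQ (⟨t, tH⟩ : H) fun g => if k : η g ∈ alternatingGroup _ then (⟨_, k⟩ : A8) else 1 :=
    ⟨fun {a b} ca cb => by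
      rw [dif_pos ((hH (cH ca)).1 a.2), dif_pos ((hH (cH cb)).1 b.2),
        dif_pos ((hH (cH (ca.mul_left cb))).1 (a * b).2)]
      exact Subtype.ext (q.mul (cH ca) (cH cb)), fun x => by
      obtain ⟨g, c, e⟩ := q.surj x
      exact ⟨⟨g, (hH c).2 (e ▸ x.2)⟩, Subtype.ext c, (dif_pos (show η g ∈ alternatingGroup _ from e ▸ x.2)).trans
        (Subtype.ext e)⟩,
    fun {a} ca => by
      rw [dif_pos ((hH (cH ca)).1 a.2), Subtype.ext_iff, mem_zpowers_two (Subtype.ext h.t2),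
        Subtype.ext_iff, Subtype.ext_iff]
      exact q.eq_one_iff_two h.t2 (cH ca)⟩
  obtain ⟨m, hm⟩ := h.exists_m
  refine ⟨H, h2, eq_bot_iff.2 fun c hc => ?_, mcl_of q' (Subtype.ext h.t2)
    (fun e => h.t1 (congrArg Subtype.val e)) (j := ⟨j, (hH hj.ct).2 sj⟩)
    (m := ⟨_, mul_self_mem_of_index_two h2 m⟩) (Subtype.ext hj.ct) (Subtype.ext hj.sq)
    (by rwa [← orderOf_coe])⟩
  have cZ := h.cenQ (g := c) fun x hx => (mem_centralizer_iff.1 hc x (inv_mem_iff.1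
    (inv_eq_sq (h.Q3 x hx) ▸ mul_self_mem_of_index_two h2 x))).symm
  obtain ⟨v, rfl⟩ := zpowers_le.2 (mJ φ zv) cZ
  have := (h.fix hn).1 (mem_centralizer_iff.1 hc n ((hH cn).2 (A cn tn)))
  rw [en] at this
  rcases h.memZ.1 cZ with rfl | rfl | rfl
  exacts [map_one φ, absurd this pd!, absurd this pd!]

end MT

theorem MC0.core {J Z : Subgroup G} (h : MC0 S Q J Z L M lam π) : Nonempty (G ≃* Spor.McL) ∨
    ∃ H : Subgroup G, H.index = 2 ∧ 𝐂[H] = ⊥ ∧ Nonempty (H ≃* Spor.McL) := by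
  obtain ⟨φ, M, π, h⟩ := h.exists_MC
  obtain ⟨t, h⟩ := h.exists_MT
  obtain ⟨j, hj⟩ := h.exists_J0
  obtain ⟨ρ, p⟩ := h.exists_RH hj
  obtain ⟨X, _, _, η, q⟩ := exists_CQ t
  by_cases k : ∀ r ∈ RR φ t, sign (ρ r).1 = 1
  · obtain ⟨e⟩ := h.isoA q hj p k
    obtain ⟨m, hm⟩ := h.exists_m
    exact Or.inl (mcl_of (q.equiv e) h.t2 h.t1 hj.ct hj.sq hm)
  · push Not at k
    obtain ⟨r, hr, k⟩ := k
    obtain ⟨e, -, i, hi, e1, e2⟩ := h.isoS q hj p hr ((Int.units_eq_one_or _).resolve_left k)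
    exact Or.inr (h.caseS hj p (q.equiv e) hi e1 e2)

theorem MC0.aut {J Z : Subgroup G} (h : MC0 S Q J Z L M lam π) :
    Nonempty (G ≃* Spor.McL) ∨ Nonempty (G ≃* MulAut Spor.McL) :=
  h.core.imp id fun ⟨_, h1, h2, ⟨e⟩⟩ => aut_of h1 h2 e

end Cfsg.Agent.Loc3
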