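import Cfsg.Agent.L43.Gens
import Cfsg.Agent.Loc3.PrS

/-! Centralisers of shape `3^{1+4}.SL₂(3)` or `3^{1+4}.(SL₂(3) × 2)`. -/

set_option autoImplicit false
set_option maxRecDepth 100000

namespace Cfsg.Agent.O8T

open Subgroup Cfsg Cfsg.Agent.PLocal Cfsg.Agent.PLocal.Amb Cfsg.Agent.Loc3
open Cfsg.Agent.G23.Am (M2 card_pow one_of_sq mem_of_sq le_of_three mf2)
open Cfsg.Agent.L43 (zp m1 m2 m3 k3 fixc fix_one)
open Cfsg.Agent.He5 (inv_self)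
open scoped commutatorElement

variable {G : Type*} [Group G]

/-- the hypotheses on the centraliser of `z` -/
structure Ey (z : G) (Q K : Subgroup G) (π : G → M2) : Prop where
  z3 : z ^ 3 = 1
  z1 : z ≠ 1
  zQ : z ∈ Q
  cQ : Nat.card Q = 243
  ex : ∀ {q}, q ∈ Q → q ^ 3 = 1
  cm : ∀ {p q}, p ∈ Q → q ∈ Q → ⁅p, q⁆ ∈ zpowers z
  cen : ∀ g, (∀ q ∈ Q, Commute g q) → g ∈ zpowers z
  nQ : 𝐍[zpowers z] ≤ 𝐍[Q]
  QK : Q ≤ K
  Kz : ∀ {g}, g ∈ K → Commute g z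
  nK : 𝐍[zpowers z] ≤ 𝐍[K]
  idx : ∀ {a b}, Commute a z → Commute b z → a ∈ K ∨ b ∈ K ∨ a * b ∈ K
  cK : Nat.card K = 5832
  mul : ∀ {g h}, Commute g z → Commute h z → π (g * h) = π g * π h
  one : π 1 = 1
  ker : ∀ {g}, g ∈ K → (π g = 1 ↔ g ∈ Q)
  det : ∀ {g}, Commute g z → (π g).det = 1
  surj : ∀ m : M2, m.det = 1 → ∃ g ∈ K, π g = m

namespace Ey

variable {z v : G} {Q K Q' K' : Subgroup G} {π π' : G → M2} (h : Ey z Q K π)
  {a b c e g p q x y w n t r : G}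
include h

theorem cz (hq : q ∈ Q) : Commute q z := h.Kz (h.QK hq)

theorem pow (hg : Commute g z) (k : ℕ) : π (g ^ k) = π g ^ k := by
  induction k with
  | zero => simpa using h.one
  | succ k ih => rw [pow_succ, h.mul (hg.pow_left k) hg, ih, pow_succ]

theorem mulK (ha : a ∈ K) (hb : b ∈ K) : π (a * b) = π a * π b := h.mul (h.Kz ha) (h.Kz hb)

theorem eq_of (ha : a ∈ K) (hb : b ∈ K) (e : π a = π b) : a⁻¹ * b ∈ Q :=
  (h.ker (mul_mem (inv_mem ha) hb)).1 (by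
    rw [h.mulK (inv_mem ha) hb, ← e, ← h.mulK (inv_mem ha) ha, inv_mul_cancel, h.one])

theorem ZQ : zpowers z ≤ Q := zpowers_le.2 h.zQ

theorem nz (hg : Commute g z) : g ∈ 𝐍[zpowers z] :=
  centralizer_le_normalizer' _ (Amb.centralizer_zpowers z ▸ mem_cent.2 hg)

theorem nk (hg : g ∈ K) : g ∈ 𝐍[zpowers z] := h.nz (h.Kz hg)

theorem cj (hg : g ∈ 𝐍[zpowers z]) (hq : q ∈ Q) : g * q * g⁻¹ ∈ Q :=
  conj_mem_of_mem_normalizer (h.nQ hg) hq

theorem cjK (hg : g ∈ 𝐍[zpowers z]) (hq : q ∈ K) : g * q * g⁻¹ ∈ K :=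
  conj_mem_of_mem_normalizer (h.nK hg) hq

theorem cZ : Nat.card (zpowers z) = 3 := by rw [Nat.card_zpowers, orderOf_three h.z3 h.z1]

theorem mK (hg : Commute g z) (g3 : g ^ 3 = 1) : g ∈ K :=
  mem_of_sq (k := 1) g3 (by
    rcases h.idx hg hg with a | a | a
    exacts [mul_mem a a, mul_mem a a, a])

theorem cZ' (hq : Commute q z) (hx : x ∈ zpowers z) : Commute q x := by
  obtain ⟨k, rfl⟩ := hx
  exact hq.zpow_right k

theorem cml (hp : p ∈ Q) (hq : q ∈ Q) (hv : v ∈ Q) : ⁅p * q, v⁆ = ⁅p, v⁆ * ⁅q, v⁆ := by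
  rw [← (h.cZ' (h.cz (h.ZQ (h.cm hp hv))) (h.cm hq hv)).symm.eq,
    ← conj_of_comm (h.cZ' (h.cz hp) (h.cm hq hv))]
  simp only [commutatorElement_def]
  group

/-- commutation with a fixed element -/
def fc (hv : v ∈ Q) : Q →* G := MonoidHom.mk' (fun q => ⁅q.1, v⁆) fun p q => h.cml p.2 q.2 hv

theorem sh : SecHyp 𝐍[zpowers z] Q (zpowers z) :=
  ⟨h.ZQ, commutator_le.2 fun _ a _ b => h.cm a b, h.nQ, le_rfl⟩

theorem pQ : IsPGroup 3 Q := isPGroup_iff.2 fun _ a => ⟨1, h.ex a⟩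

theorem neg (hg : g ∈ K) (g2 : g * g = 1) (g1 : g ≠ 1) : π g = -1 :=
  (m1 _ (h.det (h.Kz hg)) (by rw [← h.mulK hg hg, g2, h.one])).resolve_left fun e =>
    g1 (one_of_sq (k := 1) (h.ex ((h.ker hg).1 e)) g2)

theorem ne1 (e : π t = -1) : t ≠ 1 := by
  rintro rfl
  exact absurd (h.one.symm.trans e) (by decide)

theorem pinv (hg : Commute g z) (g3 : g ^ 3 = 1) : π g⁻¹ = π g * π g := by
  rw [inv_eq_sq g3, h.mul hg hg]

theorem conj (g : G) : Ey (g * z * g⁻¹) cj(g, Q) cj(g, K) fun x => π (g⁻¹ * x * g) := by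
  have c : ∀ {x}, Commute x (g * z * g⁻¹) → Commute (g⁻¹ * x * g) z := fun a => by
    simpa [mul_assoc] using Commute.cj a g⁻¹
  have zz : zpowers (g * z * g⁻¹) = cj(g, zpowers z) :=
    (MonoidHom.map_zpowers (MulAut.conj g).toMonoidHom z).symm
  refine ⟨by rw [conj_pow, h.z3]; simp, mt conj_eq_one_iff.1 h.z1, conj_mem_cj g h.zQ,
    by rw [card_cj, h.cQ], ?_, ?_, fun x a => zz ▸ mem_cj.2 (h.cen _ fun q b => ?_), ?_,
    cj_mono g h.QK, ?_, ?_, fun a b => ?_, by rw [card_cj, h.cK], fun a b => ?_, by simp [h.one],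
    fun a => ?_, fun a => h.det (c a), fun m a => ?_⟩
  · rintro _ ⟨q, a, rfl⟩
    rw [← map_pow, h.ex a, map_one]
  · rintro _ _ ⟨p, a, rfl⟩ ⟨q, b, rfl⟩
    exact zz ▸ ⟨_, h.cm a b, map_commutatorElement _ _ _⟩
  · simpa [mul_assoc] using Commute.cj (a _ (conj_mem_cj g b)) g⁻¹
  · rw [zz, normalizer_cj, normalizer_cj]
    exact cj_mono g h.nQ
  · rintro _ ⟨q, a, rfl⟩
    exact Commute.cj (h.Kz a) g
  · rw [zz, normalizer_cj, normalizer_cj]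
    exact cj_mono g h.nK
  · simp only [mem_cj]
    simpa [mul_assoc] using h.idx (c a) (c b)
  · rw [← h.mul (c a) (c b)]
    congr 1
    group
  · rw [h.ker (mem_cj.1 a), mem_cj]
  · obtain ⟨x, b, rfl⟩ := h.surj m a
    exact ⟨_, conj_mem_cj g b, by simp [mul_assoc]⟩

theorem m3' (hx : x ∈ Q') (hw : w ∈ Q') (h' : Ey v Q' K' π') (cx : Commute x z) (cw : Commute w z) :
    ⁅w, x⁆ ∈ Q ∧ (x ∈ Q ∨ ∃ u ∈ zpowers x, w * u ∈ Q) := by
  have p : ∀ {g}, g ∈ Q' → Commute g z → π g ^ 3 = 1 := fun a b => by rw [← h.pow b, h'.ex a, h.one]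
  obtain ⟨a, b⟩ := m2 _ (h.det cx) (p hx cx) _ (h.det cw) (p hw cw)
    (h.mul cw cx ▸ p (mul_mem hw hx) (cw.mul_left cx)) (by
      rw [← h.mul cx cx, ← h.mul cw (cx.mul_left cx)]
      exact p (mul_mem hw (mul_mem hx hx)) (cw.mul_left (cx.mul_left cx)))
  have kx := h.mK cx (h'.ex hx)
  have kw := h.mK cw (h'.ex hw)
  have c := mul_mem (mul_mem kw kx) (inv_mem kw)
  refine ⟨(h.ker (mul_mem c (inv_mem kx))).1 ?_, ?_⟩
  · rw [h.mulK c (inv_mem kx), h.mulK (mul_mem kw kx) (inv_mem kw), h.mul cw cx,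
      h.pinv cx (h'.ex hx), h.pinv cw (h'.ex hw), a]
  rw [← h.mul cx cx, ← h.mul cw cx, ← h.mul cw (cx.mul_left cx), h.ker kx, h.ker kw,
    h.ker (mul_mem kw kx), h.ker (mul_mem kw (mul_mem kx kx))] at b
  rcases b with b | b | b | b
  exacts [Or.inl b, Or.inr ⟨1, one_mem _, by simpa⟩, Or.inr ⟨x, mem_zpowers x, b⟩,
    Or.inr ⟨_, mul_mem (mem_zpowers x) (mem_zpowers x), b⟩]

theorem uq (c : Commute t z) (hp : p ∈ Q) (tp : t * p * t⁻¹ = p⁻¹) (tq : t * q * t⁻¹ = q⁻¹)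
    (e : p⁻¹ * q ∈ zpowers z) : p = q := by
  have a := conj_of_comm (h.cZ' (h.cz hp) (inv_mem e))
  have b : Commute t (p⁻¹ * q) := h.cZ' c e
  refine inv_mul_eq_one.1 (one_of_sq (k := 1) (h.ex (h.ZQ e)) (mul_eq_one_iff_eq_inv.2 ?_))
  have d := conj_of_comm b
  rw [← conj_mul, ← conj_inv, tp, tq] at d
  rw [← a]
  exact d.symm.trans (by group)

omit h in
theorem cop {d : G} {k : ℕ} (g2 : g ^ 2 ^ k = 1) (d3 : d ^ 3 = 1) (e : g * x * g⁻¹ = x * d)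
    (c : Commute g d) : Commute g x := by
  have f : ∀ i : ℕ, g ^ i * x * (g ^ i)⁻¹ = x * d ^ i := fun i => by
    induction i with
    | zero => simp
    | succ i ih =>
      rw [pow_succ', show g * g ^ i * x * (g * g ^ i)⁻¹ = g * (g ^ i * x * (g ^ i)⁻¹) * g⁻¹ by group,
        ih, ← conj_mul, e, conj_of_comm (c.pow_right i), mul_assoc, ← pow_succ']
  have := f (2 ^ k)
  rw [g2, one_mul, inv_one, mul_one, left_eq_mul] at this
  rw [Pr.eq_one_of_two_three this d3, mul_one] at e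
  exact comm_of_conj e

theorem fixZ {k : ℕ} (t2 : t ^ 2 ^ k = 1) (c : Commute t z) (e : ⁅t, x⁆ ∈ zpowers z)
    (hx : Commute x z) : Commute t x :=
  cop t2 (h.ex (h.ZQ e)) (by rw [(h.cZ' hx e).eq]; simp [commutatorElement_def]) (h.cZ' c e)

theorem dcp (ht : t ∈ 𝐍[zpowers z]) (c : Commute t z) (t2 : t * t = 1) (hq : q ∈ Q) :
    ∃ x ∈ Q, ∃ w ∈ Q, t * x * t⁻¹ = x⁻¹ ∧ Commute t w ∧ q = x * w := by
  have m := mul_mem (inv_mem hq) (h.cj ht hq)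
  have e := fixc t2 (h.ex m)
  have i : t * (q⁻¹ * (t * q * t⁻¹)) * t⁻¹ = (q⁻¹ * (t * q * t⁻¹))⁻¹ := by
    rw [← conj_mul, ← conj_inv, show t * (t * q * t⁻¹) * t⁻¹ = t * t * q * (t * t)⁻¹ by group, t2]
    group
  generalize q⁻¹ * (t * q * t⁻¹) = d at *
  have k := h.cm hq (inv_mem m)
  refine ⟨d, m, d⁻¹ * q, mul_mem (inv_mem m) hq, i, ?_, by simp⟩
  rw [show d⁻¹ * q = (⁅q, d⁻¹⁆)⁻¹ * (q * d⁻¹) by simp only [commutatorElement_def]; group]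
  exact (h.cZ' c (inv_mem k)).mul_right e

theorem c12 (c : Commute t z) (hx : x ∈ Q) (hw : w ∈ Q) (i : t * x * t⁻¹ = x⁻¹) (e : Commute t w) :
    Commute x w := by
  have a := conj_of_comm (h.cZ' c (h.cm hx hw))
  rw [conjugate_commutatorElement, i, conj_of_comm e] at a
  have b := h.cml hx (inv_mem hx) hw
  rw [a, mul_inv_cancel, commutatorElement_one_left] at b
  exact commutatorElement_eq_one_iff_commute.1 (one_of_sq (k := 1) (h.ex (h.ZQ (h.cm hx hw))) b.symm)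

omit h in
theorem sq4 (t2 : t * t = 1) (a : w * w = t) : w⁻¹ = t * w ∧ w ^ 4 = 1 ∧ Commute t w :=
  have b : w ^ 4 = 1 := by rw [show 4 = 2 * 2 from rfl, pow_mul, pow_two, pow_two, a, t2]
  ⟨by rw [← a, inv_eq_iff_mul_eq_one, ← b]; simp [pow_succ, mul_assoc], b,
    a ▸ (Commute.refl w).mul_left (Commute.refl w)⟩

variable [Finite G]

theorem dec (hc : c ∈ Q) (hv : v ∈ Q) (n : ¬ Commute c v) (hq : q ∈ Q) :
    ∃ u ∈ zpowers c, Commute (q * u) v := by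
  obtain ⟨k, e⟩ := (zp h.z3 (h.cm hc hv) (mt commutatorElement_eq_one_iff_commute.1 n)).ge
    (inv_mem (h.cm hq hv))
  refine ⟨c ^ k, zpow_mem (mem_zpowers c) k, commutatorElement_eq_one_iff_commute.1 ?_⟩
  rw [h.cml hq (zpow_mem hc k) hv, ← mul_inv_cancel ⁅q, v⁆, ← e]
  exact congrArg _ (map_zpow (h.fc hv) ⟨c, hc⟩ k)

theorem exc (v1 : v ∉ zpowers z) : ∃ c ∈ Q, ¬ Commute c v := by
  by_contra! a
  exact v1 (h.cen v fun q b => (a q b).symm)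

theorem exc'' (a : c ∈ Q) (hv : v ∈ Q) (b : ¬ Commute c v) (hx : x ∈ zpowers z) :
    ∃ u ∈ zpowers c, u * v * u⁻¹ = v * x := by
  obtain ⟨k, e⟩ := (zp h.z3 (h.cm a hv) (mt commutatorElement_eq_one_iff_commute.1 b)).ge hx
  refine ⟨c ^ k, ⟨k, rfl⟩, ?_⟩
  rw [(h.cZ' (h.cz hv) hx).eq, ← e, ← mul_inv_eq_iff_eq_mul]
  exact map_zpow (h.fc hv) ⟨c, a⟩ k

theorem exc' (hv : v ∈ Q) (v1 : v ∉ zpowers z) (hx : x ∈ zpowers z) :
    ∃ c ∈ Q, c * v * c⁻¹ = v * x := by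
  obtain ⟨c, a, b⟩ := h.exc v1
  obtain ⟨u, d, e⟩ := h.exc'' a hv b hx
  exact ⟨u, zpowers_le.2 a d, e⟩

theorem zz (hv : v ∈ Q) (v1 : v ∉ zpowers z) (he : e ∈ Q)
    (c : ∀ d ∈ Q, Commute d v → Commute d e) : ∃ u ∈ zpowers v, e * u ∈ zpowers z := by
  obtain ⟨x, a, b⟩ := h.exc v1
  obtain ⟨u, ⟨k, rfl⟩, d⟩ := h.dec hv a (mt Commute.symm b) he
  refine ⟨_, ⟨k, rfl⟩, h.cen _ fun q hq => ?_⟩
  obtain ⟨u, ⟨l, rfl⟩, f⟩ := h.dec a hv b hq
  simpa using ((c _ (mul_mem hq (zpow_mem a l)) f).mul_right (f.zpow_right k)).symm.mul_right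
    (d.zpow_right l).inv_right

theorem nab (hv : v ∈ Q) (v1 : v ∉ zpowers z) :
    ∃ p ∈ Q, ∃ q ∈ Q, Commute p v ∧ Commute q v ∧ ¬ Commute p q := by
  by_contra! f
  obtain ⟨x, a, b⟩ := h.exc v1
  have m : ∀ {g k : G}, k ∈ Q → g ∈ zpowers k → ∃ i : Fin 3, g = k ^ i.1 := fun a b => by
    rcases (mem_zpowers_three (h.ex a)).1 b with rfl | rfl | rfl
    exacts [⟨0, by simp⟩, ⟨1, by simp⟩, ⟨2, by simp [inv_eq_sq (h.ex a), pow_two]⟩]
  have := Nat.card_le_card_of_surjective (fun i : Fin 3 × Fin 3 × Fin 3 => (⟨z ^ i.1.1 * (v ^ i.2.1.1)⁻¹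
    * (x ^ i.2.2.1)⁻¹, mul_mem (mul_mem (pow_mem h.zQ _) (inv_mem (pow_mem hv _)))
      (inv_mem (pow_mem a _))⟩ : Q)) fun ⟨q, hq⟩ => by
    obtain ⟨u, c, d⟩ := h.dec a hv b hq
    have e := mul_mem hq (zpowers_le.2 a c)
    obtain ⟨w, i, j⟩ := h.zz hv v1 e fun p k l => f p k _ e l d
    obtain ⟨i1, rfl⟩ := m a c
    obtain ⟨i2, rfl⟩ := m hv i
    obtain ⟨i3, k⟩ := m h.zQ j
    exact ⟨(i3, i2, i1), Subtype.ext (by simp only; rw [← k]; group)⟩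
  simp [h.cQ] at this

theorem zmem (h' : Ey v Q' K' π') (hv : v ∈ Q) (v1 : v ∉ zpowers z) : z ∈ Q' ∧ z ∉ zpowers v := by
  obtain ⟨p, a, q, b, c, d, e⟩ := h.nab hv v1
  refine ⟨zpowers_le.2 (h'.m3' b a h d c).1 ((zp h.z3 (h.cm a b)
    (mt commutatorElement_eq_one_iff_commute.1 e)).ge (mem_zpowers z)), fun f => v1 ?_⟩
  exact (zp h'.z3 f h.z1).ge (mem_zpowers v)

omit h in
theorem third {C U : Subgroup G} (hU : IsPGroup 3 U) (l : C ≤ U) (hc : c ∈ U) (n : c ∉ C) :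
    3 * Nat.card C ≤ Nat.card U := by
  have := Fact.mk Nat.prime_three
  obtain ⟨k, e⟩ := card_dvd_of_le l
  obtain ⟨m, f⟩ := IsPGroup.iff_card.1 hU
  obtain ⟨i, -, rfl⟩ := (Nat.dvd_prime_pow Nat.prime_three).1 (f ▸ Dvd.intro_left _ e.symm)
  rcases i with _ | i
  · exact absurd ((eq_of_le_of_card_ge l (by omega)).ge hc) n
  · rw [e, mul_comm]
    exact Nat.mul_le_mul_left _ (Nat.le_self_pow (by omega) 3)

theorem span {x' w' : G} (hx : x ∈ Q) (hx' : x' ∈ Q) (hw : w ∈ Q) (hw' : w' ∈ Q) (n1 : ¬ Commute x x')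
    (n2 : ¬ Commute w w') (c1 : Commute w x) (c2 : Commute w x') (c3 : Commute w' x)
    (c4 : Commute w' x') (hq : q ∈ Q) (d1 : Commute q x) (d2 : Commute q x') (d3 : Commute q w)
    (d4 : Commute q w') : q ∈ zpowers z := by
  have p := h.pQ
  have a1 := third (C := Q ⊓ centralizer {x}) p inf_le_left hx' fun a => n1 (mem_cent.1 a.2).symm
  have a2 := third (C := Q ⊓ centralizer {x} ⊓ centralizer {x'}) (p.to_inf_left) inf_le_left
    ⟨hx, mem_cent.2 (Commute.refl x)⟩ fun a => n1 (mem_cent.1 a.2)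
  have a3 := third (C := Q ⊓ centralizer {x} ⊓ centralizer {x'} ⊓ centralizer {w})
    p.to_inf_left.to_inf_left inf_le_left ⟨⟨hw', mem_cent.2 c3⟩, mem_cent.2 c4⟩
    fun a => n2 (mem_cent.1 a.2).symm
  have a4 := third (C := Q ⊓ centralizer {x} ⊓ centralizer {x'} ⊓ centralizer {w} ⊓ centralizer {w'})
    p.to_inf_left.to_inf_left.to_inf_left inf_le_left
    ⟨⟨⟨hw, mem_cent.2 c1⟩, mem_cent.2 c2⟩, mem_cent.2 (Commute.refl w)⟩ fun a => n2 (mem_cent.1 a.2)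
  have l : zpowers z ≤ Q ⊓ centralizer {x} ⊓ centralizer {x'} ⊓ centralizer {w} ⊓ centralizer {w'} :=
    zpowers_le.2 ⟨⟨⟨⟨h.zQ, mem_cent.2 (h.cz hx).symm⟩, mem_cent.2 (h.cz hx').symm⟩,
      mem_cent.2 (h.cz hw).symm⟩, mem_cent.2 (h.cz hw').symm⟩
  exact (eq_of_le_of_card_ge l (by rw [h.cZ]; have := h.cQ; omega)).ge
    ⟨⟨⟨⟨hq, mem_cent.2 d1⟩, mem_cent.2 d2⟩, mem_cent.2 d3⟩, mem_cent.2 d4⟩

theorem lift (ht : t ∈ K) (e : π t = -1) (t2 : t * t = 1) {m : M2} (hm : m.det = 1) :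
    ∃ g ∈ K, Commute g t ∧ π g = m := by
  obtain ⟨a, ha, rfl⟩ := h.surj m hm
  have c := h.cjK (h.nk ha) ht
  obtain ⟨k, b, d⟩ := frat2 (g := a) h.pQ t2 ((h.ker (mul_mem ht c)).1 (by
    rw [h.mulK ht c, e, h.neg c (X32.conj_sq t2) (mt conj_eq_one_iff.1 (h.ne1 e))]; simp))
  exact ⟨_, mul_mem (h.QK b) ha, d, by rw [h.mulK (h.QK b) ha, (h.ker (h.QK b)).2 b, one_mul]⟩

theorem exists_om : ∃ ω : Sec h.sh →+ Sec h.sh →+ ZMod 3,
    (∀ {p q}, p ∈ Q → q ∈ Q → (ω (Sec.pr h.sh p) (Sec.pr h.sh q) = 0 ↔ Commute p q)) ∧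
    (∀ g x y, Commute g.1 z → ω (Sec.rep h.sh g x) (Sec.rep h.sh g y) = ω x y) ∧
    ∀ g x y, g.1 * z * g.1⁻¹ = z⁻¹ → ω (Sec.rep h.sh g x) (Sec.rep h.sh g y) = -ω x y := by
  have := Fact.mk Nat.prime_three
  let e : zpowers z ≃* Multiplicative (ZMod 3) := mulEquivOfPrimeCardEq h.cZ (by simp)
  let f : Q → Q → ZMod 3 := fun p q => (e ⟨_, h.cm p.2 q.2⟩).toAdd
  have f0 : ∀ p q, f p q = 0 ↔ Commute p.1 q.1 := fun p q => by
    simp [f, Subtype.ext_iff, commutatorElement_eq_one_iff_commute]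
  have f1 : ∀ p q w, f (p * q) w = f p w + f q w := fun p q w => by
    simp only [f, ← toAdd_mul, ← map_mul]
    exact congrArg (fun x => (e x).toAdd) (Subtype.ext (h.cml p.2 q.2 w.2))
  have f2 : ∀ p q, f q p = -f p q := fun p q => by
    simp only [f, ← toAdd_inv, ← map_inv]
    exact congrArg (fun x => (e x).toAdd) (Subtype.ext (commutatorElement_inv _ _).symm)
  have f3 : ∀ p q w, Sec.mk h.sh p = Sec.mk h.sh q → f p w = f q w := fun p q w a => by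
    have := f1 p (p⁻¹ * q) w
    rwa [mul_inv_cancel_left, (f0 (p⁻¹ * q) w).2 (h.cZ' (h.cz w.2) ((Sec.mk_eq_mk _).1 a)).symm, add_zero,
      eq_comm] at this
  choose o ho using Sec.mk_surjective h.sh
  have f4 : ∀ x y w, f (o (x + y)) w = f (o x) w + f (o y) w := fun x y w => by
    rw [← f1, f3 _ (o x * o y) w (by rw [Sec.mk_mul, ho, ho, ho])]
  let ω : Sec h.sh →+ Sec h.sh →+ ZMod 3 := AddMonoidHom.mk' (fun x => AddMonoidHom.mk'
    (fun y => f (o x) (o y)) fun y w => by rw [f2, f4, f2 _ (o x), f2 _ (o x), neg_add])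
    fun x y => AddMonoidHom.ext fun w => f4 x y _
  have f5 : ∀ p q, ω (Sec.mk h.sh p) (Sec.mk h.sh q) = f p q := fun p q => by
    change f _ _ = _
    rw [f3 _ p _ (ho _), f2, f3 _ q _ (ho _), ← f2]
  have f6 : ∀ g p q, ω (Sec.rep h.sh g (Sec.mk h.sh p)) (Sec.rep h.sh g (Sec.mk h.sh q)) =
      (e ⟨g * ⁅p.1, q.1⁆ * g.1⁻¹, conj_mem_of_mem_normalizer g.2 (h.cm p.2 q.2)⟩).toAdd :=
    fun g p q => (f5 (Sec.conjU _ g p) (Sec.conjU _ g q)).trans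
      (congrArg (fun x => (e x).toAdd) (Subtype.ext (conjugate_commutatorElement _ _ _).symm))
  refine ⟨ω, fun a b => by rw [Sec.pr_of_mem _ a, Sec.pr_of_mem _ b, f5, f0], fun g x y a => ?_,
    fun g x y a => ?_⟩ <;> obtain ⟨p, rfl⟩ := Sec.mk_surjective _ x <;>
    obtain ⟨q, rfl⟩ := Sec.mk_surjective _ y <;> rw [f6, f5] <;>
    obtain ⟨k, b⟩ := h.cm p.2 q.2
  · exact congrArg (fun x => (e x).toAdd) (Subtype.ext (conj_of_comm (b ▸ a.zpow_right k)))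
  · simp only [f, ← toAdd_inv, ← map_inv]
    exact congrArg (fun x => (e x).toAdd) (Subtype.ext (by
      simp only [← b, coe_inv]; rw [← conj_zpow, a, inv_zpow]))

end Ey

theorem mUL : ∃ u w : M2, (u.det = 1 ∧ u ^ 3 = 1) ∧ (w.det = 1 ∧ w ^ 3 = 1) ∧ ∀ a : M2, a.det = 1 →
    ∃ i j k l : Fin 3, u ^ i.1 * w ^ j.1 * (u ^ k.1 * w ^ l.1) * a = 1 :=
  ⟨!![1, 1; 0, 1], !![1, 0; 1, 1], by decide +kernel⟩

abbrev SL3 := Matrix.SpecialLinearGroup (Fin 2) (ZMod 3)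

theorem exists_ey [Finite G] (S : Sylow 3 G) {Z C Q K : Subgroup G}
    (hZ : Z = (S : Subgroup G) ⊓ 𝐂[(S : Subgroup G)]) (hC : C = 𝐂[Z]) (hQ : Q = pCoreOf 3 C)
    (ex : IsExtraspecial 3 Q) (cQ : Nat.card Q = 3 ^ 5)
    (e3 : ∀ a ∈ Q, a ^ 3 = 1) (CQ : 𝐂[Q] ≤ Q) {x : G} (x1 : cj(x, Z) ≤ Q) (x2 : cj(x, Z) ≠ Z)
    (hK : K = ((pResidual 2 (C ⧸ pCore 3 C)).comap (QuotientGroup.mk' (pCore 3 C))).map C.subtype)
    (e : C ⧸ pCore 3 C →* SL3 × Multiplicative (ZMod 2)) (ie : Function.Injective e)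
    (se : ∀ m, ∃ x, e x = (m, 1)) :
    ∃ z π, Ey z Q K π ∧ Z = zpowers z ∧ x * z * x⁻¹ ∈ Q ∧ x * z * x⁻¹ ∉ zpowers z := by
  classical
  have := Fact.mk Nat.prime_three
  have SC : (S : Subgroup G) ≤ C := hC ▸ le_centralizer_iff.1 (hZ ▸ inf_le_right)
  have QS : Q ≤ S := hQ ▸ (isSyl_of_le S SC).pCoreOf_le
  have ZC : Z ≤ 𝐂[Q] := (hZ ▸ inf_le_right : Z ≤ _).trans (centralizer_le QS)
  have mz : ∀ g, g ∈ (center Q).map Q.subtype ↔ g ∈ 𝐂[Q] := fun g =>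
    ⟨fun ⟨a, b, c⟩ y hy => c ▸ congrArg Subtype.val (mem_center_iff.1 b ⟨y, hy⟩), fun a =>
      ⟨⟨g, CQ a⟩, mem_center_iff.2 fun y => Subtype.ext (a y y.2), rfl⟩⟩
  have c3 : Nat.card 𝐂[Q] = 3 := by
    rw [← Subgroup.ext mz, card_map_of_injective Q.subtype_injective, ex.2]
  obtain ⟨z, hz, z1⟩ := Z.bot_or_exists_ne_one.resolve_left (by rintro rfl; simp at x2)
  have z3 := e3 z (CQ (ZC hz))
  have ez : zpowers z = 𝐂[Q] := eq_of_le_of_card_ge (zpowers_le.2 (ZC hz)) (by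
    rw [Nat.card_zpowers, orderOf_three z3 z1, c3])
  obtain rfl : Z = zpowers z := le_antisymm (ez ▸ ZC) (zpowers_le.2 hz)
  rw [Amb.centralizer_zpowers] at hC
  have mQ : ∀ g : C, g ∈ pCore 3 C ↔ g.1 ∈ Q := fun g => by
    rw [hQ, ← pCoreOf_subgroupOf, mem_subgroupOf]
  have res : ∀ x, x ∈ pResidual 2 (C ⧸ pCore 3 C) ↔ (e x).2 = 1 := fun x => by
    refine ⟨fun a => (closure_le ((MonoidHom.snd _ _).comp e).ker).2 (fun y b => ?_) a, fun a => ?_⟩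
    · have c := orderOf_map_dvd ((MonoidHom.snd _ _).comp e) y
      have d : orderOf (((MonoidHom.snd _ _).comp e) y) ∣ 2 :=
        orderOf_dvd_of_pow_eq_one ((by decide : ∀ u : Multiplicative (ZMod 2), u ^ 2 = 1) _)
      exact orderOf_eq_one_iff.1 ((Nat.coprime_self _).1
        ((Nat.Coprime.of_dvd_left c b).of_dvd_right d))
    · obtain ⟨y, b, c⟩ := (Class.SL_eq_top_of_transvection_mem
        (((pResidual 2 _).map e).comap (MonoidHom.inl _ _)) fun i j h c => by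
          obtain ⟨y, b⟩ := se (Matrix.SpecialLinearGroup.transvection h c)
          exact ⟨y, subset_closure (Nat.Coprime.of_dvd_left (orderOf_dvd_of_pow_eq_one (ie (by
            rw [map_pow, b, map_one, Prod.pow_mk, k3, one_pow]; rfl))) (by decide)), b⟩).ge
        (mem_top (e x).1)
      exact ie (c.trans (Prod.ext rfl a.symm)) ▸ b
  subst hC
  have mK : ∀ g, g ∈ K ↔ ∃ h : Commute g z, (e (QuotientGroup.mk ⟨g, mem_cent.2 h⟩)).2 = 1 := fun g => by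
    rw [hK]
    exact ⟨fun ⟨a, b, c⟩ => c ▸ ⟨mem_cent.1 a.2, (res _).1 b⟩, fun ⟨a, b⟩ => ⟨_, (res _).2 b, rfl⟩⟩
  have QC : Q ≤ centralizer {z} := QS.trans SC
  have nC : 𝐍[zpowers z] ≤ 𝐍[centralizer {z}] :=
    (normalizer_le_normalizer_centralizer _).trans_eq (by rw [Amb.centralizer_zpowers])
  have QK : Q ≤ K := fun q a => (mK q).2 ⟨mem_cent.1 (QC a), by
    rw [(QuotientGroup.eq_one_iff _).2 ((mQ ⟨q, QC a⟩).2 a), map_one]; rfl⟩
  have KC : K ≤ centralizer {z} := fun g a => mem_cent.2 ((mK g).1 a).1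
  have idx : ∀ {a b}, Commute a z → Commute b z → a ∈ K ∨ b ∈ K ∨ a * b ∈ K := fun {a b} c d => by
    simp only [mK, c, d, c.mul_left d, exists_true_left]
    rw [show (⟨a * b, _⟩ : centralizer {z}) = ⟨a, mem_cent.2 c⟩ * ⟨b, mem_cent.2 d⟩ from rfl,
      QuotientGroup.mk_mul, map_mul, Prod.snd_mul]
    exact (by decide : ∀ u v : Multiplicative (ZMod 2), u = 1 ∨ v = 1 ∨ u * v = 1) _ _
  let π : G → M2 := fun g =>
    if h : Commute g z then ((e (QuotientGroup.mk ⟨g, mem_cent.2 h⟩)).1 :) else 1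
  have pm : ∀ {g k}, Commute g z → Commute k z → π (g * k) = π g * π k := fun {g k} a b => by
    simp only [π, a, b, a.mul_left b, dif_pos, ← Matrix.SpecialLinearGroup.coe_mul, ← Prod.fst_mul,
      ← map_mul]; rfl
  have pk : ∀ {g}, g ∈ K → (π g = 1 ↔ g ∈ Q) := fun {g} a => by
    obtain ⟨b, c⟩ := (mK g).1 a
    simp only [π, dif_pos b]
    refine Iff.trans ?_ ((QuotientGroup.eq_one_iff _).trans (mQ ⟨g, mem_cent.2 b⟩))
    rw [← ie.eq_iff, map_one, Prod.ext_iff]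
    exact ⟨fun d => ⟨Subtype.ext d, c⟩, fun d => congrArg Subtype.val d.1⟩
  have ps : ∀ m : M2, m.det = 1 → ∃ g ∈ K, π g = m := fun m a => by
    obtain ⟨x, b⟩ := se ⟨m, a⟩
    obtain ⟨g, rfl⟩ := QuotientGroup.mk_surjective x
    exact ⟨g, (mK _).2 ⟨mem_cent.1 g.2, by simp [b]⟩, by simp [π, mem_cent.1 g.2, b]⟩
  refine ⟨z, π, ⟨z3, z1, CQ (ZC hz), cQ, e3 _, fun {p q} a b => ?_,
    fun g a => ez.ge fun q b => (a q b).symm, hQ ▸ nC.trans (normalizer_le_normalizer_pCoreOf 3 _), QK,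
    fun a => mem_cent.1 (KC a), fun n a => mem_normalizer_fintype fun g b => ?_, idx, ?_, pm,
    (pk (one_mem _)).2 (one_mem _), pk, fun {g} a => by simp [π, a], ps⟩, rfl, x1 ⟨z, hz, rfl⟩,
    fun a => x2 ?_⟩
  · exact ez.ge ((mz _).1 ⟨⁅⟨p, a⟩, ⟨q, b⟩⁆, ex.1.2.2.le (commutator_mem_commutator (mem_top _)
      (mem_top _)), rfl⟩)
  · have kz := fun {g} (a : g ∈ K) => mem_cent.1 (KC a)
    have pw : ∀ {g}, g ∈ K → ∀ i : ℕ, π (g ^ i) = π g ^ i := fun {g} a i => by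
      induction i with
      | zero => simpa using (pk (one_mem _)).2 (one_mem _)
      | succ k ih => rw [pow_succ, pm (kz (pow_mem a k)) (kz a), ih, pow_succ]
    have o : ∀ {g}, g ∈ K → π g ^ 3 = 1 → g ∈ K.comap (MulAut.conj n).toMonoidHom := fun {g} b c => by
      have d := mem_cent.1 (conj_mem_of_mem_normalizer (nC a) (KC b))
      refine mem_of_sq (k := 4) (g := n * g * n⁻¹) (by
        rw [conj_pow, show 2 * 4 + 1 = 3 * 3 from rfl, pow_mul, e3 _ ((pk (pow_mem b 3)).1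
          ((pw b 3).trans c))]; simp) ?_
      rcases idx d d with a | a | a
      exacts [mul_mem a a, mul_mem a a, a]
    obtain ⟨u, w, ⟨u0, u3⟩, ⟨w0, w3⟩, c⟩ := mUL
    obtain ⟨u, u1, rfl⟩ := ps u u0
    obtain ⟨w, w1, rfl⟩ := ps w w0
    obtain ⟨i, j, k, l, c⟩ := c (π g) (by simp [π, kz b])
    have m := fun i j : ℕ => mul_mem (pow_mem u1 i) (pow_mem w1 j)
    have m' := fun i j : ℕ => mul_mem (pow_mem (o u1 u3) i)
      (pow_mem (o w1 w3) j)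
    have m2 := mul_mem (mul_mem (m i j) (m k l)) b
    refine (mul_mem_cancel_left (mul_mem (m' i j) (m' k l))).1 (o m2 ?_)
    rw [pm (kz (mul_mem (m i j) (m k l))) (kz b), pm (kz (m i j)) (kz (m k l)),
      pm (kz (pow_mem u1 _)) (kz (pow_mem w1 _)), pm (kz (pow_mem u1 _)) (kz (pow_mem w1 _)), pw u1,
      pw u1, pw w1, pw w1, c, one_pow]
  · let f : K →* SL3 := MonoidHom.mk' (fun g => ⟨π g, by simp [π, mem_cent.1 (KC g.2)]⟩)
      fun a b => Subtype.ext (pm (mem_cent.1 (KC a.2)) (mem_cent.1 (KC b.2)))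
    have := f.ker.card_mul_index
    rw [index_ker, MonoidHom.range_eq_top.2 fun m => by
        obtain ⟨g, a, b⟩ := ps m m.2
        exact ⟨⟨g, a⟩, Subtype.ext b⟩, card_top, show f.ker = Q.subgroupOf K from
      Subgroup.ext fun g => Subtype.ext_iff.trans (pk g.2),
      Nat.card_congr (subgroupOfEquivOfLe QK).toEquiv, cQ, Nat.card_eq_fintype_card (α := SL3)] at this
    rw [← this]
    decide +kernel
  · exact eq_of_le_of_card_ge (by rw [MonoidHom.map_zpowers]; exact zpowers_le.2 a) (card_cj _ _).ge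

end Cfsg.Agent.O8T
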