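import Cfsg.Agent.Loc3.O8A

/-! Centralisers of shape `3^{1+4}.SL₂(3)` with one non-central chief factor in the `3`-core. -/

set_option autoImplicit false
set_option maxRecDepth 100000

namespace Cfsg.Agent.O8T

open Subgroup Cfsg Cfsg.Agent.PLocal Cfsg.Agent.PLocal.Amb Cfsg.Agent.Loc3
open Cfsg.Agent.G23.Am (M2 card_pow one_of_sq mem_of_sq le_of_three mf2)
open Cfsg.Agent.L43 (zp m1 m2 m3 k3 fixc fix_one)
open Cfsg.Agent.He5 (inv_self)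
open scoped commutatorElement

theorem theta {W : Type*} [AddCommGroup W] (w3 : ∀ w : W, 3 • w = 0) {σ ν : Module.End ℤ W}
    (s3 : ∀ x, σ (σ (σ x)) = x) (c3 : ∀ x, σ (ν (σ (ν (σ (ν x))))) = x)
    (d : ∀ x, σ (ν (ν x)) = ν (ν (σ x))) {v : W} (v0 : v ≠ 0) (hv : ν (ν v) = -v) :
    ∃ u, u ≠ 0 ∧ ν (ν u) = -u ∧ σ u = u ∧ σ (ν u) = ν u - u := by
  have ps : ∀ {x}, ν (ν x) = -x → ν (ν (σ x)) = -σ x := fun a => by rw [← d, a, map_neg]
  have pn : ∀ {x}, ν (ν x) = -x → ν (ν (ν x)) = -ν x := fun a => by rw [a, map_neg]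
  have pd : ∀ {x}, ν (ν x) = -x → ν (ν (σ x - x)) = -(σ x - x) := fun a => by
    rw [map_sub, map_sub, ps a, a]; abel
  have r3 : ∀ {x}, ν (ν x) = -x → ν (σ (ν x)) = -σ (σ (ν (σ (σ x)))) := fun {x} a => by
    have := c3 (-ν (σ (σ x)))
    rw [map_neg ν, ps (ps a), neg_neg, s3] at this
    rw [← map_neg, ← map_neg, ← this, s3]
  have r4 : ∀ {x}, ν (ν x) = -x → ν (σ (σ (ν x))) = σ (ν (σ x)) := fun {x} a => by
    have := congrArg ν (r3 (ps a))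
    rw [ps (pn (ps a)), s3, map_neg, neg_inj] at this
    exact this.symm
  have nu : ∀ {x}, ν (ν x) = -x → σ x = x → ν (ν x + σ (ν x) + σ (σ (ν x))) =
      -x - σ (σ (ν x)) + σ (ν x) := fun a b => by
    rw [map_add, map_add, a, r3 a, r4 a, b, b]; abel
  obtain ⟨v, v0, hv, sv⟩ : ∃ v, v ≠ 0 ∧ ν (ν v) = -v ∧ σ v = v := by
    by_cases a : σ v - v = 0
    · exact ⟨v, v0, hv, sub_eq_zero.1 a⟩
    by_cases b : σ (σ v - v) - (σ v - v) = 0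
    · exact ⟨_, a, pd hv, sub_eq_zero.1 b⟩
    refine ⟨_, b, pd (pd hv), ?_⟩
    simp only [map_sub, s3]
    rw [← sub_eq_zero, ← w3 (σ v - σ (σ v))]
    abel
  have key : ∀ {x}, ν (ν x) = -x → σ x = x → ν x + σ (ν x) + σ (σ (ν x)) = 0 →
      σ (ν x) = ν x - x := fun {x} a b c => by
    have := nu a b
    rw [c, map_zero] at this
    rw [← sub_eq_zero, ← w3 (σ (ν x)), ← sub_eq_zero, ← neg_eq_zero, ← add_zero 0]
    nth_rw 1 [← c]
    rw [this]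
    abel
  by_cases a : ν v + σ (ν v) + σ (σ (ν v)) = 0
  · exact ⟨v, v0, hv, sv, key hv sv a⟩
  have b : ν (ν (ν v + σ (ν v) + σ (σ (ν v)))) = -(ν v + σ (ν v) + σ (σ (ν v))) := by
    rw [map_add, map_add, map_add, map_add, pn hv, ps (pn hv), ps (ps (pn hv))]; abel
  have c : σ (ν v + σ (ν v) + σ (σ (ν v))) = ν v + σ (ν v) + σ (σ (ν v)) := by
    rw [map_add, map_add, s3]; abel
  refine ⟨_, a, b, c, key b c ?_⟩
  rw [nu hv sv]
  simp only [map_add, map_sub, map_neg, s3, sv]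
  rw [← w3 (-v)]
  abel

theorem mYN : ∃ y n : M2, (y.det = 1 ∧ y ^ 3 = 1) ∧ (n.det = 1 ∧ n * n = -1 ∧ (y * n) ^ 3 = 1) ∧
    ∀ a : M2, a.det = 1 → ∃ (i : Fin 3) (j : Fin 4) (l : Fin 3), a = y ^ i.1 * n ^ j.1 * y ^ l.1 :=
  ⟨!![1, 1; 0, 1], !![0, 1; -1, 0], by decide +kernel⟩

variable {G : Type*} [Group G]

/-- one non-central chief factor -/
structure Ez (z : G) (Q K : Subgroup G) (π : G → M2) : Prop extends Ey z Q K π where
  al : ∀ {t g q}, t ∈ K → π t = -1 → t * t = 1 → g ∈ K → g ^ 2 ^ 2 = 1 → Commute t g → q ∈ Q →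
    Commute t q → Commute g q
  be : ∀ {t}, t ∈ K → π t = -1 → t * t = 1 → ∃ w ∈ Q, Commute t w ∧ w ∉ zpowers z

namespace Ey

variable {z v : G} {Q K : Subgroup G} {π : G → M2} (h : Ey z Q K π) {a b g t : G} [Finite G]
include h

omit [Finite G] in
theorem w3 (w : Sec h.sh) : 3 • w = 0 := by
  obtain ⟨x, a, rfl⟩ := Sec.exists_pr_eq _ w
  rw [← Sec.pr_pow _ a, h.ex a, Sec.pr_one]

omit [Finite G] in
theorem req {a b : 𝐍[zpowers z]} (e : a.1⁻¹ * b.1 ∈ Q) : Sec.rep h.sh a = Sec.rep h.sh b := by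
  rw [← mul_one (Sec.rep _ a), ← (Sec.rep_eq_one_iff h.sh (a⁻¹ * b)).2 fun x hx => h.cm e hx,
    ← map_mul, mul_inv_cancel_left]

omit [Finite G] in
theorem rmu (g k : 𝐍[zpowers z]) (x : Sec h.sh) :
    Sec.rep h.sh g (Sec.rep h.sh k x) = Sec.rep h.sh (g * k) x := by rw [map_mul]; rfl

omit [Finite G] in
theorem rq {g : 𝐍[zpowers z]} (e : g.1 ∈ Q) (x : Sec h.sh) : Sec.rep h.sh g x = x := by
  rw [← h.req (a := 1) (by simpa), map_one]; rfl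

theorem theta' {y n : G} (hy : y ∈ K) (hn : n ∈ K) (y3 : π y ^ 3 = 1) (n2 : π n * π n = -1)
    (n3 : (π y * π n) ^ 3 = 1) {v : Sec h.sh} (v0 : v ≠ 0)
    (hv : Sec.rep h.sh ⟨n, h.nk hn⟩ (Sec.rep h.sh ⟨n, h.nk hn⟩ v) = -v) :
    ∃ u, u ≠ 0 ∧ Sec.rep h.sh ⟨n, h.nk hn⟩ (Sec.rep h.sh ⟨n, h.nk hn⟩ u) = -u ∧
      Sec.rep h.sh ⟨y, h.nk hy⟩ u = u ∧
      Sec.rep h.sh ⟨y, h.nk hy⟩ (Sec.rep h.sh ⟨n, h.nk hn⟩ u) = Sec.rep h.sh ⟨n, h.nk hn⟩ u - u := by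
  have m := mul_mem hy hn
  refine theta h.w3 (fun x => ?_) (fun x => ?_) (fun x => ?_) v0 hv <;> simp only [h.rmu]
  · exact h.rq ((h.ker (mul_mem hy (mul_mem hy hy))).1 (by
      rw [h.mulK hy (mul_mem hy hy), h.mulK hy hy, ← y3, pow_three])) x
  · refine h.rq ((h.ker (pow_mem m 3)).1 (by rw [h.pow (h.Kz m), h.mulK hy hn, n3]) |> fun a => ?_) x
    simpa [pow_succ, mul_assoc] using a
  · have : π (y * (n * n)) = π (n * (n * y)) := by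
      rw [h.mulK hy (mul_mem hn hn), h.mulK hn (mul_mem hn hy), h.mulK hn hn, h.mulK hn hy,
        ← mul_assoc (π n), n2]; simp
    rw [h.req (a := ⟨y, h.nk hy⟩ * (⟨n, h.nk hn⟩ * ⟨n, h.nk hn⟩))
      (b := ⟨n, h.nk hn⟩ * (⟨n, h.nk hn⟩ * ⟨y, h.nk hy⟩))
      (h.eq_of (mul_mem hy (mul_mem hn hn)) (mul_mem hn (mul_mem hn hy)) this)]

theorem chain {r : ℕ} {A : Fin (r + 1) → Subgroup G} (a0 : A 0 = zpowers z)
    (ar : A (Fin.last r) = Q) (mo : ∀ i : Fin r, A i.castSucc < A i.succ)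
    (iv : ∀ i, ∀ k ∈ K, ∀ a ∈ A i, k * a * k⁻¹ ∈ A i)
    (mx : ∀ (i : Fin r) B, A i.castSucc < B → B < A i.succ → ∃ k ∈ K, ∃ b ∈ B, k * b * k⁻¹ ∉ B)
    (one : ∃! i : Fin r, ∃ k ∈ K, ∃ a ∈ A i.succ, k * a * k⁻¹ * a⁻¹ ∉ A i.castSucc) : Ez z Q K π := by
  have m := (Fin.strictMono_iff_lt_succ.2 mo).monotone
  have l0 : ∀ i, zpowers z ≤ A i := fun i => a0 ▸ m (Fin.zero_le i)
  have l1 : ∀ i, A i ≤ Q := fun i => ar ▸ m (Fin.le_last i)
  obtain ⟨i, -, u⟩ := one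
  have ce : ∀ j, j ≠ i → ∀ k ∈ K, ∀ a ∈ A j.succ, ⁅k, a⁆ ∈ A j.castSucc := fun j b k c a d =>
    by_contra fun e => b (u j ⟨k, c, a, d, e⟩)
  have ind : ∀ {g t}, g ∈ K → g ^ 2 ^ 2 = 1 → Commute t g →
      (∀ a ∈ A i.succ, Commute t a → ⁅g, a⁆ ∈ A i.castSucc) → ∀ a ∈ Q, Commute t a → Commute g a :=
    fun {g t} b c d e => ar ▸ Fin.induction (motive := fun j => ∀ a ∈ A j, Commute t a → Commute g a)
      (fun a f _ => h.cZ' (h.Kz b) (a0 ▸ f)) (fun j ih a f k => by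
        have l : ⁅g, a⁆ ∈ A j.castSucc := by
          rcases eq_or_ne j i with rfl | n
          exacts [e a f k, ce j n g b a f]
        refine Commute.inv_right_iff.1 (cop c (h.ex (inv_mem (l1 _ l))) ?_
          (ih _ l (((d.mul_right k).mul_right d.inv_right).mul_right k.inv_right)).inv_right)
        simp [commutatorElement_def, mul_assoc]) (Fin.last r)
  have t4 : ∀ {t : G}, t * t = 1 → t ^ 2 ^ 2 = 1 := fun a => by simp [pow_succ, a]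
  have iv0 : ∀ {t}, t ∈ K → π t = -1 → t * t = 1 → ∀ a ∈ A i.succ, ⁅t, a⁆ ∈ A i.castSucc →
      a ∈ A i.castSucc := fun {t} b c d => by
    have s : SecHyp K (A i.succ) (A i.castSucc) := ⟨(mo i).le, commutator_le.2 fun a ha b hb =>
      l0 _ (h.cm (l1 _ ha) (l1 _ hb)), fun k hk => mem_normalizer_fintype (iv _ k hk),
      fun k hk => mem_normalizer_fintype (iv _ k hk)⟩
    have mB : ∀ {a}, a ∈ Sec.grp s (LinearMap.ker (Sec.rep s ⟨t, b⟩ - 1)) ↔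
        a ∈ A i.succ ∧ ⁅t, a⁆ ∈ A i.castSucc := and_congr_right fun e => by
      rw [← Sec.rep_pr_eq_iff s ⟨t, b⟩ e, ← sub_eq_zero]; rfl
    intro a e f
    by_contra k
    obtain ⟨k', c', x, hx, nx⟩ := mx i (Sec.grp s (LinearMap.ker (Sec.rep s ⟨t, b⟩ - 1)))
      (lt_of_le_not_ge (Sec.le_grp s _) fun l => k (l (mB.2 ⟨e, f⟩)))
      (lt_of_le_not_ge (Sec.grp_le s _) fun l => h.ne1 c (one_of_sq (k := 1) (h.ex (h.ZQ (h.cen t
        fun q hq => ind (t := 1) b (t4 d) (by simp) (fun a e _ => (mB.1 (l e)).2) q hq (by simp)))) d))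
    rw [mB] at hx nx
    have p := h.cjK (h.nk (inv_mem c')) b
    have q : t⁻¹ * (k'⁻¹ * t * k'⁻¹⁻¹) ∈ Q := h.eq_of b p (by
      rw [c, h.neg p (X32.conj_sq d) (mt conj_eq_one_iff.1 (h.ne1 c))])
    refine nx ⟨iv _ _ c' _ hx.1, ?_⟩
    have := iv _ _ c' _ (mul_mem (iv _ _ b _ (l0 _ (h.cm q (l1 _ hx.1)))) hx.2)
    convert this using 1
    simp only [commutatorElement_def]
    group
  refine ⟨h, fun {t g q} b c d e f k => ind e f k (fun a l n => ?_) q, fun {t} b c d => ?_⟩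
  · have := iv0 b c d a l (by rw [n.commutator_eq]; exact one_mem _)
    exact mul_mem (iv _ _ e _ this) (inv_mem this)
  by_contra! f
  have all : ∀ j, j = i := fun j => by_contra fun n => by
    obtain ⟨a, k, l⟩ := SetLike.exists_of_lt (mo j)
    obtain ⟨x, x1, w, w1, x2, w2, rfl⟩ := h.dcp (h.nk b) (h.Kz b) d (l1 _ k)
    have := ce j n t b _ k
    rw [commutatorElement_def, ← conj_mul, x2, conj_of_comm w2, mul_inv_rev, mul_assoc,
      mul_inv_cancel_left] at this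
    exact l (mul_mem (inv_mem_iff.1 (mem_of_sq (k := 1) (h.ex (inv_mem x1)) this)) (l0 _ (f w w1 w2)))
  have e0 : A i.castSucc = zpowers z := by rw [← all ⟨0, i.pos⟩]; exact a0
  have e1 : A i.succ = Q := by
    rw [← all ⟨r - 1, by have := i.pos; omega⟩, ← ar]; congr 1; ext; have := i.pos; simp; omega
  obtain ⟨y, n, ⟨y0, y3⟩, ⟨n0, n2, n3⟩, gen⟩ := mYN
  obtain ⟨y, hy, rfl⟩ := h.surj y y0
  obtain ⟨n, hn, rfl⟩ := h.surj n n0
  obtain ⟨v, v1, v2⟩ := SetLike.exists_of_lt (mo i)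
  obtain ⟨p, p1, q, q1, -, -, pq⟩ := h.nab (e1 ▸ v1) (e0 ▸ v2)
  obtain ⟨x, x1, w, w1, x2, w2, rfl⟩ := h.dcp (h.nk b) (h.Kz b) d p1
  have nn : π (n * n) = π t := by rw [h.mulK hn hn, n2, c]
  obtain ⟨u, u0, u1, u2, u3⟩ := h.theta' hy hn y3 n2 n3 (v := Sec.pr _ x) (fun a => pq
    (h.cZ' (h.cz q1) (mul_mem ((Sec.pr_eq_zero _ x1).1 a) (f w w1 w2))).symm) (by
      rw [h.rmu, h.req (a := ⟨n, h.nk hn⟩ * ⟨n, h.nk hn⟩) (b := ⟨t, h.nk b⟩)
        (h.eq_of (mul_mem hn hn) b nn), Sec.rep_pr' _ _ x1, x2, Sec.pr_inv _ x1])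
  set σ := Sec.rep h.sh ⟨y, h.nk hy⟩
  set ν := Sec.rep h.sh ⟨n, h.nk hn⟩
  have m1 : u ∈ Submodule.span ℤ {u, ν u} := Submodule.subset_span (by simp)
  have m2 : ν u ∈ Submodule.span ℤ {u, ν u} := Submodule.subset_span (by simp)
  obtain ⟨k, c', x, hx, nx⟩ := mx i (Sec.grp h.sh (Submodule.span ℤ {u, ν u}))
    (e0.trans_lt <| lt_of_le_not_ge (Sec.le_grp _ _) fun l => by
      obtain ⟨x, a, rfl⟩ := Sec.exists_pr_eq _ u
      exact u0 ((Sec.pr_eq_zero _ a).2 (l ⟨a, m1⟩)))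
    (LT.lt.trans_eq (b := Q) (h₂ := e1.symm) <| lt_of_le_not_ge (Sec.grp_le _ _) fun l => by
      obtain ⟨v, a, e⟩ := Sec.exists_pr_eq _ u
      obtain ⟨p, p1, q, q1, pv, qv, pq⟩ := h.nab a fun b => u0 (e ▸ (Sec.pr_eq_zero _ a).2 b)
      obtain ⟨ω, o1, -, -⟩ := h.exists_om
      obtain ⟨i, j, ep⟩ := Submodule.mem_span_pair.1 (l p1).2
      obtain ⟨k, m, eq⟩ := Submodule.mem_span_pair.1 (l q1).2
      have al : ∀ x, ω x x = 0 := fun x => by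
        obtain ⟨x, a, rfl⟩ := Sec.exists_pr_eq _ x; exact (o1 a a).2 (Commute.refl x)
      have a1 := (o1 p1 a).2 pv
      have a2 := (o1 a q1).2 qv.symm
      refine pq ((o1 p1 q1).1 ?_)
      rw [e, ← ep] at a1
      rw [e, ← eq] at a2
      rw [← ep, ← eq]
      simp only [map_add, map_zsmul, AddMonoidHom.add_apply, AddMonoidHom.zsmul_apply, al, smul_zero,
        zero_add, add_zero] at a1 a2 ⊢
      rw [a1, smul_comm, a2]; simp)
  refine nx ⟨h.cj (h.nk c') hx.1, ?_⟩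
  have st : ∀ f : Module.End ℤ (Sec h.sh), f u ∈ Submodule.span ℤ {u, ν u} →
      f (ν u) ∈ Submodule.span ℤ {u, ν u} → ∀ i : ℕ, ∀ x ∈ Submodule.span ℤ {u, ν u},
        (f ^ i) x ∈ Submodule.span ℤ {u, ν u} := fun f a b i => by
    induction i with
    | zero => exact fun x c => c
    | succ i ih =>
      intro x c
      obtain ⟨j, k, rfl⟩ := Submodule.mem_span_pair.1 c
      rw [pow_succ, Module.End.mul_apply, map_add, map_zsmul, map_zsmul]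
      exact ih _ (add_mem (zsmul_mem a _) (zsmul_mem b _))
  have s1 := st σ (u2.symm ▸ m1) (u3.symm ▸ sub_mem m2 m1)
  obtain ⟨i, j, l, e⟩ := gen _ (h.det (h.Kz c'))
  have m3 := mul_mem (pow_mem hy i) (pow_mem hn j)
  have ek : π k = π (y ^ i.1 * n ^ j.1 * y ^ l.1) := by
    rw [h.mulK m3 (pow_mem hy l), h.mulK (pow_mem hy i) (pow_mem hn j), h.pow (h.Kz hy),
      h.pow (h.Kz hy), h.pow (h.Kz hn), e]
  change Sec.pr h.sh (k * x * k⁻¹) ∈ _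
  rw [← Sec.rep_pr' _ (h.nk c') hx.1, h.req (a := ⟨k, h.nk c'⟩) (b := ⟨y, h.nk hy⟩ ^ i.1 *
    ⟨n, h.nk hn⟩ ^ j.1 * ⟨y, h.nk hy⟩ ^ l.1) (h.eq_of c' (mul_mem m3 (pow_mem hy l)) ek), map_mul,
    map_mul, map_pow, map_pow, map_pow]
  exact s1 _ _ (st ν m2 (u1.symm ▸ neg_mem m1) _ _ (s1 _ _ hx.2))

end Ey

end Cfsg.Agent.O8T
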