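import Cfsg.Agent.Loc3.O8B

/-!
Frames in a centraliser of shape `3^{1+4}.SL₂(3)` with one non-central chief factor.  `t` is an involution
over `-1`; `a, u` span the part of `Q/Z` inverted by `t`, and `e, w` span the part centralised by `t`.
-/

set_option autoImplicit false
set_option maxRecDepth 100000

namespace Cfsg.Agent.O8T

open Subgroup Cfsg Cfsg.Agent.PLocal Cfsg.Agent.PLocal.Amb Cfsg.Agent.Loc3
open Cfsg.Agent.G23.Am (M2 card_pow one_of_sq mem_of_sq le_of_three mf2)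
open Cfsg.Agent.L43 (zp m1 m2 m3 k3 fixc fix_one)
open Cfsg.Agent.He5 (inv_self)
open scoped commutatorElement

variable {G : Type*} [Group G]

structure Fr (z : G) (Q K : Subgroup G) (π : G → M2) (t a e u w y : G) : Prop extends Ez z Q K π where
  tK : t ∈ K
  tp : π t = -1
  t2 : t * t = 1
  aQ : a ∈ Q
  eQ : e ∈ Q
  uQ : u ∈ Q
  wQ : w ∈ Q
  ta : t * a * t⁻¹ = a⁻¹
  tu : t * u * t⁻¹ = u⁻¹
  te : Commute t e
  tw : Commute t w
  ua : ¬ Commute u a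
  uw : Commute (u * w) (a * e)
  yK : y ∈ K
  y3 : y ^ 3 = 1
  ty : Commute t y
  ya : Commute y a
  ye : Commute y e
  yu : ⁅y, u⁆ * a⁻¹ ∈ zpowers z
  yw : ⁅y, w⁆ * e⁻¹ ∈ zpowers z
  cv : IsConj z (a * e)

structure Fr2 (z : G) (Q K : Subgroup G) (π : G → M2) (t a e u w y r : G) : Prop
    extends Fr z Q K π t a e u w y where
  r2 : r * r = 1
  rz : r * z * r⁻¹ = z⁻¹
  ra : r * a * r⁻¹ = a⁻¹
  re : r * e * r⁻¹ = e⁻¹
  ry : r * y * r⁻¹ = y⁻¹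
  tr : Commute t r

/-- the element of `C(z)` outside `K` -/
structure Oc (z : G) (Q : Subgroup G) (π : G → M2) (t a y r c : G) : Prop where
  c2 : c * c = 1
  cz : Commute c z
  ct : Commute c t
  ca : Commute c a
  cy : Commute c y
  cr : Commute c r
  cp : π c = 1 ∨ π c = -1
  ci : ∀ q ∈ Q, Commute t q → q * (c * q * c⁻¹) ∈ zpowers z

/-- the relations of `P1` -/
structure Gn (z : G) (Q K : Subgroup G) (π : G → M2) (t a e u w y r n f : G) : Prop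
    extends Fr2 z Q K π t a e u w y r where
  mn : n ∈ K
  n2 : n * n = t
  n3 : (y * n) ^ 3 = 1
  rn : r * n * r⁻¹ = n⁻¹
  fQ : f ∈ Q
  tf : Commute t f
  rf : Commute r f
  yb : y * (n * a * n⁻¹) * y⁻¹ = a * (n * a * n⁻¹) * a
  fv : f⁻¹ * y * f * y⁻¹ * e⁻¹ ∈ zpowers z
  ab : ¬ Commute a (n * a * n⁻¹)
  fa : ⁅f, f⁻¹ * y * f * y⁻¹⁆ * ⁅a, n * a * n⁻¹⁆ = 1

theorem inv_zp {r a x : G} (e : r * a * r⁻¹ = a⁻¹) (hx : x ∈ zpowers a) : r * x * r⁻¹ = x⁻¹ := by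
  obtain ⟨k, rfl⟩ := hx
  simp only [← conj_zpow, e, inv_zpow]

theorem com_zp {r a x : G} (e : Commute r a) (hx : x ∈ zpowers a) : Commute r x := by
  obtain ⟨k, rfl⟩ := hx
  exact e.zpow_right k

namespace Ey

variable {z : G} {Q K : Subgroup G} {π : G → M2} (h : Ey z Q K π) {c g p q t v x : G}
include h

theorem udc (hp : p ∈ Q) (hq : q ∈ Q) (tp : t * p * t⁻¹ = p⁻¹) (tq : t * q * t⁻¹ = q⁻¹)
    (e : Commute t (p⁻¹ * q)) : p = q := by
  have d := conj_of_comm e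
  rw [← conj_mul, ← conj_inv, tp, tq, inv_inv] at d
  rw [← inv_inj, inv_eq_sq (h.ex hp), inv_eq_sq (h.ex hq), ← mul_inv_eq_iff_eq_mul, mul_assoc, d,
    mul_inv_cancel_left]

theorem dec' [Finite G] (hc : c ∈ Q) (hv : v ∈ Q) (n : ¬ Commute c v) (gz : Commute g z)
    (e : ⁅g, v⁆ ∈ zpowers z) : ∃ u ∈ zpowers c, Commute (g * u) v := by
  obtain ⟨k, f⟩ := (zp h.z3 (h.cm hc hv) (mt commutatorElement_eq_one_iff_commute.1 n)).ge (inv_mem e)
  refine ⟨c ^ k, zpow_mem (mem_zpowers c) k, commutatorElement_eq_one_iff_commute.1 ?_⟩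
  have a : ⁅c ^ k, v⁆ = ⁅g, v⁆⁻¹ := (map_zpow (h.fc hv) ⟨c, hc⟩ k).trans f
  rw [show ⁅g * c ^ k, v⁆ = g * ⁅c ^ k, v⁆ * g⁻¹ * ⁅g, v⁆ by simp only [commutatorElement_def]; group, a,
    conj_of_comm (h.cZ' gz (inv_mem e)), inv_mul_cancel]

end Ey

namespace Fr

variable {z : G} {Q K : Subgroup G} {π : G → M2} {t a e u w y g q r x : G}
  (h : Fr z Q K π t a e u w y)
include h

theorem tz : Commute t z := h.Kz h.tK

theorem yz : Commute y z := h.Kz h.yK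

theorem c1 (hx : x ∈ Q) (hq : q ∈ Q) (i : t * x * t⁻¹ = x⁻¹) (c : Commute t q) : Commute x q :=
  h.c12 h.tz hx hq i c

theorem ae : Commute a e := h.c1 h.aQ h.eQ h.ta h.te

theorem aw : Commute a w := h.c1 h.aQ h.wQ h.ta h.tw

theorem ue : Commute u e := h.c1 h.uQ h.eQ h.tu h.te

theorem uw' : Commute u w := h.c1 h.uQ h.wQ h.tu h.tw

theorem we : ¬ Commute w e := fun c => h.ua (by
  simpa using (by simpa using h.uw.mul_left (h.aw.symm.mul_right c).inv_left :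
    Commute u (a * e)).mul_right h.ue.inv_right)

theorem aZ : a ∉ zpowers z := fun c => h.ua (h.cZ' (h.cz h.uQ) c)

theorem eZ : e ∉ zpowers z := fun c => h.we (h.cZ' (h.cz h.wQ) c)

variable [Finite G]

theorem span' (hq : q ∈ Q) (d1 : Commute q a) (d2 : Commute q u) (d3 : Commute q e) (d4 : Commute q w) :
    q ∈ zpowers z :=
  h.span h.aQ h.uQ h.eQ h.wQ (mt Commute.symm h.ua) (mt Commute.symm h.we) h.ae.symm h.ue.symm
    h.aw.symm h.uw'.symm hq d1 d2 d3 d4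

/-- `⟨z, a, e⟩` is self-centralising in `Q` -/
theorem max3 (hq : q ∈ Q) (d1 : Commute q a) (d2 : Commute q e) :
    ∃ α ∈ zpowers a, ∃ β ∈ zpowers e, q * α * β ∈ zpowers z := by
  obtain ⟨α, b, c⟩ := h.dec h.aQ h.uQ (mt Commute.symm h.ua) hq
  have m := mul_mem hq (zpowers_le.2 h.aQ b)
  obtain ⟨β, d, f⟩ := h.dec h.eQ h.wQ (mt Commute.symm h.we) m
  exact ⟨α, b, β, d, h.span' (mul_mem m (zpowers_le.2 h.eQ d))
    ((d1.mul_left (com_zp (Commute.refl a) b).symm).mul_left (com_zp h.ae d).symm)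
    (c.mul_left (com_zp h.ue d).symm)
    ((d2.mul_left (com_zp h.ae.symm b).symm).mul_left (com_zp (Commute.refl e) d).symm) f⟩

theorem max_c (hq : q ∈ Q) (d1 : Commute q a) (d2 : Commute q e) (gz : Commute g z) (ga : Commute g a)
    (ge : Commute g e) : Commute g q := by
  obtain ⟨α, b, β, d, f⟩ := h.max3 hq d1 d2
  simpa using ((com_zp gz f).mul_right (com_zp ge d).inv_right).mul_right (com_zp ga b).inv_right

theorem max_i (hq : q ∈ Q) (d1 : Commute q a) (d2 : Commute q e) (rz : r * z * r⁻¹ = z⁻¹)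
    (ra : r * a * r⁻¹ = a⁻¹) (re : r * e * r⁻¹ = e⁻¹) : r * q * r⁻¹ = q⁻¹ := by
  obtain ⟨α, b, β, d, f⟩ := h.max3 hq d1 d2
  have := inv_zp rz f
  rw [← conj_mul, ← conj_mul, inv_zp ra b, inv_zp re d,
    ((com_zp d2 d).mul_left (com_zp (com_zp h.ae.symm b).symm d)).eq, (com_zp d1 b).eq] at this
  simpa using this

/-- elements centralised by `t` and `e` -/
theorem two2 (hq : q ∈ Q) (c : Commute t q) (d : Commute q e) :
    ∃ β ∈ zpowers e, q * β ∈ zpowers z := by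
  obtain ⟨α, b, β, k, f⟩ := h.max3 hq (h.c1 h.aQ hq h.ta c).symm d
  obtain rfl := fix_one (h.ex h.aQ) h.ta b (by
    simpa using c.inv_right.mul_right ((com_zp h.tz f).mul_right (com_zp h.te k).inv_right))
  exact ⟨β, k, by simpa using f⟩

/-- elements inverted by `t` modulo `Z` and centralised by `a` -/
theorem two1 (hq : q ∈ Q) (c : q * (t * q * t⁻¹) ∈ zpowers z) (d : Commute q a) :
    ∃ α ∈ zpowers a, q * α ∈ zpowers z := by
  obtain ⟨x, x1, v, v1, x2, v2, rfl⟩ := h.dcp (h.nk h.tK) h.tz h.t2 hq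
  rw [← conj_mul, x2, conj_of_comm v2, (h.c1 x1 v1 x2 v2).eq, mul_assoc, mul_inv_cancel_left] at c
  have vz := mem_of_sq (k := 1) (h.ex v1) c
  obtain ⟨α, b, β, k, f⟩ := h.max3 x1 (by simpa using d.mul_left (h.cZ' (h.cz h.aQ) vz).symm.inv_left)
    (h.c1 x1 h.eQ x2 h.te)
  have xa := (com_zp (by simpa using d.mul_left (h.cZ' (h.cz h.aQ) vz).symm.inv_left : Commute x a) b)
  have i : t * (x * α) * t⁻¹ = (x * α)⁻¹ := by rw [← conj_mul, x2, inv_zp h.ta b, xa.eq, mul_inv_rev]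
  have := h.udc (one_mem Q) (mul_mem x1 (zpowers_le.2 h.aQ b)) (by simp) i (by
    simpa using (com_zp h.tz f).mul_right (com_zp h.te k).inv_right)
  refine ⟨α, b, ?_⟩
  rwa [(h.c1 x1 v1 x2 v2).eq, mul_assoc, ← this, mul_one]

theorem adj (gz : Commute g z) (c : ∀ q ∈ Q, ⁅g, q⁆ ∈ zpowers z) :
    ∃ m ∈ closure ({a, u, e, w} : Set G), Commute (g * m) a ∧ Commute (g * m) u ∧ Commute (g * m) e ∧
      Commute (g * m) w := by
  have st : ∀ {g m}, m ∈ Q → Commute g z ∧ (∀ q ∈ Q, ⁅g, q⁆ ∈ zpowers z) →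
      Commute (g * m) z ∧ ∀ q ∈ Q, ⁅g * m, q⁆ ∈ zpowers z := fun {g m} b c =>
    ⟨c.1.mul_left (h.cz b), fun q d => by
      rw [show ⁅g * m, q⁆ = g * ⁅m, q⁆ * g⁻¹ * ⁅g, q⁆ by simp only [commutatorElement_def]; group]
      exact mul_mem (conj_mem_of_mem_normalizer (h.nz c.1) (h.cm b d)) (c.2 q d)⟩
  obtain ⟨α, a1, a2⟩ := h.dec' h.aQ h.uQ (mt Commute.symm h.ua) gz (c _ h.uQ)
  have s1 := st (zpowers_le.2 h.aQ a1) ⟨gz, c⟩
  obtain ⟨μ, b1, b2⟩ := h.dec' h.uQ h.aQ h.ua s1.1 (s1.2 _ h.aQ)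
  have s2 := st (zpowers_le.2 h.uQ b1) s1
  obtain ⟨β, c1, c2⟩ := h.dec' h.eQ h.wQ (mt Commute.symm h.we) s2.1 (s2.2 _ h.wQ)
  have s3 := st (zpowers_le.2 h.eQ c1) s2
  obtain ⟨ν, d1, d2⟩ := h.dec' h.wQ h.eQ h.we s3.1 (s3.2 _ h.eQ)
  have l : ∀ {x k}, k ∈ zpowers x → x ∈ ({a, u, e, w} : Set G) → k ∈ closure ({a, u, e, w} : Set G) :=
    fun b c => zpowers_le.2 (subset_closure c) b
  refine ⟨α * μ * β * ν, mul_mem (mul_mem (mul_mem (l a1 (by simp)) (l b1 (by simp))) (l c1 (by simp)))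
    (l d1 (by simp)), ?_⟩
  simp only [← mul_assoc]
  exact ⟨(b2.mul_left (com_zp h.ae c1).symm).mul_left (com_zp h.aw d1).symm,
    ((a2.mul_left (com_zp (Commute.refl u) b1).symm).mul_left (com_zp h.ue c1).symm).mul_left
      (com_zp h.uw' d1).symm, d2, c2.mul_left (com_zp (Commute.refl w) d1).symm⟩

theorem cQ4 (gz : Commute g z) (d1 : Commute g a) (d2 : Commute g u) (d3 : Commute g e)
    (d4 : Commute g w) : g ∈ zpowers z := h.cen g fun q hq => by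
  have l : closure ({a, u, e, w} : Set G) ≤ Q ⊓ centralizer {g} := (closure_le _).2 (by
    rintro _ (rfl | rfl | rfl | rfl)
    exacts [⟨h.aQ, mem_cent.2 d1.symm⟩, ⟨h.uQ, mem_cent.2 d2.symm⟩, ⟨h.eQ, mem_cent.2 d3.symm⟩,
      ⟨h.wQ, mem_cent.2 d4.symm⟩])
  obtain ⟨m, b, c1, c2, c3, c4⟩ := h.adj (h.cz hq) fun p hp => h.cm hq hp
  simpa using (com_zp gz (h.span' (mul_mem hq (l b).1) c1 c2 c3 c4)).mul_right
    (mem_cent.1 (l b).2).symm.inv_right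

/-- an element centralising `Z` and `Q/Z` lies in `Q` -/
theorem inner (gz : Commute g z) (c : ∀ q ∈ Q, ⁅g, q⁆ ∈ zpowers z) : g ∈ Q := by
  obtain ⟨m, b, c1, c2, c3, c4⟩ := h.adj gz c
  have l : m ∈ Q := (closure_le Q).2 (by
    rintro _ (rfl | rfl | rfl | rfl)
    exacts [h.aQ, h.uQ, h.eQ, h.wQ]) b
  exact (mul_mem_cancel_right l).1 (h.ZQ (h.cQ4 (gz.mul_left (h.cz l)) c1 c2 c3 c4))

/-- it is enough to test the four generators -/
theorem inner4 (gz : Commute g z) (d1 : ⁅g, a⁆ ∈ zpowers z) (d2 : ⁅g, u⁆ ∈ zpowers z)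
    (d3 : ⁅g, e⁆ ∈ zpowers z) (d4 : ⁅g, w⁆ ∈ zpowers z) : g ∈ Q := by
  obtain ⟨ω, o1, o2, -⟩ := h.exists_om
  have k : ∀ {p}, p ∈ Q → ⁅g, p⁆ ∈ zpowers z → ∀ q ∈ Q, Commute ⁅g, q⁆ p := fun {p} b c q d => by
    have f := (Sec.rep_pr_eq_iff h.sh ⟨g, h.nz gz⟩ b).2 c
    rw [← o1 (Sec.comm_mem h.sh (h.nz gz) d) b, ← Sec.rep_pr_sub h.sh ⟨g, h.nz gz⟩ d, map_sub,
      AddMonoidHom.sub_apply, ← o2 ⟨g, h.nz gz⟩ (Sec.pr _ q) _ gz, f, sub_self]
  exact h.inner gz fun q hq => h.span' (Sec.comm_mem h.sh (h.nz gz) hq) (k h.aQ d1 q hq) (k h.uQ d2 q hq)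
    (k h.eQ d3 q hq) (k h.wQ d4 q hq)

end Fr

end Cfsg.Agent.O8T
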