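import Cfsg.Agent.Loc3.O8C0

/-! Existence of a frame. -/

set_option autoImplicit false
set_option maxRecDepth 100000

namespace Cfsg.Agent.O8T

open Subgroup Cfsg Cfsg.Agent.PLocal Cfsg.Agent.PLocal.Amb Cfsg.Agent.Loc3
open Cfsg.Agent.G23.Am (M2 card_pow one_of_sq mem_of_sq le_of_three mf2)
open Cfsg.Agent.L43 (zp m1 m2 m3 k3 fixc fix_one)
open Cfsg.Agent.He5 (inv_self)
open scoped commutatorElement

theorem split3 {W : Type*} [AddCommGroup W] (w3 : ∀ w : W, 3 • w = 0) {σ τ : Module.End ℤ W}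
    (d : ∀ x, τ (σ x) = σ (τ x)) {x y a e : W} (hx : τ x = -x) (hy : τ y = y) (ha : τ a = -a)
    (he : τ e = e) (f : σ (x + y) - (x + y) = a + e) : σ x - x = a ∧ σ y - y = e := by
  have g := congrArg τ f
  simp only [map_add, map_sub, d, hx, hy, ha, he, map_neg] at f g
  have : σ y - y = e := by
    rw [← sub_eq_zero, show σ y - y - e = 3 • (σ y - y - e) - (σ x + σ y - (x + y) - (a + e)) -
      (-σ x + σ y - (-x + y) - (-a + e)) by abel, w3, f, g]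
    simp
  exact ⟨by rw [← add_left_inj e, ← f, ← this]; abel, this⟩

variable {G : Type*} [Group G] [Finite G] {z x v t a b c : G} {Q K Q' K' : Subgroup G} {π π' : G → M2}

namespace Ey

variable (h : Ey z Q K π)
include h

omit [Finite G] in
theorem fi (hx : x ∈ Q) (i : t * x * t⁻¹ = x⁻¹) (e : Commute t x) : x = 1 :=
  fix_one (h.ex hx) i (mem_zpowers x) e

/-- abelian subgroups of `Q` have order at most `27` -/
theorem max2 (ha : a ∈ Q) (hb : b ∈ Q) (hc : c ∈ Q) (ba : Commute b a) (ca : Commute c a)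
    (cb : Commute c b) (a1 : a ∉ zpowers z) (b1 : ∀ α ∈ zpowers a, b * α ∉ zpowers z) :
    ∃ α ∈ zpowers a, ∃ β ∈ zpowers b, c * α * β ∈ zpowers z := by
  obtain ⟨a', ha', n⟩ := h.exc a1
  obtain ⟨α, d, e⟩ := h.dec ha ha' (mt Commute.symm n) hb
  have m := mul_mem hb (zpowers_le.2 ha d)
  have f := ba.mul_left (com_zp (Commute.refl a) d).symm
  obtain ⟨p, hp, k⟩ := h.exc (b1 α d)
  obtain ⟨u, u1, u2⟩ := h.dec ha' ha n hp
  have p1 := mul_mem hp (zpowers_le.2 ha' u1)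
  obtain ⟨w, w1, w2⟩ := h.dec ha ha' (mt Commute.symm n) p1
  have p2 := mul_mem p1 (zpowers_le.2 ha w1)
  have k' : ¬ Commute (b * α) (p * u * w) := fun r => k (by
    simpa using ((r.mul_right (com_zp f w1).inv_right).mul_right (com_zp e u1).inv_right).symm)
  have u3 := u2.mul_left (com_zp (Commute.refl a) w1).symm
  obtain ⟨γ, g1, g2⟩ := h.dec ha ha' (mt Commute.symm n) hc
  have c1 := mul_mem hc (zpowers_le.2 ha g1)
  obtain ⟨_, ⟨i, rfl⟩, l⟩ := h.dec m p2 k' c1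
  have := h.span ha ha' m p2 (mt Commute.symm n) k' f e u3 w2 (mul_mem c1 (zpow_mem m i))
    ((ca.mul_left (com_zp (Commute.refl a) g1).symm).mul_left (f.zpow_left i))
    (g2.mul_left (e.zpow_left i)) (((cb.mul_right (com_zp ca d)).mul_left (com_zp f g1).symm).mul_left
      ((Commute.refl _).zpow_left i)) l
  refine ⟨γ * α ^ i, mul_mem g1 (zpow_mem d i), b ^ i, zpow_mem (mem_zpowers b) i, ?_⟩
  rwa [(com_zp ba d).eq, (com_zp ba d).symm.mul_zpow, ← mul_assoc, mul_assoc c] at this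

theorem max2' (ha : a ∈ Q) (hb : b ∈ Q) (hc : c ∈ Q) (ba : Commute b a) (ca : Commute c a)
    (cb : Commute c b) (a1 : a ∉ zpowers z) (b1 : ∀ α ∈ zpowers a, b * α ∉ zpowers z)
    {H : Subgroup G} (h1 : z ∈ H) (h2 : a ∈ H) (h3 : b ∈ H) : c ∈ H := by
  obtain ⟨α, d, β, e, f⟩ := h.max2 ha hb hc ba ca cb a1 b1
  exact (mul_mem_cancel_right (zpowers_le.2 h2 d)).1
    ((mul_mem_cancel_right (zpowers_le.2 h3 e)).1 (zpowers_le.2 h1 f))

variable (h' : Ey v Q' K' π') (hv : v ∈ Q) (v1 : v ∉ zpowers z)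
include h' hv v1

omit hv in
theorem ab2 {p q : G} (p1 : p ∈ Q) (p2 : p ∈ Q') (q1 : q ∈ Q) (q2 : q ∈ Q') : Commute p q := by
  by_contra n
  have n' := mt commutatorElement_eq_one_iff_commute.1 n
  exact v1 ((zp h.z3 (h.cm p1 q1) n').le ((zp h'.z3 (h'.cm p2 q2) n').ge (mem_zpowers v)))

theorem exp : ∃ p ∈ Q', Commute p z ∧ p ∉ Q ∧ ∃ U ∈ Q, U ∈ Q' ∧ ⁅p, U⁆ = v := by
  obtain ⟨zQ, z1⟩ := h.zmem h' hv v1
  obtain ⟨p, a, q, b, c, d, f⟩ := h'.nab zQ z1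
  obtain ⟨y, yQ, yz, yn⟩ : ∃ x ∈ Q', Commute x z ∧ x ∉ Q := by
    by_contra! g
    exact f (h.ab2 h' v1 (g p a c) a (g q b d) b)
  obtain ⟨U, u1, u2, n⟩ : ∃ U ∈ Q, U ∈ Q' ∧ ¬ Commute y U := by
    by_contra! g
    obtain ⟨_, ⟨i, rfl⟩, k⟩ := (h.m3' yQ a h' yz c).2.resolve_left yn
    obtain ⟨_, ⟨j, rfl⟩, l⟩ := (h.m3' yQ b h' yz d).2.resolve_left yn
    have k' := mul_mem a (zpow_mem yQ i)
    have l' := mul_mem b (zpow_mem yQ j)
    simpa [f] using ((h.ab2 h' v1 k k' l l').mul_left ((g _ l l').zpow_left i).inv_left).mul_right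
      (((g _ k k').symm.zpow_right j).mul_left ((Commute.refl y).zpow_zpow i j).inv_left).inv_right
  rcases (mem_zpowers_three h'.z3).1 (h'.cm yQ u2) with e | e | e
  · exact absurd (commutatorElement_eq_one_iff_commute.1 e) n
  · exact ⟨y, yQ, yz, yn, U, u1, u2, e⟩
  · refine ⟨y⁻¹, inv_mem yQ, yz.inv_left, mt inv_mem_iff.1 yn, U, u1, u2, ?_⟩
    have := h'.cml yQ (inv_mem yQ) u2
    rwa [mul_inv_cancel, commutatorElement_one_left, e, eq_comm, inv_mul_eq_one, eq_comm] at this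

end Ey

namespace Ez

variable (h : Ez z Q K π) (h' : Ey v Q' K' π') (hv : v ∈ Q) (v1 : v ∉ zpowers z)
include h h' hv v1

theorem no_inv (ht : t ∈ K) (e : π t = -1) (t2 : t * t = 1) : t * v * t⁻¹ ≠ v⁻¹ := fun tv => by
  obtain ⟨zQ, z1⟩ := h.zmem h' hv v1
  have tz := h.Kz ht
  have tN := h'.nQ ((mem_norm_three h'.z3 h'.z1).2 (Or.inr tv))
  obtain ⟨w, wQ, tw, w1⟩ := h.be ht e t2
  obtain ⟨c, cQ, n⟩ := h.exc w1
  obtain ⟨x, x1, u, u1, x2, u2, rfl⟩ := h.dcp (h.nk ht) tz t2 cQ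
  have n' : ¬ Commute u w := fun r => n ((h.c12 tz x1 wQ x2 tw).mul_left r)
  obtain ⟨s, s0, s1, s2, s3⟩ : ∃ s ∈ Q, s ∈ Q' ∧ Commute t s ∧ s ∉ zpowers z := by
    rcases (h'.m3' wQ u1 h.toEy (h.c12 tz hv wQ tv tw).symm (h.c12 tz hv u1 tv u2).symm).2 with
      a | ⟨k, a, b⟩
    · exact ⟨w, wQ, a, tw, w1⟩
    · exact ⟨_, mul_mem u1 (zpowers_le.2 wQ a), b, u2.mul_right (com_zp tw a), fun r => n' (by
        simpa using (h.cZ' (h.cz wQ) r).symm.mul_left (com_zp (Commute.refl w) a).symm.inv_left)⟩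
  obtain ⟨p, pQ, pz, pn, -⟩ := h.exp h' hv v1
  have pK := h.mK pz (h'.ex pQ)
  have d1 : p⁻¹ * (t * p * t⁻¹) ∈ Q := h.eq_of pK (h.cjK (h.nk ht) pK) (by
    rw [h.mulK (mul_mem ht pK) (inv_mem ht), h.mulK ht pK, inv_self t2, e]; simp)
  have ty := fixc t2 (h.ex d1)
  have yQ := mul_mem pQ (inv_mem (mul_mem (inv_mem pQ) (conj_mem_of_mem_normalizer tN pQ)))
  have ab : ∀ {a b}, a ∈ Q' → b ∈ Q' → Commute t a → Commute t b → Commute a b := fun a b c d =>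
    commutatorElement_eq_one_iff_commute.1 (fix_one h'.z3 tv (h'.cm a b)
      (((c.mul_right d).mul_right c.inv_right).mul_right d.inv_right))
  refine pn ((Q.mul_mem_cancel_right (inv_mem d1)).1 ?_)
  exact h'.max2' zQ s1 yQ (ab s1 zQ s2 tz) (ab yQ zQ ty tz) (ab yQ s1 ty s2) z1 (fun α a b => s3 (by
    rw [eq_inv_of_mul_eq_one_left (fix_one h'.z3 tv b (s2.mul_right (com_zp tz a)))]
    exact inv_mem a)) hv h.zQ s0

theorem no_fix (ht : t ∈ K) (e : π t = -1) (t2 : t * t = 1) : ¬ Commute t v := fun tv => by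
  obtain ⟨g, hg, gt, m⟩ := h.lift ht e t2 (m := !![0, 1; -1, 0]) (by decide +kernel)
  have g4 := h.ex ((h.ker (pow_mem hg 4)).1 (by rw [h.pow (h.Kz hg), m]; decide +kernel))
  have n4 : (g ^ 9) ^ 2 ^ 2 = 1 := by
    rw [← pow_mul, show 9 * 2 ^ 2 = 4 * 3 * 3 from rfl, pow_mul, pow_mul, g4, one_pow]
  have hn := pow_mem hg 9
  have nv := h.al ht e t2 hn n4 (gt.symm.pow_right 9) hv tv
  have e' : π (g ^ 9 * g ^ 9) = -1 := by rw [h.mulK hn hn, h.pow (h.Kz hg), m]; decide +kernel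
  generalize g ^ 9 = n at *
  have s2 : n * n * (n * n) = 1 := by simpa [pow_succ, mul_assoc] using n4
  have hs := mul_mem hn hn
  have sv := nv.mul_left nv
  have sn : Commute (n * n) n := (Commute.refl n).mul_left (Commute.refl n)
  have nn : ∀ y, n * (n * y * n⁻¹) * n⁻¹ = n * n * y * (n * n)⁻¹ := fun y => by group
  generalize n * n = s at *
  have sz := h.Kz hs
  obtain ⟨x, x1, x2, x3⟩ : ∃ x ∈ Q, s * x * s⁻¹ = x⁻¹ ∧ x ∉ zpowers z := by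
    by_contra! k
    refine h.ne1 e' (one_of_sq (k := 1) (h.ex (h.ZQ (h.cen s fun q hq => ?_))) s2)
    obtain ⟨x, x1, w, -, x2, w2, rfl⟩ := h.dcp (h.nk hs) sz s2 hq
    exact (com_zp sz (k x x1 x2)).mul_right w2
  obtain ⟨c, cQ, k⟩ := h.exc x3
  obtain ⟨y, y1, w, w1, y2, w2, rfl⟩ := h.dcp (h.nk hs) sz s2 cQ
  have k' : ¬ Commute y x := fun r => k (r.mul_left (h.c12 sz x1 w1 x2 w2).symm)
  obtain ⟨a, a1, a2, a3⟩ : ∃ a ∈ Q, a ∈ Q' ∧ ¬ Commute s a := by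
    rcases (h'.m3' x1 y1 h.toEy (h.c12 sz x1 hv x2 sv) (h.c12 sz y1 hv y2 sv)).2 with a | ⟨u, a, b⟩
    · exact ⟨x, x1, a, fun r => x3 (h.fi x1 x2 r ▸ one_mem _)⟩
    · refine ⟨_, mul_mem y1 (zpowers_le.2 x1 a), b, fun r => k' ?_⟩
      have := h.udc (inv_mem y1) (zpowers_le.2 x1 a) (by rw [← conj_inv, y2]) (inv_zp x2 a) (by simpa)
      exact Commute.inv_left_iff.1 (this ▸ (com_zp (Commute.refl x) a).symm)
  have b1 := h.cj (h.nk hs) a1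
  have b2 := h'.cj (h'.nz sv) a2
  have i : s * (a * (s * a * s⁻¹)⁻¹) * s⁻¹ = (a * (s * a * s⁻¹)⁻¹)⁻¹ := by
    rw [← conj_mul, ← conj_inv, show s * (s * a * s⁻¹) * s⁻¹ = s * s * a * (s * s)⁻¹ by group, s2]
    simp
  have c1 := mul_mem a1 (inv_mem b1)
  have c2 := mul_mem a2 (inv_mem b2)
  have c3 : a * (s * a * s⁻¹)⁻¹ ≠ 1 := fun r => a3 (comm_of_conj (mul_inv_eq_one.1 r).symm)
  generalize a * (s * a * s⁻¹)⁻¹ = b at *
  have d1 := h.cj (h.nk hn) c1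
  have d2 := h'.cj (h'.nz nv) c2
  have f := h.ab2 h' v1 d1 d2 c1 c2
  obtain ⟨α, l1, β, l2, l3⟩ := h.max2 c1 hv d1 (h'.cz c2).symm f (h'.cz d2)
    (fun r => c3 (h.fi c1 i (com_zp sz r))) fun α a r => v1 (by
      simpa [h.fi (zpowers_le.2 c1 a) (inv_zp i a) (by
        simpa using sv.inv_right.mul_right (com_zp sz r))] using r)
  have j : s * (n * b * n⁻¹) * s⁻¹ = (n * b * n⁻¹)⁻¹ := by
    rw [← conj_mul, ← conj_mul, ← conj_inv, conj_of_comm sn, i, conj_inv]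
  have := h.udc (inv_mem d1) (zpowers_le.2 c1 l1) (by rw [← conj_inv, j]) (inv_zp i l1) (by
    simpa using (com_zp sz l3).mul_right (com_zp sv l2).inv_right)
  refine c3 (h.fi c1 i (comm_of_conj ?_))
  rcases (mem_zpowers_three (h.ex c1)).1 (inv_mem_iff.1 (this ▸ l1 : _⁻¹ ∈ zpowers b)) with r | r | r
  · exact absurd (conj_eq_one_iff.1 r) c3
  · rw [← nn, r, r]
  · rw [← nn, r, ← conj_inv, r, inv_inv]

theorem fr (cv : IsConj z v) : ∃ t a e u w y, Fr z Q K π t a e u w y ∧ a * e = v := by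
  obtain ⟨p, pQ, pz, -, U, U1, U2, pU⟩ := h.exp h' hv v1
  have pK := h.mK pz (h'.ex pQ)
  obtain ⟨g, hg, f⟩ := h.surj (-1) (by decide)
  have ht := pow_mem hg 3
  have tp : π (g ^ 3) = -1 := by rw [h.pow (h.Kz hg), f]; decide
  have t2 : g ^ 3 * g ^ 3 = 1 := by
    rw [← (Commute.refl g).mul_pow, h.ex ((h.ker (mul_mem hg hg)).1 (by simp [h.mulK hg hg, f]))]
  generalize g ^ 3 = t at *
  have tz := h.Kz ht
  obtain ⟨a, aQ, e, eQ, ta, te, ve⟩ := h.dcp (h.nk ht) tz t2 hv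
  obtain ⟨u, uQ, w, wQ, tu, tw, rfl⟩ := h.dcp (h.nk ht) tz t2 U1
  have ae := h.c12 tz aQ eQ ta te
  have aw := h.c12 tz aQ wQ ta tw
  have e1 : e ∉ zpowers z := fun r => by
    obtain ⟨c, cQ, k⟩ := h.exc' hv v1 (inv_mem r)
    have m := h.cjK (h.nk (h.QK (inv_mem cQ))) ht
    have s := X32.conj_sq (g := c⁻¹) t2
    refine h.no_inv h' hv v1 m (h.neg m s (mt conj_eq_one_iff.1 (h.ne1 tp))) s ?_
    rw [show v * e⁻¹ = a by rw [ve, mul_inv_cancel_right]] at k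
    rw [show c⁻¹ * t * c⁻¹⁻¹ * v * (c⁻¹ * t * c⁻¹⁻¹)⁻¹ = c⁻¹ * (t * (c * v * c⁻¹) * t⁻¹) * c by group,
      k, ta, ← k]
    group
  have a1 : a ∉ zpowers z := fun r => h.no_fix h' hv v1 ht tp t2 (ve ▸ (com_zp tz r).mul_right te)
  have e2 : ∀ α ∈ zpowers a, e * α ∉ zpowers z := fun α l r => e1 (by
    simpa [h.fi (zpowers_le.2 aQ l) (inv_zp ta l) (by
      simpa using te.inv_right.mul_right (com_zp tz r))] using r)
  have tp' : ∀ {b}, b ∈ K → π (t * b * t⁻¹) = π b := fun l => by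
    rw [h.mulK (mul_mem ht l) (inv_mem ht), h.mulK ht l, inv_self t2, tp]; simp
  have d : ∀ x, Sec.rep h.sh ⟨t, h.nk ht⟩ (Sec.rep h.sh ⟨p, h.nk pK⟩ x) =
      Sec.rep h.sh ⟨p, h.nk pK⟩ (Sec.rep h.sh ⟨t, h.nk ht⟩ x) := fun x => by
    rw [h.rmu, h.rmu, h.req (a := ⟨t, h.nk ht⟩ * ⟨p, h.nk pK⟩) (b := ⟨p, h.nk pK⟩ * ⟨t, h.nk ht⟩)
      (h.eq_of (mul_mem ht pK) (mul_mem pK ht) (show π (t * p) = π (p * t) by
        rw [h.mulK ht pK, h.mulK pK ht, tp]; simp))]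
  have i1 : ∀ {x}, x ∈ Q → t * x * t⁻¹ = x⁻¹ →
      Sec.rep h.sh ⟨t, h.nk ht⟩ (Sec.pr _ x) = -Sec.pr _ x := fun l r => by
    rw [Sec.rep_pr' _ _ l, r, Sec.pr_inv _ l]
  have i2 : ∀ {x}, x ∈ Q → Commute t x → Sec.rep h.sh ⟨t, h.nk ht⟩ (Sec.pr _ x) = Sec.pr _ x :=
    fun l r => by rw [Sec.rep_pr' _ _ l, conj_of_comm r]
  have pv := h'.cz pQ
  obtain ⟨s1, s2⟩ := split3 h.w3 d (i1 aQ ta) (i2 eQ te) (a := 0) (e := 0) (by simp) (by simp) (by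
    rw [← Sec.pr_mul _ aQ eQ, ← ve, Sec.rep_pr' _ _ hv, conj_of_comm pv]; simp)
  obtain ⟨s3, s4⟩ := split3 h.w3 d (i1 uQ tu) (i2 wQ tw) (i1 aQ ta) (i2 eQ te) (by
    rw [← Sec.pr_mul _ aQ eQ, ← ve, ← Sec.pr_mul _ uQ wQ, Sec.rep_pr_sub _ _ U1, pU])
  have Uv := h'.cz U2
  have ua : ¬ Commute u a := fun r => by
    have Ua := r.mul_left aw.symm
    have := (h.max2' aQ eQ U1 ae.symm Ua (by simpa [ve] using Ua.inv_right.mul_right Uv) a1 e2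
      (H := Sec.grp h.sh (LinearMap.ker (Sec.rep h.sh ⟨p, h.nk pK⟩ - 1)))
      (Sec.le_grp _ _ (mem_zpowers z)) ⟨aQ, LinearMap.mem_ker.2 s1⟩ ⟨eQ, LinearMap.mem_ker.2 s2⟩).2
    exact v1 (pU ▸ (Sec.rep_pr_eq_iff h.sh ⟨p, h.nk pK⟩ U1).1 (sub_eq_zero.1 (LinearMap.mem_ker.1 this)))
  obtain ⟨k, k1, ba⟩ := h.dec' U1 aQ (fun r => ua (by simpa using r.mul_left aw.symm.inv_left)) pz
    ((Sec.rep_pr_eq_iff h.sh ⟨p, h.nk pK⟩ aQ).1 (sub_eq_zero.1 s1))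
  have kQ := zpowers_le.2 U1 k1
  have bQ := mul_mem pQ (zpowers_le.2 U2 k1)
  have bK := mul_mem pK (h.QK kQ)
  have be : Commute (p * k) e := by simpa [ve] using ba.inv_right.mul_right (h'.cz bQ)
  have dQ := h.eq_of bK (h.cjK (h.nk ht) bK) (tp' bK).symm
  have da : Commute ((p * k)⁻¹ * (t * (p * k) * t⁻¹)) a :=
    ba.inv_left.mul_left (by simpa only [ta, Commute.inv_right_iff] using Commute.cj ba t)
  have de : Commute ((p * k)⁻¹ * (t * (p * k) * t⁻¹)) e :=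
    be.inv_left.mul_left (by simpa only [conj_of_comm te] using Commute.cj be t)
  have db : Commute ((p * k)⁻¹ * (t * (p * k) * t⁻¹)) (p * k) := mem_cent.1 (h.max2' aQ eQ dQ ae.symm
    da de a1 e2 (mem_cent.2 (h.Kz bK).symm) (mem_cent.2 ba.symm) (mem_cent.2 be.symm))
  have ty := fixc t2 (h.ex dQ)
  generalize (p * k)⁻¹ * (t * (p * k) * t⁻¹) = δ at *
  have yK := mul_mem bK (h.QK (inv_mem dQ))
  have r : ∀ {x c}, x ∈ Q → c ∈ Q → Sec.rep h.sh ⟨p, h.nk pK⟩ (Sec.pr _ x) - Sec.pr _ x = Sec.pr _ c →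
      ⁅p * k * δ⁻¹, x⁆ * c⁻¹ ∈ zpowers z := fun l m n => by
    have o := Sec.comm_mem h.sh (h.nk yK) l
    rw [h.req (b := ⟨_, h.nk yK⟩) (by simpa [mul_assoc] using mul_mem kQ (inv_mem dQ)),
      Sec.rep_pr_sub _ _ l] at n
    rw [← Sec.pr_eq_zero h.sh (mul_mem o (inv_mem m)), Sec.pr_mul _ o (inv_mem m), Sec.pr_inv _ m, n,
      add_neg_cancel]
  exact ⟨t, a, e, u, w, _, ⟨h, ht, tp, t2, aQ, eQ, uQ, wQ, ta, tu, te, tw, ua, ve ▸ Uv, yK, by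
    rw [db.symm.inv_right.mul_pow, h'.ex bQ, h.ex (inv_mem dQ), one_mul], ty,
    ba.mul_left da.inv_left, be.mul_left de.inv_left, r uQ aQ s3, r wQ eQ s4, ve ▸ cv⟩, ve.symm⟩

end Ez

theorem Ez.exists_Fr (h : Ez z Q K π) (x1 : x * z * x⁻¹ ∈ Q) (x2 : x * z * x⁻¹ ∉ zpowers z) :
    ∃ t a e u w y, Fr z Q K π t a e u w y ∧
      ∃ g, g * z * g⁻¹ = z⁻¹ ∧ g * (a * e) * g⁻¹ = (a * e)⁻¹ := by
  have h' := h.conj x
  obtain ⟨t, a, e, u, w, y, f, k⟩ := h.fr h' x1 x2 (isConj_iff.2 ⟨x, rfl⟩)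
  refine ⟨t, a, e, u, w, y, f, ?_⟩
  obtain ⟨zQ, z1⟩ := h.zmem h' x1 x2
  obtain ⟨c, c1, c2⟩ := h.exc' x1 x2 (mem_zpowers z)
  obtain ⟨d, d1, d2⟩ := h'.exc' zQ z1 (inv_mem (mem_zpowers _))
  have c3 := conj_of_comm (h.cz c1)
  have d3 := conj_of_comm (h'.cz d1)
  rw [k]
  generalize x * z * x⁻¹ = v at *
  have m : ∀ s g q : G, s * g * q * (s * g)⁻¹ = s * (g * q * g⁻¹) * s⁻¹ := fun s g q => by group
  have s1 : c * d * z * (c * d)⁻¹ = v⁻¹ := by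
    rw [m, d2, ← conj_mul, ← conj_inv, c2, c3]; group
  have s2 : c * d * v * (c * d)⁻¹ = v * z := by rw [m, d3, c2]
  have s3 : c * d * (v * z) * (c * d)⁻¹ = z := by rw [← conj_mul, s1, s2, conj_of_comm (h.cz x1)]
  generalize c * d = s at *
  exact ⟨s * (s * s), by rw [m, m, s1, ← conj_inv, s2, ← conj_inv, s3], by rw [m, m, s2, s3, s1]⟩

end Cfsg.Agent.O8T
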