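import Cfsg.Agent.Loc3.O8C0

/-! The involution inverting `J`, and the involution of `C(z)` outside `K`. -/

set_option autoImplicit false
set_option maxRecDepth 100000

namespace Cfsg.Agent.O8T

open Subgroup Cfsg Cfsg.Agent.PLocal Cfsg.Agent.PLocal.Amb Cfsg.Agent.Loc3
open Cfsg.Agent.G23.Am (M2 card_pow one_of_sq mem_of_sq le_of_three mf2)
open Cfsg.Agent.L43 (zp m1 m2 m3 k3 fixc fix_one)
open Cfsg.Agent.He5 (inv_self)
open scoped commutatorElement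

variable {G : Type*} [Group G] [Finite G] {z t a e u w y r c g p q s x : G} {Q K : Subgroup G}
  {π : G → M2}

namespace Ey

variable (h : Ey z Q K π)
include h

theorem cm1 (gz : Commute g z) (hp : p ∈ Q) (b : ⁅g, p⁆ ∈ zpowers z) (hq : q ∈ Q) :
    Commute ⁅g, q⁆ p := by
  obtain ⟨ω, o1, o2, -⟩ := h.exists_om
  rw [← o1 (Sec.comm_mem h.sh (h.nz gz) hq) hp, ← Sec.rep_pr_sub h.sh ⟨g, h.nz gz⟩ hq, map_sub,
    AddMonoidHom.sub_apply, ← o2 ⟨g, h.nz gz⟩ (Sec.pr _ q) _ gz,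
    (Sec.rep_pr_eq_iff h.sh ⟨g, h.nz gz⟩ hp).2 b, sub_self]

omit [Finite G] in
theorem rneg (gN : g ∈ 𝐍[zpowers z]) (hp : p ∈ Q) :
    Sec.rep h.sh ⟨g, gN⟩ (Sec.pr _ p) = -Sec.pr _ p ↔ p * (g * p * g⁻¹) ∈ zpowers z := by
  rw [Sec.rep_pr' _ gN hp, eq_neg_iff_add_eq_zero, add_comm, ← Sec.pr_mul _ hp (h.cj gN hp),
    Sec.pr_eq_zero _ (mul_mem hp (h.cj gN hp))]

theorem cm2 (gz : Commute g z) (hp : p ∈ Q) (b : p * (g * p * g⁻¹) ∈ zpowers z) (hq : q ∈ Q) :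
    Commute (q * (g * q * g⁻¹)) p := by
  obtain ⟨ω, o1, o2, -⟩ := h.exists_om
  have m := h.cj (h.nz gz) hq
  rw [← o1 (mul_mem hq m) hp, Sec.pr_mul _ hq m, ← Sec.rep_pr' _ (h.nz gz) hq, map_add,
    AddMonoidHom.add_apply, ← o2 ⟨g, h.nz gz⟩ (Sec.pr _ q) _ gz, (h.rneg _ hp).2 b, map_neg,
    neg_add_cancel]

theorem cm3 (gz : g * z * g⁻¹ = z⁻¹) (hp : p ∈ Q) (b : g * p * g⁻¹ = p⁻¹) (hq : q ∈ Q) :
    Commute (q⁻¹ * (g * q * g⁻¹)) p := by
  obtain ⟨ω, o1, -, o3⟩ := h.exists_om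
  have gN := (mem_norm_three h.z3 h.z1).2 (Or.inr gz)
  have m := h.cj gN hq
  have := o3 ⟨g, gN⟩ (Sec.pr _ q) (Sec.pr _ p) gz
  rw [(h.rneg gN hp).2 (by simp [b]), map_neg, neg_inj] at this
  rw [← o1 (mul_mem (inv_mem hq) m) hp, Sec.pr_mul _ (inv_mem hq) m, ← Sec.rep_pr' _ gN hq, map_add,
    AddMonoidHom.add_apply, this, Sec.pr_inv _ hq, map_neg, AddMonoidHom.neg_apply, neg_add_cancel]

end Ey

omit [Finite G] in
theorem conj_conj_aux' (r s p : G) : r * (s * p * s⁻¹) * r⁻¹ = r * s * p * (r * s)⁻¹ := by group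

omit [Finite G] in
theorem cj_inv (c : Commute t s) (b : t * p * t⁻¹ = p⁻¹) : t * (s * p * s⁻¹) * t⁻¹ = (s * p * s⁻¹)⁻¹ := by
  rw [← conj_mul, ← conj_mul, ← conj_inv, conj_of_comm c, b, conj_inv]

omit [Finite G] in
theorem inv3 (b : s * p * s⁻¹ = p⁻¹) : s ^ 3 * p * (s ^ 3)⁻¹ = p⁻¹ := by
  rw [show s ^ 3 * p * (s ^ 3)⁻¹ = s * (s * (s * p * s⁻¹) * s⁻¹) * s⁻¹ by simp [pow_succ, mul_assoc], b,
    ← conj_inv, b, inv_inv, b]

omit [Finite G] in
theorem cm_of (b : p * q⁻¹ ∈ zpowers z) (gz : Commute g z) : Commute g p ↔ Commute g q :=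
  ⟨fun c => by simpa using (com_zp gz b).inv_right.mul_right c,
    fun c => by simpa using (com_zp gz b).mul_right c⟩

namespace Fr

variable (h : Fr z Q K π t a e u w y)
include h

theorem fr_t (gN : g ∈ 𝐍[zpowers z]) : ∃ k ∈ Q, Commute (k * g) t :=
  have c := h.cjK gN h.tK
  frat2 h.pQ h.t2 ((h.ker (mul_mem h.tK c)).1 (by
    rw [h.mulK h.tK c, h.tp, h.neg c (X32.conj_sq h.t2) (mt conj_eq_one_iff.1 (h.ne1 h.tp))]; simp))

theorem exists_r (gz : g * z * g⁻¹ = z⁻¹) (gv : g * (a * e) * g⁻¹ = (a * e)⁻¹) :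
    ∃ r, Fr2 z Q K π t a e u w y r := by
  obtain ⟨k, kQ, st⟩ := h.fr_t ((mem_norm_three h.z3 h.z1).2 (Or.inr gz))
  have sz : k * g * z * (k * g)⁻¹ = z⁻¹ := by
    rw [← conj_of_comm (h.cz kQ).inv_right, ← gz]; group
  have m := h.cm kQ (inv_mem (mul_mem h.aQ h.eQ))
  have sv : k * g * a * (k * g)⁻¹ * (k * g * e * (k * g)⁻¹) = ⁅k, (a * e)⁻¹⁆ * (a * e)⁻¹ := by
    rw [conj_mul, commutatorElement_def, inv_inv, mul_inv_cancel_right, ← gv]; group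
  generalize k * g = s, ⁅k, (a * e)⁻¹⁆ = ζ at *
  have sN := (mem_norm_three h.z3 h.z1).2 (Or.inr sz)
  have c1 := h.cZ' (h.cz h.aQ) m
  have sa : s * a * s⁻¹ = a⁻¹ := (h.udc (inv_mem h.aQ) (h.cj sN h.aQ) (by rw [← conj_inv, h.ta])
    (cj_inv st.symm h.ta) (by
      rw [eq_mul_inv_of_mul_eq sv, inv_inv, ← mul_assoc, ← mul_assoc, c1.eq, h.ae.eq, mul_inv_rev,
        mul_assoc ζ, mul_inv_cancel_left]
      exact ((com_zp h.tz m).mul_right h.te.inv_right).mul_right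
        ((st.symm.mul_right h.te).mul_right st.symm.inv_right).inv_right)).symm
  have se : s * e * s⁻¹ = ζ * e⁻¹ := by
    rw [sa, inv_mul_eq_iff_eq_mul, ← mul_assoc, c1.eq, h.ae.eq, mul_inv_rev, mul_assoc ζ,
      mul_inv_cancel_left] at sv
    exact sv
  have re : s ^ 3 * e * (s ^ 3)⁻¹ = e⁻¹ := by
    have c := h.cZ' (h.cz h.eQ) m
    have i := inv_zp sz m
    have : s * (s * e * s⁻¹) * s⁻¹ = e * ζ := by
      rw [se, ← conj_mul, ← conj_inv, i, se, mul_inv_rev, inv_inv, ← mul_assoc, ← c.inv_right.eq, mul_assoc,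
        ← mul_inv_rev, ← inv_eq_sq (h.ex (h.ZQ m)), inv_inv]
    rw [show s ^ 3 * e * (s ^ 3)⁻¹ = s * (s * (s * e * s⁻¹) * s⁻¹) * s⁻¹ by simp [pow_succ, mul_assoc],
      this, ← conj_mul, se, i, ← c.inv_left.eq, mul_inv_cancel_right]
  have rz := inv3 sz
  have ra := inv3 sa
  have tr := st.symm.pow_right 3
  generalize s ^ 3 = r at *
  have rN := (mem_norm_three h.z3 h.z1).2 (Or.inr rz)
  have cc : ∀ {p x}, r * p * r⁻¹ = p⁻¹ → Commute x p → Commute (x⁻¹ * (r * x * r⁻¹)) p := fun b c =>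
    c.inv_left.mul_left (by simpa only [b, Commute.inv_right_iff] using Commute.cj c r)
  have du := cc re h.ue
  have dw := cc ra h.aw.symm
  have du' := h.cm3 rz h.aQ ra h.uQ
  have dw' := h.cm3 rz h.eQ re h.wQ
  have s1 : ∀ {p}, r * p * r⁻¹ = p⁻¹ → Commute (r * r) p := fun b => comm_of_conj (by
    rw [← conj_conj_aux', b, ← conj_inv, b, inv_inv])
  have s2 : ∀ {x}, x ∈ Q → Commute (x⁻¹ * (r * x * r⁻¹)) a → Commute (x⁻¹ * (r * x * r⁻¹)) e →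
      Commute (r * r) x := fun {x} b c d => comm_of_conj (by
    have := h.max_i (mul_mem (inv_mem b) (h.cj rN b)) c d rz ra re
    rw [← conj_mul, ← conj_inv, inv_mul_eq_iff_eq_mul, mul_inv_rev, mul_inv_cancel_left, inv_inv] at this
    rw [← conj_conj_aux', this])
  have r2 : r * r = 1 := fix_one h.z3 rz
    (h.cQ4 (s1 rz) (s1 ra) (s2 h.uQ du' du) (s1 re) (s2 h.wQ dw dw')) ((Commute.refl r).mul_right (.refl r))
  have y1 : ∀ {p}, r * p * r⁻¹ = p⁻¹ → Commute y p → Commute (y * (r * y * r⁻¹)) p := fun b c =>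
    c.mul_left (by simpa only [b, Commute.inv_right_iff] using Commute.cj c r)
  have y2 : ∀ {x p}, x ∈ Q → ⁅y, x⁆ * p⁻¹ ∈ zpowers z → Commute p a → Commute p e →
      Commute (x⁻¹ * (r * x * r⁻¹)) a → Commute (x⁻¹ * (r * x * r⁻¹)) e →
      Commute (y * (r * y * r⁻¹)) x := fun {x p} b f p1 p2 c d => comm_of_conj (by
    have m := Sec.comm_mem h.sh (h.nk h.yK) b
    have m1 := ((cm_of f (h.cz h.aQ)).2 p1.symm).symm
    have m2 := ((cm_of f (h.cz h.eQ)).2 p2.symm).symm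
    have k1 := h.max_i m m1 m2 rz ra re
    have k2 := h.max_c m m1 m2 h.yz h.ya h.ye
    have k3 := h.max_c (mul_mem (inv_mem b) (h.cj rN b)) c d h.yz h.ya h.ye
    have k4 : y * (r⁻¹ * x * r) * y⁻¹ = ⁅y, x⁆ * (r⁻¹ * x * r) := by
      rw [inv_self r2] at k3 ⊢
      rw [← mul_inv_cancel_left x (r * x * r), ← conj_mul, conj_of_comm k3, commutatorElement_def]
      group
    rw [show y * (r * y * r⁻¹) * x * (y * (r * y * r⁻¹))⁻¹ =
      y * (r * (y * (r⁻¹ * x * r) * y⁻¹) * r⁻¹) * y⁻¹ by group, k4, ← conj_mul (a := ⁅y, x⁆), k1,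
      ← conj_mul, conj_of_comm k2.inv_right, commutatorElement_def]
    group)
  have y3 := h.cQ4 (y1 rz h.yz) (y1 ra h.ya) (y2 h.uQ h.yu (.refl a) h.ae du' du) (y1 re h.ye)
    (y2 h.wQ h.yw h.ae.symm (.refl e) dw dw')
  refine ⟨r, h, r2, rz, ra, re, eq_inv_of_mul_eq_one_right (fix_one h.z3 rz y3 (comm_of_conj ?_)), tr⟩
  rw [← conj_mul, conj_conj_aux', r2, ← conj_of_comm (com_zp h.yz y3).inv_left]
  group

theorem exists_c0 (gz : Commute g z) (gK : g ∉ K) :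
    ∃ c, c * c = 1 ∧ Commute c z ∧ Commute c t ∧ π c = 1 ∧ c ∉ K := by
  obtain ⟨k, kK, b⟩ := h.surj _ (h.det gz.inv_left)
  have c := gz.mul_left (h.Kz kK)
  obtain ⟨l, lQ, st⟩ := h.fr_t (h.nz c)
  have d := (h.cz lQ).mul_left c
  have f : π (l * (g * k)) = 1 := by
    rw [h.mul (h.cz lQ) c, (h.ker (h.QK lQ)).2 lQ, h.mul gz (h.Kz kK), b, ← h.mul gz gz.inv_left]
    simp [h.one]
  have n : l * (g * k) ∉ K := by rwa [mul_mem_cancel_left (h.QK lQ), mul_mem_cancel_right kK]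
  generalize l * (g * k) = s at *
  have m : s * s ∈ K := by simpa [n] using h.idx d d
  refine ⟨s ^ 3, by
    rw [← (Commute.refl s).mul_pow, h.ex ((h.ker m).1 (by rw [h.mul d d, f, mul_one]))], d.pow_left 3,
    st.pow_left 3, by rw [h.pow d, f, one_pow], fun i => n ?_⟩
  rwa [pow_succ, pow_two, mul_mem_cancel_left m] at i

omit [Finite G] in
theorem dQ (cz : Commute c z) (cp : π c = 1 ∨ π c = -1) (c2 : c * c = 1) :
    y⁻¹ * (c * y * c⁻¹) ∈ Q := h.eq_of h.yK (h.cjK (h.nz cz) h.yK) (by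
  rw [inv_self c2, h.mul (cz.mul_left h.yz) cz, h.mul cz h.yz]
  rcases cp with b | b <;> simp [b])

omit [Finite G] in
theorem yc (cz : Commute c z) (cp : π c = 1 ∨ π c = -1) (c2 : c * c = 1) (hp : p ∈ Q)
    (b : Commute y p) : ⁅y, c * p * c⁻¹⁆ ∈ zpowers z := by
  have m := h.cj (h.nz cz) hp
  have := h.cm (h.dQ cz cp c2) (inv_mem m)
  have d := conj_of_comm (Commute.cj b c)
  convert conj_mem_of_mem_normalizer (h.nz (h.yz.mul_left (h.cz m))) this using 1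
  generalize c * p * c⁻¹ = q, c * y * c⁻¹ = x at *
  rw [commutatorElement_def, commutatorElement_def, show y⁻¹ * x * q⁻¹ * (y⁻¹ * x)⁻¹ =
    y⁻¹ * (x * q * x⁻¹)⁻¹ * y by group, d]
  group

theorem exists_c1 (gz : Commute g z) (gK : g ∉ K) : ∃ c, c * c = 1 ∧ Commute c z ∧ Commute c t ∧
    (π c = 1 ∨ π c = -1) ∧ c ∉ K ∧ Commute c a := by
  obtain ⟨c, c2, cz, ct, cp, cK⟩ := h.exists_c0 gz gK
  have m := h.cj (h.nz cz) h.aQ
  have i := cj_inv ct.symm h.ta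
  obtain ⟨α, b, d⟩ := h.two1 m (by simp [i]) ((cm_of h.yu (h.cz m)).1
    (h.cm1 h.yz m (h.yc cz (Or.inl cp) c2 h.aQ h.ya) h.uQ).symm)
  have f := h.uq h.tz (inv_mem m) (by rw [← conj_inv, i]) (inv_zp h.ta b) (by simpa using d)
  rcases (mem_zpowers_three (h.ex h.aQ)).1 b with rfl | rfl | rfl
  · exact absurd (conj_eq_one_iff.1 (inv_eq_one.1 f) ▸ one_mem _) h.aZ
  · refine ⟨c * t, by rw [ct.symm.mul_mul_mul_comm, c2, h.t2, one_mul], cz.mul_left h.tz,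
      ct.mul_left (.refl t), Or.inr (by rw [h.mul cz h.tz, cp, h.tp, one_mul]),
      by rwa [mul_mem_cancel_right h.tK], comm_of_conj ?_⟩
    rw [← conj_conj_aux', h.ta, ← conj_inv, f]
  · exact ⟨c, c2, cz, ct, Or.inl cp, cK, comm_of_conj (inv_injective f)⟩

end Fr

theorem Fr2.exists_c (h : Fr2 z Q K π t a e u w y r) (gz : Commute g z) (gK : g ∉ K) :
    ∃ y r c, Fr2 z Q K π t a e u w y r ∧ Oc z Q π t a y r c := by
  obtain ⟨c, c2, cz, ct, cp, cK, ca⟩ := h.exists_c1 gz gK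
  have cN := h.nz cz
  have rN := (mem_norm_three h.z3 h.z1).2 (Or.inr h.rz)
  have cop : ∀ {x}, x ∈ Q → Commute c ⁅c, x⁆ → Commute c x := fun {x} b d => Commute.inv_right_iff.1
    (Ey.cop (k := 1) (by rw [pow_one, pow_two, c2]) (h.ex (inv_mem (Sec.comm_mem h.sh cN b)))
      (by simp [commutatorElement_def, mul_assoc]) d.inv_right)
  have c1 : ∀ {x}, x ∈ Q → t * x * t⁻¹ = x⁻¹ → Commute c x := fun {x} b i => by
    have m := Sec.comm_mem h.sh cN b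
    obtain ⟨α, k, d⟩ := h.two1 m (by
      convert h.cm (h.cj cN b) (inv_mem b) using 1
      rw [commutatorElement_def c, ← conj_mul, cj_inv ct.symm i, ← conj_inv (b := t), i,
        commutatorElement_def]
      group) (h.cm1 cz h.aQ (by simp [ca.commutator_eq]) b)
    exact cop b (by simpa using (com_zp cz d).mul_right (com_zp ca k).inv_right)
  have tc : ∀ {x}, Commute t x → Commute t (c * x * c⁻¹) := fun b =>
    (ct.symm.mul_right b).mul_right ct.symm.inv_right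
  have m := h.cj cN h.eQ
  have ce : e * (c * e * c⁻¹) ∈ zpowers z := by
    obtain ⟨β, b, d⟩ := h.two2 m (tc h.te) ((cm_of h.yw (h.cz m)).1
      (h.cm1 h.yz m (h.yc cz cp c2 h.eQ h.ye) h.wQ).symm)
    rcases (mem_zpowers_three (h.ex h.eQ)).1 b with rfl | rfl | rfl
    · exact absurd (by simpa [mul_assoc] using inv_conj_mem_of_mem_normalizer cN d) h.eZ
    · simpa [mul_assoc] using conj_mem_of_mem_normalizer (h.nz (h.cz h.eQ)) d
    have ce := h.fixZ (k := 1) (by rw [pow_one, pow_two, c2]) cz d (h.cz h.eQ)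
    refine absurd (h.QK (h.ZQ (h.cQ4 cz ca (c1 h.uQ h.tu) ce (cop h.wQ (h.max_c
      (Sec.comm_mem h.sh cN h.wQ) ?_ (h.cm1 cz h.eQ d h.wQ) cz ca ce))))) cK
    exact h.cm1 cz h.aQ (by simp [ca.commutator_eq]) h.wQ
  have ci : ∀ q ∈ Q, Commute t q → q * (c * q * c⁻¹) ∈ zpowers z := fun q b d => by
    have m' := mul_mem b (h.cj cN b)
    obtain ⟨β, k, l⟩ := h.two2 m' (d.mul_right (tc d)) (h.cm2 cz h.eQ ce b)
    have βQ := zpowers_le.2 h.eQ k
    have s1 : Sec.rep h.sh ⟨c, cN⟩ (Sec.pr _ β) = -Sec.pr _ β := by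
      have := (h.rneg cN h.eQ).2 ce
      rcases (mem_zpowers_three (h.ex h.eQ)).1 k with rfl | rfl | rfl
      exacts [by simp [Sec.pr_one], this, by rw [Sec.pr_inv _ h.eQ, map_neg, this]]
    have s2 := (Sec.pr_eq_zero h.sh (mul_mem m' βQ)).2 l
    rw [Sec.pr_mul _ m' βQ, Sec.pr_mul _ b (h.cj cN b), ← Sec.rep_pr' _ cN b] at s2
    have s3 := congrArg (Sec.rep h.sh ⟨c, cN⟩) s2
    rw [map_add, map_add, s1, h.rmu, h.rq (g := ⟨c, cN⟩ * ⟨c, cN⟩) (c2.symm ▸ one_mem Q :), map_zero] at s3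
    rw [← h.rneg cN b, eq_neg_iff_add_eq_zero, ← neg_eq_zero, ← add_zero 0]
    nth_rw 1 [← s2]
    rw [← s3, ← sub_eq_zero, ← h.w3 (-(Sec.rep h.sh ⟨c, cN⟩ (Sec.pr _ q) + Sec.pr _ q))]
    abel
  have dQ := h.dQ cz cp c2
  have da : Commute (y⁻¹ * (c * y * c⁻¹)) a := h.ya.inv_left.mul_left ((ca.mul_left h.ya).mul_left ca.inv_left)
  have de : Commute (y⁻¹ * (c * y * c⁻¹)) e := h.ye.inv_left.mul_left
    ((cm_of (q := (c * e * c⁻¹)⁻¹) (by simpa only [inv_inv] using ce)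
      ((cz.mul_left h.yz).mul_left cz.inv_left)).2 (Commute.cj h.ye c).inv_right)
  have cy := fixc c2 (h.ex dQ)
  have yd := h.max_c dQ da de h.yz h.ya h.ye
  have rd := h.max_i dQ da de h.rz h.ra h.re
  have td := h.ty.inv_right.mul_right (tc h.ty)
  generalize y⁻¹ * (c * y * c⁻¹) = d at *
  have yy : ∀ {x p}, x ∈ Q → ⁅y, x⁆ * p ∈ zpowers z → ⁅y * d⁻¹, x⁆ * p ∈ zpowers z := fun {x p} b k => by
    rw [show ⁅y * d⁻¹, x⁆ * p = y * ⁅d⁻¹, x⁆ * y⁻¹ * (⁅y, x⁆ * p) by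
      simp only [commutatorElement_def]; group]
    exact mul_mem (conj_mem_of_mem_normalizer (h.nz h.yz) (h.cm (inv_mem dQ) b)) k
  have ry : r * (y * d⁻¹) * r⁻¹ = (y * d⁻¹)⁻¹ := by
    rw [← conj_mul, ← conj_inv, h.ry, rd, ← mul_inv_rev, yd.inv_right.eq]
  have h' : Fr z Q K π t a e u w (y * d⁻¹) := { h.toFr with
    yK := mul_mem h.yK (inv_mem (h.QK dQ))
    y3 := by rw [yd.inv_right.mul_pow, h.y3, inv_pow, h.ex dQ]; simp
    ty := h.ty.mul_right td.inv_right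
    ya := h.ya.mul_left da.inv_left
    ye := h.ye.mul_left de.inv_left
    yu := yy h.uQ h.yu
    yw := yy h.wQ h.yw }
  generalize y * d⁻¹ = y' at *
  have k1 : ∀ {p}, r * p * r⁻¹ = p⁻¹ → Commute c p → Commute (c * (r * c * r⁻¹)) p := fun b d =>
    d.mul_left (by simpa only [b, Commute.inv_right_iff] using Commute.cj d r)
  have k2 : ∀ {q}, q ∈ Q → Commute t q → ⁅c * (r * c * r⁻¹), q⁆ ∈ zpowers z := fun {q} b d => by
    have a1 := conj_mem_of_mem_normalizer rN (ci _ (inv_conj_mem_of_mem_normalizer (h.nQ rN) b)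
      ((h.tr.inv_right.mul_right d).mul_right h.tr))
    have n := mul_mem (mul_mem rN cN) (inv_mem rN)
    refine (Sec.rep_pr_eq_iff h.sh (⟨c, cN⟩ * ⟨_, n⟩) b).1 ?_
    rw [← h.rmu, (h.rneg n b).2 (by simpa [mul_assoc] using a1), map_neg, (h.rneg cN b).2 (ci q b d),
      neg_neg]
  obtain ⟨k, ⟨⟨⟨kQ, kt⟩, ky⟩, ka⟩, kc⟩ := frat2 (K := Q ⊓ centralizer {t} ⊓ centralizer {y'} ⊓
    centralizer {a}) (g := r) h.pQ.to_inf_left.to_inf_left.to_inf_left c2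
    ⟨⟨⟨h.inner4 (k1 h.rz cz) (by simp [(k1 h.ra ca).commutator_eq]) (by
      have := Commute.cj (c1 (inv_conj_mem_of_mem_normalizer (h.nQ rN) h.uQ) (by
        simpa only [inv_inv] using cj_inv h.tr.inv_right h.tu)) r
      simp [((c1 h.uQ h.tu).mul_left (by simpa [mul_assoc] using this :
        Commute (r * c * r⁻¹) u)).commutator_eq]) (k2 h.eQ h.te) (k2 h.wQ h.tw),
      mem_cent.2 (ct.mul_left ((h.tr.symm.mul_left ct).mul_left h.tr.symm.inv_left))⟩,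
      mem_cent.2 (k1 ry cy)⟩, mem_cent.2 (k1 h.ra ca)⟩
  replace kt := mem_cent.1 kt
  replace ky := mem_cent.1 ky
  replace ka := mem_cent.1 ka
  have ke := (cm_of h'.yw (h.cz kQ)).1 (h.cm1 h'.yz kQ (by simp [ky.symm.commutator_eq]) h.wQ).symm
  have rk := h.max_i kQ ka ke h.rz h.ra h.re
  have k3 : ∀ {p}, r * p * r⁻¹ = p⁻¹ → Commute k p → k * r * p * (k * r)⁻¹ = p⁻¹ := fun b d => by
    rw [← conj_conj_aux', b, conj_of_comm d.inv_right]
  refine ⟨y', k * r, c, ⟨h', ?_, k3 h.rz (h.cz kQ), k3 h.ra ka, k3 h.re ke, k3 ry ky,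
    kt.symm.mul_right h.tr⟩, c2, cz, ct, ca, cy, kc.symm, cp, ci⟩
  rw [mul_assoc, ← mul_assoc r, eq_mul_of_mul_inv_eq rk, mul_assoc, h.r2, mul_one, mul_inv_cancel]

end Cfsg.Agent.O8T
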