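import Cfsg.Agent.Loc3.O8C0

/-! The generators `n` and `f`. -/

set_option autoImplicit false
set_option maxRecDepth 100000
set_option linter.unusedSectionVars false

namespace Cfsg.Agent.O8T

open Subgroup Cfsg Cfsg.Agent.PLocal Cfsg.Agent.PLocal.Amb Cfsg.Agent.Loc3
open Cfsg.Agent.G23.Am (M2 card_pow one_of_sq mem_of_sq le_of_three mf2)
open Cfsg.Agent.L43 (zp m1 m2 m3 k3 fixc fix_one)
open Cfsg.Agent.He5 (inv_self)
open scoped commutatorElement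

variable {G : Type*} [Group G] [Finite G] {z t a e u w y r c n f p q x : G} {Q K : Subgroup G}
  {π : G → M2}

theorem Fr.uniq (h : Fr z Q K π t a e u w y) (hp : p ∈ K) (hq : q ∈ K) (tp : Commute t p)
    (tq : Commute t q) (p4 : p ^ 4 = 1) (q4 : q ^ 4 = 1) (f : π p = π q) : p = q := by
  have m := h.eq_of hp hq f
  have c := h.al h.tK h.tp h.t2 hp p4 tp m (tp.inv_right.mul_right tq)
  rw [← mul_inv_cancel_left p q, c.mul_pow, p4, pow_succ, h.ex m, one_mul, one_mul] at q4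
  exact inv_mul_eq_one.1 q4

theorem Fr.cube (h : Fr z Q K π t a e u w y) (hn : n ∈ K) (n2 : n * n = t)
    (hx : x ∈ K) (x3 : x ^ 3 = 1) (xz : Commute t x) (f : (π x * π n) ^ 3 = 1) :
    (x * n) ^ 3 = 1 := by
  have ht := h.tK
  have p3 : π x ^ 3 = 1 := by rw [← h.pow (h.Kz hx), x3, h.one]
  obtain ⟨f1, f2⟩ := mf2 _ (by rw [← h.mulK hn hn, n2, h.tp]) _ p3 f
  have xi := inv_eq_sq x3
  have sq := fun {w} => Ey.sq4 (w := w) h.t2
  have cj : ∀ g, Commute t g → g * n * g⁻¹ * (g * n * g⁻¹) = t := fun g a => by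
    rw [conj_mul, n2, conj_of_comm a.symm]
  have a1 := cj x xz
  have a2 := cj x⁻¹ xz.inv_right
  have m1 := mul_mem (mul_mem hx hn) (inv_mem hx)
  have m2 := mul_mem (mul_mem (inv_mem hx) hn) (inv_mem (inv_mem hx))
  have p1 : π (x * n * x⁻¹) = π x * π n * (π x * π x) := by
    rw [h.mulK (mul_mem hx hn) (inv_mem hx), h.mulK hx hn, h.pinv (h.Kz hx) x3]
  have p2 : π (x⁻¹ * n * x⁻¹⁻¹) = π x * π x * π n * π x := by
    rw [inv_inv, h.mulK (mul_mem (inv_mem hx) hn) hx, h.mulK (inv_mem hx) hn, h.pinv (h.Kz hx) x3]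
  have u : (x * n) ^ 3 = x * n * x⁻¹ * (x⁻¹ * n * x⁻¹⁻¹) * n := by
    rw [inv_inv, mul_assoc (x * n), ← mul_assoc x⁻¹, ← mul_assoc x⁻¹,
      show x⁻¹ * x⁻¹ = x by rw [← mul_inv_rev, ← xi, inv_inv]]
    simp [pow_succ, mul_assoc]
  generalize x * n * x⁻¹ = r at *
  generalize x⁻¹ * n * x⁻¹⁻¹ = s at *
  have u1 : r⁻¹ = s * r * s⁻¹ := h.uniq (inv_mem m1) (mul_mem (mul_mem m2 m1) (inv_mem m2))
    (sq a1).2.2.inv_right (((sq a2).2.2.mul_right (sq a1).2.2).mul_right (sq a2).2.2.inv_right)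
    (by rw [inv_pow, (sq a1).2.1, inv_one]) (by rw [conj_pow, (sq a1).2.1]; simp)
    (by rw [(sq a1).1, (sq a2).1, h.mulK ht m1, h.mulK (mul_mem m2 m1) (mul_mem ht m2), h.mulK m2 m1,
      h.mulK ht m2, h.tp, p1, p2, f1])
  have u2 : r * s * (r * s) = t := by
    rw [← a2, show r * s * (r * s) = r * (s * r * s⁻¹) * (s * s) by group, ← u1, mul_inv_cancel, one_mul]
  rw [u, ← h.uniq (inv_mem hn) (mul_mem m1 m2) (sq n2).2.2.inv_right (sq u2).2.2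
    (by rw [inv_pow, (sq n2).2.1, inv_one]) (sq u2).2.1
    (by rw [(sq n2).1, h.mulK ht hn, h.mulK m1 m2, h.tp, p1, p2, f2]), inv_mul_cancel]

theorem Fr2.rN (h : Fr2 z Q K π t a e u w y r) : r ∈ 𝐍[zpowers z] :=
  mem_normalizer_of_cj_le (cj_le_iff_forall.2 fun _ k => inv_zp h.rz k ▸ inv_mem k)

theorem Fr2.exn (h : Fr2 z Q K π t a e u w y r) :
    ∃ n ∈ K, n * n = t ∧ (y * n) ^ 3 = 1 ∧ r * n * r⁻¹ = n⁻¹ := by
  have hy := h.yK
  have y3 := h.y3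
  have t2 := h.t2
  have sq := fun {w} => Ey.sq4 (w := w) h.t2
  obtain ⟨m, a, b, c, d⟩ := m3 _ (h.det h.yz) (by rw [← h.pow h.yz, y3, h.one]) (mt (h.ker hy).1 fun k =>
    h.aZ (inv_mem_iff.1 ((mul_mem_cancel_left (h.cm k h.uQ)).1 h.yu)))
  have m4 : m ^ 4 = 1 := by rw [show 4 = 2 * 2 from rfl, pow_mul, pow_two, pow_two, b]; simp
  obtain ⟨g, hg, gz, rfl⟩ := h.lift h.tK h.tp t2 a
  have g4 := h.ex ((h.ker (pow_mem hg 4)).1 (by rw [h.pow (h.Kz hg), m4]))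
  have n4 : (g ^ 9) ^ 4 = 1 := by
    rw [← pow_mul, show 9 * 4 = 4 * 3 * 3 from rfl, pow_mul, pow_mul, g4, one_pow]
  have pn : π (g ^ 9) = π g := by
    rw [h.pow (h.Kz hg), show 9 = 4 * 2 + 1 from rfl, pow_succ, pow_mul, m4, one_pow, one_mul]
  have hi := pow_mem hg 9
  have it := gz.symm.pow_right 9
  rw [← pn] at b c d
  generalize g ^ 9 = i at *
  have i2 : i * i = t := (h.uniq h.tK (mul_mem hi hi) (Commute.refl t) (it.mul_right it)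
    (by rw [show 4 = 2 * 2 from rfl, pow_mul, pow_two t, t2, one_pow])
    (by rw [(Commute.refl i).mul_pow, n4, mul_one]) (by rw [h.mulK hi hi, b, h.tp])).symm
  have i3 := h.cube hi i2 hy y3 h.ty c
  have j1 : r * i⁻¹ * r⁻¹ ∈ K := h.cjK h.rN (inv_mem hi)
  have j2 : r * i⁻¹ * r⁻¹ * (r * i⁻¹ * r⁻¹) = t := by
    rw [conj_mul, ← mul_inv_rev, i2, inv_self t2, conj_of_comm h.tr.symm]
  have j3 : (y * (r * i⁻¹ * r⁻¹)) ^ 3 = 1 := by
    rw [← inv_inv y, ← h.ry, conj_inv, conj_mul, conj_pow, ← mul_inv_rev, inv_pow,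
      show i * y = y⁻¹ * (y * i) * y⁻¹⁻¹ by group, conj_pow, i3]
    simp
  have k : ∀ u, Commute u y → u ∈ K → Commute t u → r * u * r⁻¹ = u⁻¹ → u ^ 3 = 1 →
      π (r * i⁻¹ * r⁻¹) = π u * π i * (π u * π u) →
      ∃ n ∈ K, n * n = t ∧ (y * n) ^ 3 = 1 ∧ r * n * r⁻¹ = n⁻¹ := fun u a b c d u3 f => by
    have o := h.uniq j1 (mul_mem (mul_mem b hi) (inv_mem b)) (sq j2).2.2
      ((c.mul_right it).mul_right c.inv_right) (sq j2).2.1 (by rw [conj_pow, n4]; simp)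
      (by rw [f, h.mulK (mul_mem b hi) (inv_mem b), h.mulK b hi, h.pinv (h.Kz b) u3])
    refine ⟨u⁻¹ * i * u⁻¹⁻¹, mul_mem (mul_mem (inv_mem b) hi) (inv_mem (inv_mem b)), by
      rw [conj_mul, i2, conj_of_comm c.symm.inv_left], by
      rw [← conj_of_comm a.inv_left, conj_mul, conj_pow, i3]; simp, ?_⟩
    rw [← conj_mul, ← conj_mul, ← conj_inv, ← conj_inv, ← conj_inv, d, ← inv_inv (r * i * r⁻¹),
      conj_inv, o, inv_inv, ← mul_inv_eq_one, inv_inv,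
      show u * (u * i * u⁻¹)⁻¹ * u⁻¹ * (u⁻¹ * i * u) = u * (u * (i⁻¹ * (u ^ 3)⁻¹ * i) * u) by group, u3]
    simpa [pow_succ, mul_assoc] using u3
  rcases d _ (by rw [← h.mulK j1 j1, j2, h.tp]) (by
    rw [← h.mulK hy j1, ← h.pow (h.Kz (mul_mem hy j1)), j3, h.one]) with f | f | f
  · exact k 1 (by simp) (one_mem _) (by simp) (by simp) (by simp) (by simp [f, h.one])
  · exact k y (Commute.refl y) hy h.ty h.ry y3 f
  · exact k y⁻¹ (Commute.refl y).inv_left (inv_mem hy) h.ty.inv_right (by rw [← conj_inv, h.ry])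
      (by rw [inv_pow, y3, inv_one]) (by
        rw [f, ← h.mulK (inv_mem hy) (inv_mem hy), ← mul_inv_rev, ← inv_eq_sq y3, inv_inv, h.pinv h.yz y3])

theorem Fr2.exists_Gn (h : Fr2 z Q K π t a e u w y r) : ∃ n f, Gn z Q K π t a e u w y r n f := by
  obtain ⟨n, hn, n2, n3, rn⟩ := h.exn
  obtain ⟨ω, o1, o2, o3⟩ := h.exists_om
  have aQ := h.aQ
  have eQ := h.eQ
  have bQ := h.cj (h.nk hn) aQ
  have nb : n * (n * a * n⁻¹) * n⁻¹ = a⁻¹ := by rw [← h.ta, ← n2]; group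
  have tb : t * (n * a * n⁻¹) * t⁻¹ = (n * a * n⁻¹)⁻¹ := by
    rw [← conj_mul, ← conj_mul, ← conj_inv, conj_of_comm (Ey.sq4 h.t2 n2).2.2, h.ta, conj_inv]
  have νa := Sec.rep_pr' h.sh (h.nk hn) aQ
  have c3 : ∀ x, Sec.rep h.sh (⟨y, h.nk h.yK⟩ * (⟨n, h.nk hn⟩ * (⟨y, h.nk h.yK⟩ * (⟨n, h.nk hn⟩ *
      (⟨y, h.nk h.yK⟩ * ⟨n, h.nk hn⟩))))) x = x := fun x => h.rq (by
    simp only [pow_succ, pow_zero, one_mul, mul_assoc] at n3
    simp [n3]) x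
  simp only [← h.rmu] at c3
  generalize eb : n * a * n⁻¹ = b at *
  have νb := Sec.rep_pr' h.sh (h.nk hn) bQ
  rw [nb, Sec.pr_inv _ aQ] at νb
  have σs := fun {x} => Sec.rep_pr_sub h.sh ⟨y, h.nk h.yK⟩ (x := x)
  have σo := fun x y' => o2 ⟨y, h.nk h.yK⟩ x y' h.yz
  have σp := fun {x} => Sec.rep_pr' h.sh (h.nk h.yK) (x := x)
  have cQ := fun {x} => Sec.comm_mem h.sh (h.nk h.yK) (x := x)
  generalize Sec.rep h.sh ⟨y, h.nk h.yK⟩ = σ, Sec.rep h.sh ⟨n, h.nk hn⟩ = ν at *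
  have σa : σ (Sec.pr _ a) = Sec.pr _ a := by rw [σp aQ, conj_of_comm h.ya]
  have σd : ∀ {x v}, x ∈ Q → v ∈ Q → ⁅y, x⁆ * v⁻¹ ∈ zpowers z → σ (Sec.pr _ x) = Sec.pr _ x + Sec.pr _ v :=
    fun hx hv k => by
      rw [← Sec.pr_eq_zero h.sh (mul_mem (cQ hx) (inv_mem hv)), Sec.pr_mul _ (cQ hx) (inv_mem hv), ← σs hx,
        Sec.pr_inv _ hv] at k
      rw [← sub_eq_zero, ← k]; abel
  have a0 : Sec.pr h.sh a ≠ -Sec.pr h.sh a := fun k => h.aZ ((Sec.pr_eq_zero h.sh aQ).1 (by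
    rw [← h.w3 (Sec.pr h.sh a), succ_nsmul, two_nsmul]; nth_rw 2 [k]; simp))
  obtain ⟨α, hα, k⟩ := h.two1 (cQ bQ) (by
    rw [conjugate_commutatorElement, tb, conj_of_comm h.ty, ← Sec.pr_eq_zero h.sh (mul_mem (cQ bQ)
      (cQ (inv_mem bQ))), Sec.pr_mul _ (cQ bQ) (cQ (inv_mem bQ)), ← σs bQ, ← σs (inv_mem bQ), Sec.pr_inv _ bQ,
      map_neg]; abel) (by
    rw [← o1 (cQ bQ) aQ, ← σs bQ, map_sub, AddMonoidHom.sub_apply, ← σo (Sec.pr _ b), σa, sub_self])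
  have σb := σd bQ (inv_mem (zpowers_le.2 aQ hα)) (by rwa [inv_inv])
  have c3 := c3 (Sec.pr _ a)
  obtain rfl : α = a := by
    rcases (mem_zpowers_three (h.ex aQ)).1 hα with rfl | rfl | rfl
    · rw [inv_one, Sec.pr_one, add_zero] at σb
      simp only [νa, σb, νb, map_neg, σa] at c3
      have := congrArg ν c3
      rw [map_neg, νb, neg_neg, νa] at this
      exact absurd (c3.symm.trans (by rw [this])) a0
    · rfl
    · rw [inv_inv] at σb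
      simp only [νa, σb, νb, map_neg, σa, map_add, neg_add_cancel_comm_assoc] at c3
      exact absurd c3.symm a0
  rw [Sec.pr_inv _ aQ] at σb
  have oc : ∀ {p q}, p ∈ Q → q ∈ Q → Commute p q → ω (Sec.pr _ p) (Sec.pr _ q) = 0 := fun p q => (o1 p q).2
  have ab : ω (Sec.pr _ α) (Sec.pr _ b) = ω (Sec.pr _ u) (Sec.pr _ α) := by
    have := σo (Sec.pr _ u) (Sec.pr _ b)
    simp only [σd h.uQ aQ h.yu, σb, map_add, map_neg, AddMonoidHom.add_apply, oc aQ aQ (.refl _)] at this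
    linear_combination this
  have dQ := mul_mem (inv_mem h.wQ) (h.cj h.rN h.wQ)
  have td := h.tw.inv_right.mul_right ((h.tr.mul_right h.tw).mul_right h.tr.inv_right)
  obtain ⟨β, hβ, k⟩ := h.two2 dQ td (by
    have := o3 ⟨r, h.rN⟩ (Sec.pr _ w) (Sec.pr _ e) h.rz
    rw [Sec.rep_pr' _ _ h.wQ, Sec.rep_pr' _ _ eQ, h.re, Sec.pr_inv _ eQ, map_neg, neg_inj] at this
    rw [← o1 dQ eQ, Sec.pr_mul _ (inv_mem h.wQ) (h.cj h.rN h.wQ), Sec.pr_inv _ h.wQ, map_add,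
      AddMonoidHom.add_apply, this]
    simp)
  have βQ := zpowers_le.2 eQ hβ
  have rf := fixc h.r2 (h.ex dQ)
  have tf := h.tw.mul_right td.inv_right
  have fQ := mul_mem h.wQ (inv_mem dQ)
  have pf : Sec.pr h.sh (w * (w⁻¹ * (r * w * r⁻¹))⁻¹) = Sec.pr _ w + Sec.pr _ β := by
    rw [← Sec.pr_eq_zero h.sh (mul_mem dQ βQ), Sec.pr_mul _ dQ βQ, add_eq_zero_iff_neg_eq] at k
    rw [Sec.pr_mul _ h.wQ (inv_mem dQ), Sec.pr_inv _ dQ, k]
  generalize w * (w⁻¹ * (r * w * r⁻¹))⁻¹ = f at *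
  have VQ := mul_mem (inv_mem fQ) (h.cj (h.nk h.yK) fQ)
  have pV : Sec.pr h.sh (f⁻¹ * (y * f * y⁻¹)) = Sec.pr _ e := by
    rw [Sec.pr_mul _ (inv_mem fQ) (h.cj (h.nk h.yK) fQ), Sec.pr_inv _ fQ, ← σp fQ, pf, map_add,
      σd h.wQ eQ h.yw, σp βQ, conj_of_comm (com_zp h.ye hβ)]
    abel
  have tV := tf.inv_right.mul_right ((h.ty.mul_right tf).mul_right h.ty.inv_right)
  simp only [← mul_assoc] at VQ pV tV
  refine ⟨n, f, h, hn, n2, n3, rn, fQ, tf, rf, eb ▸ h.uq h.tz (h.cj (h.nk h.yK) bQ) (by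
      rw [← conj_mul, ← conj_mul, ← conj_inv, conj_of_comm h.ty, tb, conj_inv])
    (by rw [← conj_mul, ← conj_mul, tb, h.ta]; group) ?_, ?_,
    eb ▸ fun k => h.ua ((o1 h.uQ aQ).1 (ab ▸ oc aQ bQ k)), eb ▸ ?_⟩
  · rw [← Sec.pr_eq_pr h.sh (h.cj (h.nk h.yK) bQ) (mul_mem (mul_mem aQ bQ) aQ), ← σp bQ, σb,
      Sec.pr_mul _ (mul_mem aQ bQ) aQ, Sec.pr_mul _ aQ bQ, ← sub_eq_zero, ← h.w3 (-Sec.pr _ α)]
    abel
  · rw [← Sec.pr_eq_zero h.sh (mul_mem VQ (inv_mem eQ)), Sec.pr_mul _ VQ (inv_mem eQ), pV, Sec.pr_inv _ eQ,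
      add_neg_cancel]
  generalize f⁻¹ * y * f * y⁻¹ = V at *
  have fb := (h.c1 bQ fQ tb tf).symm
  have := oc (mul_mem h.uQ h.wQ) (mul_mem aQ eQ) h.uw
  have := (o1 (mul_mem fQ aQ) (mul_mem VQ bQ)).1 (by
    simp only [Sec.pr_mul _ h.uQ h.wQ, Sec.pr_mul _ aQ eQ, map_add, AddMonoidHom.add_apply,
      oc h.uQ eQ h.ue, oc h.wQ aQ h.aw.symm] at this
    rw [Sec.pr_mul _ fQ aQ, Sec.pr_mul _ VQ bQ, pV]
    simp only [map_add, AddMonoidHom.add_apply, oc fQ bQ fb, oc aQ eQ h.ae, ab]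
    rw [pf, map_add, AddMonoidHom.add_apply, oc βQ eQ (com_zp (.refl e) hβ).symm]
    linear_combination this)
  rw [← this.commutator_eq, h.cml fQ aQ (mul_mem VQ bQ), commutatorElement_mul_right_eq_mul_conj,
    commutatorElement_mul_right_eq_mul_conj, fb.commutator_eq, (h.c1 aQ VQ h.ta tV).commutator_eq, one_mul,
    conj_of_comm (h.cZ' (h.cz VQ) (h.cm aQ bQ))]
  simp

theorem Gn.oc (h : Gn z Q K π t a e u w y r n f) (k : Oc z Q π t a y r c) :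
    Commute c n ∧ c * f * c⁻¹ = f⁻¹ := by
  obtain ⟨-, n4, tn⟩ := Ey.sq4 h.t2 h.n2
  refine ⟨comm_of_conj (h.uniq (h.cjK (h.nz k.cz) h.mn) h.mn ((k.ct.symm.mul_right tn).mul_right
    k.ct.symm.inv_right) tn (by rw [conj_pow, n4]; simp) n4 ?_), eq_inv_of_mul_eq_one_right
      (fix_one h.z3 h.rz (k.ci f h.fQ h.tf) (h.rf.mul_right
        ((k.cr.symm.mul_right h.rf).mul_right k.cr.symm.inv_right)))⟩
  rw [inv_self k.c2, h.mul (k.cz.mul_left (h.Kz h.mn)) k.cz, h.mul k.cz (h.Kz h.mn)]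
  rcases k.cp with e | e <;> simp [e]

end Cfsg.Agent.O8T
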