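import Cfsg.Agent.Loc3.PrW
import Cfsg.Agent.A9.Fin9

/-!
The case leading to `Sym(9)`.
-/

set_option autoImplicit false
set_option maxRecDepth 100000
set_option synthInstance.maxHeartbeats 400000
set_option synthInstance.maxSize 4000

namespace Cfsg.Agent.Loc3.Pr

open Subgroup Cfsg Cfsg.Agent.Comp Cfsg.Agent.X32.TG Cfsg.Agent.PLocal.Amb
open Cfsg.Agent.X32 (TG Tab)
open Equiv (Perm swap)

/-- the triple transposition -/
abbrev s6 : Perm (Fin 6) := swap 0 5 * swap 1 4 * swap 2 3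

theorem rel3 : ∀ R : Perm (Fin 3), R ^ 3 = 1 → ∀ S, S * R * S⁻¹ = R⁻¹ → ∀ E, Commute E S →
    E * E = 1 → Commute E (R⁻¹ * (S * E) * R) := pd!

theorem rel3' : ∀ R P : Perm (Fin 3), P * P = 1 → P * (R * P * R⁻¹) * (R⁻¹ * P * R) = 1 → P = 1 :=
  pd!

theorem rel6 : ∀ R : Perm (Fin 6), Commute R s6 → R ^ 3 = 1 → ∀ P, Commute P s6 → P * P = 1 →
    P * (R * P * R⁻¹) * (R⁻¹ * P * R) = s6 → P ≠ s6 → Commute P (R * P * R⁻¹) →
    ∀ S, S * R * S⁻¹ = R⁻¹ → S * P * S⁻¹ = R * P * R⁻¹ → Commute S s6 → ∀ E, Commute E P →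
      Commute E (R * P * R⁻¹) → Commute E s6 → Commute E S → Commute E (R⁻¹ * (S * E) * R) ∨
        R⁻¹ * (S * E) * R * E * (R⁻¹ * (S * E) * R)⁻¹ = E * P * (R⁻¹ * P * R) := pd!

theorem rel36 {R P S E : Perm (Fin 3) × Perm (Fin 6)} (r : Commute R (1, s6)) (r3 : R ^ 3 = 1)
    (p : Commute P (1, s6)) (p2 : P * P = 1) (pp : P * (R * P * R⁻¹) * (R⁻¹ * P * R) = (1, s6))
    (p1 : P ≠ (1, s6)) (pc : Commute P (R * P * R⁻¹)) (sr : S * R * S⁻¹ = R⁻¹)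
    (sp : S * P * S⁻¹ = R * P * R⁻¹) (ss : Commute S (1, s6)) (e2 : E * E = 1) (ep : Commute E P)
    (eq : Commute E (R * P * R⁻¹)) (es : Commute E (1, s6)) (eS : Commute E S) :
    Commute E (R⁻¹ * (S * E) * R) ∨ IsConj E (E * P * (R⁻¹ * P * R)) := by
  have a := rel3 R.1 (congrArg Prod.fst r3) S.1 (congrArg Prod.fst sr) E.1 (congrArg Prod.fst eS)
    (congrArg Prod.fst e2)
  have b := rel3' R.1 P.1 (congrArg Prod.fst p2) (congrArg Prod.fst pp)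
  refine (rel6 R.2 (congrArg Prod.snd r) (congrArg Prod.snd r3) P.2 (congrArg Prod.snd p)
    (congrArg Prod.snd p2) (congrArg Prod.snd pp) (fun c => p1 (Prod.ext b c)) (congrArg Prod.snd pc)
    S.2 (congrArg Prod.snd sr) (congrArg Prod.snd sp) (congrArg Prod.snd ss) E.2
    (congrArg Prod.snd ep) (congrArg Prod.snd eq) (congrArg Prod.snd es) (congrArg Prod.snd eS)).imp
    (fun c => Prod.ext a c) fun c => isConj_iff.2 ⟨R⁻¹ * (S * E) * R, Prod.ext ?_ c⟩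
  exact (conj_of_comm a.symm).trans (by simp [b])

theorem s9_inv {σ : Perm (Fin 9)} (h : σ * σ = 1) : ∃ z, z ^ 3 = 1 ∧ z ≠ 1 ∧ Commute z σ := by
  have h2 : σ ^ 2 = 1 := by rwa [pow_two]
  have e2 := dvd_supp Nat.prime_two h2
  have e5 : σ.support.card ≤ 9 := (Finset.card_le_univ _).trans (by simp)
  have k : ∀ T z : Perm (Fin 9), ∀ n, σ.support.card = n → T ^ 2 = 1 ∧ T.support.card = n ∧ z ^ 3 = 1 ∧
      z ≠ 1 ∧ Commute z T → ∃ z, z ^ 3 = 1 ∧ z ≠ 1 ∧ Commute z σ := fun T z n a ⟨b, c, d, e, f⟩ => by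
    obtain ⟨g, rfl⟩ := isConj_iff.1 (isConj_of_supp Nat.prime_two b h2 (c.trans a.symm))
    exact ⟨_, by rw [conj_pow, d]; simp, by simpa using e, Commute.cj f g⟩
  rcases (by omega : σ.support.card = 0 ∨ σ.support.card = 2 ∨ σ.support.card = 4 ∨
    σ.support.card = 6 ∨ σ.support.card = 8) with a | a | a | a | a
  exacts [k 1 (swap 6 7 * swap 7 8) _ a pd!, k (swap 0 1) (swap 6 7 * swap 7 8) _ a pd!,
    k (swap 0 1 * swap 2 3) (swap 6 7 * swap 7 8) _ a pd!,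
    k (swap 0 1 * swap 2 3 * swap 4 5) (swap 6 7 * swap 7 8) _ a pd!,
    k (swap 0 1 * swap 2 3 * swap 4 5 * swap 6 7) (swap 0 2 * swap 2 4 * swap 1 3 * swap 3 5) _ a pd!]

variable {G : Type*} [Group G] [Finite G] {x : V →* G} {ρ s ν t g : G} {ψ : Perm (Fin 6) →* G}
  {Ψ : Perm (Fin 3) × Perm (Fin 6) →* G}

theorem SF.nconj (h : SF x ρ s) {w y : G} (c : Commute w y) (y3 : y ^ 3 = 1) (y1 : y ≠ 1)
    (hd : ∀ d, Commute d w → Commute d y → d * d * (d * d) ∈ zpowers y) : ¬ IsConj s w := fun a => by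
  obtain ⟨g, a⟩ := isConj_iff.1 a
  refine not_nine_of (mem_cent.2 c.symm) y3 y1 (fun d b c ⟨k, f⟩ => mem_of_sq f (mem_of_sq (n := k)
    (by rw [← pow_two, ← pow_mul, mul_comm, pow_mul, f, one_pow]) (hd d (mem_cent.1 b) c))) ?_
  rw [← a, centralizer_singleton_conj, card_cj, ← card_nine (xcube x (e 4)) (xcube x (e 9))
    (xcomm x _ _) (h.ne1 bd!) fun a => absurd (h.mem_zp_iff.1 a) bd!]
  exact card_dvd_of_le fun d a => mem_cent.2 (h.memD.1 a).2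

/-- the normaliser of the third coordinate is `Sym(3) × Sym(6)` -/
structure SY (x : V →* G) (ρ s ν t : G) (ψ : Perm (Fin 6) →* G)
    (Ψ : Perm (Fin 3) × Perm (Fin 6) →* G) : Prop extends SX x ρ s ν t ψ where
  ca : ∀ g, Commute g (x (e 13)) → g ∈ 𝐍[x.range]
  inΨ : Function.Injective Ψ
  g0 : Ψ (swap 0 1, 1) = ν * t * x (e 9)
  g1 : Ψ (swap 1 2, 1) = ν * t
  g2 : ∀ τ, Ψ (1, τ) = ψ τ

omit [Finite G] in
theorem SX.cr (h : SX x ρ s ν t ψ) (τ : Perm (Fin 6)) : Commute (ψ τ) (ν * t) := by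
  have c := h.comm h.a1 h.a3 h.tr1 h.t3 bd!
  have d := h.comm h.a2 h.a3 h.tr2 h.t3 bd!
  refine mem_cent.1 (closure_eq (centralizer {ν * t}) ▸ TT.perm_hom_mem_closure (n := 5) ψ
    (fun i => mem_cent.2 ?_) τ)
  fin_cases i
  exacts [h.f0 ▸ c.mul_left (h.a3.comm bd!).symm, h.f1 ▸ c, h.c3.symm, h.f3 ▸ d,
    h.f4 ▸ d.mul_left (h.a3.comm bd!).symm]

omit [Finite G] in
theorem SX.exists_SY (h : SX x ρ s ν t ψ) (ca : ∀ g, Commute g (x (e 13)) → g ∈ 𝐍[x.range]) :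
    ∃ Ψ, SY x ρ s ν t ψ Ψ := by
  have p2 := sq_of_inv h.q3 (h.a3.inverts (v := e 9) bd!)
  obtain ⟨σ, hσ⟩ := KSG.exists_hom_perm_of_rels (n := 2) ![ν * t * x (e 9), ν * t]
    (fun i => by fin_cases i; exacts [p2, h.q3])
    (fun i j a => by fin_cases i <;> fin_cases j <;> exact absurd a (by decide))
    (fun i j a => by
      fin_cases i <;> fin_cases j <;> (try exact absurd a (by decide))
      exact braid_of (a := ν * t * x (e 9)) (b := ν * t) p2 h.q3 (by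
        nth_rw 2 [← inv_eq_of_mul_eq_one_right h.q3]; rw [conj_pow, xcube]; simp))
  have c : ∀ a τ, Commute (σ a) (ψ τ) := fun a τ => mem_cent.1 (closure_eq (centralizer {ψ τ}) ▸
    TT.perm_hom_mem_closure (n := 2) σ (fun i => by
      rw [hσ]; refine mem_cent.2 ?_
      fin_cases i; exacts [(h.cr τ).symm.mul_left (h.cψ τ).symm, (h.cr τ).symm]) a)
  refine ⟨σ.noncommCoprod ψ c, h, ca, (injective_iff_map_eq_one _).2 ?_, by simpa using hσ 0,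
    by simpa using hσ 1, by simp⟩
  rintro ⟨a, τ⟩ b
  replace b : σ a = ψ τ⁻¹ := by simpa [eq_inv_iff_mul_eq_one] using b
  obtain rfl := (pd! : ∀ τ : Perm (Fin 6), Commute τ⁻¹ (swap 0 1 * s6) → Commute τ⁻¹ (swap 1 2 * s6) →
    Commute τ⁻¹ (swap 1 2) → τ = 1) τ (Commute.of_map h.inψ (b ▸ c a _))
      (Commute.of_map h.inψ (b ▸ c a _)) (Commute.of_map h.inψ (b ▸ c a _))
  obtain rfl | ⟨g, d⟩ := (pd! : ∀ a : Perm (Fin 3), a = 1 ∨ ∃ g,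
    IsConj (a * (g * a * g⁻¹)) (swap 1 2 * swap 0 1)) a
  · rfl
  have := σ.map_isConj d
  rw [map_mul, map_mul σ _ (swap 0 1), ← hcj rfl, b, show σ (swap 1 2) = ν * t from hσ 1,
    show σ (swap 0 1) = ν * t * _ from hσ 0, ← mul_assoc (ν * t), h.q3] at this
  exact absurd (Eq.symm (by simpa using this) : x (e 9) = 1) (h.ne1 bd!)

namespace SY
variable (h : SY x ρ s ν t ψ Ψ)
include h

theorem nf : NF x ρ s := ⟨h.toSF, h.ca⟩

theorem gam {Y : Subgroup G} (hN : 𝐍[x.range] ≤ Y) (k : H) : k ∈ Gam x Y :=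
  all_mem (Γ := Gam x Y) ⟨ρ, hN h.aρ.norm, h.aρ⟩ ⟨s, hN h.as.norm, h.as⟩ ⟨ν, hN h.n1.norm, h.n1⟩
    ⟨t, hN h.t1.norm, h.t1⟩ k

omit [Finite G] in
theorem gs : Ψ (1, s6) = s := (h.g2 _).trans h.fs

omit [Finite G] in
theorem nz (a : g * x (e 9) * g⁻¹ = x (e 9) ∨ g * x (e 9) * g⁻¹ = (x (e 9))⁻¹) : g ∈ Ψ.range := by
  have r : ν * t ∈ Ψ.range := ⟨_, h.g1⟩
  have c : ∀ g, Commute g (x (e 9)) → g ∈ Ψ.range := fun g a => by
    obtain ⟨τ, k, b, rfl⟩ := h.fac g a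
    exact mul_mem ⟨_, h.g2 τ⟩ (zpowers_le.2 ((mul_mem_cancel_left r).1 ⟨_, h.g0⟩) b)
  rcases a with a | a
  · exact c g (comm_of_conj a)
  · refine (mul_mem_cancel_left r).1 (c _ (comm_of_conj ?_))
    rw [show ∀ r, r * g * x (e 9) * (r * g)⁻¹ = r * (g * x (e 9) * g⁻¹) * r⁻¹ from fun r => by group,
      a, conj_inv', h.a3.inverts bd!, inv_inv]

theorem hs (a : Commute g s) : ∃ k, Ψ k = g ∧ Commute k (1, s6) := by
  have cM : ∀ v, ac (e 3) v = v → v ≠ 1 → (v = e 9 ∨ v = (e 9)⁻¹) ∨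
      ∀ g, Commute g (x v) → g ∈ 𝐍[x.range] := fun v a b => by
    refine ((bd! : ∀ v : V, ac (e 3) v = v → v ≠ 1 → (v = e 9 ∨ v = (e 9)⁻¹) ∨ ∃ k, v = ac k (e 4) ∨
      v = ac k (e 13)) v a b).imp_right ?_
    rintro ⟨k, rfl | rfl⟩
    exacts [cent_conj (h.gam le_rfl k) fun _ => h.cu, cent_conj (h.gam le_rfl k) h.ca]
  obtain ⟨O, c⟩ := h.exists_core fun v a b => by
    rcases cM v a b with (rfl | rfl) | d
    exacts [h.loc, map_inv x _ ▸ h.loc.inv, locG_of h.s2 (h.cs a).symm d]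
  obtain ⟨k, rfl⟩ : g ∈ Ψ.range := by
    obtain ⟨o, ho, n, hn, rfl⟩ := c.fac g a
    refine mul_mem (h.le_of c c.two (fun v a => c.nrm _ (h.cs a)) (fun k b v hv a => ?_) ho) ?_
    · obtain ⟨d, f, rfl | p⟩ := (bd! : ∀ v ∈ (es [4, 9, 13, 22] : List V), ac (e 3) v = v ∧ v ≠ 1 ∧
        (v = e 9 ∨ ¬ (v = e 9 ∨ v = (e 9)⁻¹))) v hv
      · exact h.nz (Or.inl (conj_of_comm a))
      rcases h.core_mem c.two c.le c.nrm b ((cM v d f).resolve_left p k a) with rfl | rfl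
      exacts [one_mem _, ⟨_, h.gs⟩]
    · obtain ⟨k, b⟩ := h.mon n hn
      exact h.nz (((bd! : ∀ k : H, Commute k (e 3) → ac k (e 9) = e 9 ∨ ac k (e 9) = (e 9)⁻¹) k
        (h.comm_act b (by simpa using (c.le o ho).inv_left.mul_left a))).imp b.cj b.inverts)
  exact ⟨k, rfl, Commute.of_map h.inΨ (h.gs ▸ a)⟩

theorem nr : ¬ IsConj s (ν * t) := fun a => by
  obtain ⟨g, a⟩ := isConj_iff.1 a
  obtain ⟨k, b, c⟩ := h.hs (comm_conj_iff.1 (a ▸ (h.cr (swap 0 1 * swap 1 2 * swap 2 3 *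
    swap 3 4)).symm)).symm
  have : k ^ 12 = 1 := Prod.ext ((pd! : ∀ a : Perm (Fin 3), a ^ 12 = 1) k.1)
    ((pd! : ∀ a : Perm (Fin 6), Commute a s6 → a ^ 12 = 1) k.2 (congrArg Prod.snd c))
  have := b ▸ hpow (ψ := Ψ) this
  rw [← inv_inv g, inv_inv g⁻¹, conj_pow, conj_eq_one_iff, ← map_pow, ← map_one ψ] at this
  exact absurd (h.inψ this) pd!

theorem nν : ¬ IsConj s ν := h.nconj (h.n1.comm (v := e 9) bd!) (xcube ..) (h.ne1 bd!) fun d a b => by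
  obtain ⟨τ, _, ⟨n, rfl⟩, rfl⟩ := h.fac d b
  have c := (h.cψ τ).zpow_right n
  have f : Commute τ (swap 1 2 * swap 3 4) := Commute.of_map h.inψ (by
    simpa [h.fn] using a.mul_left ((h.n1.comm (v := e 9) bd!).zpow_right n).symm.inv_left)
  rw [← pow_two, ← pow_two, ← pow_mul, c.mul_pow, hpow ((pd! : ∀ τ : Perm (Fin 6),
    Commute τ (swap 1 2 * swap 3 4) → τ ^ (2 * 2) = 1) τ f), one_mul]
  exact pow_mem (zpow_mem (mem_zpowers _) n) _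

theorem nsr : ¬ IsConj s (ν * t * s) :=
  have az := h.a3.mul h.as
  h.nconj (az.comm (v := e 4) bd!) (xcube ..) (h.ne1 bd!) fun d a b => by
    obtain ⟨l, p⟩ := h.mon d (h.cu b)
    obtain ⟨v, f⟩ := h.mem_of_act ((p.mul p).cong
      ((bd! : ∀ l : H, Commute l (e 24 * e 3) → l * l = 1) l (h.act_comm p az a)))
    have := mem_zp (x := x) ((bd! : ∀ v : V, ac (e 24 * e 3) v = v → v ∈ [1, e 4, (e 4)⁻¹]) v
      (az.fix h.inj (f ▸ (a.mul_left a).symm)))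
    exact f ▸ mul_mem this this

omit [Finite G] in
theorem ρ1 : ρ * ψ (swap 1 2) * ρ⁻¹ = ψ (swap 3 4) := by
  rw [h.f1, h.f3]
  exact h.eq_of (((h.aρ.mul h.a1).mul h.aρ.inv).cong bd!) h.a2
    ((h.tρ.mul_right h.tr1).mul_right h.tρ.inv_right) h.tr2

omit [Finite G] in
theorem ρ2 : ρ * ψ (swap 3 4) * ρ⁻¹ = ν * t := by
  rw [h.f3]
  exact h.eq_of (((h.aρ.mul h.a2).mul h.aρ.inv).cong bd!) h.a3
    ((h.tρ.mul_right h.tr2).mul_right h.tρ.inv_right) h.t3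

theorem st : IsConj s t := by_contra fun nt => by
  have := Fact.mk Nat.prime_two
  have m : ∀ {g}, g ∈ centralizer ({s, ψ (swap 2 3), ν * t} : Set G) ↔ ∃ k, Ψ k = g ∧
      Commute k.1 (swap 1 2) ∧ Commute k.2 s6 ∧ Commute k.2 (swap 2 3) := fun {g} => by
    simp only [mem_centralizer_iff, Set.mem_insert_iff, Set.mem_singleton_iff, forall_eq_or_imp,
      forall_eq]
    refine ⟨fun ⟨a, b, c⟩ => ?_, ?_⟩
    · obtain ⟨k, rfl, d⟩ := h.hs (g := g) a.symm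
      rw [← h.g1] at c
      rw [← h.g2] at b
      exact ⟨k, rfl, congrArg Prod.fst (Commute.of_map h.inΨ c.symm), congrArg Prod.snd d,
        congrArg Prod.snd (Commute.of_map h.inΨ b.symm)⟩
    · rintro ⟨k, rfl, a, b, c⟩
      rw [← h.g1, ← h.g2, ← h.gs]
      refine ⟨?_, ?_, ?_⟩ <;> refine (Commute.map (Prod.commute_iff.2 ⟨?_, ?_⟩) Ψ).symm.eq
      exacts [Commute.one_right _, b, Commute.one_right _, c, a, Commute.one_right _]
  generalize centralizer ({s, ψ (swap 2 3), ν * t} : Set G) = T at m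
  have z : ∀ {n y}, n ∈ 𝐍[T] → y ∈ T → T ≤ centralizer {y} → ∃ k, Ψ k = n * y * n⁻¹ ∧
      Commute k.1 (swap 1 2) ∧ Commute k.2 (swap 0 5) ∧ Commute k.2 (swap 0 1 * swap 4 5) ∧
        Commute k.2 (swap 2 3) := fun {n y} a b c => by
    obtain ⟨k, d, k1, k2, k3⟩ := m.1 (conj_mem_of_mem_normalizer a b)
    have f : ∀ τ, Commute τ s6 ∧ Commute τ (swap 2 3) → Commute k.2 τ := fun τ p =>
      congrArg Prod.snd (Commute.of_map h.inΨ (y := (1, τ)) (d ▸ comm_conj_iff.2 (mem_cent.1 (c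
        (inv_conj_mem_of_mem_normalizer a (m.2 ⟨(1, τ), rfl, Commute.one_left _, p⟩)))).symm))
    exact ⟨k, d, k1, f _ pd!, f _ pd!, k3⟩
  have c : ∀ {k}, (∀ l : Perm (Fin 3) × Perm (Fin 6), Commute l.1 (swap 1 2) ∧ Commute l.2 s6 ∧
      Commute l.2 (swap 2 3) → Commute l k) → T ≤ centralizer {Ψ k} := fun a g b => by
    obtain ⟨l, rfl, d⟩ := m.1 b
    exact mem_cent.2 ((a l d).map Ψ)
  have cs := h.gs ▸ c (k := (1, s6)) fun l a => Prod.commute_iff.2 ⟨Commute.one_right _, a.2.1⟩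
  have ce := c (k := (1, swap 2 3)) fun l a => Prod.commute_iff.2 ⟨Commute.one_right _, a.2.2⟩
  have cr := c (k := (swap 1 2, 1)) fun l a => Prod.commute_iff.2 ⟨a.1, Commute.one_right _⟩
  have r1 : IsConj (ν * t) (ψ (swap 1 2)) := isConj_iff.2 ⟨ρ, h.f1.symm⟩
  have ns : ∀ n ∈ 𝐍[T], Commute n s := fun n a => by
    obtain ⟨⟨k, l⟩, b, k1, k2, k3, k4⟩ := z a (m.2 ⟨_, h.gs, pd!⟩) cs
    have d : IsConj s (Ψ (k, l)) := isConj_iff.2 ⟨n, b.symm⟩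
    have f : ∀ k l l', IsConj l l' → IsConj s (Ψ (k, l)) → IsConj s (Ψ (k, 1) * ψ l') :=
      fun k l l' a b => by
        obtain ⟨g, rfl⟩ := isConj_iff.1 a
        exact b.trans (isConj_iff.2 ⟨Ψ (1, g), by rw [← h.g2, hcj rfl, ← map_mul]; simp⟩)
    rcases (pd! : ∀ k : Perm (Fin 3), Commute k (swap 1 2) → k = 1 ∨ k = swap 1 2) k k1 with
      rfl | rfl <;> rcases (pd! : ∀ l : Perm (Fin 6), Commute l (swap 0 5) →
        Commute l (swap 0 1 * swap 4 5) → Commute l (swap 2 3) → l = s6 ∨ IsConj l 1 ∨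
        IsConj l (swap 1 2) ∨ IsConj l (swap 1 2 * swap 3 4)) l k2 k3 k4 with rfl | p | p | p
    · exact comm_of_conj (b.symm.trans h.gs)
    · exact absurd (by simpa [← Prod.one_eq_mk] using f _ _ _ p d) h.s1
    · exact absurd (IsConj.trans (by simpa [← Prod.one_eq_mk] using f _ _ _ p d) r1.symm) h.nr
    · exact absurd (by simpa [← Prod.one_eq_mk, ← map_mul, h.fn] using f _ _ _ p d) h.nν
    · exact absurd (h.g1 ▸ h.fs ▸ f _ _ _ (IsConj.refl _) d) h.nsr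
    · exact absurd (by simpa [h.g1] using f _ _ _ p d) h.nr
    · refine absurd ((f _ _ _ p d).trans (isConj_iff.2 ⟨ρ, ?_⟩)) h.nν
      rw [← conj_mul, h.g1, ← h.f1, h.ρ1, ← map_mul, h.fn]
    · have := f _ _ _ p d
      rw [h.g1, h.fn, mul_assoc, h.tν.eq, ← mul_assoc, h.n2, one_mul] at this
      exact absurd this nt
  have sy : IsSyl 2 T ⊤ := isSyl_of_isSyl_normalizer ⟨le_inf le_top le_normalizer,
    isPGroup_iff.2 fun g a => ⟨2, by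
      obtain ⟨k, rfl, a, b, c⟩ := m.1 a
      exact hpow (Prod.ext ((pd! : ∀ k : Perm (Fin 3), Commute k (swap 1 2) → k ^ 2 ^ 2 = 1) _ a)
        ((pd! : ∀ l : Perm (Fin 6), Commute l s6 → Commute l (swap 2 3) → l ^ 2 ^ 2 = 1) _ b c))⟩,
    fun R _ _ a r hr => by
      obtain ⟨k, rfl, b⟩ := h.hs (ns r (a hr).2)
      obtain ⟨l, l0, l1, -⟩ := z (a hr).2 (m.2 ⟨(swap 1 2, 1), rfl, pd!⟩) cr
      obtain ⟨n, n0, -, n1, n2, -⟩ := z (a hr).2 (m.2 ⟨(1, swap 2 3), rfl, pd!⟩) ce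
      rw [hcj rfl] at l0 n0
      rw [h.inΨ l0] at l1
      rw [h.inΨ n0] at n1 n2
      exact m.2 ⟨k, rfl, (pd! : ∀ k : Perm (Fin 3), Commute (k * swap 1 2 * k⁻¹) (swap 1 2) →
        Commute k (swap 1 2)) _ l1, congrArg Prod.snd b, (pd! : ∀ l : Perm (Fin 6), Commute l s6 →
          Commute (l * swap 2 3 * l⁻¹) (swap 0 1 * swap 4 5) → Commute l (swap 2 3)) _
            (congrArg Prod.snd b) n2⟩⟩
  obtain ⟨n, a, b⟩ := A9.burn_fus sy cr ce (by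
    rw [h.g1, h.g2]; exact r1.trans (ψ.map_isConj pd!))
  obtain ⟨k, rfl, -⟩ := h.hs (ns n a)
  rw [hcj rfl] at b
  exact absurd (conj_eq_one_iff.1 (congrArg Prod.fst (h.inΨ b))) pd!

omit [Finite G] in
theorem ρ0 : ρ⁻¹ * ψ (swap 0 1) * ρ = ν * t * x (e 9) := by
  rw [h.f0, ← h.aρ.cj (v := e 9) bd!]; group

omit [Finite G] in
theorem ρ4 : ρ * ψ (swap 0 1) * ρ⁻¹ = ψ (swap 4 5) := by
  rw [h.f0, h.f4, ← conj_mul, ← h.f3, ← h.f1, h.ρ1, h.aρ.cj (w := e 3) bd!]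

theorem ef : Commute (ψ (swap 2 3)) (ρ⁻¹ * (s * ψ (swap 2 3)) * ρ) := by
  have et : Ψ (swap 0 1, swap 0 1 * swap 4 5) =
      ψ (swap 0 1) * (ρ * ψ (swap 0 1) * ρ⁻¹) * (ρ⁻¹ * ψ (swap 0 1) * ρ) := by
    rw [h.ρ0, h.ρ4, ← h.g0, ← h.g2, ← h.g2, ← map_mul, ← map_mul]; simp
  have a1 : Act x (ψ (swap 0 1)) (e 6) := h.f0 ▸ (h.a1.mul (Act.self _)).cong (mul_one _)
  have a := et ▸ ((a1.mul ((h.aρ.mul a1).mul h.aρ.inv)).mul ((h.aρ.inv.mul a1).mul h.aρ)).cong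
    (g := e 42) bd!
  obtain ⟨v, b⟩ := h.mem_of_act ((a.mul h.t1.inv).cong (mul_inv_cancel _))
  obtain ⟨g, hg⟩ := isConj_iff.1 (h.st.trans (isConj_iff.2 ⟨x v⁻¹,
    show _ = Ψ (swap 0 1, swap 0 1 * swap 4 5) by
    rw [← eq_mul_inv_iff_mul_eq.1 b, ← map_inv, inv_inv, show x v⁻¹ * t * x v = x v⁻¹ *
      (t * x v * t⁻¹) * t by group, h.inv, ← map_inv, ← map_mul, (bd! : ∀ v : V, v⁻¹ * v⁻¹ = v)]⟩))
  obtain ⟨κ, i, k1, k2⟩ : ∃ κ : Perm (Fin 3) × Perm (Fin 6) →* G, Function.Injective κ ∧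
      κ (1, s6) = Ψ (swap 0 1, swap 0 1 * swap 4 5) ∧ ∀ k, Commute k (κ (1, s6)) →
        ∃ l, κ l = k ∧ Commute l (1, s6) := by
    refine ⟨(MulAut.conj g).toMonoidHom.comp Ψ, (MulAut.conj g).injective.comp h.inΨ,
      (congrArg (g * · * g⁻¹) h.gs).trans hg, fun k c => ?_⟩
    obtain ⟨l, d, f⟩ := h.hs (h.gs ▸ (comm_conj_iff.1 c.symm).symm)
    exact ⟨l, by simp [d, mul_assoc], f⟩
  have c : ∀ τ, Commute τ (swap 0 1 * swap 4 5) → Commute (ψ τ) (κ (1, s6)) := fun τ a => by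
    rw [k1, ← h.g2]; exact (Prod.commute_iff.2 ⟨Commute.one_left _, a⟩).map Ψ
  have c3 : ∀ τ, Commute (ψ τ) (ρ⁻¹ * ψ (swap 0 1) * ρ) := fun τ =>
    h.ρ0 ▸ (h.cr τ).mul_right (h.cψ τ)
  obtain ⟨R, r, r1⟩ := k2 ρ (comm_of_conj (by
    have : ρ * (ρ * ψ (swap 0 1) * ρ⁻¹) * ρ⁻¹ = ρ⁻¹ * ψ (swap 0 1) * ρ := by
      rw [show ∀ p, ρ * (ρ * p * ρ⁻¹) * ρ⁻¹ = ρ * ρ * p * (ρ * ρ)⁻¹ from fun p => by group,
        ← inv_eq_sq h.ρ3, inv_inv]
    rw [k1, et, ← conj_mul, ← conj_mul, this, mul_assoc (ψ _), h.ρ4,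
      ((Commute.map pd! ψ).mul_right (c3 _)).eq]
    simp [mul_assoc]))
  obtain ⟨P, p, p1⟩ := k2 _ (c (swap 0 1) pd!)
  obtain ⟨E, e0, e1⟩ := k2 _ (c (swap 2 3) pd!)
  obtain ⟨S, s0, s1⟩ := k2 s (h.fs ▸ c _ pd!)
  rcases rel36 r1 (i (by rw [map_pow, r, h.ρ3, map_one])) p1 (i (by rw [map_mul, p, hsq pd!, map_one]))
    (i (by simp only [map_mul, map_inv, r, p, k1, et]))
    (fun d => absurd (a1.eq h.inj (by rwa [← p, d, k1])) (bd! : (e 6 : H) ≠ e 42))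
    (Commute.of_map i (by rw [← hcj rfl, r, p, h.ρ4]; exact Commute.map pd! ψ))
    (i (by rw [← hcj rfl, map_inv κ R, r, s0, h.sρ])) (i (by
      rw [← hcj rfl, ← hcj rfl, r, p, s0, h.ρ4, ← h.fs]; exact hcj pd!)) s1
    (i (by rw [map_mul, e0, hsq pd!, map_one])) (Commute.of_map i (by
      rw [e0, p]; exact Commute.map pd! ψ)) (Commute.of_map i (by
      rw [← hcj rfl, r, p, e0, h.ρ4]; exact Commute.map pd! ψ)) e1
    (Commute.of_map i (by rw [e0, s0, ← h.fs]; exact Commute.map pd! ψ)) with d | d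
  · simpa only [map_mul, map_inv, r, e0, s0] using d.map κ
  · have := κ.map_isConj d
    simp only [map_mul, map_inv, r, e0, p] at this
    refine absurd ((isConj_iff.2 ⟨g, hg⟩).trans (IsConj.symm (((isConj_iff.2 ⟨ρ, h.f1.symm⟩).trans
      (ψ.map_isConj pd!)).trans (this.trans ?_)))) h.nr
    rw [h.ρ0, ← h.g0, ← h.g2, ← h.g2, ← map_mul, ← map_mul]
    refine Ψ.map_isConj (isConj_iff.2 ⟨(1, swap 2 4 * swap 3 5), ?_⟩)
    simp only [Prod.mk_mul_mk, Prod.inv_mk, Prod.mk.injEq]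
    exact pd!

theorem exists_θ : ∃ θ : Perm (Fin 9) →* G, 𝐍[x.range] ≤ θ.range ∧ ψ.range ≤ θ.range ∧
    θ (swap 1 2) = ν * t ∧ θ (swap 0 1 * swap 1 2) = x (e 9)⁻¹ ∧
    θ (swap 3 4 * swap 4 5) = x (e 1)⁻¹ ∧ θ (swap 6 7 * swap 7 8) = x (e 3) := by
  obtain ⟨χ, hχ⟩ : ∃ χ : Perm (Fin 6) →* G, ∀ τ, χ τ = ρ⁻¹ * ψ τ * ρ :=
    ⟨(MulAut.conj ρ⁻¹).toMonoidHom.comp ψ, by simp⟩
  have e0 : χ (swap 0 1) = ν * t * x (e 9) := (hχ _).trans h.ρ0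
  have e1 : χ (swap 1 2) = ν * t := by rw [hχ, h.f1]; group
  have e3 : ψ (swap 1 2) = χ (swap 3 4) := by rw [hχ, ← h.ρ1]; group
  have e4 : ψ (swap 0 1) = χ (swap 4 5) := by rw [hχ, ← h.ρ4]; group
  have c1 : ∀ τ, Commute (χ (swap 1 2)) (ψ τ) := fun τ => e1 ▸ (h.cr τ).symm
  have c0 : ∀ τ, Commute (χ (swap 0 1)) (ψ τ) := fun τ =>
    e0 ▸ ((h.cr τ).mul_right (h.cψ τ)).symm
  have d3 : Commute (χ (swap 2 5)) (ψ (swap 3 4)) := by
    rw [hχ, ← inv_inv ρ, inv_inv ρ⁻¹, comm_conj_iff, inv_inv, h.ρ2]; exact h.cr _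
  have d4 : Commute (χ (swap 2 5)) (ψ (swap 4 5)) := by
    rw [hχ, ← inv_inv ρ, inv_inv ρ⁻¹, comm_conj_iff, inv_inv, ← h.ρ4, show ∀ p, ρ * (ρ * p * ρ⁻¹) * ρ⁻¹ =
      ρ * ρ * p * (ρ * ρ)⁻¹ from fun p => by group, ← inv_eq_sq h.ρ3, inv_inv, h.ρ0]
    exact (h.cr _).mul_right (h.cψ _)
  have d2 : Commute (χ (swap 2 5)) (ψ (swap 2 3)) := by
    have a := h.ef
    have b : Commute (ψ (swap 2 3)) (χ (swap 4 5)) := e4 ▸ Commute.map pd! ψ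
    rw [← h.fs, ← map_mul, ← hχ] at a
    rw [← hcj (k := swap 4 5 * (s6 * swap 2 3)) (x := swap 1 2) pd!, map_mul]
    exact (((b.mul_right a).mul_right (c1 _).symm).mul_right (b.mul_right a).inv_right).symm
  have br : ∀ (φ : Perm (Fin 6) →* G) a b, a * b * a = b * a * b →
      φ a * φ b * φ a = φ b * φ a * φ b := fun φ a b c => by simp only [← map_mul, c]
  obtain ⟨θ, hθ⟩ := KSG.exists_hom_perm_of_rels (n := 8) ![χ (swap 0 1), χ (swap 1 2), χ (swap 2 5),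
    ψ (swap 0 1), ψ (swap 1 2), ψ (swap 2 3), ψ (swap 3 4), ψ (swap 4 5)]
    (fun i => by fin_cases i <;> exact hsq pd!)
    (fun i j a => by
      fin_cases i <;> fin_cases j <;> (try exact absurd a (by decide))
      exacts [Commute.map pd! χ, c0 _, c0 _, c0 _, c0 _, c0 _, c1 _, c1 _, c1 _, c1 _, c1 _,
        e3 ▸ Commute.map pd! χ, d2, d3, d4, Commute.map pd! ψ, Commute.map pd! ψ, Commute.map pd! ψ,
        Commute.map pd! ψ, Commute.map pd! ψ, Commute.map pd! ψ])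
    (fun i j a => by
      fin_cases i <;> fin_cases j <;> (try exact absurd a (by decide))
      exacts [br χ _ _ pd!, br χ _ _ pd!, e4 ▸ br χ _ _ pd!, br ψ _ _ pd!, br ψ _ _ pd!,
        br ψ _ _ pd!, br ψ _ _ pd!])
  have mψ : ∀ τ, ψ τ ∈ θ.range := fun τ => closure_eq θ.range ▸ TT.perm_hom_mem_closure (n := 5) ψ
    (fun i => by fin_cases i; exacts [⟨_, hθ 3⟩, ⟨_, hθ 4⟩, ⟨_, hθ 5⟩, ⟨_, hθ 6⟩, ⟨_, hθ 7⟩]) τ
  have mχ : ∀ τ, χ τ ∈ θ.range := fun τ => closure_eq θ.range ▸ TT.perm_hom_mem_closure (n := 5) χ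
    (fun i => by
      fin_cases i
      exacts [⟨_, hθ 0⟩, ⟨_, hθ 1⟩, by
        change χ (swap 2 3) ∈ θ.range
        rw [← hcj (k := swap 3 4 * swap 4 5) (x := swap 2 5) pd!, map_mul, ← e3, ← e4]
        exact mul_mem (mul_mem (mul_mem (mψ _) (mψ _)) ⟨_, hθ 2⟩) (inv_mem (mul_mem (mψ _) (mψ _))),
        e3 ▸ mψ _, e4 ▸ mψ _]) τ
  have x9 : θ (swap 0 1 * swap 1 2) = x (e 9)⁻¹ := by
    rw [map_mul, show θ (swap 0 1) = χ _ from hθ 0, show θ (swap 1 2) = χ _ from hθ 1, e0, e1,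
      map_inv, ← h.a3.inverts bd!, inv_eq_of_mul_eq_one_right h.q3]
  have ms := h.fs ▸ mψ _
  have mr := e1 ▸ mχ _
  refine ⟨θ, fun n hn => ?_, by rintro _ ⟨τ, rfl⟩; exact mψ τ, (hθ 1).trans e1, x9, ?_, ?_⟩
  · obtain ⟨k, a⟩ := h.mon n hn
    refine h.le_of_gam ?_ a (all_mem (Γ := Gam x θ.range) ⟨ρ, ?_, h.aρ⟩ ⟨s, ms, h.as⟩
      ⟨ν, h.fn ▸ mψ _, h.n1⟩ ⟨t, (mul_mem_cancel_left (h.fn ▸ mψ _)).1 mr, h.t1⟩ k)
    · rintro _ ⟨v, rfl⟩
      rw [hom_eq x]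
      exact mul_mem (pow_mem (h.x1 ▸ mψ _) _) (mul_mem (pow_mem (h.x2 ▸ mψ _) _)
        (pow_mem (inv_mem_iff.1 (map_inv x _ ▸ ⟨_, x9⟩)) _))
    · have := mul_mem (mχ s6) (inv_mem ms)
      rwa [hχ, h.fs, mul_assoc, mul_assoc, ← mul_assoc s, h.sρ, ← mul_inv_rev, ← inv_eq_sq h.ρ3,
        inv_inv] at this
  · rw [map_mul, show θ (swap 3 4) = ψ _ from hθ 3, show θ (swap 4 5) = ψ _ from hθ 4, map_inv,
      ← h.x1, ← map_inv, ← map_mul]; simp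
  · rw [map_mul, show θ (swap 6 7) = ψ _ from hθ 6, show θ (swap 7 8) = ψ _ from hθ 7, ← h.x2, map_mul]

theorem iso : Nonempty (G ≃* Perm (Fin 9)) := by
  have := Fact.mk Nat.prime_three
  obtain ⟨θ, hN, hψ, r, x9, x1, x3⟩ := h.exists_θ
  have mJ : ∀ v, x v ∈ θ.range := fun v => hN (le_normalizer ⟨v, rfl⟩)
  have hC := h.nf.hC48 hN ⟨ν, trivial, h.n1⟩ fun g a => by
    obtain ⟨τ, k, b, rfl⟩ := h.fac g a
    exact mul_mem (hψ ⟨τ, rfl⟩) (zpowers_le.2 (mJ _) b)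
  have ez : θ A9.z9 = x (e 9)⁻¹ := (congrArg θ pd!).trans x9
  have ey : θ A9.y9 = x ((e 9)⁻¹ * (e 1)⁻¹) := by
    rw [map_mul, ← x9, ← x1, ← map_mul]; exact congrArg θ pd!
  have ec : θ A9.c9 = x ((e 9)⁻¹ * (e 1)⁻¹ * e 3) := by
    rw [map_mul, ← ey, ← x3, ← map_mul]; exact congrArg θ pd!
  have inj := inj_of_perm (n := 9) (by norm_num) θ (x := A9.z9) (ez ▸ h.ne1 bd!)
  have c3 : ∀ z ∈ θ.range, z ^ 3 = 1 → z ≠ 1 → ∀ g, Commute g z → g ∈ θ.range := by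
    rintro _ ⟨σ, rfl⟩ a b g c
    replace a : σ ^ 3 = 1 := inj (by rw [map_pow, a, map_one])
    have sg : σ ∈ alternatingGroup (Fin 9) := by
      rw [← inv_mem_iff, inv_eq_sq a]; exact mul_self_mem_of_index_two alternatingGroup.index_eq_two σ
    have k : ∀ (y : A9.Al) v, θ y = x v → v ≠ 1 → IsConj y ⟨σ, sg⟩ → g ∈ θ.range := fun y v p q d => by
      obtain ⟨m, d⟩ := isConj_iff.1 d
      rw [← show _ = σ from congrArg Subtype.val d, coe_mul, coe_mul, coe_inv, ← hcj rfl, p] at c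
      have n : θ m ∈ θ.range := ⟨_, rfl⟩
      exact (mul_mem_cancel_left (inv_mem n)).1 ((mul_mem_cancel_right n).1
        (hC v q _ (comm_conj_iff.1 c.symm).symm))
    rcases A9.cube_cases9 (x := ⟨σ, sg⟩) (Subtype.ext a) (fun d => b (by
      rw [show σ = 1 from congrArg Subtype.val d, map_one])) with d | d | d
    exacts [k _ _ ez bd! d, k _ _ ey bd! d, k _ _ ec bd! d]
  obtain ⟨S, hS, JS⟩ := exists_isSyl_ge (PS4.isP3 h.r3.cube) (le_normalizer : x.range ≤ _)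
  have nS : 𝐍[S] ≤ 𝐍[x.range] := fun g a =>
    h.wc fun v => hS.le (conj_mem_of_mem_normalizer a (JS ⟨v, rfl⟩))
  have h3 : ∀ z ∈ θ.range, z ^ 3 = 1 → z ≠ 1 → UF θ.range z := fun _ => uf3
    (isSyl_of_isSyl_normalizer (hS.mono (le_inf le_top le_normalizer) (inf_le_right.trans nS)))
    (nS.trans hN) fun z a => c3 z (hN (hS.le a))
  have f1 : ∀ i ∈ θ.range, i * i = 1 → ∃ z ∈ θ.range, z ^ 3 = 1 ∧ z ≠ 1 ∧ Commute z i := by
    rintro _ ⟨σ, rfl⟩ a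
    obtain ⟨z, a, b, c⟩ := s9_inv (σ := σ) (inj (by rw [map_mul, a, map_one]))
    exact ⟨θ z, ⟨z, rfl⟩, hpow a, fun e => b (inj (e.trans (map_one θ).symm)), c.map θ⟩
  have hs : ∀ g, Commute g s → g ∈ θ.range := fun g a => by
    obtain ⟨⟨k, l⟩, rfl, -⟩ := h.hs a
    rw [← Prod.fst_mul_snd (k, l), map_mul, h.g2]
    refine mul_mem (closure_eq θ.range ▸ TT.perm_hom_mem_closure (n := 2)
      (Ψ.comp (MonoidHom.inl _ _)) (fun i => ?_) k) (hψ ⟨l, rfl⟩)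
    fin_cases i
    exacts [h.g0 ▸ mul_mem ⟨_, r⟩ (mJ _), h.g1 ▸ ⟨_, r⟩]
  have us : UF θ.range s := ⟨hN h.as.norm, fun g a => by
    obtain ⟨z, z0, z3, z1, d⟩ := f1 _ a (X32.conj_sq h.s2)
    exact uf_of_cent h3 hs z0 z3 z1 d⟩
  obtain ⟨N, _, i0, r1⟩ | ⟨g, σ, sg, hg⟩ := Transfer.thompson_transfer
    (relIndex_top_right θ.range ▸ us.odd_relIndex h.s2 (mem_top s))
    (Q := (alternatingGroup (Fin 9)).map θ) (by
      rw [MonoidHom.range_eq_map, relIndex_map_map_of_injective _ _ inj, relIndex_top_right,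
        alternatingGroup.index_eq_two]) (u := ν * t)
    (orderOf_eq_prime (by rw [pow_two, h.q3]) fun a => absurd ((a ▸ h.a3).eq h.inj Act.one) bd!)
  swap
  · obtain ⟨z, z0, z3, z1, d⟩ := f1 _ ⟨σ, hg⟩ (X32.conj_sq h.q3)
    obtain ⟨_, ⟨m, rfl⟩, e1⟩ := uf_lite h3 (mJ (e 1)) (xcube ..) (h.ne1 bd!) z0 z3 z1
      (h.a3.comm bd!).symm d
    rw [← hg, ← r, hcj rfl] at e1
    rw [← inj e1, SetLike.mem_coe, Perm.mem_alternatingGroup] at sg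
    simp at sg
  have le := Perm.alternatingGroup_le_of_normal (N := N.comap θ) (by simp) ⟨⟨A9.z9, by
    rw [mem_comap, ez, map_inv, inv_eq_sq (xcube ..)]; exact mul_self_mem_of_index_two i0 _⟩, 1,
    fun e => absurd (congrArg Subtype.val e : A9.z9.1 = 1) pd!⟩
  let φ : A9.Al →* N := (θ.comp (Subgroup.subtype _)).codRestrict N fun σ => le σ.2
  have lo : ∀ g : N, g.1 ∈ θ.range → g ∈ φ.range := fun g ⟨σ, a⟩ =>
    ⟨⟨σ, by_contra fun b => r1 ((mul_mem_cancel_left g.2).1 (a ▸ r ▸ map_mul θ _ _ ▸ le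
      ((mul_mem_iff_of_index_two alternatingGroup.index_eq_two).2 (iff_of_false b pd!))))⟩,
      Subtype.ext a⟩
  have cc : ∀ y : A9.Al, y ^ 3 = 1 ∧ y ≠ 1 → UF θ.range (θ y) := fun y a => h3 _ ⟨_, rfl⟩
    (hpow (congrArg Subtype.val a.1)) fun b => a.2 (Subtype.ext (inj (b.trans (map_one θ).symm)))
  have nc : ∀ y z : A9.Al, y ^ 3 = 1 ∧ y ≠ 1 → ¬ IsConj y.1 z.1 → ¬ IsConj (φ y) (φ z) :=
    fun y z a b c => by
      obtain ⟨g, c⟩ := isConj_iff.1 c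
      replace c : g * θ y * (g : G)⁻¹ = θ z := congrArg Subtype.val c
      obtain ⟨k, d⟩ := (cc y a).2 g (c ▸ ⟨_, rfl⟩)
      exact b (isConj_iff.2 ⟨k, inj (by rw [← hcj rfl, d, c])⟩)
  have top := A9.Fin9.top (φ := φ) ⟨fun a b c => Subtype.ext (inj (congrArg Subtype.val c)),
    fun g a => lo g ((cc _ pd!).comm (a.map N.subtype)),
    fun g a => lo g ((cc _ pd!).comm (a.map N.subtype)),
    fun g a => lo g ((cc _ pd!).comm (a.map N.subtype)), nc _ _ pd! pd!, nc _ _ pd! pd!,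
    nc _ _ pd! pd!⟩
  have mN : ∀ g ∈ N, g ∈ θ.range := fun g a => by
    obtain ⟨σ, b⟩ := top.ge (mem_top ⟨g, a⟩)
    exact ⟨σ, congrArg Subtype.val b⟩
  refine ⟨(MulEquiv.ofBijective θ ⟨inj, fun g => ?_⟩).symm⟩
  by_cases a : g ∈ N
  exacts [mN g a, (mul_mem_cancel_right (θ.mem_range.2 ⟨_, r⟩)).1
    (mN _ ((mul_mem_iff_of_index_two i0).2 (iff_of_false a r1)))]

end SY

theorem NF.main (h : NF x ρ s) : (∀ g, g ∈ 𝐍[x.range]) ∨ Nonempty (G ≃* Perm (Fin 9)) :=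
  h.cases.imp_right fun ⟨_, _, _, a⟩ => (a.exists_SY h.ca).elim fun _ b => b.iso

end Cfsg.Agent.Loc3.Pr
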