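import Cfsg.Agent.Loc3.O8K
import Cfsg.Agent.Loc3.PrA
import Cfsg.Agent.Loc3.PrY
import Cfsg.Agent.L43.Core
import Cfsg.Agent.TT.XS

/-!
Vocabulary for the 3-local recognition of `Ω₈⁺(2).3` and `Ω₈⁺(2).Sym(3)`.
`K` is the table of the largest possible normaliser of `⟨z⟩`, the chart `f` is defined on `D`, which is
`s1` (index two) or everything.  `J = 3⁴` has coordinates `jv f : V4 → G` with the invariant form
`q4`: the conjugates of `z = f Z` are the singular vectors, type E is `q4 = 1`, type A is `q4 = 2`.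
On `J`, `t = f T` is the reflection in `ev 0`, `ι = f R` is `-1`, `f C` is the 3-cycle `(1 2 3)`,
`c = f X` is the transposition `(2 3)`.
-/

set_option autoImplicit false
set_option maxRecDepth 100000
set_option synthInstance.maxHeartbeats 400000
set_option synthInstance.maxSize 4000

namespace Cfsg.Agent.O8T

open Subgroup Cfsg Cfsg.Agent.PLocal.Amb Cfsg.Agent.Loc3 Cfsg.Agent.Comp Cfsg.Agent.LES
open Cfsg.Agent.X32 (TG)
open Cfsg.Agent.X32.TG
open Cfsg.Agent.Loc3.Pr hiding V rf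
open Cfsg.Agent.TT (XS)
open Cfsg.Agent.PS4 (K2 l2)
open Equiv (Perm swap)

/-! ### Coordinates -/

abbrev V4 := Fin 4 → ZMod 3

def b4 (u v : V4) : ZMod 3 := u 0 * v 0 + u 1 * v 1 + u 2 * v 2 + u 3 * v 3

def q4 (v : V4) : ZMod 3 := b4 v v

/-- unit vector -/
def ev (i : Fin 4) : V4 := fun j => if j = i then 1 else 0

/-- reflection in a non-singular vector -/
def rf (u v : V4) : V4 := fun i => v i + q4 u * b4 u v * u i

/-- signed permutation -/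
def sp (σ : Perm (Fin 4)) (ε v : V4) : V4 := fun i => ε i * v (σ⁻¹ i)

/-- the four singular points orthogonal to `ev 0` -/
def zz (i : Fin 4) : V4 := fun j => if j = 0 then 0 else if j = i then -1 else 1

noncomputable def jK (v : V4) : K :=
  A ^ (v 0).val * (g2 ^ (v 1).val * (g3 ^ (v 2).val * g4 ^ (v 3).val))

instance evJ (v : V4) {m : ℕ}
    [h : EV (A ^ (v 0).val * (g2 ^ (v 1).val * (g3 ^ (v 2).val * g4 ^ (v 3).val))) m] :
    EV (jK v) m := ⟨h.h⟩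

instance bdZ (x y : ZMod 3) : X32.BD (x = y) (decide (x = y)) := ⟨decide_eq_true_iff⟩

instance bdV (x y : V4) : X32.BD (x = y) (decide (x = y)) := ⟨decide_eq_true_iff⟩

def lV : List V4 := [0, 1, 2].flatMap fun a => [0, 1, 2].flatMap fun b => [0, 1, 2].flatMap fun c =>
  [0, 1, 2].map fun d => ![a, b, c, d]

theorem mem_lV : ∀ v, v ∈ lV := by decide +kernel

set_option synthInstance.checkSynthOrder false in
instance allV {p : V4 → Prop} {f : V4 → Bool} [∀ k, X32.BD (p k) (f k)] : X32.BD (∀ k, p k) (allL lV f) :=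
  ⟨(X32.BD.instBAll (p := p) lV).h.trans (by simp only [mem_lV, true_imp_iff])⟩

set_option synthInstance.checkSynthOrder false in
instance exV {p : V4 → Prop} {f : V4 → Bool} [∀ k, X32.BD (p k) (f k)] : X32.BD (∃ k, p k) (anyL lV f) :=
  ⟨(X32.BD.instBEx (p := p) lV).h.trans (by simp only [mem_lV, true_and])⟩

theorem jK_add : ∀ u v, jK (u + v) = jK u * jK v := bd!

theorem jK_inj : ∀ v, jK v = 1 → v = 0 := bd!

theorem jK_mem : ∀ v, jK v ∈ sJ := bd!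

theorem jK_s1 : ∀ v, jK v ∈ s1 := bd!

theorem jK_surj : ∀ k ∈ sJ, ∃ v, jK v = k := bd!

theorem jK_ty : ∀ v, (Sg (jK v) ↔ v ≠ 0 ∧ q4 v = 0) ∧ (Et (jK v) ↔ q4 v = 1) ∧
    (At (jK v) ↔ q4 v = 2) := bd!

theorem jK_val : jK (zz 0) = Z ∧ jK (zz 1) = Y ∧ jK ![0, 0, 1, 2] = U ∧ jK ![0, 2, 0, 1] = V ∧
    jK (ev 0) = A ∧ jK (ev 1) = g2 ∧ jK (ev 2) = g3 ∧ jK (ev 3) = g4 ∧ jK ![1, 2, 0, 1] = A * V := bd!

theorem jK_T : ∀ v, T * jK v * T⁻¹ = jK (rf (ev 0) v) := bd!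

theorem jK_R : ∀ v, R * jK v * R⁻¹ = jK (-v) := bd!

theorem jK_C : ∀ v, C * jK v * C⁻¹ = jK (sp (swap 1 2 * swap 2 3) 1 v) := bd!

theorem jK_X : ∀ v, X * jK v * X⁻¹ = jK (sp (swap 2 3) 1 v) := bd!

theorem jK_B : ∀ v, B * jK v * B⁻¹ = jK (rf ![1, 1, 1, 1] (rf (ev 0) v)) := bd!

theorem s1_or : ∀ k, k ∈ s1 ∨ k * X ∈ s1 := bd!

/-- the quaternion group `O₂(C(Z, T))` -/
noncomputable def lR : List K := es [0, 729, 2916, 3159, 7047, 7533, 7776, 8262]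

theorem hlR : 1 ∈ lR ∧ ∀ a ∈ lR, ∀ b ∈ lR, a * b⁻¹ ∈ lR := bd!

theorem lR_s1 : ∀ a ∈ lR, a ∈ s1 := bd!

/-- the images of the generators of `3^{1+2}:SL₂(3)`, onto the centraliser of `Z`, `X` in `s1` -/
noncomputable def lX : List K := es [1, 2, 243, 486, 18, 9, 27, 54, 3159, 2916, 8262, 7776]

theorem exists_chi : ∃ χ : K2 →* K, ∀ W, χ (BN.ev (tup l2) W) = BN.ev (tup lX) W :=
  link_hom PS4.link2 (sat_tup le_rfl bd! bd!)

instance bdCent (k x : K) {b : Bool} [h : X32.BD (Commute k x) b] :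
    X32.BD (k ∈ centralizer ({x} : Set K)) b := ⟨h.h.trans mem_cent.symm⟩

instance bdInf (k : K) (U W : Subgroup K) {b c : Bool} [X32.BD (k ∈ U) b] [X32.BD (k ∈ W) c] :
    X32.BD (k ∈ U ⊓ W) (and' b c) := X32.BD.instAnd

/-! ### The structures -/

variable {G : Type*} [Group G]

/-- the normaliser of `⟨z⟩` in terms of the table group -/
structure Ch (D : Subgroup K) (f : K → G) : Prop where
  le : s1 ≤ D
  mul : ∀ {a b}, a ∈ D → b ∈ D → f (a * b) = f a * f b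
  inj : ∀ {a}, a ∈ D → f a = 1 → a = 1
  nz : ∀ g ∈ 𝐍[zpowers (f Z)], ∃ k ∈ D, f k = g
  cv : IsConj (f Z) (f (A * V))

noncomputable def jv (f : K → G) (v : V4) : G := f (jK v)

/-- the Thompson subgroup -/
def JJ (f : K → G) : Subgroup G := closure (Set.range (jv f))

/-- `n` acts on `J` as `L` -/
def Ac (f : K → G) (n : G) (L : V4 → V4) : Prop := ∀ v, n * jv f v * n⁻¹ = jv f (L v)

/-- the normaliser of `J` -/
structure NJ (D : Subgroup K) (f : K → G) : Prop extends Ch D f where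
  sg : ∀ v, IsConj (f Z) (jv f v) ↔ v ≠ 0 ∧ q4 v = 0
  iso : ∀ n ∈ 𝐍[JJ f], ∀ u v, n * jv f u * n⁻¹ = jv f v → q4 u = q4 v
  ex : ∀ u, q4 u = 1 → ∃ r, Ac f r (rf u) ∧ Commute r (f R) ∧ IsConj (f T) r
  sig : Sig (JJ f)

/-- the exceptional configuration -/
structure Bad (D : Subgroup K) (f : K → G) (v : G) : Prop where
  hX : X ∈ D
  v2 : v * v = 1
  v1 : v ≠ 1
  c2 : Commute v (jv f (ev 2))
  c3 : Commute v (jv f (ev 3))
  ct : Commute v (f T)
  pr : v * (jv f (ev 1) * v * (jv f (ev 1))⁻¹) * ((jv f (ev 1))⁻¹ * v * jv f (ev 1)) = 1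
  cr : ∀ a ∈ lR, Commute v (f a)

/-- the 3-local information -/
structure LC (D : Subgroup K) (f : K → G) : Prop extends NJ D f where
  cE : ∀ u, q4 u = 1 → ∀ g, Commute g (jv f u) → g ∈ 𝐍[JJ f]
  rr : ∀ r, Ac f r (rf (ev 1)) → Commute r (f R) → ∀ a ∈ lR, ∀ b ∈ lR, Commute (f a) (r * f b * r⁻¹)
  cA : ∀ M : Subgroup G, (∀ n ∈ 𝐍[JJ f], Commute n (f T) → n ∈ M) → (∀ a ∈ lR, f a ∈ M) →
    ∀ g, Commute g (f T) → Commute g (f U) → g ∈ M

/-- the subgroup `2^{1+8}.N(J₀)` of the centraliser of `t` -/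
structure ME (D : Subgroup K) (f : K → G) (E M : Subgroup G) : Prop extends LC D f where
  xs : XS E (f T)
  card : Nat.card E = 512
  rE : ∀ a ∈ lR, f a ∈ E
  EM : E ≤ M
  MC : ∀ m ∈ M, Commute m (f T)
  MN : M ≤ 𝐍[E]
  nM : ∀ n ∈ 𝐍[JJ f], Commute n (f T) → n ∈ M
  fac : ∀ m ∈ M, ∃ e ∈ E, ∃ n ∈ 𝐍[JJ f], m = e * n
  fpf : ∀ i, i ≠ 0 → ∀ e ∈ E, Commute e (jv f (ev i)) → e = 1 ∨ e = f T
  fth : ∀ v, v 0 = 0 → (∀ e ∈ E, Commute e (jv f v)) → v = 0
  cls : ∀ u ∈ E, u * u = 1 → ¬ 8 ∣ (centralizer {u}).relIndex M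

/-- `W.3³.Γ` with `2³ ≤ Γ ≤ 2³:Sym(3)`, such that the elements of `3³` fix a unique coset -/
structure AX (x : Pr.V →* G) (W M : Subgroup G) : Prop where
  inj : Function.Injective x
  cent : ∀ g, (∀ v, Commute g (x v)) → g ∈ x.range
  uf : ∀ v, v ≠ 1 → UF M (x v)
  w2 : ∀ w ∈ W, w * w = 1
  le : W ≤ M
  nw : M ≤ 𝐍[W]
  big : W = ⊥ ∨ 64 < Nat.card W
  fpf : ∀ v ∈ (es [1, 3, 9] : List Pr.V), ∀ w ∈ W, Commute w (x v) → w = 1
  fac : ∀ m ∈ M, ∃ w ∈ W, ∃ n k, Act x n k ∧ m = w * n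
  dg : ∀ k ∈ (es [6, 12, 24] : List H), k ∈ Gam x ⊤

/-- monomial elements with an even permutation -/
abbrev PA (k : H) : Prop := Nat.blt (Nat.mod k.v 6) 3 = true

/-- diagonal elements -/
abbrev P8 (k : H) : Prop := Nat.mod k.v 6 = 0

/-! ### Basic facts -/

namespace Ch

variable {D : Subgroup K} {f : K → G} (h : Ch D f) {a b c k : K} {g n m : G} {u v : V4}
  {L L' : V4 → V4}
include h

/-- the chart as a homomorphism -/
noncomputable def φ : D →* G := MonoidHom.mk' (fun k => f k) fun a b => h.mul a.2 b.2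

theorem one : f 1 = 1 := h.φ.map_one

theorem inv (ha : a ∈ D) : f a⁻¹ = (f a)⁻¹ := h.φ.map_inv ⟨a, ha⟩

theorem pow (ha : a ∈ D) (i : ℕ) : f (a ^ i) = f a ^ i := h.φ.map_pow ⟨a, ha⟩ i

theorem eq (ha : a ∈ D) (hb : b ∈ D) (e : f a = f b) : a = b :=
  mul_inv_eq_one.1 (h.inj (mul_mem ha (inv_mem hb)) (by rw [h.mul ha (inv_mem hb), h.inv hb, e]; simp))

theorem φi : Function.Injective h.φ := fun a b e => Subtype.ext (h.eq a.2 b.2 e)

theorem cj (ha : a ∈ D) (hb : b ∈ D) : f (a * b * a⁻¹) = f a * f b * (f a)⁻¹ := by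
  rw [h.mul (mul_mem ha hb) (inv_mem ha), h.mul ha hb, h.inv ha]

theorem cj1 (e : a ∈ s1 ∧ b ∈ s1 ∧ a * b * a⁻¹ = c) : f a * f b * (f a)⁻¹ = f c :=
  e.2.2 ▸ (h.cj (h.le e.1) (h.le e.2.1)).symm

theorem mul1 (e : a ∈ s1 ∧ b ∈ s1 ∧ a * b = c) : f a * f b = f c :=
  e.2.2 ▸ (h.mul (h.le e.1) (h.le e.2.1)).symm

theorem inv1 (e : a ∈ s1 ∧ a⁻¹ = c) : (f a)⁻¹ = f c := e.2 ▸ (h.inv (h.le e.1)).symm

theorem pow1 {i : ℕ} (e : a ∈ s1 ∧ a ^ i = 1) : f a ^ i = 1 := by rw [← h.pow (h.le e.1), e.2, h.one]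

theorem ne1 (e : a ∈ s1 ∧ a ≠ 1) : f a ≠ 1 := mt (h.inj (h.le e.1)) e.2

theorem cm (ha : a ∈ D) (hb : b ∈ D) : Commute (f a) (f b) ↔ Commute a b :=
  ⟨fun e => h.eq (mul_mem ha hb) (mul_mem hb ha) (by rw [h.mul ha hb, h.mul hb ha, e.eq]),
    fun e => by rw [Commute, SemiconjBy, ← h.mul ha hb, ← h.mul hb ha, e.eq]⟩

theorem cm1 (e : a ∈ s1 ∧ b ∈ s1 ∧ Commute a b) : Commute (f a) (f b) :=
  (h.cm (h.le e.1) (h.le e.2.1)).2 e.2.2

theorem top (hX : X ∈ D) (k : K) : k ∈ D :=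
  (s1_or k).elim (fun a => h.le a) fun a => (mul_mem_cancel_right hX).1 (h.le a)

theorem s1_of (hX : X ∉ D) (hk : k ∈ D) : k ∈ s1 :=
  (s1_or k).resolve_right fun a => hX ((mul_mem_cancel_left hk).1 (h.le a))

/-- the image of a subgroup -/
noncomputable def im (U : Subgroup K) : Subgroup G := (U.subgroupOf D).map h.φ

theorem mem_im {U : Subgroup K} : g ∈ h.im U ↔ ∃ k ∈ U, k ∈ D ∧ f k = g :=
  ⟨fun ⟨k, a, b⟩ => ⟨k, a, k.2, b⟩, fun ⟨k, a, b, c⟩ => ⟨⟨k, b⟩, a, c⟩⟩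

theorem card_im {U : Subgroup K} (l : U ≤ D) : Nat.card (h.im U) = Nat.card U := by
  rw [im, card_map_of_injective h.φi, Nat.card_congr (subgroupOfEquivOfLe l).toEquiv]

theorem z3 : f Z ^ 3 = 1 := h.pow1 bd!

theorem z1 : f Z ≠ 1 := h.ne1 bd!

theorem t2 : f T * f T = 1 := (h.mul1 bd!).trans h.one

theorem r2 : f R * f R = 1 := (h.mul1 bd!).trans h.one

theorem rz (e : g * f Z * g⁻¹ = f Z ∨ g * f Z * g⁻¹ = (f Z)⁻¹) [Finite G] : ∃ k ∈ D, f k = g :=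
  h.nz g ((mem_norm_three h.z3 h.z1).2 e)

theorem cz (e : Commute g (f Z)) [Finite G] : ∃ k ∈ D, Commute k Z ∧ f k = g := by
  obtain ⟨k, a, rfl⟩ := h.rz (Or.inl (conj_of_comm e))
  exact ⟨k, a, (h.cm a (h.le bd!)).1 e, rfl⟩

theorem jD (v : V4) : jK v ∈ D := h.le (jK_s1 v)

theorem add (u v : V4) : jv f (u + v) = jv f u * jv f v := by
  rw [jv, jK_add, h.mul (h.jD u) (h.jD v)]; rfl

/-- the coordinates as a homomorphism -/
noncomputable def jh : Multiplicative V4 →* G :=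
  MonoidHom.mk' (fun v => jv f v.toAdd) fun u v => h.add _ _

theorem zero : jv f 0 = 1 := h.jh.map_one

theorem neg (v : V4) : jv f (-v) = (jv f v)⁻¹ := h.jh.map_inv (Multiplicative.ofAdd v)

theorem nsmul (i : ℕ) (v : V4) : jv f (i • v) = jv f v ^ i := h.jh.map_pow (Multiplicative.ofAdd v) i

theorem j3 (v : V4) : jv f v ^ 3 = 1 := by
  rw [← h.nsmul, (by decide : ∀ v : V4, 3 • v = 0), h.zero]

theorem jc (u v : V4) : Commute (jv f u) (jv f v) := by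
  rw [Commute, SemiconjBy, ← h.add, ← h.add, add_comm]

theorem j1 (e : jv f v = 1) : v = 0 := jK_inj v (h.inj (h.jD v) e)

theorem jinj (e : jv f u = jv f v) : u = v :=
  sub_eq_zero.1 (h.j1 (by rw [sub_eq_add_neg, h.add, h.neg, e, mul_inv_cancel]))

theorem memJ : g ∈ JJ f ↔ ∃ v, jv f v = g :=
  ⟨fun a => (closure_le h.jh.range).2 (by rintro _ ⟨v, rfl⟩; exact ⟨Multiplicative.ofAdd v, rfl⟩) a,
    fun a => subset_closure a⟩

omit h in
theorem jJ (v : V4) : jv f v ∈ JJ f := subset_closure ⟨v, rfl⟩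

theorem cardJ : Nat.card (JJ f) = 81 := by
  rw [show JJ f = h.jh.range from Subgroup.ext fun _ => h.memJ, ← Nat.card_congr
    (MonoidHom.ofInjective (f := h.jh) fun u v e => h.jinj e).toEquiv]
  simp

theorem ac (hk : k ∈ D) (e : ∀ v, k * jK v * k⁻¹ = jK (L v)) : Ac f (f k) L := fun v => by
  rw [jv, jv, ← e, h.cj hk (h.jD v)]

theorem acT : Ac f (f T) (rf (ev 0)) := h.ac (h.le bd!) jK_T

theorem acR : Ac f (f R) fun v => -v := h.ac (h.le bd!) jK_R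

theorem acC : Ac f (f C) (sp (swap 1 2 * swap 2 3) 1) := h.ac (h.le bd!) jK_C

theorem acB : Ac f (f B) fun v => rf ![1, 1, 1, 1] (rf (ev 0) v) := h.ac (h.le bd!) jK_B

theorem acX (hX : X ∈ D) : Ac f (f X) (sp (swap 2 3) 1) := h.ac hX jK_X

theorem acJ (u : V4) : Ac f (jv f u) id := fun v => conj_of_comm (h.jc u v)

theorem nrm [Finite G] (a : Ac f n L) : n ∈ 𝐍[JJ f] := mem_normalizer_fintype fun g b => by
  obtain ⟨v, rfl⟩ := h.memJ.1 b
  exact a v ▸ jJ _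

theorem exAc (hn : n ∈ 𝐍[JJ f]) : ∃ L, Ac f n L := by
  choose L hL using fun v => h.memJ.1 (conj_mem_of_mem_normalizer hn (jJ v))
  exact ⟨L, fun v => (hL v).symm⟩

theorem ac_add (a : Ac f n L) (u v : V4) : L (u + v) = L u + L v :=
  h.jinj (by rw [h.add, ← a, ← a, ← a, h.add, conj_mul])

/-- an action is determined by the images of the unit vectors -/
theorem ac_of (hL : ∀ u v, L (u + v) = L u + L v)
    (e : ∀ i, n * jv f (ev i) * n⁻¹ = jv f (L (ev i))) : Ac f n L := fun v => by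
  let α := (MulAut.conj n).toMonoidHom.comp h.jh
  let β := h.jh.comp (AddMonoidHom.toMultiplicative (AddMonoidHom.mk' L hL))
  have p : ∀ i k, α (Multiplicative.ofAdd (ev i) ^ k) = β (Multiplicative.ofAdd (ev i) ^ k) :=
    fun i (k : ℕ) => by rw [map_pow, map_pow]; exact congrArg (· ^ k) (e i)
  change α (Multiplicative.ofAdd v) = β (Multiplicative.ofAdd v)
  rw [(by decide +kernel : ∀ v : V4, Multiplicative.ofAdd v = Multiplicative.ofAdd (ev 0) ^ (v 0).val *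
    (Multiplicative.ofAdd (ev 1) ^ (v 1).val * (Multiplicative.ofAdd (ev 2) ^ (v 2).val *
      Multiplicative.ofAdd (ev 3) ^ (v 3).val))) v]
  simp only [map_mul, p]

end Ch

namespace Ac

variable {f : K → G} {n m : G} {L L' : V4 → V4} {u v : V4}

theorem mul (a : Ac f n L) (b : Ac f m L') : Ac f (n * m) fun v => L (L' v) := fun v => by
  rw [← a, ← b]; group

theorem cong (a : Ac f n L) (e : ∀ v, L v = L' v) : Ac f n L' := fun v => e v ▸ a v

theorem inv (a : Ac f n L) (e : ∀ v, L (L' v) = v) : Ac f n⁻¹ L' := fun v => by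
  rw [← e v, ← a, e]; group

theorem comm (a : Ac f n L) (e : L v = v) : Commute n (jv f v) := comm_of_conj (by rw [a, e])

theorem cj (a : Ac f n L) (e : L u = v) : n * jv f u * n⁻¹ = jv f v := e ▸ a u

end Ac

end Cfsg.Agent.O8T
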