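import Cfsg.Agent.Loc3.O8C3
import Cfsg.Agent.Loc3.O8D

/-!
The chart.
-/

set_option autoImplicit false
set_option maxRecDepth 100000
set_option synthInstance.maxHeartbeats 400000
set_option synthInstance.maxSize 4000

namespace Cfsg.Agent.O8T

open Subgroup Cfsg Cfsg.Agent.PLocal.Amb Cfsg.Agent.Loc3 Cfsg.Agent.Comp Cfsg.Agent.LES
open Cfsg.Agent.X32 (TG)
open Cfsg.Agent.X32.TG
open Cfsg.Agent.Loc3.Pr hiding V rf
open Cfsg.Agent.TT (XS)
open Cfsg.Agent.PS4 (K2 l2)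
open Equiv (Perm swap)
open scoped commutatorElement

variable {G : Type*} [Group G] [Finite G] {z t a e u w y r c n p : G} {Q L : Subgroup G}
  {π : G → G23.Am.M2}

theorem inj_of {D : Subgroup K} (le : s1 ≤ D) {φ : D →* G} (c : φ ⟨Z, le bd!⟩ ≠ 1) :
    Function.Injective φ := by
  have g : ∀ k : D, k.1 ∈ sZ → φ k = 1 → k.1 = 1 := fun k hk e => by
    rcases (bd! : ∀ k ∈ sZ, k = 1 ∨ k = Z ∨ k⁻¹ = Z) k hk with a | a | a
    · exact a
    · exact absurd ((congrArg φ (Subtype.ext a.symm)).trans e) c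
    · exact absurd ((congrArg φ (Subtype.ext a.symm : _ = k⁻¹)).trans (by rw [map_inv, e, inv_one])) c
  have m := (bd! : ∀ c ∈ [V, A, B, C], c ∈ s1)
  have f : ∀ k : D, k.1 ∈ sQ → φ k = 1 → k.1 = 1 := fun k hk e => by
    rcases (bd! : ∀ k ∈ sQ, k ∈ sZ ∨ ∃ c ∈ [V, A, B, C], ⁅c, k⁆ ≠ 1 ∧ ⁅c, k⁆ ∈ sZ) k hk
      with a | ⟨w, d, a, b⟩
    exacts [g k a e, absurd (g ⁅(⟨w, le (m w d)⟩ : D), k⁆ b (by simp [e])) a]
  refine (injective_iff_map_eq_one φ).2 fun k e => Subtype.ext ?_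
  rcases (bd! : ∀ k, k ∈ sQ ∨ ∃ c ∈ [V, A, B, C], ⁅c, k⁆ ≠ 1 ∧ ⁅c, k⁆ ∈ sQ) k with a | ⟨w, d, a, b⟩
  exacts [f k a e, absurd (f ⁅(⟨w, le (m w d)⟩ : D), k⁆ b (by simp [e])) a]

theorem card_norm (h : Ey z Q L π) :
    Nat.card 𝐍[zpowers z] ≤ 2 * Nat.card (centralizer ({z} : Set G)) := by
  refine (card_le_two (K := centralizer {z}) fun a ha b hb => ?_).trans
    (Nat.mul_le_mul_left 2 (card_le_of_le inf_le_left))
  rcases (mem_norm_three h.z3 h.z1).1 ha with p | p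
  · exact Or.inl (mem_cent.2 (comm_of_conj p))
  rcases (mem_norm_three h.z3 h.z1).1 hb with q | q
  · exact Or.inr (Or.inl (mem_cent.2 (comm_of_conj q)))
  refine Or.inr (Or.inr (mem_cent.2 (comm_of_conj ?_)))
  rw [show a * b * z * (a * b)⁻¹ = a * (b * z * b⁻¹) * a⁻¹ by group, q, ← conj_inv, p, inv_inv]

namespace Gn

variable (h : Gn z Q L π t a e u w y r n p)
include h

theorem VQ : p⁻¹ * y * p * y⁻¹ ∈ Q := by
  simpa [mul_assoc] using mul_mem (inv_mem h.fQ) (h.cj (h.nk h.yK) h.fQ)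

theorem ch_of {D : Subgroup K} (le : s1 ≤ D) (φ : D →* G) (eN : φ ⟨N, le bd!⟩ = n)
    (eY : φ ⟨Y, le bd!⟩ = y) (eA : φ ⟨A, le bd!⟩ = a) (eC : φ ⟨C, le bd!⟩ = p)
    (rg : ∀ k, φ k ∈ 𝐍[zpowers z]) (cd : Nat.card 𝐍[zpowers z] ≤ Nat.card D) :
    ∃ f : K → G, Ch D f := by
  classical
  have bQ := h.cj (h.nk h.mn) h.aQ
  have eZ : φ ⟨Z, le bd!⟩ = ⁅a, n * a * n⁻¹⁆ ∨ φ ⟨Z, le bd!⟩ = ⁅a, n * a * n⁻¹⁆⁻¹ := by
    rw [← eA, ← eN, ← map_inv, ← map_mul, ← map_mul, ← map_commutatorElement, ← map_inv]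
    exact (bd! : Z = ⁅A, N * A * N⁻¹⁆ ∨ Z = ⁅A, N * A * N⁻¹⁆⁻¹).imp
      (fun e => congrArg φ (Subtype.ext e)) fun e => congrArg φ (Subtype.ext e)
  have z0 := mt commutatorElement_eq_one_iff_commute.1 h.ab
  have z1 : φ ⟨Z, le bd!⟩ ≠ 1 := eZ.elim (· ▸ z0) (· ▸ mt inv_eq_one.1 z0)
  have zz : φ ⟨Z, le bd!⟩ ∈ zpowers z := eZ.elim (· ▸ h.cm h.aQ bQ) (· ▸ inv_mem (h.cm h.aQ bQ))
  have i := inj_of le z1
  have eV : φ ⟨A * V, le bd!⟩ = a * (p⁻¹ * y * p * y⁻¹) := by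
    rw [← eA, ← eC, ← eY, ← map_inv, ← map_inv, ← map_mul, ← map_mul, ← map_mul, ← map_mul]
    exact congrArg φ (Subtype.ext (bd! : A * V = A * (C⁻¹ * Y * C * Y⁻¹)))
  have ff : ∀ {k} (hk : k ∈ D), (if h : k ∈ D then φ ⟨k, h⟩ else 1) = φ ⟨k, hk⟩ := fun hk => dif_pos hk
  refine ⟨fun k => if h : k ∈ D then φ ⟨k, h⟩ else 1, le, fun ha hb => ?_, fun ha e => ?_,
    fun g hg => ?_, ?_⟩
  · rw [ff ha, ff hb, ff (mul_mem ha hb), ← map_mul]; rfl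
  · rw [ff ha] at e
    exact congrArg Subtype.val (i (e.trans φ.map_one.symm))
  · rw [ff (le bd!), L43.zp h.z3 zz z1] at hg
    obtain ⟨k, rfl⟩ := (eq_of_le_of_card_ge (show φ.range ≤ _ by rintro _ ⟨k, rfl⟩; exact rg k) (by
      rwa [← Nat.card_congr (MonoidHom.ofInjective i).toEquiv])).ge hg
    exact ⟨k, k.2, ff k.2⟩
  · rw [ff (le bd!), ff (le bd!), eV]
    have m := mul_mem h.aQ h.eQ
    obtain ⟨c, -, hc⟩ := h.exc' m (fun c => h.ua (by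
      simpa using (h.cZ' (h.cz h.uQ) c).mul_right h.ue.inv_right)) h.fv
    have : a * e * (p⁻¹ * y * p * y⁻¹ * e⁻¹) = a * (p⁻¹ * y * p * y⁻¹) := by
      rw [mul_assoc a, (h.cZ' (h.cz h.eQ) h.fv).eq, inv_mul_cancel_right]
    refine IsConj.trans ?_ (h.cv.trans (isConj_iff.2 ⟨c, hc.trans this⟩))
    rcases (Loc3.mem_zpowers_three h.z3).1 zz with p | p | p
    exacts [absurd p z1, p ▸ IsConj.refl _, p ▸ (isConj_iff.2 ⟨r, h.rz⟩).symm]

theorem rels (x : ℕ → G) (e0 : x 0 = n) (e1 : x 1 = n⁻¹) (e2 : x 2 = y) (e3 : x 3 = y⁻¹) (e4 : x 4 = r)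
    (e5 : x 5 = a) (e6 : x 6 = a⁻¹) (e7 : x 7 = p) (e8 : x 8 = p⁻¹) :
    ∀ W ∈ P1.rels, BN.ev x W = 1 := by
  have ki : ∀ {w : G}, r * w * r⁻¹ = w⁻¹ → r * (w * (r * w)) = 1 := fun b => by
    rw [He5.inv_self h.r2] at b; rw [← mul_assoc, ← mul_assoc, b, inv_mul_cancel]
  have kc : ∀ {w : G}, Commute r w → r * (w * (r * w⁻¹)) = 1 := fun b => by
    rw [← mul_assoc, ← mul_assoc, b.eq, mul_assoc _ r r, h.r2, mul_one, mul_inv_cancel]
  have kd : ∀ {u w : G}, Commute u w → u * (w * (u⁻¹ * w⁻¹)) = 1 := fun b => by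
    simpa [commutatorElement_def, mul_assoc] using b.commutator_eq
  obtain ⟨-, n4, tn⟩ := Ey.sq4 h.t2 h.n2
  have al : ∀ {q}, q ∈ Q → Commute t q → Commute n q := h.al h.tK h.tp h.t2 h.mn n4 tn
  have tV : Commute t (p⁻¹ * y * p * y⁻¹) :=
    ((h.tf.inv_right.mul_right h.ty).mul_right h.tf).mul_right h.ty.inv_right
  have yV : Commute y (p⁻¹ * y * p * y⁻¹) := by
    simpa using (h.cZ' h.yz h.fv).mul_right h.ye
  have ty := h.ty
  have ta := h.ta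
  rw [← h.n2] at ty ta
  refine BN.AllP.forall ⟨?_, ?_, ?_, ?_, ?_, ?_, ?_, ?_, ?_, ?_, ?_, ?_, ?_, ?_, ?_, ?_, ?_, ?_, trivial⟩ <;>
    simp only [BN.ev_cons, BN.ev_nil, e0, e1, e2, e3, e4, e5, e6, e7, e8, mul_one]
  · simpa [mul_assoc, pow_succ] using n4
  · simpa [mul_assoc, pow_succ] using h.y3
  · simpa [mul_assoc, pow_succ] using h.n3
  · simpa [mul_assoc] using kd ty
  · exact ki h.rn
  · exact ki h.ry
  · simpa [mul_assoc, pow_succ] using h.ex h.aQ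
  · simpa [mul_assoc, pow_succ] using h.ex h.fQ
  · exact ki h.ra
  · exact kd h.ya
  · simpa [mul_assoc] using congrArg (· * a) ta
  · simpa [mul_assoc] using congrArg (· * a⁻¹ * (n * a * n⁻¹)⁻¹ * a⁻¹) h.yb
  · exact kc h.rf
  · exact kd (al h.fQ h.tf)
  · exact kd (h.c1 h.aQ h.fQ h.ta h.tf)
  · simpa [mul_assoc] using kd yV
  · simpa [mul_assoc] using kd (al h.VQ tV)
  · simpa [mul_assoc, commutatorElement_def] using h.fa

theorem gensN : ∀ g ∈ [n, n⁻¹, y, y⁻¹, r, a, a⁻¹, p, p⁻¹], g ∈ 𝐍[zpowers z] := by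
  simp only [List.forall_mem_cons, inv_mem_iff]
  exact ⟨h.nk h.mn, h.nk h.mn, h.nk h.yK, h.nk h.yK, (mem_norm_three h.z3 h.z1).2 (Or.inr h.rz),
    h.nz (h.cz h.aQ), h.nz (h.cz h.aQ), h.nz (h.cz h.fQ), h.nz (h.cz h.fQ), by simp⟩

end Gn

theorem Gn.chart1 (h : Gn z Q L π t a e u w y r n p) (hL : ∀ g, Commute g z → g ∈ L) :
    ∃ f : K → G, Ch s1 f := by
  obtain ⟨φ, e⟩ := link_hom link1 (x := tup [n, n⁻¹, y, y⁻¹, r, a, a⁻¹, p, p⁻¹]) (sat_tup le_rfl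
    (fun k hk => by
      have : k < 9 := List.mem_range.1 hk
      interval_cases k <;> first | exact inv_mul_cancel _ | exact mul_inv_cancel _ | exact h.r2)
    (h.rels _ rfl rfl rfl rfl rfl rfl rfl rfl rfl))
  have e' : ∀ k, φ (x1 k) = tup [n, n⁻¹, y, y⁻¹, r, a, a⁻¹, p, p⁻¹] k := fun k => by simpa using e [k]
  refine h.ch_of le_rfl φ (e' 0) (e' 2) (e' 5) (e' 7) (fun k => ?_) ?_
  · refine (BN.gen_le (H := comap φ 𝐍[zpowers z]) fun i => ?_) (link1.top.ge (mem_top k))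
    rw [mem_comap, e']
    rcases lt_or_ge i 9 with hi | hi
    · exact h.gensN _ (by rw [tup, List.getD_eq_getElem _ _ hi]; exact List.getElem_mem _)
    · rw [tup, List.getD_eq_default _ _ hi]; exact one_mem _
  · rw [G23.Am.card_seg (by decide)]
    refine (card_norm h.toEy).trans ((Nat.mul_le_mul_left 2 (card_le_of_le (K := L)
      fun g hg => hL g (mem_cent.1 hg))).trans_eq (by rw [h.cK]))

theorem Gn.chart2 (h : Gn z Q L π t a e u w y r n p) (k : Oc z Q π t a y r c) :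
    ∃ f : K → G, Ch ⊤ f := by
  obtain ⟨cn, cp⟩ := h.oc k
  have kc : ∀ {w : G}, Commute c w → c * (w * (c * w⁻¹)) = 1 := fun b => by
    rw [← mul_assoc, ← mul_assoc, b.eq, mul_assoc _ c c, k.c2, mul_one, mul_inv_cancel]
  have r2 : ∀ W ∈ [[9, 0, 9, 1], [9, 2, 9, 3], [9, 4, 9, 4], [9, 5, 9, 6], [9, 7, 9, 7]],
      BN.ev (tup [n, n⁻¹, y, y⁻¹, r, a, a⁻¹, p, p⁻¹, c]) W = 1 :=
    BN.AllP.forall ⟨by simpa [tup] using kc cn, by simpa [tup] using kc k.cy,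
      by simpa [tup, He5.inv_self h.r2] using kc k.cr, by simpa [tup] using kc k.ca,
      by simpa [tup, He5.inv_self k.c2, mul_assoc] using congrArg (· * p) cp, trivial⟩
  obtain ⟨φ, e⟩ := link_hom link2 (x := tup [n, n⁻¹, y, y⁻¹, r, a, a⁻¹, p, p⁻¹, c]) (sat_tup le_rfl
    (fun k' hk => by
      have : k' < 10 := List.mem_range.1 hk
      interval_cases k' <;>
        first | exact inv_mul_cancel _ | exact mul_inv_cancel _ | exact h.r2 | exact k.c2)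
    fun W hW => (List.mem_append.1 (show W ∈ P1.rels ++ _ from hW)).elim
      (h.rels _ rfl rfl rfl rfl rfl rfl rfl rfl rfl W) (r2 W))
  have e' : ∀ k, φ (tup lK k) = tup [n, n⁻¹, y, y⁻¹, r, a, a⁻¹, p, p⁻¹, c] k :=
    fun k => by simpa using e [k]
  refine h.ch_of le_top (φ.comp (Subgroup.subtype ⊤)) (e' 0) (e' 2) (e' 5) (e' 7) (fun j => ?_) ?_
  · refine X32.range_le_of_gen link2.top (fun i hi => ?_) j.1
    rw [e']
    have : i < 10 := hi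
    by_cases i9 : i = 9
    · subst i9; exact h.nz k.cz
    · exact h.gensN _ (by interval_cases i <;> simp [tup] at i9 ⊢)
  · rw [card_top, TG.card]
    refine (card_norm h.toEy).trans ((Nat.mul_le_mul_left 2 ((card_le_two (K := L)
      fun a ha b hb => h.idx (mem_cent.1 ha) (mem_cent.1 hb)).trans
        (Nat.mul_le_mul_left 2 (card_le_of_le inf_le_left)))).trans_eq (by rw [h.cK]; rfl))

end Cfsg.Agent.O8T
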