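import Cfsg.Agent.L43.KCert

set_option autoImplicit false
set_option Elab.async false
set_option maxRecDepth 100000

namespace Cfsg.Agent.O8T

open Cfsg.Agent.Comp.BN

def P1 : Pres := ⟨[1, 0, 3, 2, 4, 6, 5, 8, 7],
  [[0, 0, 0, 0],
   [2, 2, 2],
   [2, 0, 2, 0, 2, 0],
   [0, 0, 2, 1, 1, 3],
   [4, 0, 4, 0],
   [4, 2, 4, 2],
   [5, 5, 5],
   [7, 7, 7],
   [4, 5, 4, 5],
   [2, 5, 3, 6],
   [0, 0, 5, 1, 1, 5],
   [2, 0, 5, 1, 3, 6, 0, 6, 1, 6],
   [4, 7, 4, 8],
   [0, 7, 1, 8],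
   [5, 7, 6, 8],
   [2, 8, 2, 7, 3, 8, 3, 7],
   [0, 8, 2, 7, 3, 1, 2, 8, 3, 7],
   [2, 7, 3, 8, 2, 8, 3, 7, 5, 0, 5, 1, 6, 0, 6, 1]]⟩

namespace A1
noncomputable def m0_0 : ℕ := nat_lit 0xbcfa47f0075b7667d93dac2c4a1ed7c2

noncomputable def m0_1 : ℕ := nat_lit 0x545320cd3e78d48c000000000000000019b34f59da9a9b88

noncomputable def m0_2 : ℕ := nat_lit 0xf3f224e1000000005ade861d0000000000f73f93000000008d71cbf4

noncomputable def m0_3 : ℕ := nat_lit 0xcf500001c7f0000354f00007702000060bd00009caf000010900000371e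

noncomputable def m0_4 : ℕ := nat_lit 0x3e008c00e0008200f5000b0011000f0061006300e400d2000b00ad00c50064

noncomputable def m0_5 : ℕ := nat_lit 0x201040c0806060f01010a010f070c0d0901000006020e05010a000f0e0c0108

noncomputable def m0_6 : ℕ := nat_lit 0x312303000321021020322102103323100020030121002311300201230013122

noncomputable def m0_7 : ℕ := nat_lit 0x4001401540441045154001000004411141141110415044145041401544045104

noncomputable def m0_8 : ℕ := nat_lit 0x2000000000020000200000000000220020000020000000200022200020020202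

noncomputable def m0_9 : ℕ := nat_lit 0x60a0006000804060a0602040c000c08080400040c06040c000404040a04020c

noncomputable def m0_10 : ℕ := nat_lit 0x34004c006800920050000a00480030002800f000f200da004400ec00960042

noncomputable def m0_11 : ℕ := nat_lit 0x20b0000014fc000042480000e76c000021bc00004c0c0000f9900000b21e

noncomputable def m0_12 : ℕ := nat_lit 0x470e04e40000000072a94514000000005b622f9400000000af3587d6

noncomputable def m0_13 : ℕ := nat_lit 0x609228c954ccd6c000000000000000005ab6fb7868180a2a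

noncomputable def m0_14 : ℕ := nat_lit 0xbcfc0ff771e22e73d277c42a7f5a56a2

noncomputable def net0 : Net := (.cons 128 m0_0 (.cons 64 m0_1 (.cons 32 m0_2 (.cons 16 m0_3 (.cons 8 m0_4 (.cons 4 m0_5 (.cons 2 m0_6 (.cons 1 m0_7 (.cons 2 m0_8 (.cons 4 m0_9 (.cons 8 m0_10 (.cons 16 m0_11 (.cons 32 m0_12 (.cons 64 m0_13 (.cons 128 m0_14 .nil)))))))))))))))

theorem ok0 : Net.ok 256 net0 = true :=
  by decide +kernel

noncomputable def net1 : Net := (.cons 128 m0_14 (.cons 64 m0_13 (.cons 32 m0_12 (.cons 16 m0_11 (.cons 8 m0_10 (.cons 4 m0_9 (.cons 2 m0_8 (.cons 1 m0_7 (.cons 2 m0_6 (.cons 4 m0_5 (.cons 8 m0_4 (.cons 16 m0_3 (.cons 32 m0_2 (.cons 64 m0_1 (.cons 128 m0_0 .nil)))))))))))))))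

theorem ok1 : Net.ok 256 net1 = true :=
  by decide +kernel

noncomputable def m2_0 : ℕ := nat_lit 0xe18ce28521f267850430d24457617df8

noncomputable def m2_1 : ℕ := nat_lit 0xc26b9fc859ac04d1000000000000000066df317b98bc0fbc

noncomputable def m2_2 : ℕ := nat_lit 0xe37ef27600000000c3047c3e00000000c7e6628100000000e240c864

noncomputable def m2_3 : ℕ := nat_lit 0x38880000b1210000140d0000d389000082d700003bc20000d93d0000d194

noncomputable def m2_4 : ℕ := nat_lit 0x1d009800fd00e200e100eb00f30039008500450080009c005100da0000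

noncomputable def m2_5 : ℕ := nat_lit 0xd090e000e0d0c08090c080b080c0509060d040a0d0e080f0c0e0e020e080a08

noncomputable def m2_6 : ℕ := nat_lit 0x2320322322223033223132120330001202021112310022233223310010110020

noncomputable def m2_7 : ℕ := nat_lit 0x1444414441541045114415440551510141454011111414145401500140100140

noncomputable def m2_8 : ℕ := nat_lit 0x200222220000000222200200000000222202002202002000200000020000220

noncomputable def m2_9 : ℕ := nat_lit 0xc000400000004000008000e080a00080408000a0a0a000e08060e020e000200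

noncomputable def m2_10 : ℕ := nat_lit 0x1a001000740078006800e000a600100044001a002a009a000400d00008

noncomputable def m2_11 : ℕ := nat_lit 0x99300000c80800000a8e0000935800000256000015800000911800005994

noncomputable def m2_12 : ℕ := nat_lit 0xc07d674e000000001e1cf89c00000000cfa7e10000000000ec53c860

noncomputable def m2_13 : ℕ := nat_lit 0x22efbfcf1b63238000000000000000006ed83657b126c7dc

noncomputable def m2_14 : ℕ := nat_lit 0xe18ce50504f24780a03142422eeafdf8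

noncomputable def net2 : Net := (.cons 128 m2_0 (.cons 64 m2_1 (.cons 32 m2_2 (.cons 16 m2_3 (.cons 8 m2_4 (.cons 4 m2_5 (.cons 2 m2_6 (.cons 1 m2_7 (.cons 2 m2_8 (.cons 4 m2_9 (.cons 8 m2_10 (.cons 16 m2_11 (.cons 32 m2_12 (.cons 64 m2_13 (.cons 128 m2_14 .nil)))))))))))))))

theorem ok2 : Net.ok 256 net2 = true :=
  by decide +kernel

noncomputable def net3 : Net := (.cons 128 m2_14 (.cons 64 m2_13 (.cons 32 m2_12 (.cons 16 m2_11 (.cons 8 m2_10 (.cons 4 m2_9 (.cons 2 m2_8 (.cons 1 m2_7 (.cons 2 m2_6 (.cons 4 m2_5 (.cons 8 m2_4 (.cons 16 m2_3 (.cons 32 m2_2 (.cons 64 m2_1 (.cons 128 m2_0 .nil)))))))))))))))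

theorem ok3 : Net.ok 256 net3 = true :=
  by decide +kernel

noncomputable def m4_0 : ℕ := nat_lit 0xf8000000000000000000000000000000

noncomputable def m4_1 : ℕ := nat_lit 0xf9e7ff80000000180000000000000000e000000000000000

noncomputable def m4_2 : ℕ := nat_lit 0xfffbff8400000000fff8000000000000ffefa80200000000f8000000

noncomputable def m4_3 : ℕ := nat_lit 0xff840000555600008000000069440000f52b0000ba0c0000680700008000

noncomputable def m4_4 : ℕ := nat_lit 0x980080009d00380080008200b600d60023004500d300ad006800f800810080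

noncomputable def m4_5 : ℕ := nat_lit 0x8070f03040b06000608080a0407040f0d0f0d09050d0a0a03060a0609080800

noncomputable def m4_6 : ℕ := nat_lit 0x3021001201112030333303331311020013100101201202112132332322233302

noncomputable def m4_7 : ℕ := nat_lit 0x555005550140505550550000541505514400104041401055551001511455004

noncomputable def m4_8 : ℕ := nat_lit 0x220000000000000022000022200202002200000002002022200002

noncomputable def m4_9 : ℕ := nat_lit 0x808000c00000600000808000408040006020002040002080c00000000080800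

noncomputable def m4_10 : ℕ := nat_lit 0x980080005800380080000000a2005200b2004c00d4000a006800f800000080

noncomputable def m4_11 : ℕ := nat_lit 0xff8000005552000080000000694400000ad400007c220000000000008000

noncomputable def m4_12 : ℕ := nat_lit 0x7ffff78000000000fff8000000000000bedef80000000000f8000000

noncomputable def m4_13 : ℕ := nat_lit 0x99e7ff80000000000000000000000000e000000000000000

noncomputable def m4_14 : ℕ := nat_lit 0xf8000000000000000000000000000000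

noncomputable def net4 : Net := (.cons 128 m4_0 (.cons 64 m4_1 (.cons 32 m4_2 (.cons 16 m4_3 (.cons 8 m4_4 (.cons 4 m4_5 (.cons 2 m4_6 (.cons 1 m4_7 (.cons 2 m4_8 (.cons 4 m4_9 (.cons 8 m4_10 (.cons 16 m4_11 (.cons 32 m4_12 (.cons 64 m4_13 (.cons 128 m4_14 .nil)))))))))))))))

theorem ok4 : Net.ok 256 net4 = true :=
  by decide +kernel

noncomputable def m5_0 : ℕ := nat_lit 0x2a8c4fd3afa9a4b9f20bb54050de8db8

noncomputable def m5_1 : ℕ := nat_lit 0x20f4159fefdb4400000000000000000042b17b13449f7649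

noncomputable def m5_2 : ℕ := nat_lit 0xd5a5900c000000007b195a5d0000000019c65ca200000000c60dfa33

noncomputable def m5_3 : ℕ := nat_lit 0xf5cb00009fcd0000ff4d000031020000face0000ed4d000035cb0000d301

noncomputable def m5_4 : ℕ := nat_lit 0xcf00a800dc00a000d000bb00c600930031008000cc00970091001100a700c1

noncomputable def m5_5 : ℕ := nat_lit 0xb040f0a060e0a0d020d050500060a0f0e0e08070a0b070503020109060a0d0a

noncomputable def m5_6 : ℕ := nat_lit 0x123021002320021301220101300022010000021102120102032110012323031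

noncomputable def m5_7 : ℕ := nat_lit 0x1100015011410010400140401104004041040140101510040040004044410040

noncomputable def m5_8 : ℕ := nat_lit 0x2000020002020000000020002002000002020000200020020020002002220020

noncomputable def m5_9 : ℕ := nat_lit 0x40400060004000e0600040402040000060c0004060a0006080e000c0c0c0004

noncomputable def m5_10 : ℕ := nat_lit 0xb4008e00e000880002009000280028009c005600dc0040007a006800500000

noncomputable def m5_11 : ℕ := nat_lit 0x79a20000bf120000a0c00000c4a60000ac0a0000582600003edc00000e06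

noncomputable def m5_12 : ℕ := nat_lit 0xd5785d2200000000aa10d9c400000000de37d160000000005274f8ae

noncomputable def m5_13 : ℕ := nat_lit 0x287ce00673a490100000000000000000d396bcb879efb3aa

noncomputable def m5_14 : ℕ := nat_lit 0x2a8d24668d540ae3103b0bad0b6787b0

noncomputable def net5 : Net := (.cons 128 m5_0 (.cons 64 m5_1 (.cons 32 m5_2 (.cons 16 m5_3 (.cons 8 m5_4 (.cons 4 m5_5 (.cons 2 m5_6 (.cons 1 m5_7 (.cons 2 m5_8 (.cons 4 m5_9 (.cons 8 m5_10 (.cons 16 m5_11 (.cons 32 m5_12 (.cons 64 m5_13 (.cons 128 m5_14 .nil)))))))))))))))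

theorem ok5 : Net.ok 256 net5 = true :=
  by decide +kernel

noncomputable def net6 : Net := (.cons 128 m5_14 (.cons 64 m5_13 (.cons 32 m5_12 (.cons 16 m5_11 (.cons 8 m5_10 (.cons 4 m5_9 (.cons 2 m5_8 (.cons 1 m5_7 (.cons 2 m5_6 (.cons 4 m5_5 (.cons 8 m5_4 (.cons 16 m5_3 (.cons 32 m5_2 (.cons 64 m5_1 (.cons 128 m5_0 .nil)))))))))))))))

theorem ok6 : Net.ok 256 net6 = true :=
  by decide +kernel

noncomputable def m7_0 : ℕ := nat_lit 0x41c1d208107c7f28fe9330013890010c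

noncomputable def m7_1 : ℕ := nat_lit 0xf477c4778f4410210000000000000000a0641425a998e145

noncomputable def m7_2 : ℕ := nat_lit 0xf1a1a501000000004e9a52f20000000074b4ea950000000085e83c4d

noncomputable def m7_3 : ℕ := nat_lit 0xd84c00001cd70000d42000004e5d0000c370000000400000b05a0000712e

noncomputable def m7_4 : ℕ := nat_lit 0x8700d100d100a60081005f00b7006d00b400400051005800f400b400c6008e

noncomputable def m7_5 : ℕ := nat_lit 0x30b070d0d080d0d07080c0c09090c08080e060d05080f020d040c0a0b0e0b03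

noncomputable def m7_6 : ℕ := nat_lit 0x2302133310323223232233022332310230200023032302312102021220311232

noncomputable def m7_7 : ℕ := nat_lit 0x5005144541144510415554415115414151111414151414454410055110541540

noncomputable def m7_8 : ℕ := nat_lit 0x22020200020220002020020000000022222002200202000000000020020

noncomputable def m7_9 : ℕ := nat_lit 0x606040a080600040a000800080406080202080a080a060c02080a0a02040e06

noncomputable def m7_10 : ℕ := nat_lit 0xe00b000ce00060008001e00c0004400e400a2004000000082005800e400b4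

noncomputable def m7_11 : ℕ := nat_lit 0x8d8800005bc60000926800003e180000a76000009020000008e00000cab4

noncomputable def m7_12 : ℕ := nat_lit 0x95d1cf88000000000d1ca86c00000000c088d40a00000000a9f3ea56

noncomputable def m7_13 : ℕ := nat_lit 0xf475a46f8baa08480000000000000000a849b2c1f293420a

noncomputable def m7_14 : ℕ := nat_lit 0x41c39890207aff599f255800b8200232

noncomputable def net7 : Net := (.cons 128 m7_0 (.cons 64 m7_1 (.cons 32 m7_2 (.cons 16 m7_3 (.cons 8 m7_4 (.cons 4 m7_5 (.cons 2 m7_6 (.cons 1 m7_7 (.cons 2 m7_8 (.cons 4 m7_9 (.cons 8 m7_10 (.cons 16 m7_11 (.cons 32 m7_12 (.cons 64 m7_13 (.cons 128 m7_14 .nil)))))))))))))))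

theorem ok7 : Net.ok 256 net7 = true :=
  by decide +kernel

noncomputable def net8 : Net := (.cons 128 m7_14 (.cons 64 m7_13 (.cons 32 m7_12 (.cons 16 m7_11 (.cons 8 m7_10 (.cons 4 m7_9 (.cons 2 m7_8 (.cons 1 m7_7 (.cons 2 m7_6 (.cons 4 m7_5 (.cons 8 m7_4 (.cons 16 m7_3 (.cons 32 m7_2 (.cons 64 m7_1 (.cons 128 m7_0 .nil)))))))))))))))

theorem ok8 : Net.ok 256 net8 = true :=
  by decide +kernel

noncomputable def nets : List Net := [net0, net1, net2, net3, net4, net5, net6, net7, net8]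

noncomputable def act : Act := netAct' nets
noncomputable def π : ℕ → Equiv.Perm ℕ := netPerm nets

theorem spec : act.Spec 256 π :=
  spec_fast (netAct_spec (AllP.forall (p := fun t => Net.ok 256 t = true) ⟨ok0, ok1, ok2, ok3, ok4, ok5, ok6, ok7, ok8, trivial⟩))

theorem out : ∀ k, 9 ≤ k → π k = 1 :=
  netPerm_out nets

theorem sat_inv_0 : invC Cfsg.Agent.O8T.A1.act Cfsg.Agent.O8T.P1.I 256 8 Cfsg.Agent.O8T.P1.inv.length [0, 1, 2, 3, 4, 5, 6, 7] = true :=
  by decide +kernel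

theorem sat_inv : ∀ k, Cfsg.Agent.O8T.A1.π (Cfsg.Agent.O8T.P1.I k) * Cfsg.Agent.O8T.A1.π k = 1 :=
  inv_of_checks Cfsg.Agent.O8T.A1.spec (K := 8) (by decide) Cfsg.Agent.O8T.A1.out [[0, 1, 2, 3, 4, 5, 6, 7]] (by decide) ⟨sat_inv_0, trivial⟩

theorem sat_rel_0_0 : relsC Cfsg.Agent.O8T.A1.act Cfsg.Agent.O8T.P1.I 256 8 [[0, 0, 0, 0], [2, 2, 2], [2, 0, 2, 0, 2, 0], [0, 0, 2, 1, 1, 3], [4, 0, 4, 0], [4, 2, 4, 2], [5, 5, 5], [7, 7, 7], [4, 5, 4, 5], [2, 5, 3, 6], [0, 0, 5, 1, 1, 5], [2, 0, 5, 1, 3, 6, 0, 6, 1, 6], [4, 7, 4, 8], [0, 7, 1, 8], [5, 7, 6, 8], [2, 8, 2, 7, 3, 8, 3, 7], [0, 8, 2, 7, 3, 1, 2, 8, 3, 7], [2, 7, 3, 8, 2, 8, 3, 7, 5, 0, 5, 1, 6, 0, 6, 1]] [0, 1, 2, 3, 4, 5, 6, 7] = true :=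
  by decide +kernel

theorem sat_rel_0 : ∀ r ∈ ([[0, 0, 0, 0], [2, 2, 2], [2, 0, 2, 0, 2, 0], [0, 0, 2, 1, 1, 3], [4, 0, 4, 0], [4, 2, 4, 2], [5, 5, 5], [7, 7, 7], [4, 5, 4, 5], [2, 5, 3, 6], [0, 0, 5, 1, 1, 5], [2, 0, 5, 1, 3, 6, 0, 6, 1, 6], [4, 7, 4, 8], [0, 7, 1, 8], [5, 7, 6, 8], [2, 8, 2, 7, 3, 8, 3, 7], [0, 8, 2, 7, 3, 1, 2, 8, 3, 7], [2, 7, 3, 8, 2, 8, 3, 7, 5, 0, 5, 1, 6, 0, 6, 1]] : List (List ℕ)), ev Cfsg.Agent.O8T.A1.π r = 1 :=
  rels_of_checks Cfsg.Agent.O8T.A1.spec (K := 8) (by decide) sat_inv _ [[0, 1, 2, 3, 4, 5, 6, 7]] (by decide) ⟨sat_rel_0_0, trivial⟩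

theorem sat_rel : ∀ r ∈ ([[0, 0, 0, 0], [2, 2, 2], [2, 0, 2, 0, 2, 0], [0, 0, 2, 1, 1, 3], [4, 0, 4, 0], [4, 2, 4, 2], [5, 5, 5], [7, 7, 7], [4, 5, 4, 5], [2, 5, 3, 6], [0, 0, 5, 1, 1, 5], [2, 0, 5, 1, 3, 6, 0, 6, 1, 6], [4, 7, 4, 8], [0, 7, 1, 8], [5, 7, 6, 8], [2, 8, 2, 7, 3, 8, 3, 7], [0, 8, 2, 7, 3, 1, 2, 8, 3, 7], [2, 7, 3, 8, 2, 8, 3, 7, 5, 0, 5, 1, 6, 0, 6, 1]] : List (List ℕ)), ev Cfsg.Agent.O8T.A1.π r = 1 :=
  rels_join [[[0, 0, 0, 0], [2, 2, 2], [2, 0, 2, 0, 2, 0], [0, 0, 2, 1, 1, 3], [4, 0, 4, 0], [4, 2, 4, 2], [5, 5, 5], [7, 7, 7], [4, 5, 4, 5], [2, 5, 3, 6], [0, 0, 5, 1, 1, 5], [2, 0, 5, 1, 3, 6, 0, 6, 1, 6], [4, 7, 4, 8], [0, 7, 1, 8], [5, 7, 6, 8], [2, 8, 2, 7, 3, 8, 3, 7], [0, 8, 2, 7, 3, 1, 2, 8, 3, 7], [2, 7, 3, 8, 2, 8, 3, 7, 5, 0, 5, 1, 6, 0, 6, 1]]] ⟨sat_rel_0, trivial⟩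

theorem sat : Sat Cfsg.Agent.O8T.P1 Cfsg.Agent.O8T.A1.π :=
  ⟨Cfsg.Agent.O8T.A1.out, sat_inv, sat_rel⟩

noncomputable def done_tr0 : ℕ := nat_lit 0x28292ba25782aa88bcdd52ad4b2acb1374aad54cccad4ab655552ad34ad34

noncomputable def done_tr1 : ℕ := nat_lit 0x49800782aaaaaaa802a810428a04612a8011112812a099802a9a6a846

noncomputable def done_tr2 : ℕ := nat_lit 0x4819800554b2cb2805500005146000550000005013401980551c75006

noncomputable def done_tr3 : ℕ := nat_lit 0x7fffb666787801451457f807edb061999e007fe66607ec1b667f806180798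

noncomputable def done_t0_0 : ℕ := nat_lit 0x3a080fdfffac852c12c09ffc10579ff5e512ad0000060d78169887fc73603

noncomputable def done_t0_1 : ℕ := nat_lit 0x7b0a3fc071fb32fb2f300502bdc07fc99d158026464600838825006dd07dc

noncomputable def done_t0_2 : ℕ := nat_lit 0x4f5c024707801a69a6fbd284c029e45dc17ad11116ffe986f5ff8120f800

noncomputable def done_t0_3 : ℕ := nat_lit 0x7ff84ffb8f87fe18618562d7c0350038226852c4221000200000000000000

noncomputable def done_t1_0 : ℕ := nat_lit 0x781a379fefd44061061007f989079e78666d2d000057f2a770ff878bcde03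

noncomputable def done_t1_1 : ℕ := nat_lit 0x7f858799e772ab3eb3e9857e2c301581807f52a64676031f08600073ac7bc

noncomputable def done_t1_2 : ℕ := nat_lit 0x7a786460f11063863fe528628af443d8ff2d0888a1fd036f1ff80c33800

noncomputable def done_t1_3 : ℕ := nat_lit 0x7ff84ffb9f8ffe9869841ad7c9850a382600d2c4220800400000000000000

noncomputable def done_t2_0 : ℕ := nat_lit 0xf9c2e7de84000809601d8079c6061e3868077f57e07f41f7e7a8061807f9

noncomputable def done_t2_1 : ℕ := nat_lit 0xffde67df87555f2d575ed554e95744419d5011094502b409d89551c75006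

noncomputable def done_t2_2 : ℕ := nat_lit 0x77857004007801629c50d0011660005e05802c2bc00078048024001000000

noncomputable def done_t2_3 : ℕ := nat_lit 0x607a9e7bc8000085022f2806e99860381a000000098004000200000000000

noncomputable def done_t3_0 : ℕ := nat_lit 0x3a98350071780083900bc803e3b86199df807ee76307e81f27d78061807f9

noncomputable def done_t3_1 : ℕ := nat_lit 0x7f98356076caab8fbafbcaad5fba8b9781aa881280281aa0f9892a926a806

noncomputable def done_t3_2 : ℕ := nat_lit 0x7e0aa80397001a51076e0043100001641802539c5004a04e024000800000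

noncomputable def done_t3_3 : ℕ := nat_lit 0x787fd1e64e8000428e0d3803c8d00189a0000000188024000000000000000

noncomputable def done_t4_0 : ℕ := nat_lit 0x1fffffffb60000000000000000000000007fffffffffffffff80000007fe1

noncomputable def done_t4_1 : ℕ := nat_lit 0x1fffffffb67fffffffffffffffffffffff800000000000000000000007ffe

noncomputable def done_t4_2 : ℕ := nat_lit 0x67fffffffffffffffffffffffffffffffffffffffffffffffffffffff8000

noncomputable def done_t4_3 : ℕ := nat_lit 0x7800000049800000000000000000000000000000000000000000000000000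

noncomputable def done_t5_0 : ℕ := nat_lit 0x1e6627898180061ce1c998784a981f9e797fff9191fe63fc000007821fe61

noncomputable def done_t5_1 : ℕ := nat_lit 0x1fe3290781fff9459459987feb907f9ffe800009097fedfbf70007f5c7f9c

noncomputable def done_t5_2 : ℕ := nat_lit 0x679891707e37fe98698667818427e1e0007fffe666006204807ff80400000

noncomputable def done_t5_3 : ℕ := nat_lit 0x7867be9e484801c59c5db8007bd0006601800009090000000000000000000

noncomputable def done_t6_0 : ℕ := nat_lit 0x619801687e0ff80200276f864cff81e7e67f806f6f7981e7000078061f9e1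

noncomputable def done_t6_1 : ℕ := nat_lit 0x79841e67e78077b77b76f87c087e1ffff80001090fffdfbee807869a7f9a

noncomputable def done_t6_2 : ℕ := nat_lit 0x1fe7b60181b7fe1c61c0907e31007f80007fffe666001c04807f878200000

noncomputable def done_t6_3 : ℕ := nat_lit 0x601ff1fff8480167167768005eb8000601800010908000000000000000000

noncomputable def done_t7_0 : ℕ := nat_lit 0x8080a290681141a012803f8024f8e2261f8000019f813e499807f9e7f867

noncomputable def done_t7_1 : ℕ := nat_lit 0x80922215484d8aad3fd547549205115146dd555c40548124455004100510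

noncomputable def done_t7_2 : ℕ := nat_lit 0x20204992810178106980000012000040007f8000000000000000000000000

noncomputable def done_t7_3 : ℕ := nat_lit 0x28284bb3858686aa9e7806f012071a4601800019800000000000000000000

noncomputable def done_t8_0 : ℕ := nat_lit 0x101204508797f61aa12006f8124f9a44615f8019807813e499807f9e7f867

noncomputable def done_t8_1 : ℕ := nat_lit 0x10109440abdb0b378aaaa95aa490248e8ab02aa23382a409222a802080288

noncomputable def done_t8_2 : ℕ := nat_lit 0x4546498d007e8688000000000000002000680000000000000000000000000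

noncomputable def done_t8_3 : ℕ := nat_lit 0x52d64dcd838049e7caa803d800058e2601800000198000000000000000000

noncomputable def doneC : TC := ⟨Cfsg.Agent.O8T.P1, [[0], [1], [2], [3], [4]], 243, 256, 8, 4, [done_tr0, done_tr1, done_tr2, done_tr3],
  [[done_t0_0, done_t0_1, done_t0_2, done_t0_3],
   [done_t1_0, done_t1_1, done_t1_2, done_t1_3],
   [done_t2_0, done_t2_1, done_t2_2, done_t2_3],
   [done_t3_0, done_t3_1, done_t3_2, done_t3_3],
   [done_t4_0, done_t4_1, done_t4_2, done_t4_3],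
   [done_t5_0, done_t5_1, done_t5_2, done_t5_3],
   [done_t6_0, done_t6_1, done_t6_2, done_t6_3],
   [done_t7_0, done_t7_1, done_t7_2, done_t7_3],
   [done_t8_0, done_t8_1, done_t8_2, done_t8_3]]⟩

theorem done_s : doneC.structC Cfsg.Agent.O8T.A1.act = true :=
  by decide +kernel

theorem done_c0_0 : doneC.coverC Cfsg.Agent.O8T.A1.act 0 true [(2, 1), (0, 0), (12, 1), (39, 0), (40, 1), (6, 1), (9, 0), (48, 0), (51, 9)] [(true, 0, 0, 0), (false, 9, 1, 28), (false, 9, 1, 30), (false, 9, 1, 48), (false, 10, 1, 9), (false, 10, 1, 10), (false, 10, 1, 24), (false, 10, 2, 7), (false, 10, 2, 8), (false, 10, 2, 19), (false, 10, 2, 20), (false, 10, 2, 55), (false, 10, 2, 56), (false, 30, 0, 169), (false, 30, 0, 181), (false, 30, 0, 147), (false, 30, 1, 1), (false, 30, 1, 81), (false, 30, 1, 90), (false, 30, 1, 178), (false, 30, 1, 190), (false, 31, 1, 0), (false, 31, 1, 6), (false, 31, 2, 5), (false, 33, 1, 18), (false, 33, 1, 43), (false,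 33, 1, 55), (false, 33, 1, 125), (false, 33, 1, 56), (false, 33, 1, 127)] 0 (ones 243) = true :=
  by decide +kernel

theorem done_j0 : doneC.JustS Cfsg.Agent.O8T.A1.π 0 (ones 243) :=
  TC.cover_step Cfsg.Agent.O8T.A1.spec done_s (TC.justS_zero 0) done_c0_0

theorem done_c1_0 : doneC.coverC Cfsg.Agent.O8T.A1.act 1 true [(2, 0), (1, 0), (13, 0), (39, 2), (40, 3)] [(true, 1, 0, 0), (false, 7, 0, 22), (false, 7, 0, 16), (false, 7, 0, 103), (false, 7, 0, 226), (false, 9, 3, 6), (false, 9, 3, 5), (false, 9, 3, 7), (false, 9, 3, 8), (false, 9, 3, 19), (false, 9, 3, 20), (false, 9, 4, 9), (false, 9, 4, 10), (false, 9, 4, 24), (false, 9, 4, 110), (false, 9, 4, 137), (false, 10, 4, 138), (false, 10, 4, 28), (false, 10, 4, 30), (false, 10, 4, 48), (false, 10, 5, 32), (false, 10, 5, 34), (false, 10, 5, 72), (false, 10, 5, 74), (false, 10, 5, 114), (false, 30, 3, 5), (false, 30, 4, 0), (false, 30, 4, 6), (false, 31, 4, 1)] 0 (ones 243)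 = true :=
  by decide +kernel

theorem done_j1 : doneC.JustS Cfsg.Agent.O8T.A1.π 1 (ones 243) :=
  TC.cover_step Cfsg.Agent.O8T.A1.spec done_s (TC.justS_zero 1) done_c1_0

theorem done_c2_0 : doneC.coverC Cfsg.Agent.O8T.A1.act 2 true [(8, 1), (3, 0), (15, 1), (27, 0), (28, 1), (6, 0), (45, 2), (48, 2)] [(true, 2, 0, 0), (false, 9, 2, 44), (false, 9, 2, 145)] 0 (ones 243) = true :=
  by decide +kernel

theorem done_j2 : doneC.JustS Cfsg.Agent.O8T.A1.π 2 (ones 243) :=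
  TC.cover_step Cfsg.Agent.O8T.A1.spec done_s (TC.justS_zero 2) done_c2_0

theorem done_c3_0 : doneC.coverC Cfsg.Agent.O8T.A1.act 3 true [(8, 0), (4, 0), (16, 0), (27, 2), (28, 3), (7, 1), (45, 4)] [(true, 3, 0, 0), (false, 9, 5, 220), (false, 10, 3, 18), (false, 10, 3, 142)] 0 (ones 243) = true :=
  by decide +kernel

theorem done_j3 : doneC.JustS Cfsg.Agent.O8T.A1.π 3 (ones 243) :=
  TC.cover_step Cfsg.Agent.O8T.A1.spec done_s (TC.justS_zero 3) done_c3_0

theorem done_c4_0 : doneC.coverC Cfsg.Agent.O8T.A1.act 4 true [(12, 0), (15, 0), (16, 1), (24, 0), (25, 1), (36, 0), (36, 2)] [(true, 4, 0, 0), (false, 13, 1, 236)] 0 (ones 243) = true :=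
  by decide +kernel

theorem done_j4 : doneC.JustS Cfsg.Agent.O8T.A1.π 4 (ones 243) :=
  TC.cover_step Cfsg.Agent.O8T.A1.spec done_s (TC.justS_zero 4) done_c4_0

theorem done_c5_0 : doneC.coverC Cfsg.Agent.O8T.A1.act 5 true [(17, 1), (18, 0), (24, 1), (27, 1), (28, 0), (42, 0), (43, 1)] [(false, 30, 2, 44)] 0 (ones 243) = true :=
  by decide +kernel

theorem done_j5 : doneC.JustS Cfsg.Agent.O8T.A1.π 5 (ones 243) :=
  TC.cover_step Cfsg.Agent.O8T.A1.spec done_s (TC.justS_zero 5) done_c5_0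

theorem done_c6_0 : doneC.coverC Cfsg.Agent.O8T.A1.act 6 true [(17, 0), (19, 0), (25, 0), (27, 3), (28, 2), (42, 2), (43, 3)] [(false, 31, 3, 15)] 0 (ones 243) = true :=
  by decide +kernel

theorem done_j6 : doneC.JustS Cfsg.Agent.O8T.A1.π 6 (ones 243) :=
  TC.cover_step Cfsg.Agent.O8T.A1.spec done_s (TC.justS_zero 6) done_c6_0

theorem done_c7_0 : doneC.coverC Cfsg.Agent.O8T.A1.act 7 true [(23, 1), (21, 0), (36, 1), (39, 1)] [(false, 40, 0, 188), (false, 40, 0, 80), (false, 40, 0, 169), (false, 40, 0, 108), (false, 40, 0, 242), (false, 40, 0, 215), (false, 42, 1, 79), (false, 42, 1, 208), (false, 43, 0, 151), (false, 43, 0, 121)] 0 (ones 243) = true :=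
  by decide +kernel

theorem done_j7 : doneC.JustS Cfsg.Agent.O8T.A1.π 7 (ones 243) :=
  TC.cover_step Cfsg.Agent.O8T.A1.spec done_s (TC.justS_zero 7) done_c7_0

theorem done_c8_0 : doneC.coverC Cfsg.Agent.O8T.A1.act 8 true [(23, 0), (22, 0), (36, 3), (39, 3), (45, 1)] [(false, 40, 2, 28), (false, 40, 2, 173), (false, 40, 2, 89), (false, 40, 2, 184), (false, 40, 2, 189), (false, 40, 2, 143), (false, 40, 2, 165), (false, 40, 2, 235), (false, 42, 3, 175), (false, 42, 3, 204), (false, 43, 2, 125)] 0 (ones 243) = true :=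
  by decide +kernel

theorem done_j8 : doneC.JustS Cfsg.Agent.O8T.A1.π 8 (ones 243) :=
  TC.cover_step Cfsg.Agent.O8T.A1.spec done_s (TC.justS_zero 8) done_c8_0

theorem done : doneC.Done Cfsg.Agent.O8T.A1.π :=
  TC.done_of Cfsg.Agent.O8T.A1.spec sat done_s ⟨done_j0, done_j1, done_j2, done_j3, done_j4, done_j5, done_j6, done_j7, done_j8, trivial⟩

end A1

theorem iA1 : Impl Cfsg.Agent.O8T.P1 Cfsg.Agent.L43.PH [[0], [1], [2], [3], [4]] :=
  impl_of_subC (P := Cfsg.Agent.O8T.P1) (c1 := [(54, 0), (54, 0), (54, 0), (54, 0), (54, 0)]) (c2 := [(0, 0), (3, 0), (6, 0), (9, 0), (12, 0), (15, 0)]) (by decide +kernel)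

theorem b1 : Bound Cfsg.Agent.O8T.P1 11664 :=
  A1.done.bound' Cfsg.Agent.L43.bH iA1 ⟨inSub_of_mem (by decide), inSub_of_mem (by decide), inSub_of_mem (by decide), inSub_of_mem (by decide), inSub_of_mem (by decide), trivial⟩

def P2 : Pres := ⟨[1, 0, 3, 2, 4, 6, 5, 8, 7, 9],
  [[0, 0, 0, 0],
   [2, 2, 2],
   [2, 0, 2, 0, 2, 0],
   [0, 0, 2, 1, 1, 3],
   [4, 0, 4, 0],
   [4, 2, 4, 2],
   [5, 5, 5],
   [7, 7, 7],
   [4, 5, 4, 5],
   [2, 5, 3, 6],
   [0, 0, 5, 1, 1, 5],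
   [2, 0, 5, 1, 3, 6, 0, 6, 1, 6],
   [4, 7, 4, 8],
   [0, 7, 1, 8],
   [5, 7, 6, 8],
   [2, 8, 2, 7, 3, 8, 3, 7],
   [0, 8, 2, 7, 3, 1, 2, 8, 3, 7],
   [2, 7, 3, 8, 2, 8, 3, 7, 5, 0, 5, 1, 6, 0, 6, 1],
   [9, 0, 9, 1],
   [9, 2, 9, 3],
   [9, 4, 9, 4],
   [9, 5, 9, 6],
   [9, 7, 9, 7]]⟩

namespace A2
noncomputable def net0 : Net := .nil

theorem ok0 : Net.ok 2 net0 = true :=
  by decide +kernel

noncomputable def net1 : Net := .nil

theorem ok1 : Net.ok 2 net1 = true :=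
  by decide +kernel

noncomputable def net2 : Net := .nil

theorem ok2 : Net.ok 2 net2 = true :=
  by decide +kernel

noncomputable def net3 : Net := .nil

theorem ok3 : Net.ok 2 net3 = true :=
  by decide +kernel

noncomputable def net4 : Net := .nil

theorem ok4 : Net.ok 2 net4 = true :=
  by decide +kernel

noncomputable def net5 : Net := .nil

theorem ok5 : Net.ok 2 net5 = true :=
  by decide +kernel

noncomputable def net6 : Net := .nil

theorem ok6 : Net.ok 2 net6 = true :=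
  by decide +kernel

noncomputable def net7 : Net := .nil

theorem ok7 : Net.ok 2 net7 = true :=
  by decide +kernel

noncomputable def net8 : Net := .nil

theorem ok8 : Net.ok 2 net8 = true :=
  by decide +kernel

noncomputable def m9_0 : ℕ := nat_lit 0x1

noncomputable def net9 : Net := (.cons 1 m9_0 .nil)

theorem ok9 : Net.ok 2 net9 = true :=
  by decide +kernel

noncomputable def nets : List Net := [net0, net1, net2, net3, net4, net5, net6, net7, net8, net9]

noncomputable def act : Act := netAct' nets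
noncomputable def π : ℕ → Equiv.Perm ℕ := netPerm nets

theorem spec : act.Spec 2 π :=
  spec_fast (netAct_spec (AllP.forall (p := fun t => Net.ok 2 t = true) ⟨ok0, ok1, ok2, ok3, ok4, ok5, ok6, ok7, ok8, ok9, trivial⟩))

theorem out : ∀ k, 10 ≤ k → π k = 1 :=
  netPerm_out nets

theorem sat_inv_0 : invC Cfsg.Agent.O8T.A2.act Cfsg.Agent.O8T.P2.I 2 1 Cfsg.Agent.O8T.P2.inv.length [0] = true :=
  by decide +kernel

theorem sat_inv : ∀ k, Cfsg.Agent.O8T.A2.π (Cfsg.Agent.O8T.P2.I k) * Cfsg.Agent.O8T.A2.π k = 1 :=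
  inv_of_checks Cfsg.Agent.O8T.A2.spec (K := 1) (by decide) Cfsg.Agent.O8T.A2.out [[0]] (by decide) ⟨sat_inv_0, trivial⟩

theorem sat_rel_0_0 : relsC Cfsg.Agent.O8T.A2.act Cfsg.Agent.O8T.P2.I 2 1 [[0, 0, 0, 0], [2, 2, 2], [2, 0, 2, 0, 2, 0], [0, 0, 2, 1, 1, 3], [4, 0, 4, 0], [4, 2, 4, 2], [5, 5, 5], [7, 7, 7], [4, 5, 4, 5], [2, 5, 3, 6], [0, 0, 5, 1, 1, 5], [2, 0, 5, 1, 3, 6, 0, 6, 1, 6], [4, 7, 4, 8], [0, 7, 1, 8], [5, 7, 6, 8], [2, 8, 2, 7, 3, 8, 3, 7], [0, 8, 2, 7, 3, 1, 2, 8, 3, 7], [2, 7, 3, 8, 2, 8, 3, 7, 5, 0, 5, 1, 6, 0, 6, 1], [9, 0, 9, 1], [9, 2, 9, 3], [9, 4, 9, 4], [9, 5, 9, 6], [9, 7, 9, 7]] [0] = true :=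
  by decide +kernel

theorem sat_rel_0 : ∀ r ∈ ([[0, 0, 0, 0], [2, 2, 2], [2, 0, 2, 0, 2, 0], [0, 0, 2, 1, 1, 3], [4, 0, 4, 0], [4, 2, 4, 2], [5, 5, 5], [7, 7, 7], [4, 5, 4, 5], [2, 5, 3, 6], [0, 0, 5, 1, 1, 5], [2, 0, 5, 1, 3, 6, 0, 6, 1, 6], [4, 7, 4, 8], [0, 7, 1, 8], [5, 7, 6, 8], [2, 8, 2, 7, 3, 8, 3, 7], [0, 8, 2, 7, 3, 1, 2, 8, 3, 7], [2, 7, 3, 8, 2, 8, 3, 7, 5, 0, 5, 1, 6, 0, 6, 1], [9, 0, 9, 1], [9, 2, 9, 3], [9, 4, 9, 4], [9, 5, 9, 6], [9, 7, 9, 7]] : List (List ℕ)), ev Cfsg.Agent.O8T.A2.π r = 1 :=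
  rels_of_checks Cfsg.Agent.O8T.A2.spec (K := 1) (by decide) sat_inv _ [[0]] (by decide) ⟨sat_rel_0_0, trivial⟩

theorem sat_rel : ∀ r ∈ ([[0, 0, 0, 0], [2, 2, 2], [2, 0, 2, 0, 2, 0], [0, 0, 2, 1, 1, 3], [4, 0, 4, 0], [4, 2, 4, 2], [5, 5, 5], [7, 7, 7], [4, 5, 4, 5], [2, 5, 3, 6], [0, 0, 5, 1, 1, 5], [2, 0, 5, 1, 3, 6, 0, 6, 1, 6], [4, 7, 4, 8], [0, 7, 1, 8], [5, 7, 6, 8], [2, 8, 2, 7, 3, 8, 3, 7], [0, 8, 2, 7, 3, 1, 2, 8, 3, 7], [2, 7, 3, 8, 2, 8, 3, 7, 5, 0, 5, 1, 6, 0, 6, 1], [9, 0, 9, 1], [9, 2, 9, 3], [9, 4, 9, 4], [9, 5, 9, 6], [9, 7, 9, 7]] : List (List ℕ)), ev Cfsg.Agent.O8T.A2.π r = 1 :=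
  rels_join [[[0, 0, 0, 0], [2, 2, 2], [2, 0, 2, 0, 2, 0], [0, 0, 2, 1, 1, 3], [4, 0, 4, 0], [4, 2, 4, 2], [5, 5, 5], [7, 7, 7], [4, 5, 4, 5], [2, 5, 3, 6], [0, 0, 5, 1, 1, 5], [2, 0, 5, 1, 3, 6, 0, 6, 1, 6], [4, 7, 4, 8], [0, 7, 1, 8], [5, 7, 6, 8], [2, 8, 2, 7, 3, 8, 3, 7], [0, 8, 2, 7, 3, 1, 2, 8, 3, 7], [2, 7, 3, 8, 2, 8, 3, 7, 5, 0, 5, 1, 6, 0, 6, 1], [9, 0, 9, 1], [9, 2, 9, 3], [9, 4, 9, 4], [9, 5, 9, 6], [9, 7, 9, 7]]] ⟨sat_rel_0, trivial⟩

theorem sat : Sat Cfsg.Agent.O8T.P2 Cfsg.Agent.O8T.A2.π :=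
  ⟨Cfsg.Agent.O8T.A2.out, sat_inv, sat_rel⟩

noncomputable def done_tr0 : ℕ := nat_lit 0

noncomputable def done_tr1 : ℕ := nat_lit 0x2

noncomputable def done_tr2 : ℕ := nat_lit 0

noncomputable def done_tr3 : ℕ := nat_lit 0x2

noncomputable def done_t0_0 : ℕ := nat_lit 0x1

noncomputable def done_t0_1 : ℕ := nat_lit 0x2

noncomputable def done_t1_0 : ℕ := nat_lit 0x1

noncomputable def done_t1_1 : ℕ := nat_lit 0x2

noncomputable def done_t2_0 : ℕ := nat_lit 0x1

noncomputable def done_t2_1 : ℕ := nat_lit 0x2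

noncomputable def done_t3_0 : ℕ := nat_lit 0x1

noncomputable def done_t3_1 : ℕ := nat_lit 0x2

noncomputable def done_t4_0 : ℕ := nat_lit 0x1

noncomputable def done_t4_1 : ℕ := nat_lit 0x2

noncomputable def done_t5_0 : ℕ := nat_lit 0x1

noncomputable def done_t5_1 : ℕ := nat_lit 0x2

noncomputable def done_t6_0 : ℕ := nat_lit 0x1

noncomputable def done_t6_1 : ℕ := nat_lit 0x2

noncomputable def done_t7_0 : ℕ := nat_lit 0x1

noncomputable def done_t7_1 : ℕ := nat_lit 0x2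

noncomputable def done_t8_0 : ℕ := nat_lit 0x1

noncomputable def done_t8_1 : ℕ := nat_lit 0x2

noncomputable def done_t9_0 : ℕ := nat_lit 0x1

noncomputable def done_t9_1 : ℕ := nat_lit 0

noncomputable def doneC : TC := ⟨Cfsg.Agent.O8T.P2, [[0], [1], [2], [3], [4], [5], [6], [7], [8]], 2, 2, 1, 2, [done_tr0, done_tr1, done_tr2, done_tr3],
  [[done_t0_0, done_t0_1],
   [done_t1_0, done_t1_1],
   [done_t2_0, done_t2_1],
   [done_t3_0, done_t3_1],
   [done_t4_0, done_t4_1],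
   [done_t5_0, done_t5_1],
   [done_t6_0, done_t6_1],
   [done_t7_0, done_t7_1],
   [done_t8_0, done_t8_1],
   [done_t9_0, done_t9_1]]⟩

theorem done_s : doneC.structC Cfsg.Agent.O8T.A2.act = true :=
  by decide +kernel

theorem done_c0_0 : doneC.coverC Cfsg.Agent.O8T.A2.act 0 true [] [(true, 0, 0, 0), (false, 54, 1, 0)] 0 (ones 2) = true :=
  by decide +kernel

theorem done_j0 : doneC.JustS Cfsg.Agent.O8T.A2.π 0 (ones 2) :=
  TC.cover_step Cfsg.Agent.O8T.A2.spec done_s (TC.justS_zero 0) done_c0_0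

theorem done_c1_0 : doneC.coverC Cfsg.Agent.O8T.A2.act 1 true [] [(true, 1, 0, 0), (false, 54, 3, 1)] 0 (ones 2) = true :=
  by decide +kernel

theorem done_j1 : doneC.JustS Cfsg.Agent.O8T.A2.π 1 (ones 2) :=
  TC.cover_step Cfsg.Agent.O8T.A2.spec done_s (TC.justS_zero 1) done_c1_0

theorem done_c2_0 : doneC.coverC Cfsg.Agent.O8T.A2.act 2 true [] [(true, 2, 0, 0), (false, 57, 1, 0)] 0 (ones 2) = true :=
  by decide +kernel

theorem done_j2 : doneC.JustS Cfsg.Agent.O8T.A2.π 2 (ones 2) :=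
  TC.cover_step Cfsg.Agent.O8T.A2.spec done_s (TC.justS_zero 2) done_c2_0

theorem done_c3_0 : doneC.coverC Cfsg.Agent.O8T.A2.act 3 true [] [(true, 3, 0, 0), (false, 57, 3, 1)] 0 (ones 2) = true :=
  by decide +kernel

theorem done_j3 : doneC.JustS Cfsg.Agent.O8T.A2.π 3 (ones 2) :=
  TC.cover_step Cfsg.Agent.O8T.A2.spec done_s (TC.justS_zero 3) done_c3_0

theorem done_c4_0 : doneC.coverC Cfsg.Agent.O8T.A2.act 4 true [] [(true, 4, 0, 0), (false, 60, 1, 0)] 0 (ones 2) = true :=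
  by decide +kernel

theorem done_j4 : doneC.JustS Cfsg.Agent.O8T.A2.π 4 (ones 2) :=
  TC.cover_step Cfsg.Agent.O8T.A2.spec done_s (TC.justS_zero 4) done_c4_0

theorem done_c5_0 : doneC.coverC Cfsg.Agent.O8T.A2.act 5 true [] [(true, 5, 0, 0), (false, 63, 1, 0)] 0 (ones 2) = true :=
  by decide +kernel

theorem done_j5 : doneC.JustS Cfsg.Agent.O8T.A2.π 5 (ones 2) :=
  TC.cover_step Cfsg.Agent.O8T.A2.spec done_s (TC.justS_zero 5) done_c5_0

theorem done_c6_0 : doneC.coverC Cfsg.Agent.O8T.A2.act 6 true [] [(true, 6, 0, 0), (false, 63, 3, 1)] 0 (ones 2) = true :=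
  by decide +kernel

theorem done_j6 : doneC.JustS Cfsg.Agent.O8T.A2.π 6 (ones 2) :=
  TC.cover_step Cfsg.Agent.O8T.A2.spec done_s (TC.justS_zero 6) done_c6_0

theorem done_c7_0 : doneC.coverC Cfsg.Agent.O8T.A2.act 7 true [] [(true, 7, 0, 0), (false, 66, 1, 0)] 0 (ones 2) = true :=
  by decide +kernel

theorem done_j7 : doneC.JustS Cfsg.Agent.O8T.A2.π 7 (ones 2) :=
  TC.cover_step Cfsg.Agent.O8T.A2.spec done_s (TC.justS_zero 7) done_c7_0

theorem done_c8_0 : doneC.coverC Cfsg.Agent.O8T.A2.act 8 true [] [(true, 8, 0, 0), (false, 67, 0, 1)] 0 (ones 2) = true :=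
  by decide +kernel

theorem done_j8 : doneC.JustS Cfsg.Agent.O8T.A2.π 8 (ones 2) :=
  TC.cover_step Cfsg.Agent.O8T.A2.spec done_s (TC.justS_zero 8) done_c8_0

theorem done_c9_0 : doneC.coverC Cfsg.Agent.O8T.A2.act 9 true [] [(false, 29, 0, 1)] 0 (ones 2) = true :=
  by decide +kernel

theorem done_j9 : doneC.JustS Cfsg.Agent.O8T.A2.π 9 (ones 2) :=
  TC.cover_step Cfsg.Agent.O8T.A2.spec done_s (TC.justS_zero 9) done_c9_0

theorem done : doneC.Done Cfsg.Agent.O8T.A2.π :=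
  TC.done_of Cfsg.Agent.O8T.A2.spec sat done_s ⟨done_j0, done_j1, done_j2, done_j3, done_j4, done_j5, done_j6, done_j7, done_j8, done_j9, trivial⟩

end A2

theorem iA2 : Impl Cfsg.Agent.O8T.P2 Cfsg.Agent.O8T.P1 [[0], [1], [2], [3], [4], [5], [6], [7], [8]] :=
  impl_of_subC (P := Cfsg.Agent.O8T.P2) (c1 := [(69, 0), (69, 0), (69, 0), (69, 0), (69, 0), (69, 0), (69, 0), (69, 0), (69, 0)]) (c2 := [(0, 0), (3, 0), (6, 0), (9, 0), (12, 0), (15, 0), (18, 0), (21, 0), (24, 0), (27, 0), (30, 0), (33, 0), (36, 0), (39, 0), (42, 0), (45, 0), (48, 0), (51, 0)]) (by decide +kernel)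

theorem b2 : Bound Cfsg.Agent.O8T.P2 23328 :=
  A2.done.bound' b1 iA2 ⟨inSub_of_mem (by decide), inSub_of_mem (by decide), inSub_of_mem (by decide), inSub_of_mem (by decide), inSub_of_mem (by decide), inSub_of_mem (by decide), inSub_of_mem (by decide), inSub_of_mem (by decide), inSub_of_mem (by decide), trivial⟩

end Cfsg.Agent.O8T
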