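import Cfsg.Agent.Loc3.O8G

/-!
The extraspecial group `E = 2^{1+8}`, central product of four quaternion groups.
Read `Loc3/O8D`, `O8F`, `O8G`.  `t = f T`, `J₀ = {j v | v 0 = 0}`.
-/

set_option autoImplicit false
set_option maxRecDepth 100000
set_option synthInstance.maxHeartbeats 400000
set_option synthInstance.maxSize 4000

namespace Cfsg.Agent.O8T

open Subgroup Cfsg Cfsg.Agent.PLocal.Amb Cfsg.Agent.Loc3 Cfsg.Agent.Comp Cfsg.Agent.LES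
open Cfsg.Agent.X32 (TG)
open Cfsg.Agent.X32.TG
open Cfsg.Agent.Loc3.Pr hiding V rf
open Cfsg.Agent.TT (XS)
open Cfsg.Agent.PS4 (K2 l2)
open Equiv (Perm swap)
open scoped commutatorElement

variable {G : Type*} [Group G] {D : Subgroup K} {f : K → G} {g n a b m : G} {i j : Fin 4} {v ε : V4}
  {σ : Perm (Fin 4)} {c : Fin 4 → G}

/-- the quaternion group belonging to the singular point `zz i` -/
def Rq (f : K → G) (i : Fin 4) : Subgroup G := closure {g | Commute g (f T) ∧ g ^ 4 = 1 ∧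
  ∀ v, v 0 = 0 → b4 v (zz i) = 0 → Commute g (jv f v)}

def EE (f : K → G) : Subgroup G := ⨆ i, Rq f i

def MM (f : K → G) : Subgroup G := EE f ⊔ 𝐍[JJ f] ⊓ centralizer {f T}

namespace OE

/-- the quaternion group in the table -/
noncomputable def RK : Subgroup K := Subgroup.ofDiv {a | a ∈ lR} ⟨1, hlR.1⟩ hlR.2

theorem mem_RK {a : K} : a ∈ RK ↔ a ∈ lR := Iff.rfl

theorem card_RK : Nat.card RK = 8 := by
  classical
  have nd : lR.Nodup := List.Nodup.of_map TG.v (by decide +kernel)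
  have e : Nat.card RK = Nat.card lR.toFinset :=
    Nat.card_congr (Equiv.subtypeEquivRight fun a => mem_RK.trans List.mem_toFinset.symm)
  rw [e, Nat.card_eq_fintype_card, Fintype.card_coe, List.toFinset_card_of_nodup nd]
  rfl

theorem k1 : ∀ k, Commute k T → Commute k Z → Commute k U → k ^ 4 = 1 → k ∈ lR := bd!

theorem k2 : ∀ a ∈ lR, Commute a T ∧ a ^ 4 = 1 ∧
    ∀ v, v 0 = 0 → b4 v (zz 0) = 0 → Commute a (jK v) := bd!

theorem k3 : ∀ a ∈ lR, ∀ b ∈ lR, a * b = b * a ∨ a * b = b * a * T := bd!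

theorem k4 : ∀ a ∈ lR, (∀ b ∈ lR, Commute a b) → a = 1 ∨ a = T := bd!

theorem k5 : ∀ a ∈ lR, a = 1 ∨ a = T ∨ a * a = T := bd!

theorem k6 : ∀ v, v 0 = 0 → ∀ a ∈ lR, (jK v * a * (jK v)⁻¹ = a ∨ jK v * a * (jK v)⁻¹ = a * T) →
    (a = 1 ∨ a = T) ∨ b4 v (zz 0) = 0 := bd!

theorem k7 : T ∈ lR ∧ ∃ a ∈ lR, a ≠ 1 ∧ a ≠ T := bd!

theorem prod4 {c d : Fin 4 → G} (e : ∀ i j, i ≠ j → Commute (c i) (d j)) :
    c 0 * c 1 * c 2 * c 3 * (d 0 * d 1 * d 2 * d 3) =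
      c 0 * d 0 * (c 1 * d 1) * (c 2 * d 2) * (c 3 * d 3) := by
  simp only [mul_assoc]
  rw [(e 3 0 (by decide)).left_comm, (e 2 0 (by decide)).left_comm, (e 1 0 (by decide)).left_comm,
    (e 3 1 (by decide)).left_comm, (e 2 1 (by decide)).left_comm, (e 3 2 (by decide)).left_comm]

theorem mem4 {H : Subgroup G} (i : Fin 4) (hj : ∀ j, j ≠ i → c j ∈ H)
    (hP : c 0 * c 1 * c 2 * c 3 ∈ H) : c i ∈ H := by
  fin_cases i
  · exact (H.mul_mem_cancel_right (hj 1 (by decide))).1 ((H.mul_mem_cancel_right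
      (hj 2 (by decide))).1 ((H.mul_mem_cancel_right (hj 3 (by decide))).1 hP))
  · exact (H.mul_mem_cancel_left (hj 0 (by decide))).1 ((H.mul_mem_cancel_right
      (hj 2 (by decide))).1 ((H.mul_mem_cancel_right (hj 3 (by decide))).1 hP))
  · exact (H.mul_mem_cancel_left (mul_mem (hj 0 (by decide)) (hj 1 (by decide)))).1
      ((H.mul_mem_cancel_right (hj 3 (by decide))).1 hP)
  · exact (H.mul_mem_cancel_left
      (mul_mem (mul_mem (hj 0 (by decide)) (hj 1 (by decide))) (hj 2 (by decide)))).1 hP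

theorem rho_mul {t x x' y : G} (ht : t * t = 1) (a : Commute x' t)
    (p : x * y = y * x ∨ x * y = y * x * t) (q : x' * y = y * x' ∨ x' * y = y * x' * t) :
    x * x' * y = y * (x * x') ∨ x * x' * y = y * (x * x') * t := by
  rcases p with p | p <;> rcases q with q | q
  · left; rw [mul_assoc, q, ← mul_assoc, p, mul_assoc]
  · right; rw [mul_assoc, q, ← mul_assoc, ← mul_assoc, p, mul_assoc y]
  · right; rw [mul_assoc, q, ← mul_assoc, p, mul_assoc (y * x), ← a.eq]; simp only [mul_assoc]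
  · left
    rw [mul_assoc, q, ← mul_assoc, ← mul_assoc, p, mul_assoc (y * x), ← a.eq]
    simp only [mul_assoc, ht, mul_one]

theorem rho_symm {t x y : G} (ht : t * t = 1) (p : x * y = y * x ∨ x * y = y * x * t) :
    y * x = x * y ∨ y * x = x * y * t :=
  p.imp Eq.symm fun p => by rw [p, mul_assoc, ht, mul_one]

end OE

variable [Finite G]

theorem Ch.oe_conj (h : Ch D f) (r : G) : Ch D fun k => r * f k * r⁻¹ := by
  refine ⟨h.le, fun {a b} ha hb => by rw [h.mul ha hb]; group,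
    fun {a} ha e => h.inj ha (by simpa using e), fun g hg => ?_, ?_⟩
  · obtain ⟨k, hk, e⟩ := h.nz (r⁻¹ * g * r) (by
      rw [mem_norm_three (by rw [conj_pow, h.z3]; simp) (by simpa using h.z1)] at hg
      rw [mem_norm_three h.z3 h.z1]
      refine hg.imp (fun e => ?_) fun e => ?_
      · rw [show r⁻¹ * g * r * f Z * (r⁻¹ * g * r)⁻¹ = r⁻¹ * (g * (r * f Z * r⁻¹) * g⁻¹) * r by group, e]
        group
      · rw [show r⁻¹ * g * r * f Z * (r⁻¹ * g * r)⁻¹ = r⁻¹ * (g * (r * f Z * r⁻¹) * g⁻¹) * r by group, e]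
        group)
    exact ⟨k, hk, by rw [e]; group⟩
  · exact ((isConj_iff.2 ⟨r, rfl⟩).symm.trans h.cv).trans (isConj_iff.2 ⟨r, rfl⟩)

namespace LC

variable (h : LC D f)
include h

theorem R0 : g ∈ Rq f 0 ↔ ∃ a ∈ lR, f a = g := by
  refine ⟨fun a => ?_, ?_⟩
  · obtain ⟨k, hk, -, e⟩ := h.mem_im.1 ((closure_le (h.im OE.RK)).2 (fun g hg => by
      obtain ⟨p, q, s⟩ := hg
      obtain ⟨k, kD, kZ, rfl⟩ := h.cz (g := g) (jK_val.1 ▸ s (zz 0) (by decide) (by decide))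
      refine h.mem_im.2 ⟨k, OE.k1 k ((h.cm kD (h.le bd!)).1 p) kZ ((h.cm kD (h.le bd!)).1
        (jK_val.2.2.1 ▸ s ![0, 0, 1, 2] (by decide) (by decide))) ?_, kD, rfl⟩
      exact h.inj (pow_mem kD 4) (by rw [h.pow kD, q])) a)
    exact ⟨k, hk, e⟩
  · rintro ⟨a, ha, rfl⟩
    obtain ⟨p, q, s⟩ := OE.k2 a ha
    exact subset_closure ⟨h.cm1 ⟨lR_s1 a ha, bd!, p⟩, h.pow1 ⟨lR_s1 a ha, q⟩,
      fun v x y => h.cm1 ⟨lR_s1 a ha, jK_s1 v, s v x y⟩⟩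

omit [Finite G] in
theorem oe_inj {L : V4 → V4} (e : Ac f n L) : Function.Injective L := fun u v a =>
  h.jinj (mul_left_cancel (mul_right_cancel ((e u).trans (a ▸ (e v).symm))))

theorem Rcj (e : Ac f n (sp σ ε)) (s : Sn ε) (p : Commute n (f T)) (o : σ 0 = 0)
    (z : sp σ ε (zz i) = zz j ∨ sp σ ε (zz i) = -zz j) (a : g ∈ Rq f i) : n * g * n⁻¹ ∈ Rq f j := by
  refine (closure_le ((Rq f j).comap (MulAut.conj n).toMonoidHom)).2 (fun g hg => ?_) a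
  obtain ⟨x, y, w⟩ := hg
  refine subset_closure ⟨?_, ?_, fun v v0 vb => ?_⟩
  · exact conj_of_comm p ▸ Commute.cj x n
  · change (n * g * n⁻¹) ^ 4 = 1
    rw [conj_pow, y]; simp
  · obtain ⟨u, rfl⟩ := Finite.surjective_of_injective (h.oe_inj e) v
    rw [← e u]
    refine Commute.cj (w u ?_ ?_) n
    · have : σ⁻¹ 0 = 0 := Perm.inv_eq_iff_eq.2 o.symm
      simp only [sp, this] at v0
      exact (mul_eq_zero.1 v0).resolve_left (s 0)
    · rw [← h.isoB e]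
      rcases z with z | z <;> rw [z]
      · exact vb
      · rw [(by decide +kernel : ∀ u v : V4, b4 u (-v) = -b4 u v), vb, neg_zero]

theorem Rex (i : Fin 4) : ∃ r, Commute r (f T) ∧ r * r = 1 ∧ (∃ ε, Sn ε ∧ sp 1 ε (zz 0) = zz i ∧
    Kp f r (sp 1 ε)) ∧ ∀ g, g ∈ Rq f i ↔ r * g * r⁻¹ ∈ Rq f 0 := by
  obtain ⟨ε, -, s, e0, e1⟩ := (by decide +kernel : ∀ i, ∃ ε ∈ [1, sn 1, sn 2, sn 3], Sn ε ∧
    sp 1 ε (zz 0) = zz i ∧ sp 1 ε (zz i) = zz 0) i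
  obtain ⟨r, hr⟩ := h.exm (σ := 1) (Or.inl (by simp)) s
  have t := h.kT hr rfl
  have q := h.dsq hr s
  refine ⟨r, t, q, ⟨ε, s, e0, hr⟩, fun g => ⟨h.Rcj hr.1 s t rfl (Or.inl e1), fun a => ?_⟩⟩
  have := h.Rcj hr.1 s t rfl (Or.inl e0) a
  rwa [show r * (r * g * r⁻¹) * r⁻¹ = r * r * g * (r * r)⁻¹ by group, q, one_mul, inv_one,
    mul_one] at this

theorem Rpar (i : Fin 4) : ∃ F, Ch D F ∧ F T = f T ∧ (∀ g, g ∈ Rq f i ↔ ∃ a ∈ lR, F a = g) ∧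
    ∃ ε, Sn ε ∧ sp 1 ε (zz 0) = zz i ∧ ∀ v, jv F v = jv f (sp 1 ε v) := by
  obtain ⟨r, t, q, ⟨ε, s, e, hr⟩, m⟩ := h.Rex i
  have ri : r⁻¹ = r := inv_eq_of_mul_eq_one_right q
  refine ⟨_, h.oe_conj r, conj_of_comm t, fun g => ?_, ε, s, e, hr.1⟩
  rw [m, h.R0]
  refine exists_congr fun a => and_congr_right fun _ => ⟨fun x => ?_, fun x => ?_⟩
  · rw [x, show r * (r * g * r⁻¹) * r⁻¹ = r * r * g * (r * r)⁻¹ by group, q]; simp
  · rw [← x, show r * (r * f a * r⁻¹) * r⁻¹ = r * r * f a * (r * r)⁻¹ by group, q]; simp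

theorem Rxs (i : Fin 4) : XS (Rq f i) (f T) := by
  obtain ⟨F, H, t, m, -⟩ := h.Rpar i
  have T1 : T ∈ s1 := bd!
  have D1 : ∀ a ∈ lR, a ∈ D := fun a ha => H.le (lR_s1 a ha)
  rw [← t]
  refine ⟨(m _).2 ⟨T, OE.k7.1, rfl⟩, H.ne1 bd!, H.t2, fun x hx => ?_, fun x hx y hy => ?_,
    fun x hx c => ?_, ?_⟩
  · obtain ⟨a, ha, rfl⟩ := (m x).1 hx
    exact H.cm1 ⟨lR_s1 a ha, T1, (OE.k2 a ha).1⟩
  · obtain ⟨a, ha, rfl⟩ := (m x).1 hx
    obtain ⟨b, hb, rfl⟩ := (m y).1 hy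
    rw [← H.mul (D1 a ha) (D1 b hb), ← H.mul (D1 b hb) (D1 a ha),
      ← H.mul (mul_mem (D1 b hb) (D1 a ha)) (H.le T1)]
    exact (OE.k3 a ha b hb).imp (congrArg F) (congrArg F)
  · obtain ⟨a, ha, rfl⟩ := (m x).1 hx
    rw [← H.one]
    exact (OE.k4 a ha fun b hb => (H.cm (D1 a ha) (D1 b hb)).1
      (c _ ((m _).2 ⟨b, hb, rfl⟩))).imp (congrArg F) (congrArg F)
  · obtain ⟨a, ha, p, q⟩ := OE.k7.2
    exact ⟨F a, (m _).2 ⟨a, ha, rfl⟩, H.ne1 ⟨lR_s1 a ha, p⟩, mt (H.eq (D1 a ha) (H.le T1)) q⟩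

theorem Rcard (i : Fin 4) : Nat.card (Rq f i) = 8 := by
  obtain ⟨F, H, -, m, -⟩ := h.Rpar i
  have l : OE.RK ≤ D := fun a ha => H.le (lR_s1 a ha)
  rw [show Rq f i = H.im OE.RK from Subgroup.ext fun g => (m g).trans (H.mem_im.trans
    ⟨fun ⟨a, x, _, y⟩ => ⟨a, x, y⟩, fun ⟨a, x, y⟩ => ⟨a, x, l x, y⟩⟩).symm, H.card_im l, OE.card_RK]

/-- `t` is the only involution -/
theorem Rsq (a : g ∈ Rq f i) : g = 1 ∨ g = f T ∨ g * g = f T := by
  obtain ⟨F, H, t, m, -⟩ := h.Rpar i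
  obtain ⟨b, hb, rfl⟩ := (m g).1 a
  rw [← t, ← H.one, ← H.mul (H.le (lR_s1 b hb)) (H.le (lR_s1 b hb))]
  exact (OE.k5 b hb).imp (congrArg F) (Or.imp (congrArg F) (congrArg F))

theorem Rcm01 (p : a ∈ Rq f 0) (q : b ∈ Rq f 1) : Commute a b := by
  have s : Sn (sn 1) := by decide
  obtain ⟨r, hr⟩ := h.exm (σ := 1) (Or.inl (by simp)) s
  have q2 := h.dsq hr s
  obtain ⟨a, ha, rfl⟩ := h.R0.1 p
  obtain ⟨b', hb, e⟩ := h.R0.1 (h.Rcj (j := 0) hr.1 s (h.kT hr rfl) rfl (Or.inl (by decide)) q)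
  have := h.rr r (hr.1.cong (by decide +kernel)) hr.2 a ha b' hb
  rwa [e, show r * (r * b * r⁻¹) * r⁻¹ = r * r * b * (r * r)⁻¹ by group, q2, one_mul, inv_one,
    mul_one] at this

theorem Rcm (e : i ≠ j) (p : a ∈ Rq f i) (q : b ∈ Rq f j) : Commute a b := by
  obtain ⟨σ, hσ, ε, -, o, s, x, y⟩ := (by decide +kernel : ∀ i j : Fin 4, i ≠ j →
    ∃ σ ∈ [(1 : Perm (Fin 4)), swap 1 2 * swap 2 3, swap 2 3 * swap 1 2], ∃ ε ∈ [1, sn 1, sn 2, sn 3],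
      σ 0 = 0 ∧ Sn ε ∧ (sp σ ε (zz i) = zz 0 ∨ sp σ ε (zz i) = -zz 0) ∧
        (sp σ ε (zz j) = zz 1 ∨ sp σ ε (zz j) = -zz 1)) i j e
  have sg : Perm.sign σ = 1 := by
    simp only [List.mem_cons, List.not_mem_nil, or_false] at hσ
    rcases hσ with rfl | rfl | rfl <;> simp
  obtain ⟨n, hn⟩ := h.exm (Or.inl sg) s
  have t := h.kT hn o
  have := Commute.cj (h.Rcm01 (h.Rcj hn.1 s t o x p) (h.Rcj hn.1 s t o y q)) n⁻¹
  simpa [mul_assoc] using this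

theorem Rfix (o : v 0 = 0) (p : a ∈ Rq f i)
    (e : jv f v * a * (jv f v)⁻¹ = a ∨ jv f v * a * (jv f v)⁻¹ = a * f T) :
    (a = 1 ∨ a = f T) ∨ b4 v (zz i) = 0 := by
  obtain ⟨F, H, t, m, ε, s, z, w⟩ := h.Rpar i
  obtain ⟨a, ha, rfl⟩ := (m a).1 p
  obtain ⟨x, y, o'⟩ := (by decide +kernel : ∀ ε v : V4, Sn ε → sp 1 ε (sp 1 ε v) = v ∧
    b4 (sp 1 ε v) (zz 0) = b4 v (sp 1 ε (zz 0)) ∧ (v 0 = 0 → sp 1 ε v 0 = 0)) ε v s
  have aD : a ∈ D := H.le (lR_s1 a ha)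
  have TD : T ∈ D := H.le bd!
  have cD := mul_mem (mul_mem (H.jD (sp 1 ε v)) aD) (inv_mem (H.jD (sp 1 ε v)))
  rw [← x, ← w, ← t, jv, ← H.cj (H.jD _) aD, ← H.mul aD TD] at e
  rw [← z, ← y, ← t, ← H.one]
  exact (OE.k6 _ (o' o) a ha (e.imp (H.eq cD aD) (H.eq cD (mul_mem aD TD)))).imp_left
    (Or.imp (congrArg F) (congrArg F))

omit [Finite G] h in
theorem RE (i : Fin 4) : Rq f i ≤ EE f := le_iSup (Rq f) i

theorem dec : g ∈ EE f ↔ ∃ c : Fin 4 → G, (∀ i, c i ∈ Rq f i) ∧ c 0 * c 1 * c 2 * c 3 = g := by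
  refine ⟨fun a => ?_, ?_⟩
  · refine Subgroup.iSup_induction (Rq f) (C := fun g => ∃ c : Fin 4 → G, (∀ i, c i ∈ Rq f i) ∧
      c 0 * c 1 * c 2 * c 3 = g) a (fun i x hx => ⟨fun j => if j = i then x else 1, fun j => ?_, ?_⟩)
      ⟨fun _ => 1, fun _ => one_mem _, by simp⟩ ?_
    · by_cases e : j = i
      · simp only [if_pos e]; exact e ▸ hx
      · simp only [if_neg e]; exact one_mem _
    · fin_cases i <;> simp
    · rintro _ _ ⟨c, p, rfl⟩ ⟨d, q, rfl⟩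
      exact ⟨fun i => c i * d i, fun i => mul_mem (p i) (q i),
        (OE.prod4 fun i j e => h.Rcm e (p i) (q j)).symm⟩
  · rintro ⟨c, p, rfl⟩
    exact mul_mem (mul_mem (mul_mem (RE 0 (p 0)) (RE 1 (p 1))) (RE 2 (p 2))) (RE 3 (p 3))

theorem ind' (p : ∀ i, c i ∈ Rq f i) (i : Fin 4)
    (e : ∀ y ∈ Rq f i, Commute (c 0 * c 1 * c 2 * c 3) y) : c i = 1 ∨ c i = f T :=
  (h.Rxs i).cent _ (p i) fun y hy => mem_cent.1 (OE.mem4 (H := centralizer {y}) i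
    (fun j x => mem_cent.2 (h.Rcm x (p j) hy)) (mem_cent.2 (e y hy)))

theorem ind (p : ∀ i, c i ∈ Rq f i) (e : c 0 * c 1 * c 2 * c 3 = 1 ∨ c 0 * c 1 * c 2 * c 3 = f T)
    (i : Fin 4) : c i = 1 ∨ c i = f T :=
  h.ind' p i fun y hy => by
    rcases e with e | e <;> rw [e]
    · exact Commute.one_left y
    · exact ((h.Rxs i).z_comm y hy).symm

omit [Finite G] in
theorem oe_prod (e : ∀ i, c i = 1 ∨ c i = f T) :
    c 0 * c 1 * c 2 * c 3 = 1 ∨ c 0 * c 1 * c 2 * c 3 = f T := by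
  simp only [← TT.mem_zpowers_invol h.t2] at e ⊢
  exact mul_mem (mul_mem (mul_mem (e 0) (e 1)) (e 2)) (e 3)

theorem ET : EE f ≤ centralizer {f T} := iSup_le fun i x hx => mem_cent.2 ((h.Rxs i).z_comm x hx)

theorem Exs : XS (EE f) (f T) := by
  have key : ∀ y, (∀ i, ∀ x ∈ Rq f i, x * y = y * x ∨ x * y = y * x * f T) →
      ∀ x ∈ EE f, x * y = y * x ∨ x * y = y * x * f T := fun y hy x hx =>
    (Subgroup.iSup_induction (Rq f)
      (C := fun x => Commute x (f T) ∧ (x * y = y * x ∨ x * y = y * x * f T)) hx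
      (fun i x a => ⟨(h.Rxs i).z_comm x a, hy i x a⟩) ⟨Commute.one_left _, Or.inl (by simp)⟩
      fun _ _ a b => ⟨a.1.mul_left b.1, OE.rho_mul h.t2 b.1 a.2 b.2⟩).2
  refine ⟨RE 0 (h.Rxs 0).z_mem, h.ne1 bd!, h.t2, fun x hx => mem_cent.1 (h.ET hx),
    fun x hx y hy => key y (fun i x a => OE.rho_symm h.t2 (key x (fun j w b => ?_) y hy)) x hx,
    fun x hx e => ?_, ?_⟩
  · by_cases e : j = i
    · exact (h.Rxs i).comm w (e ▸ b) x a
    · exact Or.inl (h.Rcm e b a)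
  · obtain ⟨c, p, rfl⟩ := h.dec.1 hx
    exact h.oe_prod fun i => h.ind' p i fun y hy => e y (RE i hy)
  · obtain ⟨x, a, b⟩ := (h.Rxs 0).nonab
    exact ⟨x, RE 0 a, b⟩

theorem oe_step {A : Subgroup G} (i : Fin 4) (t : f T ∈ A) (l : A ≤ 𝐂[Rq f i]) :
    Nat.card ↥(A ⊔ Rq f i) = Nat.card A * 4 := by
  have e : A ⊓ Rq f i = zpowers (f T) := by
    refine le_antisymm (fun x hx => (TT.mem_zpowers_invol h.t2).2
      ((h.Rxs i).cent x hx.2 fun y hy => (l hx.1 y hy).symm)) (zpowers_le.2 ⟨t, (h.Rxs i).z_mem⟩)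
  have := Grp.card_sup_mul_card_inf_of_le_normalizer (l.trans (centralizer_le_normalizer' _))
  rw [e, Nat.card_zpowers, (h.Rxs i).orderOf_z, h.Rcard] at this
  omega

theorem Ecard : Nat.card (EE f) = 512 := by
  have l : ∀ i j, i ≠ j → Rq f i ≤ 𝐂[Rq f j] := fun i j e x hx y hy => (h.Rcm e hx hy).symm
  have e : EE f = Rq f 0 ⊔ Rq f 1 ⊔ Rq f 2 ⊔ Rq f 3 := by
    refine le_antisymm (iSup_le fun i => ?_) (sup_le (sup_le (sup_le (RE 0) (RE 1)) (RE 2)) (RE 3))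
    fin_cases i
    · exact le_sup_of_le_left (le_sup_of_le_left le_sup_left)
    · exact le_sup_of_le_left (le_sup_of_le_left le_sup_right)
    · exact le_sup_of_le_left le_sup_right
    · exact le_sup_right
  have t := (h.Rxs 0).z_mem
  rw [e, h.oe_step 3 (mem_sup_left (mem_sup_left t))
      (sup_le (sup_le (l 0 3 (by decide)) (l 1 3 (by decide))) (l 2 3 (by decide))),
    h.oe_step 2 (mem_sup_left t) (sup_le (l 0 2 (by decide)) (l 1 2 (by decide))),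
    h.oe_step 1 t (l 0 1 (by decide)), h.Rcard]

theorem En (a : n ∈ 𝐍[JJ f]) (b : Commute n (f T)) : n ∈ 𝐍[EE f] := by
  obtain ⟨σ, ε, o, s, e⟩ := h.monoT a b
  refine mem_normalizer_fintype fun g hg =>
    (iSup_le (a := (EE f).comap (MulAut.conj n).toMonoidHom) fun i x hx => ?_) hg
  obtain ⟨j, z⟩ := (by decide +kernel : ∀ w : V4, w 0 = 0 → q4 w = 0 → w ≠ 0 →
    ∃ j, w = zz j ∨ w = -zz j) (sp σ ε (zz i))
    (by simp only [sp, (Perm.inv_eq_iff_eq.2 o.symm : σ⁻¹ 0 = 0)]; simp [zz])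
    ((h.isoL e _).trans ((by decide : ∀ i, q4 (zz i) = 0) i)) fun z => by
      have : sp σ ε 0 = 0 := funext fun _ => by simp [sp]
      exact (by decide : ∀ i, zz i ≠ 0) i (h.oe_inj e (z.trans this.symm))
  exact RE j (h.Rcj e s b o z hx)

theorem oe_nE : 𝐍[JJ f] ⊓ centralizer {f T} ≤ 𝐍[EE f] := fun _ a => h.En a.1 (mem_cent.1 a.2)

theorem Mfac (a : m ∈ MM f) : ∃ e ∈ EE f, ∃ n ∈ 𝐍[JJ f], Commute n (f T) ∧ m = e * n := by
  obtain ⟨e, x, n, y, z⟩ := (mem_sup_of_le_normalizer_left h.oe_nE).1 a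
  exact ⟨e, x, n, y.1, mem_cent.1 y.2, z⟩

theorem oe_jR (o : v 0 = 0) (a : g ∈ Rq f i) : jv f v * g * (jv f v)⁻¹ ∈ Rq f i :=
  h.Rcj (σ := 1) (ε := 1) ((h.acJ v).cong fun _ => funext fun _ => by simp [sp]) (by decide)
    (h.acT.comm ((by decide +kernel : ∀ v : V4, v 0 = 0 → rf (ev 0) v = v) v o)).symm rfl
    (Or.inl (funext fun _ => by simp [sp])) a

theorem Efix (o : v 0 = 0) (p : ∀ i, c i ∈ Rq f i) (e : Commute (c 0 * c 1 * c 2 * c 3) (jv f v))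
    (i : Fin 4) : (c i = 1 ∨ c i = f T) ∨ b4 v (zz i) = 0 := by
  have p' := fun i => h.oe_jR o (p i)
  have e1 := OE.prod4 (c := fun i => jv f v * c i * (jv f v)⁻¹) (d := fun i => (c i)⁻¹)
    fun i j x => h.Rcm x (p' i) (inv_mem (p j))
  have e2 := OE.prod4 (c := c) (d := fun i => (c i)⁻¹) fun i j x => h.Rcm x (p i) (inv_mem (p j))
  simp only [mul_inv_cancel, conj_mul, conj_of_comm e.symm] at e1 e2
  have := h.ind (c := fun i => jv f v * c i * (jv f v)⁻¹ * (c i)⁻¹)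
    (fun i => mul_mem (p' i) (inv_mem (p i))) (Or.inl (by simpa using e1.symm.trans e2)) i
  refine h.Rfix o (p i) (this.imp mul_inv_eq_one.1 fun x => ?_)
  rw [(h.Rxs i).z_comm _ (p i)]
  exact mul_inv_eq_iff_eq_mul.1 x

theorem me (cls : ∀ u ∈ EE f, u * u = 1 → ¬ 8 ∣ (centralizer {u}).relIndex (MM f)) :
    ME D f (EE f) (MM f) := by
  refine ⟨h, h.Exs, h.Ecard, fun a ha => RE 0 (h.R0.2 ⟨a, ha, rfl⟩), le_sup_left,
    fun m a => mem_cent.1 ((sup_le h.ET inf_le_right : MM f ≤ _) a), sup_le le_normalizer h.oe_nE,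
    fun n a b => mem_sup_right ⟨a, mem_cent.2 b⟩, fun m a => ?_, fun i x e a b => ?_,
    fun v o a => ?_, cls⟩
  · obtain ⟨e, x, n, y, -, z⟩ := h.Mfac a
    exact ⟨e, x, n, y, z⟩
  · obtain ⟨c, p, rfl⟩ := h.dec.1 a
    obtain ⟨o, z⟩ := (by decide : ∀ i : Fin 4, i ≠ 0 → ev i 0 = 0 ∧ ∀ k, b4 (ev i) (zz k) ≠ 0) i x
    exact h.oe_prod fun k => (h.Efix o p b k).resolve_right (z k)
  · refine (by decide +kernel : ∀ v : V4, v 0 = 0 → (∀ i, b4 v (zz i) = 0) → v = 0) v o fun i => ?_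
    obtain ⟨x, p, y, z⟩ := (h.Rxs i).nonab
    exact (h.Rfix o p (Or.inl (conj_of_comm (a x (RE i p)).symm))).resolve_left (not_or.2 ⟨y, z⟩)

end LC

end Cfsg.Agent.O8T
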