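import Cfsg.Agent.Loc3.O8E

/-!
(S3372.)  Classes of involutions of `E`.  Read `Loc3/O8E`.
-/

set_option autoImplicit false
set_option maxRecDepth 100000
set_option synthInstance.maxHeartbeats 400000
set_option synthInstance.maxSize 4000

namespace Cfsg.Agent.O8T

open Subgroup Cfsg Cfsg.Agent.PLocal.Amb Cfsg.Agent.Loc3 Cfsg.Agent.Comp Cfsg.Agent.LES
open Cfsg.Agent.X32 (TG)
open Cfsg.Agent.X32.TG
open Cfsg.Agent.Loc3.Pr hiding V rf
open Cfsg.Agent.TT (XS)
open Cfsg.Agent.PS4 (K2 l2)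
open Equiv (Perm swap)
open scoped commutatorElement

namespace E2

theorem c81 : Nat.card (sS ⊓ centralizer {T} : Subgroup K) = 81 :=
  (X32.card_sub (· ∈ sS ⊓ centralizer {T}) fun _ => Iff.rfl).trans (by decide +kernel)

theorem c27 : Nat.card (sJ ⊓ centralizer {T} : Subgroup K) = 27 :=
  (X32.card_sub (· ∈ sJ ⊓ centralizer {T}) fun _ => Iff.rfl).trans (by decide +kernel)

theorem kS : ∀ k, k ∈ sS → Commute k T → k ∈ s1 ∧
    ∃ v, v 0 = 0 ∧ (jK v = k ∨ jK v * C = k ∨ jK v * C * C = k) := bd!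

theorem kJ : ∀ k, k ∈ sJ → Commute k T → k ∈ s1 ∧ ∃ v, v 0 = 0 ∧ jK v = k := bd!

theorem kN : ∀ k, k ∈ sS → k * A * k⁻¹ ∈ sJ ∧ k * g2 * k⁻¹ ∈ sJ ∧ k * g3 * k⁻¹ ∈ sJ ∧
    k * g4 * k⁻¹ ∈ sJ := bd!

theorem kJS : ∀ k ∈ sJ, k ∈ sS := bd!

theorem kR : ∀ a ∈ lR, (a = 1 ∨ a = T) ∨ (e 2916 = a ∨ e 2916 = a * T) ∨ (e 7047 = a ∨ e 7047 = a * T) ∨
    (e 7776 = a ∨ e 7776 = a * T) := bd!

theorem lin : ∀ i j : Fin 4, i ≠ j → ∃ x : V4, ∀ v : V4, v 0 = 0 → b4 v (zz i) = 0 → b4 v (zz j) = 0 →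
    v = 0 ∨ v = x ∨ v = x + x := by decide +kernel

theorem lin0 : ∀ v : V4, v 0 = 0 → (∀ i, b4 v (zz i) = 0) → v = 0 := by decide +kernel

theorem zzx : ∀ x : V4, x 0 = 0 → (∀ l, l ≠ 0 → x l ≠ 0) → ∃ j, x = zz j ∨ x = -zz j := by
  decide +kernel

theorem zzb : ∀ i j, b4 (zz i) (zz j) = 0 → i = j := by decide +kernel

theorem zzs : ∀ j, b4 (zz j) (zz j) = 0 ∧ b4 (zz j) (-zz j) = 0 ∧ b4 (-zz j) (zz j) = 0 ∧
    b4 (-zz j) (-zz j) = 0 := by decide +kernel

theorem zzn : ∀ i l, l ≠ 0 → zz i l ≠ 0 := by decide +kernel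

theorem zzC : ∀ i, sp (swap 1 2 * swap 2 3) 1 (zz i) = zz ((swap 1 2 * swap 2 3 : Perm (Fin 4)) i) := by
  decide +kernel

theorem cyc : ∀ s : Finset (Fin 4), s.card = 2 →
    ¬ (∀ i ∈ s, (swap 1 2 * swap 2 3 : Perm (Fin 4)) i ∈ s) ∧
    ¬ (∀ i ∈ s, (swap 1 2 * swap 2 3 : Perm (Fin 4)) ((swap 1 2 * swap 2 3 : Perm (Fin 4)) i) ∈ s) := by
  decide +kernel

abbrev Ix (w : ℕ) := {p : (Fin 4 → Fin 4) × Bool // (Finset.univ.filter fun i => p.1 i ≠ 0).card = w}

theorem cnt : Fintype.card (Ix 0) < 8 ∧ Fintype.card (Ix 2) < 216 ∧ Fintype.card (Ix 4) < 216 := by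
  decide +kernel

theorem dvd_card_of_stab {P Ω : Type*} [Group P] [MulAction P Ω] [Finite Ω] {d : ℕ}
    (h : ∀ x : Ω, d ∣ (MulAction.stabilizer P x).index) : d ∣ Nat.card Ω := by
  classical
  rw [Nat.card_congr (MulAction.selfEquivSigmaOrbits P Ω)]
  have := Fintype.ofFinite (MulAction.orbitRel.Quotient P Ω)
  rw [Nat.card_sigma]
  refine Finset.dvd_sum fun ω _ => ?_
  rw [Nat.card_congr (MulAction.orbitEquivQuotientStabilizer P _)]
  exact h _

variable {G : Type*} [Group G] [Finite G]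

theorem dvd_idx {M P : Subgroup G} {u : G} {d : ℕ} (l : P ≤ M)
    (h : ∀ m ∈ M, d ∣ (centralizer {m * u * m⁻¹}).relIndex P) : d ∣ (centralizer {u}).relIndex M := by
  refine dvd_card_of_stab (P := P.subgroupOf M) (Ω := M ⧸ (centralizer {u}).subgroupOf M) fun x => ?_
  obtain ⟨m, rfl⟩ := QuotientGroup.mk_surjective x
  have e : MulAction.stabilizer (P.subgroupOf M) (m : M ⧸ (centralizer {u}).subgroupOf M) =
      ((centralizer {(m : G) * u * (m : G)⁻¹}).subgroupOf M).subgroupOf (P.subgroupOf M) := by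
    ext p
    rw [MulAction.mem_stabilizer_iff, mem_subgroupOf, mem_subgroupOf]
    show ((p.1 * m : M) : M ⧸ (centralizer {u}).subgroupOf M) = m ↔ _
    rw [eq_comm, QuotientGroup.eq, mem_subgroupOf, mem_centralizer_singleton_iff,
      mem_centralizer_singleton_iff]
    simp only [coe_mul, coe_inv]
    constructor <;> intro a
    · calc _ = (m : G) * ((m : G)⁻¹ * (p * m) * u) * (m : G)⁻¹ := by group
        _ = _ := by rw [a]; group
    · calc _ = (m : G)⁻¹ * (p * ((m : G) * u * (m : G)⁻¹)) * m := by group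
        _ = _ := by rw [a]; group
  rw [e]
  have := h m m.2
  rwa [← relIndex_subgroupOf l] at this

theorem idx_le {M : Subgroup G} {u : G} {ι : Type} [Finite ι] (Ψ : ι → G)
    (h : ∀ m ∈ M, ∃ i, Ψ i = m * u * m⁻¹) : (centralizer {u}).relIndex M ≤ Nat.card ι := by
  choose g hg using fun x : M ⧸ (centralizer {u}).subgroupOf M => h x.out x.out.2
  refine Nat.card_le_card_of_injective g fun x y a => ?_
  have b := hg x
  rw [a, hg y] at b
  rw [← x.out_eq', ← y.out_eq', QuotientGroup.eq, mem_subgroupOf, mem_centralizer_singleton_iff]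
  simp only [coe_mul, coe_inv]
  calc _ = (x.out : G)⁻¹ * ((y.out : G) * u * (y.out : G)⁻¹) * y.out := by group
    _ = _ := by rw [b]; group

theorem dvd27 {P W : Subgroup G} {n : ℕ} (a : Nat.card P = 27 * n) (n0 : 0 < n)
    (b : Nat.card (W ⊓ P : Subgroup G) ∣ n) : 27 ∣ W.relIndex P := by
  have c := (W.subgroupOf P).index_mul_card
  rw [a, ← inf_subgroupOf_right, Nat.card_congr (subgroupOfEquivOfLe inf_le_right).toEquiv,
    inf_subgroupOf_right] at c
  obtain ⟨k, rfl⟩ := b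
  refine ⟨k, Nat.eq_of_mul_eq_mul_right (Nat.card_pos (α := (W ⊓ P : Subgroup G))) ?_⟩
  rw [relIndex, c]; ring

variable {D : Subgroup K} {f : K → G} {g m n u : G} {c : Fin 4 → G} {τ ρ : Fin 4 → Fin 4} {v : V4}

/-- conjugation by `m` maps `Rq f i` into `Rq f (τ i)` -/
def Pm (f : K → G) (m : G) (τ : Fin 4 → Fin 4) : Prop := ∀ i, ∀ g ∈ Rq f i, m * g * m⁻¹ ∈ Rq f (τ i)

open Classical in
/-- the support -/
noncomputable def sup (f : K → G) (u : G) : Finset (Fin 4) :=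
  Finset.univ.filter fun i => ∃ g ∈ Rq f i, ¬ Commute g u

omit [Finite G] in
theorem Pm.mul (a : Pm f m τ) (b : Pm f n ρ) : Pm f (m * n) fun i => τ (ρ i) := fun i g p => by
  have := a _ _ (b i g p)
  rwa [show m * (n * g * n⁻¹) * m⁻¹ = m * n * g * (m * n)⁻¹ by group] at this

omit [Finite G] in
theorem Pm.sup (a : Pm f m τ) {i : Fin 4} (p : i ∈ sup f u) : τ i ∈ sup f (m * u * m⁻¹) := by
  simp only [E2.sup, Finset.mem_filter, Finset.mem_univ, true_and] at p ⊢
  obtain ⟨g, p, q⟩ := p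
  refine ⟨_, a i g p, fun r => q ?_⟩
  have := (MulAut.conj m⁻¹).toMonoidHom.map_mul (m * g * m⁻¹) (m * u * m⁻¹)
  calc g * u = m⁻¹ * (m * g * m⁻¹ * (m * u * m⁻¹)) * m := by group
    _ = _ := by rw [r.eq]; group

variable (h : LC D f)
include h

theorem pmR {j : Fin 4} (a : m ∈ Rq f j) : Pm f m id := fun i g p => by
  by_cases e : j = i
  · subst e; exact mul_mem (mul_mem a p) (inv_mem a)
  · rw [(h.Rcm e a p).eq, mul_inv_cancel_right]; exact p

theorem pmE (a : m ∈ EE f) : Pm f m id := by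
  obtain ⟨c, p, rfl⟩ := h.dec.1 a
  exact (((pmR h (p 0)).mul (pmR h (p 1))).mul (pmR h (p 2))).mul (pmR h (p 3))

theorem pmN (a : n ∈ 𝐍[JJ f]) (b : Commute n (f T)) : ∃ τ, Function.Injective τ ∧ Pm f n τ := by
  obtain ⟨σ, ε, o, s, e⟩ := h.monoT a b
  have o' : σ⁻¹ 0 = 0 := Perm.inv_eq_iff_eq.2 o.symm
  choose τ hτ using fun i => zzx (sp σ ε (zz i)) (by simp [sp, o', zz]) fun l hl =>
    mul_ne_zero (s l) (zzn i _ fun q => hl (by rw [Perm.inv_eq_iff_eq.1 q, o]))
  refine ⟨τ, fun i j q => zzb i j ?_, fun i g p => h.Rcj e s b o (hτ i) p⟩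
  rw [← h.isoB e]
  have z := zzs (τ j)
  rcases hτ i with x | x <;> rcases hτ j with y | y <;> rw [x, y, q] <;> tauto

theorem pmM (a : m ∈ MM f) : ∃ τ, Function.Injective τ ∧ Pm f m τ := by
  obtain ⟨e, p, n, q, r, rfl⟩ := h.Mfac a
  obtain ⟨τ, s, t⟩ := pmN h q r
  exact ⟨τ, s, (pmE h p).mul t⟩

theorem supM (a : m ∈ MM f) (u : G) : (sup f (m * u * m⁻¹)).card = (sup f u).card := by
  have k : ∀ m ∈ MM f, ∀ u, (sup f u).card ≤ (sup f (m * u * m⁻¹)).card := fun m a u => by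
    obtain ⟨τ, s, t⟩ := pmM h a
    exact Finset.card_le_card_of_injOn τ (fun i p => t.sup p) s.injOn
  refine le_antisymm ?_ (k m a u)
  have := k _ (inv_mem a) (m * u * m⁻¹)
  rwa [show m⁻¹ * (m * u * m⁻¹) * m⁻¹⁻¹ = u by group] at this

theorem cjE (a : m ∈ MM f) (b : u ∈ EE f) : m * u * m⁻¹ ∈ EE f := by
  obtain ⟨e, p, n, q, r, rfl⟩ := h.Mfac a
  have := mul_mem (mul_mem p ((mem_normalizer_iff.1 (h.En q r) u).1 b)) (inv_mem p)
  rwa [show e * (n * u * n⁻¹) * e⁻¹ = e * n * u * (e * n)⁻¹ by group] at this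

theorem sup_dec (p : ∀ i, c i ∈ Rq f i) (i : Fin 4) :
    i ∈ sup f (c 0 * c 1 * c 2 * c 3) ↔ ¬ (c i = 1 ∨ c i = f T) := by
  simp only [sup, Finset.mem_filter, Finset.mem_univ, true_and]
  have k : ∀ g ∈ Rq f i, Commute g (c 0 * c 1 * c 2 * c 3) ↔ Commute g (c i) := fun g a => by
    have o : ∀ j, i ≠ j → Commute g (c j) := fun j e => h.Rcm e a (p j)
    refine ⟨fun r => ?_, fun r => ?_⟩
    · fin_cases i
      · have := ((r.mul_right (o 3 (by decide)).inv_right).mul_right (o 2 (by decide)).inv_right).mul_right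
          (o 1 (by decide)).inv_right
        simpa using this
      · have := (o 0 (by decide)).inv_right.mul_right
          ((r.mul_right (o 3 (by decide)).inv_right).mul_right (o 2 (by decide)).inv_right)
        simpa using this
      · have := ((o 0 (by decide)).mul_right (o 1 (by decide))).inv_right.mul_right
          (r.mul_right (o 3 (by decide)).inv_right)
        rwa [mul_inv_cancel_right, inv_mul_cancel_left] at this
      · have := (((o 0 (by decide)).mul_right (o 1 (by decide))).mul_right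
          (o 2 (by decide))).inv_right.mul_right r
        rwa [inv_mul_cancel_left] at this
    · have o' : ∀ j, Commute g (c j) := fun j => if e : i = j then e ▸ r else o j e
      exact (((o' 0).mul_right (o' 1)).mul_right (o' 2)).mul_right (o' 3)
  refine ⟨fun ⟨g, a, b⟩ z => b ((k g a).2 ?_), fun z => by_contra fun q => z ?_⟩
  · rcases z with z | z <;> rw [z]
    exacts [Commute.one_right g, (h.Rxs i).z_comm g a]
  · exact (h.Rxs i).cent _ (p i) fun y a => ((k y a).1 (by_contra fun r => q ⟨y, a, r⟩)).symm.eq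

theorem sup_even (a : u ∈ EE f) (b : u * u = 1) : Even (sup f u).card := by
  classical
  obtain ⟨c, p, rfl⟩ := h.dec.1 a
  have x := h.Rxs 0
  have s : ∀ i, c i * c i = f T ^ (if i ∈ sup f (c 0 * c 1 * c 2 * c 3) then 1 else 0) := fun i => by
    split_ifs with q
    · rw [sup_dec h p] at q
      rw [pow_one]
      have := h.Rsq (p i)
      tauto
    · rw [sup_dec h p, not_not] at q
      rcases q with q | q <;> rw [q, pow_zero]
      exacts [mul_one 1, x.z_sq]
  have o : ∀ i j, i ≠ j → Commute (c i) (c j) := fun i j e => h.Rcm e (p i) (p j)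
  rw [← sq, (((o 0 3 (by decide)).mul_left (o 1 3 (by decide))).mul_left (o 2 3 (by decide))).mul_pow,
    ((o 0 2 (by decide)).mul_left (o 1 2 (by decide))).mul_pow, (o 0 1 (by decide)).mul_pow,
    sq, sq, sq, sq, s 0, s 1, s 2, s 3, ← pow_add, ← pow_add, ← pow_add, ← orderOf_dvd_iff_pow_eq_one,
    x.orderOf_z, ← Fin.sum_univ_four fun i => if i ∈ sup f (c 0 * c 1 * c 2 * c 3) then 1 else 0,
    ← Finset.card_filter, Finset.filter_univ_mem] at b
  exact even_iff_two_dvd.2 b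

theorem reps (i : Fin 4) : ∃ r : Fin 4 → G, ∀ g ∈ Rq f i, ∃ k, (r k = g ∨ r k = g * f T) ∧
    (k ≠ 0 ↔ ¬ (g = 1 ∨ g = f T)) := by
  obtain ⟨r, a, -, -, b⟩ := h.Rex i
  have t : r⁻¹ * f T * r = f T := by rw [a.inv_left.eq, inv_mul_cancel_right]
  refine ⟨![1, r⁻¹ * f (e 2916) * r, r⁻¹ * f (e 7047) * r, r⁻¹ * f (e 7776) * r], fun g p => ?_⟩
  by_cases z : g = 1 ∨ g = f T
  · refine ⟨0, ?_, by simp only [ne_eq, not_true, z]⟩
    rcases z with z | z <;> rw [z]
    exacts [.inl rfl, .inr h.t2.symm]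
  obtain ⟨x, q, y⟩ := h.R0.1 ((b g).1 p)
  have w : g = r⁻¹ * f x * r := by rw [y]; group
  have k : ∀ s : K, (s = x ∨ s = x * T) → r⁻¹ * f s * r = g ∨ r⁻¹ * f s * r = g * f T := by
    rintro _ (rfl | rfl)
    · exact .inl w.symm
    · refine .inr ?_
      rw [h.mul (h.le (lR_s1 x q)) (h.le (bd! : T ∈ s1)), w]
      conv_rhs => rw [← t]
      group
  rcases kR x q with s | s | s | s
  · refine absurd ?_ z
    rcases s with s | s <;> rw [w, s]
    exacts [.inl (by rw [h.one]; group), .inr t]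
  · exact ⟨1, k _ s, by simp [z]⟩
  · exact ⟨2, k _ s, by simp [z]⟩
  · exact ⟨3, k _ s, by simp [z]⟩

theorem idx_lt (a : u ∈ EE f) : (centralizer {u}).relIndex (MM f) ≤ Fintype.card (Ix (sup f u).card) := by
  choose r hr using reps h
  rw [← Nat.card_eq_fintype_card]
  refine idx_le (fun p => r 0 (p.1.1 0) * r 1 (p.1.1 1) * r 2 (p.1.1 2) * r 3 (p.1.1 3) *
    if p.1.2 then f T else 1) fun m q => ?_
  obtain ⟨c, p, e⟩ := h.dec.1 (cjE h q a)
  choose k k1 k2 using fun i => hr i (c i) (p i)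
  have w : (Finset.univ.filter fun i => k i ≠ 0).card = (sup f u).card := by
    rw [← supM h q, ← e]
    congr 1
    ext i
    rw [sup_dec h p, Finset.mem_filter, k2]
    simp
  have mu : ∀ {x y x' y' : G}, Commute y' (f T) → (x = y ∨ x = y * f T) → (x' = y' ∨ x' = y' * f T) →
      x * x' = y * y' ∨ x * x' = y * y' * f T := by
    rintro _ y _ y' o (rfl | rfl) (rfl | rfl)
    · exact .inl rfl
    · exact .inr (mul_assoc _ _ _).symm
    · exact .inr (by rw [mul_assoc, ← o.eq, mul_assoc])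
    · exact .inl (by rw [mul_assoc, ← mul_assoc (f T), ← o.eq, mul_assoc y', h.t2, mul_one])
  have o : ∀ i, Commute (c i) (f T) := fun i => (h.Rxs i).z_comm _ (p i)
  rcases mu (o 3) (mu (o 2) (mu (o 1) (k1 0) (k1 1)) (k1 2)) (k1 3) with s | s
  · exact ⟨⟨(k, false), w⟩, by simp only [s, e]; simp⟩
  · exact ⟨⟨(k, true), w⟩, by simp only [s, e]; simp [mul_assoc, h.t2]⟩

theorem imM {W : Subgroup K} (l : W ≤ sS) : h.im (W ⊓ centralizer {T}) ≤ MM f := fun g a => by
  obtain ⟨k, ⟨p, q⟩, d, rfl⟩ := h.mem_im.1 a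
  exact mem_sup_right ⟨h.nK d (kN k (l p)),
    mem_cent.2 ((h.cm d (h.le (bd! : T ∈ s1))).2 (mem_cent.1 q))⟩

theorem fixJ (a : u ∈ EE f) (o : v 0 = 0) (b : Commute (jv f v) u) {i : Fin 4} (p : i ∈ sup f u) :
    b4 v (zz i) = 0 := by
  obtain ⟨c, q, rfl⟩ := h.dec.1 a
  exact (h.Efix o q b.symm i).resolve_left ((sup_dec h q i).1 p)

theorem w4 (a : u ∈ EE f) (b : (sup f u).card = 4) :
    27 ∣ (centralizer {u}).relIndex (h.im (sJ ⊓ centralizer {T})) := by
  refine dvd27 (n := 1) ((h.card_im (U := sJ ⊓ centralizer {T})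
    fun k p => h.le (kJ k p.1 (mem_cent.1 p.2)).1).trans c27) one_pos ?_
  rw [Nat.dvd_one, card_eq_one, eq_bot_iff]
  rintro g ⟨p, q⟩
  obtain ⟨k, ⟨r, s⟩, -, rfl⟩ := h.mem_im.1 q
  obtain ⟨-, v, o, rfl⟩ := kJ k r (mem_cent.1 s)
  have z : sup f u = Finset.univ := Finset.eq_univ_of_card _ (b.trans (Fintype.card_fin 4).symm)
  rw [lin0 v o fun i => fixJ h a o (mem_cent.1 p) (z ▸ Finset.mem_univ i)]
  exact h.zero

theorem w2 (a : u ∈ EE f) (b : (sup f u).card = 2) :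
    27 ∣ (centralizer {u}).relIndex (h.im (sS ⊓ centralizer {T})) := by
  refine dvd27 (n := 3) ((h.card_im (U := sS ⊓ centralizer {T})
    fun k p => h.le (kS k p.1 (mem_cent.1 p.2)).1).trans c81) (by decide) ?_
  obtain ⟨i, j, e, z⟩ := Finset.card_eq_two.1 b
  obtain ⟨x, hx⟩ := lin i j e
  refine (card_dvd_of_le (K := zpowers (jv f x)) ?_).trans
    (by rw [Nat.card_zpowers]; exact orderOf_dvd_of_pow_eq_one (h.j3 x))
  rintro g ⟨p, q⟩
  obtain ⟨k, ⟨r, s⟩, -, rfl⟩ := h.mem_im.1 q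
  obtain ⟨-, v, o, y⟩ := kS k r (mem_cent.1 s)
  have dC : C ∈ D := h.le bd!
  have dT : T ∈ D := h.le bd!
  have pJ : Pm f (jv f v) id := fun i g p => h.Rcj (σ := 1) (ε := 1)
    ((h.acJ v).cong fun w => by ext l; simp [sp]) (fun l => by simp)
    (h.acT.comm (by ext l; simp [rf, b4, ev, o])).symm rfl (.inl (by ext l; simp [sp])) p
  have pC : Pm f (f C) (swap 1 2 * swap 2 3 : Perm (Fin 4)) := fun i g p =>
    h.Rcj h.acC (fun l => by simp) (h.cm1 bd!) (by decide) (.inl (zzC i)) p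
  have st : ∀ {τ}, Pm f (f k) τ → ∀ i ∈ sup f u, τ i ∈ sup f u := fun t i w => by
    have := t.sup w
    rwa [(mem_cent.1 p).eq, mul_inv_cancel_right] at this
  rcases y with rfl | rfl | rfl
  · have w : ∀ l ∈ sup f u, b4 v (zz l) = 0 := fun l => fixJ h a o (mem_cent.1 p)
    show jv f v ∈ _
    rcases hx v o (w i (by simp [z])) (w j (by simp [z])) with rfl | rfl | rfl
    · rw [h.zero]; exact one_mem _
    · exact mem_zpowers _
    · rw [h.add]; exact mul_mem (mem_zpowers _) (mem_zpowers _)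
  · rw [h.mul (h.jD v) dC] at st
    exact absurd (st (pJ.mul pC)) (cyc _ b).1
  · rw [h.mul (mul_mem (h.jD v) dC) dC, h.mul (h.jD v) dC] at st
    exact absurd (st ((pJ.mul pC).mul pC)) (cyc _ b).2

end E2

variable {G : Type*} [Group G] [Finite G] {D : Subgroup K} {f : K → G}

open E2 in
/-- The index is the size of the class `𝒞` of `u` under `M = MM f`.  The support of `u` has size 0, 2 or 4,
and the size is invariant under `M`.  There are 2, 108, 162 elements of these weights; and `27 ∣ |𝒞|` in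
weights two and four. -/
theorem LC.cls (h : LC D f) : ∀ u ∈ EE f, u * u = 1 → ¬ 8 ∣ (centralizer {u}).relIndex (MM f) := by
  intro u a b d
  have le := idx_lt h a
  have n0 : (centralizer {u}).relIndex (MM f) ≠ 0 := index_ne_zero_of_finite
  have l4 : (sup f u).card ≤ 4 := (Finset.card_le_univ _).trans (Fintype.card_fin 4).le
  obtain ⟨k, hk⟩ := sup_even h a b
  obtain ⟨c0, c2, c4⟩ := cnt
  have : (sup f u).card = 0 ∨ (sup f u).card = 2 ∨ (sup f u).card = 4 := by omega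
  rcases this with s | s | s <;> rw [s] at le
  · omega
  · have := dvd_idx (imM h le_rfl) fun m q => w2 h (cjE h q a) ((supM h q u).trans s)
    omega
  · have := dvd_idx (imM h kJS) fun m q => w4 h (cjE h q a) ((supM h q u).trans s)
    omega

theorem LC.exists_ME (h : LC D f) : ∃ E M, ME D f E M := ⟨_, _, h.me h.cls⟩

end Cfsg.Agent.O8T
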