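import Cfsg.Agent.Loc3.O8D

/-!
STUB (S3372, helper77).  Fusion in `J` and the class of `f C`.  Read `Loc3/O8D` first.
`bd!` decides closed statements about the table group `K` (order 23328; a single `∀ k` is fast,
`∀ k ∈ sQ, ∀ l` takes a minute or two; `∀ k ∈ sJ`, `∀ v : V4`, `∀ a ∈ lR` are cheap).
All "K-facts" quoted below were checked with `bd!`.
-/

set_option autoImplicit false
set_option linter.unusedSectionVars false
set_option maxRecDepth 100000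
set_option synthInstance.maxHeartbeats 400000
set_option synthInstance.maxSize 4000

namespace Cfsg.Agent.O8T

open Subgroup Cfsg Cfsg.Agent.PLocal.Amb Cfsg.Agent.Loc3 Cfsg.Agent.Comp Cfsg.Agent.LES
open Cfsg.Agent.X32 (TG)
open Cfsg.Agent.X32.TG
open Cfsg.Agent.Loc3.Pr hiding V rf
open Cfsg.Agent.TT (XS)
open Cfsg.Agent.PS4 (K2 l2)
open Equiv (Perm swap)
open scoped commutatorElement

variable {G : Type*} [Group G] [Finite G] {D : Subgroup K} {f : K → G} {g n m w : G} {k : K}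
  {u v : V4} {L : V4 → V4}

theorem kF1 : ∀ k, Commute k Z → Commute k V → Commute k A → k ∈ sJ := bd!

theorem kF2 : ∀ k : K, (k ^ 9) ^ 8 = 1 := bd!

theorem kF3 : ∀ k, k ^ 9 = 1 → k * A * k⁻¹ ∈ sJ → k * g2 * k⁻¹ ∈ sJ → k ∈ sS := bd!

theorem kF4 : ∀ a ∈ sQ, ∀ b ∈ sQ, a * b * a⁻¹ * b⁻¹ ∈ [1, Z, Z⁻¹] := bd!

theorem kF5 : ∀ m : K, ∀ g ∈ [Z⁻¹, V⁻¹, A⁻¹, B⁻¹, C⁻¹], m * g * m⁻¹ ∈ sQ := bd!

theorem kF6 : ∀ k ∈ sQ, k ∉ s81 → ∃ b ∈ (es [0, 11664, 729, 2916, 3159, 3402, 3645, 3888, 4131, 12393, 14580,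
    14823, 15066, 15309, 15552, 15795] : List K), ∃ a ∈ (es [0, 3, 6, 243, 246, 249, 486, 489, 492] : List K),
    a * (b * k * b⁻¹) * a⁻¹ ∈ [C, C * A] := bd!

theorem kF7 : ∀ k ∈ [C, C * A], ∀ l, Commute l k → l ^ 9 = 1 → l ∈ sQ := bd!

theorem kF8 : ∀ k ∈ [C, C * A], Commute A k ∧ ∃ b ∈ [B, B * V], b ∈ sQ ∧ Commute b k ∧ ¬ Commute A b := bd!

theorem kF9 : ∀ k ∈ sS, k ∉ sJ → ∃ b ∈ [B, B⁻¹, C, C⁻¹, B * C, B * C⁻¹, B⁻¹ * C, B⁻¹ * C⁻¹], b⁻¹ * k ∈ sJ :=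
  bd!

theorem kF10 : ∀ b ∈ [B, B⁻¹, C, C⁻¹, B * C, B * C⁻¹, B⁻¹ * C, B⁻¹ * C⁻¹], ∃ l ∈ sJ, ∀ m ∈ sJ,
    Commute b m → m ∈ [1, Z, Z⁻¹, l, l * Z, l * Z⁻¹, l⁻¹, l⁻¹ * Z, l⁻¹ * Z⁻¹] := bd!

theorem kF13 : ∀ k ∈ sS, Commute k Z ∧
    (Commute k Y → Commute k B → Commute k C → Commute k A → k ∈ [1, Z, Z⁻¹]) := bd!

theorem k9_of {i : ℕ} (e : k ^ 3 ^ i = 1) : k ^ 9 = 1 :=
  (pow_eq_one_iff_of_coprime (Nat.Coprime.pow_right i (by decide : Nat.Coprime 8 3))).1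
    ⟨kF2 k, by rw [← pow_mul, mul_comm, pow_mul, e, one_pow]⟩

theorem sQ_cj (m : K) (a : k ∈ sQ) : m * k * m⁻¹ ∈ sQ :=
  G23.Am.seg_le (H := sQ.comap (MulAut.conj m).toMonoidHom) (kF5 m) a

theorem sJ_cj (a : k ∈ sS) : k ∈ 𝐍[sJ] :=
  G23.Am.seg_le (H := 𝐍[sJ]) (fun g hg => mem_normalizer_fintype ((bd! :
    ∀ g ∈ [Z⁻¹, V⁻¹, A⁻¹, B⁻¹, C⁻¹, Y⁻¹], ∀ j ∈ sJ, g * j * g⁻¹ ∈ sJ) g hg)) a

theorem sJ_comm {a b : K} (ha : a ∈ sJ) (hb : b ∈ sJ) : Commute a b := by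
  obtain ⟨u, rfl⟩ := jK_surj a ha
  obtain ⟨v, rfl⟩ := jK_surj b hb
  rw [Commute, SemiconjBy, ← jK_add, ← jK_add, add_comm]

theorem sJ_S : sJ ≤ sS := (bd! : ∀ k ∈ sJ, k ∈ sS)

theorem sQ_S : sQ ≤ sS := (bd! : ∀ k ∈ sQ, k ∈ sS)

theorem sS_1 : sS ≤ s1 := (bd! : ∀ k ∈ sS, k ∈ s1)

theorem kC_of (a : k ∈ sQ) (b : k ∉ s81) : (∀ l, Commute l k → l ^ 9 = 1 → l ∈ sQ) ∧
    ∃ a ∈ sQ, ∃ b ∈ sQ, Commute a k ∧ Commute b k ∧ ¬ Commute a b := by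
  obtain ⟨x, -, y, -, e⟩ := kF6 k a b
  obtain ⟨c, hc, e⟩ : ∃ c ∈ [C, C * A], ∃ m : K, k = m * c * m⁻¹ := ⟨_, e, x⁻¹ * y⁻¹, by group⟩
  obtain ⟨m, rfl⟩ := e
  obtain ⟨a1, b1, -, a2, a3, a4⟩ := kF8 c hc
  refine ⟨fun l h1 h2 => ?_, _, sQ_cj m (k := A) bd!, _, sQ_cj m a2, Commute.cj a1 m, Commute.cj a3 m,
    fun e => a4 (by simpa [mul_assoc] using Commute.cj e m⁻¹)⟩
  simpa [mul_assoc] using sQ_cj m (kF7 c hc (m⁻¹ * l * m⁻¹⁻¹) (by simpa [mul_assoc] using Commute.cj h1 m⁻¹)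
    (by rw [conj_pow, h2]; simp))

theorem card_le_list_o8 {E : Subgroup G} {l : List G} (e : ∀ x ∈ E, x ∈ l) : Nat.card E ≤ l.length := by
  classical
  exact ((Set.ncard_le_ncard (t := l.toFinset) fun x hx => by simpa using e x hx).trans_eq
    (Set.ncard_coe_finset _)).trans (List.toFinset_card_le l)

theorem card_le_third_o8 {P Q : Subgroup G} (e : P ≤ Q) {i : ℕ} (c : Nat.card Q = 3 ^ (i + 1))
    (ne : ¬ Q ≤ P) : Nat.card P ≤ 3 ^ i := by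
  obtain ⟨j, hj, r⟩ := (Nat.dvd_prime_pow Nat.prime_three).1 (c ▸ card_dvd_of_le e)
  refine r ▸ Nat.pow_le_pow_right (by decide) (Nat.le_of_lt_succ (hj.lt_of_ne ?_))
  rintro rfl
  exact ne (eq_of_le_of_card_ge e (by rw [r, c])).ge

theorem card_rel_o8 {P Q : Subgroup G} (e : P ≤ Q) : Nat.card P * P.relIndex Q = Nat.card Q := by
  rw [relIndex, ← card_mul_index (P.subgroupOf Q), Nat.card_congr (subgroupOfEquivOfLe e).toEquiv]

theorem eq_one_o8 {F : Subgroup G} (c : (Nat.card F).Coprime 3) (a : g ∈ F) (b : g ^ 3 = 1) : g = 1 :=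
  orderOf_eq_one_iff.1 (Nat.eq_one_of_dvd_coprimes c (F.orderOf_dvd_natCard a) (orderOf_dvd_of_pow_eq_one b))

namespace Ch

variable (h : Ch D f)
include h

omit [Finite G] in
theorem SD : sS ≤ D := sS_1.trans h.le

omit [Finite G] in
theorem QD (a : k ∈ sQ) : k ∈ D := h.SD (sQ_S a)

omit [Finite G] in
theorem mem_im' {U : Subgroup K} (a : k ∈ D) : f k ∈ h.im U ↔ k ∈ U :=
  h.mem_im.trans ⟨fun ⟨_, b, c, d⟩ => h.eq c a d ▸ b, fun b => ⟨k, b, a, rfl⟩⟩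

omit [Finite G] in
theorem imJ : JJ f = h.im sJ := Subgroup.ext fun _ => h.memJ.trans (h.mem_im.trans
  ⟨fun ⟨k, a, _, b⟩ => (jK_surj k a).imp fun _ e => (congrArg f e).trans b,
    fun ⟨v, a⟩ => ⟨_, jK_mem v, h.jD v, a⟩⟩).symm

omit [Finite G] in
theorem memJ' (a : k ∈ D) : f k ∈ JJ f ↔ k ∈ sJ := h.imJ ▸ h.mem_im' a

omit [Finite G] in
theorem JS : JJ f ≤ h.im sS := h.imJ ▸ map_mono (comap_mono sJ_S)

omit [Finite G] in
theorem cardS : Nat.card (h.im sS) = 3 ^ 6 := (h.card_im h.SD).trans (G23.Am.card_seg (by decide))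

omit [Finite G] in
theorem pJ : IsPGroup 3 (JJ f) := IsPGroup.of_card (n := 4) h.cardJ

omit [Finite G] in
theorem cJJ (a : g ∈ JJ f) (b : n ∈ JJ f) : Commute g n := by
  obtain ⟨u, rfl⟩ := h.memJ.1 a
  obtain ⟨v, rfl⟩ := h.memJ.1 b
  exact h.jc u v

theorem rz' (e : k ∈ [1, Z, Z⁻¹]) (r : g * f Z * g⁻¹ = f k) : ∃ k ∈ D, f k = g := by
  simp only [List.mem_cons, List.not_mem_nil, or_false] at e
  rcases e with rfl | rfl | rfl
  · exact absurd (by simpa [h.one] using r) h.z1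
  · exact h.rz (Or.inl r)
  · exact h.rz (Or.inr (r.trans (h.inv (h.le bd!))))

theorem nzc {a b : K} (ha : a ∈ sQ) (hb : b ∈ sQ) (c : ¬ Commute a b) (ga : g * f a * g⁻¹ ∈ h.im sQ)
    (gb : g * f b * g⁻¹ ∈ h.im sQ) : ∃ k ∈ D, f k = g := by
  have e : ∀ {a b}, a ∈ sQ → b ∈ sQ → f (a * b * a⁻¹ * b⁻¹) = f a * f b * (f a)⁻¹ * (f b)⁻¹ := fun ha hb => by
    rw [h.mul (h.QD (sQ_cj _ hb)) (inv_mem (h.QD hb)), h.cj (h.QD ha) (h.QD hb), h.inv (h.QD hb)]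
  obtain ⟨a', ha', -, ea⟩ := h.mem_im.1 ga
  obtain ⟨b', hb', -, eb⟩ := h.mem_im.1 gb
  have r : g * f (a * b * a⁻¹ * b⁻¹) * g⁻¹ = f (a' * b' * a'⁻¹ * b'⁻¹) := by
    rw [e ha hb, e ha' hb', ea, eb]; group
  have t := kF4 a ha b hb
  simp only [List.mem_cons, List.not_mem_nil, or_false] at t
  rcases t with t | t | t
  · exact absurd (commutatorElement_eq_one_iff_commute.1 t) c
  · exact h.rz' (kF4 a' ha' b' hb') (t ▸ r)
  · refine h.rz' (kF4 b' hb' a' ha') ?_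
    rw [t, h.inv (h.le bd!), e ha' hb'] at r
    rw [e hb' ha', ← inv_inj, conj_inv, r]; group

/-- `C(J) = J`, even `C(sA) = J`.  `g` commutes with `f Z`, so `g = f k` (`h.cz`); `h.cm` and the K-fact
`∀ k, Commute k Z → Commute k V → Commute k A → k ∈ sJ`; then `jK_surj`. -/
theorem cA (a : Commute g (f Z)) (b : Commute g (f V)) (c : Commute g (f A)) : g ∈ JJ f := by
  obtain ⟨k, hk, a', rfl⟩ := h.cz a
  exact (h.memJ' hk).2 (kF1 k a' ((h.cm hk (h.le bd!)).1 b) ((h.cm hk (h.le bd!)).1 c))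

/-- from `cA` and `jK_val` -/
theorem cJ (a : ∀ v, Commute g (jv f v)) : g ∈ JJ f :=
  h.cA (jK_val.1 ▸ a _) (jK_val.2.2.2.1 ▸ a _) (jK_val.2.2.2.2.1 ▸ a _)

/-- `S ≤ N(J)`: K-fact `∀ k ∈ sS, ∀ j ∈ sJ, k * j * k⁻¹ ∈ sJ` (or `seg_le` with generators). -/
theorem sN : h.im sS ≤ 𝐍[JJ f] := fun g a => by
  obtain ⟨k, a', b, rfl⟩ := h.mem_im.1 a
  refine mem_normalizer_fintype fun j c => ?_
  obtain ⟨v, rfl⟩ := h.memJ.1 c
  rw [jv, ← h.cj b (h.jD v), SetLike.mem_coe, h.memJ' (mul_mem (mul_mem b (h.jD v)) (inv_mem b))]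
  exact conj_mem_of_mem_normalizer (sJ_cj a') (jK_mem v)

/-- `Z(S) = ⟨z⟩` (K-fact `∀ k ∈ sS, Commute k Y → Commute k B → Commute k C → Commute k A → k ∈ sZ`),
so a 3-group in which `S` is normal lies in `N(⟨z⟩) = f D`, whose order divides `23328 = 3^6 * 32`. -/
theorem sylS : IsSyl 3 (h.im sS) ⊤ := by
  have := Fact.mk Nat.prime_three
  have l : h.im sS ≤ h.im D := map_mono (comap_mono h.SD)
  refine isSyl_of_isSyl_normalizer ((isSyl_of_not_dvd_relIndex (IsPGroup.of_card h.cardS) l fun e => ?_).mono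
    (le_inf le_top le_normalizer) fun g a => ?_)
  · have c := card_subgroup_dvd_card D
    rw [← h.card_im le_rfl, ← card_rel_o8 l, h.cardS, TG.card] at c
    exact absurd ((mul_dvd_mul_left _ e).trans c) (by decide)
  · obtain ⟨k, b, c, d⟩ := h.mem_im.1 (conj_mem_of_mem_normalizer a.2 ((h.mem_im' (k := Z) (h.le bd!)).2 bd!))
    have t : ∀ x ∈ sS, Commute k x := fun x hx => (h.cm c (h.SD hx)).1 (by
      obtain ⟨l, e1, e2, e3⟩ := h.mem_im.1 (inv_conj_mem_of_mem_normalizer a.2 ((h.mem_im' (h.SD hx)).2 hx))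
      simpa [d, e3, mul_assoc] using Commute.cj ((h.cm e2 (h.le bd!)).2 (kF13 l e1).1).symm g)
    obtain ⟨l, e1, e2⟩ := h.rz' ((kF13 k b).2 (t _ bd!) (t _ bd!) (t _ bd!) (t _ bd!)) d.symm
    exact h.mem_im.2 ⟨l, e1, e1, e2⟩

/-- A 3-element of `N(J) ∩ C(z)` lies in `S`: K-fact
`∀ k, k ^ 27 = 1 → k * A * k⁻¹ ∈ sJ → k * g2 * k⁻¹ ∈ sJ → k ∈ sS` (3-elements of `K` have `k ^ 27 = 1`;
for a `k` with `k ^ 3 ^ i = 1` use `orderOf k ∣ gcd`, K-fact `∀ k, k ^ 72 = 1` or similar). -/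
theorem mS (a : g ∈ 𝐍[JJ f]) (b : Commute g (f Z)) {i : ℕ} (c : g ^ 3 ^ i = 1) :
    ∃ k ∈ sS, f k = g := by
  obtain ⟨k, hk, -, rfl⟩ := h.cz b
  have t : ∀ x ∈ sJ, k * x * k⁻¹ ∈ sJ := fun x hx => by
    have d := h.SD (sJ_S hx)
    rw [← h.memJ' (mul_mem (mul_mem hk d) (inv_mem hk)), h.cj hk d]
    exact conj_mem_of_mem_normalizer a ((h.memJ' d).2 hx)
  exact ⟨k, kF3 k (k9_of (h.inj (pow_mem hk _) ((h.pow hk _).trans c))) (t _ bd!) (t _ bd!), rfl⟩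

theorem leJ {P : Subgroup G} (a : P ≤ h.im sS) (b : Nat.card P = 81) (c : ∀ x ∈ P, ∀ y ∈ P, Commute x y) :
    P ≤ JJ f := fun x hx => by
  by_contra nx
  obtain ⟨k, k1, k2, rfl⟩ := h.mem_im.1 (a hx)
  rw [h.memJ' k2] at nx
  have r := card_rel_o8 (inf_le_right : JJ f ⊓ P ≤ P)
  rw [inf_relIndex_right, b] at r
  have t : ∀ {Q : Subgroup G} {i : ℕ}, JJ f ≤ Q → P ≤ Q → Nat.card Q ≤ 81 * i →
      81 ≤ Nat.card (JJ f ⊓ P : Subgroup G) * i := fun {Q i} q1 q2 q3 => by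
    have r' := card_rel_o8 q1
    rw [h.cardJ] at r'
    refine r ▸ Nat.mul_le_mul_left _ ((relIndex_le_of_le_right q2 ?_).trans (by omega))
    have := Nat.card_pos (α := Q)
    rintro e
    rw [e] at r'
    omega
  have ex : ∀ y ∈ JJ f ⊓ P, ∃ l ∈ sJ, f l = y := fun y hy =>
    (h.mem_im.1 (h.imJ ▸ hy.1 :)).imp fun _ e => ⟨e.1, e.2.2⟩
  obtain ⟨d, d1, d2⟩ := kF9 k k1 nx
  obtain ⟨l, -, l2⟩ := kF10 d d1
  have h9 : Nat.card (JJ f ⊓ P : Subgroup G) ≤ 9 := card_le_list_o8 (l := List.map f _) fun y hy => by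
    obtain ⟨m, m1, rfl⟩ := ex y hy
    refine List.mem_map_of_mem (l2 m m1 ?_)
    simpa using ((h.cm k2 (h.SD (sJ_S m1))).1 (c _ hx _ hy.2)).mul_left (sJ_comm d2 m1).inv_left
  by_cases e : ∀ y ∈ JJ f ⊓ P, y ∈ List.map f [1, Z, Z⁻¹]
  · have h3 : _ ≤ 3 := card_le_list_o8 e
    have := t (i := 9) h.JS a h.cardS.le
    omega
  · push Not at e
    obtain ⟨y, hy, e⟩ := e
    have := t (Q := h.im sS ⊓ centralizer {y}) (i := 3) (le_inf h.JS fun z hz => mem_cent.2 (h.cJJ hz hy.1))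
      (le_inf a fun z hz => mem_cent.2 (c _ hz _ hy.2)) (card_le_third_o8 inf_le_left h.cardS fun le => e (by
        obtain ⟨m, m1, rfl⟩ := ex y hy
        have t : ∀ x ∈ sS, Commute m x := fun x hx => ((h.cm (h.SD hx) (h.SD (sJ_S m1))).1
          (mem_cent.1 (le ((h.mem_im' (h.SD hx)).2 hx)).2)).symm
        exact List.mem_map_of_mem ((kF13 m (sJ_S m1)).2 (t _ bd!) (t _ bd!) (t _ bd!) (t _ bd!))))
    omega

/-- `J` is weakly closed in `N(J)`.  `P = J ⊔ J^g` is a 3-subgroup of `N(J)`; conjugate it by `n ∈ N(J)`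
into `S` (`sylS`, `sN`), so `A' = J^{ng} ≤ S` is elementary abelian of order 81.  If `A' ≰ J`:
for `k ∈ sS \ sJ` we have `|C_J(k)| ≤ 9` (K-fact `∀ k ∈ sS, k ∉ sJ → ∀ l ∈ sJ, ∀ m ∈ sJ, Commute k l →
Commute k m → l ∉ sZ → ∃ a ∈ [1, l, l⁻¹], m * a ∈ sZ`, slow; faster: only for `k = B^i C^j`, since `J` is
abelian and `S = ⟨B, C⟩ J`), `|S : J| = 9`; either `A' J = S`, then `A' ∩ J ≤ Z(S)` and `|A'| ≤ 27`, or
`|A' J : J| ≤ 3` and again `|A'| ≤ 27`.  So `A' = J` and `n g ∈ N(J)`. -/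
theorem wc (a : ∀ v, g * jv f v * g⁻¹ ∈ 𝐍[JJ f]) : g ∈ 𝐍[JJ f] := by
  have := Fact.mk Nat.prime_three
  obtain ⟨n, hn, e⟩ := (h.sylS.mono h.sN le_top).exists_cj_le (isPGroup_cj g h.pJ)
    (cj_le_iff_forall.2 fun x hx => by obtain ⟨v, rfl⟩ := h.memJ.1 hx; exact a v)
  rw [← cj_mul] at e
  refine (Subgroup.mul_mem_cancel_left _ hn).1 (mem_normalizer_of_cj_le (h.leJ e
    ((card_cj _ _).trans h.cardJ) ?_))
  rintro _ ⟨x, hx, rfl⟩ _ ⟨y, hy, rfl⟩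
  exact (h.cJJ hx hy).map _

theorem wc' (a : cj(g, JJ f) ≤ 𝐍[JJ f]) : g ∈ 𝐍[JJ f] := h.wc fun v => a (conj_mem_cj g (jJ v))

/-- Burnside: `J` and `J^g` lie in `C(j v)`; take a Sylow 3-subgroup `P ≥ J` of `C(j v)`, `P ≤ S^x`;
`J^{x⁻¹} ≤ S` gives `x ∈ N(J)` by `wc`, so `P ≤ N(J)`; `c ∈ C(j v)` with `J^{cg} ≤ P`, `wc` again. -/
theorem fus (a : IsConj (jv f u) (jv f v)) : ∃ n ∈ 𝐍[JJ f], n * jv f u * n⁻¹ = jv f v := by
  have := Fact.mk Nat.prime_three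
  obtain ⟨g, e⟩ := isConj_iff.1 a
  have l : ∀ v, JJ f ≤ centralizer {jv f v} := fun v x hx => mem_cent.2 (h.cJJ hx (jJ v))
  obtain ⟨P, hP, le⟩ := exists_isSyl_ge h.pJ (l v)
  obtain ⟨x, -, hx⟩ := h.sylS.exists_cj_le hP.pgrp le_top
  have nx := h.wc' ((cj_mono x le).trans (hx.trans h.sN))
  obtain ⟨c, hc, r⟩ := hP.exists_cj_le (isPGroup_cj g h.pJ)
    (e ▸ centralizer_singleton_conj g _ ▸ cj_mono g (l u))
  refine ⟨c * g, h.wc' (cj_mul c g _ ▸ r.trans ((cj_le_iff.1 hx).trans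
    (cj_le_of_mem h.sN (inv_mem nx)))), ?_⟩
  rw [show c * g * jv f u * (c * g)⁻¹ = c * (g * jv f u * g⁻¹) * c⁻¹ by group, e, conj_of_comm (mem_cent.1 hc)]

/-- `P = C_Q(k)` has order 81 and `P' = ⟨z⟩` (K-facts: `⁅a, b⁆ ∈ sZ` for `a b ∈ sQ`, and some commuting
pair has commutator `Z`), so the normaliser of `P` in `C(f k)` lies in `f D`, where the 3-elements commuting
with `k` lie in `sQ` (K-fact `∀ k ∈ sQ, k ∉ s81 → ∀ l, Commute l k → l ^ 27 = 1 → l ∈ sQ`, slow; faster: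
reduce to the representatives `C, C * A` and inverses: `∀ k ∈ sQ, k ∉ s81 → ∃ l ∈ s1, l * k * l⁻¹ ∈
[C, C⁻¹, C * A, (C * A)⁻¹]`, with `l` from a short list such as `lR * Y^i * Q`). -/
theorem sylC (a : k ∈ sQ) (b : k ∉ s81) :
    IsSyl 3 (h.im (sQ ⊓ centralizer {k})) (centralizer {f k}) := by
  have := Fact.mk Nat.prime_three
  obtain ⟨t, x, x1, y, y1, x2, y2, xy⟩ := kC_of a b
  have l : h.im (sQ ⊓ centralizer {k}) ≤ h.im sQ := map_mono (comap_mono inf_le_left)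
  refine isSyl_of_isSyl_normalizer ⟨le_inf (fun g c => ?_) le_normalizer,
    h.sylS.pgrp.to_le (l.trans (map_mono (comap_mono sQ_S))), fun P hP _ le g hg => ?_⟩
  · obtain ⟨l, l1, l2, rfl⟩ := h.mem_im.1 c
    exact mem_cent.2 ((h.cm l2 (h.QD a)).2 (mem_cent.1 l1.2))
  · obtain ⟨l, l1, rfl⟩ := h.nzc x1 y1 xy
      (l (conj_mem_of_mem_normalizer (le hg).2 ((h.mem_im' (h.QD x1)).2 ⟨x1, mem_cent.2 x2⟩)))
      (l (conj_mem_of_mem_normalizer (le hg).2 ((h.mem_im' (h.QD y1)).2 ⟨y1, mem_cent.2 y2⟩)))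
    have c := (h.cm l1 (h.QD a)).1 (mem_cent.1 (le hg).1)
    obtain ⟨i, hi⟩ := isPGroup_iff.1 hP _ hg
    exact (h.mem_im' l1).2 ⟨t l c (k9_of (h.inj (pow_mem l1 _) ((h.pow l1 _).trans hi))), mem_cent.2 c⟩

/-- otherwise a conjugate of `J` (abelian, order 81) lies in `C(f k)`, whose Sylow subgroup `C_Q(k)` is
non-abelian of order at most 81 (`sylC`). -/
theorem nJ (a : k ∈ sQ) (b : k ∉ s81) (v : V4) : ¬ IsConj (f k) (jv f v) := fun c => by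
  have := Fact.mk Nat.prime_three
  obtain ⟨g, e⟩ := isConj_iff.1 c.symm
  obtain ⟨-, x, x1, y, y1, x2, y2, xy⟩ := kC_of a b
  obtain ⟨c, -, r⟩ := (h.sylC a b).exists_cj_le (isPGroup_cj g h.pJ) (e ▸ centralizer_singleton_conj g _ ▸
    cj_mono g fun x hx => mem_cent.2 (h.cJJ hx (jJ v)))
  rw [← cj_mul] at r
  have r' := (eq_of_le_of_card_ge r (by
    rw [card_cj, h.cardJ, h.card_im (inf_le_left.trans (sQ_S.trans h.SD))]
    exact card_le_third_o8 (i := 4) inf_le_left (G23.Am.card_seg (by decide)) fun le =>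
      (bd! : ∀ k ∈ sQ, k ∉ s81 → ¬ Commute V k) k a b (mem_cent.1 (le bd!).2))).ge
  obtain ⟨x', x3, x4⟩ := r' ((h.mem_im' (h.QD x1)).2 ⟨x1, mem_cent.2 x2⟩)
  obtain ⟨y', y3, y4⟩ := r' ((h.mem_im' (h.QD y1)).2 ⟨y1, mem_cent.2 y2⟩)
  exact xy ((h.cm (h.QD x1) (h.QD y1)).1 (x4 ▸ y4 ▸ (h.cJJ x3 y3).map _))

/-- `k ∉ s81` by `nJ` for `C` (K-fact `∀ k ∈ s81, ∃ l ∈ lR, l * k * l⁻¹ ∈ sJ`).  If `g (f C) g⁻¹ = f k`,
Sylow in `C(f k)` gives `c` with `c g` mapping `C_Q(C)` onto `C_Q(k)`, hence the commutator subgroup `⟨z⟩`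
to itself; `h.nz`. -/
theorem fusC (a : k ∈ sQ) (b : IsConj (f C) (f k)) : ∃ l ∈ D, l * C * l⁻¹ = k := by
  have := Fact.mk Nat.prime_three
  have c1 : C ∈ sQ := bd!
  have c2 : C ∉ s81 := bd!
  have nk : k ∉ s81 := fun e => by
    obtain ⟨l, l1, l2⟩ := (bd! : ∀ k ∈ s81, ∃ l ∈ lR, l * k * l⁻¹ ∈ sJ) k e
    obtain ⟨v, r⟩ := jK_surj _ l2
    exact h.nJ c1 c2 v (b.trans (isConj_iff.2 ⟨f l, by rw [jv, r, h.cj (h.le (lR_s1 l l1)) (h.QD a)]⟩))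
  obtain ⟨g, e⟩ := isConj_iff.1 b
  obtain ⟨-, x, x1, y, y1, x2, y2, xy⟩ := kC_of c1 c2
  obtain ⟨c, hc, r⟩ := (h.sylC a nk).exists_cj_le (isPGroup_cj g (h.sylC c1 c2).pgrp)
    (e ▸ centralizer_singleton_conj g _ ▸ cj_mono g (h.sylC c1 c2).le)
  rw [← cj_mul] at r
  replace r := r.trans (map_mono (comap_mono inf_le_left))
  obtain ⟨l, l1, l2⟩ := h.nzc x1 y1 xy (r (conj_mem_cj _ ((h.mem_im' (h.QD x1)).2 ⟨x1, mem_cent.2 x2⟩)))
    (r (conj_mem_cj _ ((h.mem_im' (h.QD y1)).2 ⟨y1, mem_cent.2 y2⟩)))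
  refine ⟨l, l1, h.eq (h.QD (sQ_cj l c1)) (h.QD a) ?_⟩
  rw [h.cj l1 (h.QD c1), l2, show c * g * f C * (c * g)⁻¹ = c * (g * f C * g⁻¹) * c⁻¹ by group, e,
    conj_of_comm (mem_cent.1 hc)]

/-- two elements with the same action differ by an element of `J` -/
theorem dif (a : Ac f n L) (b : Ac f m L) : n * m⁻¹ ∈ JJ f := by
  simpa [mul_assoc] using conj_mem_of_mem_normalizer (h.nrm b) (h.cJ (g := m⁻¹ * n) fun v => comm_of_conj (by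
    rw [show m⁻¹ * n * jv f v * (m⁻¹ * n)⁻¹ = m⁻¹ * (n * jv f v * n⁻¹) * m by group, a, ← b]; group))

/-- `ι = f R` inverts `J` (`acR`); `L` is additive (`ac_add`), so `ι n ι⁻¹ n⁻¹` centralises `J`, it is
`j w` by `cJ`; take `v = -w`. -/
theorem lift (a : Ac f n L) : ∃ m, Ac f m L ∧ Commute m (f R) ∧ m * n⁻¹ ∈ JJ f := by
  have b : Ac f (f R * n * (f R)⁻¹) L := ((h.acR.mul a).mul (h.acR.inv (L' := fun v => -v) neg_neg)).cong
    fun v => neg_eq_iff_eq_neg.2 (h.jinj (by rw [← a, h.neg, h.neg, ← a, conj_inv]))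
  obtain ⟨w, e⟩ := h.memJ.1 (h.dif b a)
  refine ⟨jv f (-w) * n, (h.acJ _).mul a, (comm_of_conj ?_).symm, by simpa using jJ _⟩
  rw [← conj_mul, h.acR, eq_mul_inv_iff_mul_eq.1 e |>.symm, ← mul_assoc, ← h.add,
    (by decide : ∀ w : V4, - -w + w = -w)]

/-- `m⁻¹ n` centralises `J`, so it is some `j v` commuting with `ι`, which inverts it. -/
theorem uniq (a : Ac f n L) (b : Ac f m L) (c : Commute n (f R)) (d : Commute m (f R)) : n = m := by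
  obtain ⟨v, e⟩ := h.memJ.1 (h.dif a b)
  have r := h.acR v
  rw [conj_of_comm (e ▸ (c.mul_left d.inv_left).symm)] at r
  rw [(by decide : ∀ v : V4, v = -v → v = 0) v (h.jinj r), h.zero] at e
  exact mul_inv_eq_one.1 e.symm

/-- No non-trivial `3'`-subgroup `F` is normalised by `J`.  `le_of_four` (Tools2) with `Y = ⊥` for the plane
spanned by `z` and `p = f (A * V)`, all of whose non-trivial elements are conjugate to `z` (`cv`; `A*V*Z^i`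
are conjugate under `sQ`, inverses by `R`).  If `k ∈ F` commutes with `w = j v ~ z`, pick `n ∈ N(J)` with
`n z n⁻¹ = w` (`fus`), so `k' = n⁻¹ k n ∈ F' = F^n` commutes with `z`, `k' = f l`.  For `a ∈ sA ≤ sQ ⊓ sJ`
the commutator `⁅k', f a⁆` lies in `F'` and in `f sQ` (normal in `K`, exponent 3), so it is trivial; `cA`
gives `k' ∈ J ⊓ F' = 1`. -/
theorem sig : Sig (JJ f) := fun F c hF => by
  have k1 : ∀ F : Subgroup G, (Nat.card F).Coprime 3 → JJ f ≤ 𝐍[F] → ∀ g ∈ F, Commute g (f Z) → g = 1 :=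
    fun F c hF g hg a => by
      obtain ⟨l, l1, -, rfl⟩ := h.cz a
      have t : ∀ x ∈ sQ, x ∈ sJ → Commute (f l) (f x) := fun x x1 x2 => by
        have q := mul_mem (sQ_cj l x1) (inv_mem x1)
        have e := h.mul (h.QD (sQ_cj l x1)) (inv_mem (h.QD x1))
        rw [h.cj l1 (h.QD x1), h.inv (h.QD x1)] at e
        refine commutatorElement_eq_one_iff_commute.1 (eq_one_o8 c ?_ ?_)
        · simpa [commutatorElement_def, mul_assoc] using mul_mem hg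
            (conj_mem_of_mem_normalizer (hF ((h.memJ' (h.QD x1)).2 x2)) (inv_mem hg))
        · rw [commutatorElement_def, ← e, ← h.pow (h.QD q), (bd! : ∀ k ∈ sQ, k ^ 3 = 1) _ q, h.one]
      obtain ⟨v, e⟩ := h.memJ.1 (h.cA a (t _ bd! bd!) (t _ bd! bd!))
      exact eq_one_o8 c hg (e ▸ h.j3 v)
  have k2 : ∀ x ∈ sJ, IsConj (f Z) (f x) → ∀ g ∈ F, Commute g (f x) → g = 1 := fun x x1 x2 g hg a => by
    obtain ⟨v, rfl⟩ := jK_surj x x1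
    obtain ⟨n, hn, e⟩ := h.fus (u := zz 0) (v := v) (by rwa [jv, jK_val.1])
    rw [jv, jK_val.1] at e
    exact conj_eq_one_iff.1 <| k1 cj(n⁻¹, F) (by rwa [card_cj]) (by
      rw [normalizer_cj, ← cj_of_mem_normalizer (inv_mem hn)]; exact cj_mono _ hF) _ (conj_mem_cj _ hg)
      (by simpa [← show _ = f (jK v) from e, mul_assoc] using Commute.cj a n⁻¹)
  have k3 : ∀ l x : K, l ∈ s1 ∧ A * V ∈ s1 ∧ l * (A * V) * l⁻¹ = x → IsConj (f Z) (f x) := fun l x e =>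
    h.cv.trans (isConj_iff.2 ⟨_, h.cj1 e⟩)
  have w3 : f (A * V) ^ 3 = 1 := h.pow1 bd!
  have i : (f (A * V))⁻¹ = f (A * V)⁻¹ := h.inv1 ⟨bd!, rfl⟩
  refine le_bot_iff.1 (le_of_four h.z3 w3 (h.cm1 bd!) (h.ne1 bd!) (fun e => ?_)
    (hF ((h.memJ' (h.le bd!)).2 bd!)) (hF ((h.memJ' (h.le bd!)).2 bd!)) c fun g hg a => mem_bot.2 ?_)
  · rcases (mem_zpowers_three w3).1 e with e | e | e
    · exact h.z1 e
    · exact absurd (h.eq (h.le bd!) (h.le bd!) e) bd!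
    · exact absurd (h.eq (h.le bd!) (h.le bd!) (e.trans i)) bd!
  · rcases a with a | a | a | a
    · exact k1 F c hF g hg a
    · exact k2 _ bd! h.cv g hg a
    · exact k2 (Z * (A * V)) bd! (k3 (e 54) _ bd!) g hg (h.mul (a := Z) (b := A * V) (h.le bd!) (h.le bd!) ▸ a)
    · exact k2 (Z * (A * V)⁻¹) bd! (k3 (e 1485) _ bd!) g hg
        (h.mul (a := Z) (b := (A * V)⁻¹) (h.le bd!) (h.le bd!) ▸ i ▸ a)

end Ch

end Cfsg.Agent.O8T
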