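import Cfsg.Agent.Loc3.O8F

/-!
The group induced on `J`.  Read `Loc3/O8D`, `Loc3/O8F` first.
`Kp f n L` ("κ-lift"): `n` acts as `L` and commutes with `ι = f R`; it is unique (`Ch.uniq`).
-/

set_option autoImplicit false
set_option linter.unusedSectionVars false
set_option maxRecDepth 100000
set_option synthInstance.maxHeartbeats 400000
set_option synthInstance.maxSize 4000

namespace Cfsg.Agent.O8T

open Subgroup Cfsg Cfsg.Agent.PLocal.Amb Cfsg.Agent.Loc3 Cfsg.Agent.Comp Cfsg.Agent.LES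
open Cfsg.Agent.X32 (TG)
open Cfsg.Agent.X32.TG
open Cfsg.Agent.Loc3.Pr hiding V rf
open Cfsg.Agent.TT (XS)
open Cfsg.Agent.PS4 (K2 l2)
open Equiv (Perm swap)
open scoped commutatorElement

variable {G : Type*} [Group G] {D : Subgroup K} {f : K → G} {g n m r : G} {u v ε η : V4}
  {L L' : V4 → V4} {σ : Perm (Fin 4)}

def Kp (f : K → G) (n : G) (L : V4 → V4) : Prop := Ac f n L ∧ Commute n (f R)

/-- sign vectors -/
abbrev Sn (ε : V4) : Prop := ∀ i, ε i ≠ 0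

/-- the sign vector of the reflection in `ev i`: `sp 1 (sn i) = rf (ev i)` -/
def sn (i : Fin 4) : V4 := fun j => if j = i then -1 else 1

theorem Kp.mul (a : Kp f n L) (b : Kp f m L') : Kp f (n * m) fun v => L (L' v) :=
  ⟨a.1.mul b.1, a.2.mul_left b.2⟩

theorem Kp.cong (a : Kp f n L) (e : ∀ v, L v = L' v) : Kp f n L' := ⟨a.1.cong e, a.2⟩

theorem Kp.inv (a : Kp f n L) (e : ∀ v, L (L' v) = v) : Kp f n⁻¹ L' := ⟨a.1.inv e, a.2.inv_left⟩

theorem Kp.one (f : K → G) : Kp f 1 id := ⟨fun v => by simp, Commute.one_left _⟩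

theorem sp_mul (σ τ : Perm (Fin 4)) (ε η v : V4) :
    sp σ ε (sp τ η v) = sp (σ * τ) (fun i => ε i * η (σ⁻¹ i)) v := funext fun i => by
  simp only [sp, mul_inv_rev, Perm.mul_apply, mul_assoc]

theorem sp_add (σ : Perm (Fin 4)) (ε u v : V4) : sp σ ε (u + v) = sp σ ε u + sp σ ε v :=
  funext fun i => by simp only [sp, Pi.add_apply, mul_add]

theorem sq1 : ∀ x : ZMod 3, x ≠ 0 → x * x = 1 := by decide

theorem b4_pol (u v : V4) : b4 u v = q4 u + q4 v - q4 (u + v) := by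
  simp only [q4, b4, Pi.add_apply]
  linear_combination (u 0 * v 0 + u 1 * v 1 + u 2 * v 2 + u 3 * v 3) * (by decide : (3 : ZMod 3) = 0)

theorem q4_ev : ∀ i, q4 (ev i) = 1 := by decide

theorem b4_ev : ∀ i j, i ≠ j → b4 (ev i) (ev j) = 0 := by decide

/-- the permutation is induced, with some signs -/
def Ind (f : K → G) (σ : Perm (Fin 4)) : Prop := ∃ ε, Sn ε ∧ ∃ n, Kp f n (sp σ ε)

theorem Ind.one (f : K → G) : Ind f 1 := ⟨1, by decide, 1, (Kp.one f).cong (by decide +kernel)⟩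

theorem Ind.mul {τ : Perm (Fin 4)} (a : Ind f σ) (b : Ind f τ) : Ind f (σ * τ) :=
  let ⟨ε, a1, _, a2⟩ := a
  let ⟨η, b1, _, b2⟩ := b
  ⟨_, fun i => (by decide : ∀ x y : ZMod 3, x ≠ 0 → y ≠ 0 → x * y ≠ 0) _ _ (a1 i) (b1 _), _,
    (a2.mul b2).cong (sp_mul σ τ ε η)⟩

/-- `u` is moved to `v` -/
def Rl (f : K → G) (u v : V4) : Prop := ∃ n L, Kp f n L ∧ L u = v

theorem Rl.trans {w : V4} (a : Rl f u v) (b : Rl f v w) : Rl f u w :=
  let ⟨_, _, a1, a2⟩ := a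
  let ⟨_, _, b1, b2⟩ := b
  ⟨_, _, b1.mul a1, by rw [← b2, ← a2]⟩

/-- some even permutations -/
def lE : List (Perm (Fin 4)) := [1, swap 0 1 * swap 2 3, swap 0 2 * swap 1 3, swap 0 3 * swap 1 2,
  swap 1 2 * swap 2 3, swap 2 3 * swap 1 2, swap 0 2 * swap 2 3, swap 2 3 * swap 0 2]

theorem memK {k : K} (a : k ∈ sJ) : f k ∈ JJ f := by
  obtain ⟨v, rfl⟩ := jK_surj k a
  exact Ch.jJ v

variable [Finite G]

namespace NJ

variable (h : NJ D f)
include h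

theorem kpT : Kp f (f T) (sp 1 (sn 0)) :=
  ⟨h.acT.cong (by decide +kernel), h.cm1 bd!⟩

theorem kpR : Kp f (f R) (sp 1 fun _ => -1) :=
  ⟨h.acR.cong (by decide +kernel), Commute.refl _⟩

theorem kpC : Kp f (f C) (sp (swap 1 2 * swap 2 3) 1) := ⟨h.acC, h.cm1 bd!⟩

theorem kpB : Kp f (f B) fun v => rf ![1, 1, 1, 1] (rf (ev 0) v) := ⟨h.acB, h.cm1 bd!⟩

theorem kpX (a : X ∈ D) : Kp f (f X) (sp (swap 2 3) 1) :=
  ⟨h.acX a, (h.cm a (h.le bd!)).2 bd!⟩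

theorem kp_eq (a : Kp f n L) (b : Kp f m L') (e : ∀ v, L v = L' v) : n = m :=
  h.uniq (a.1.cong e) b.1 a.2 b.2

/-- κ-lifts of commuting maps commute (`uniq` for `n * m` and `m * n`) -/
theorem kp_comm (a : Kp f n L) (b : Kp f m L') (e : ∀ v, L (L' v) = L' (L v)) : Commute n m :=
  h.kp_eq (a.mul b) (b.mul a) e

theorem kp_one (a : Kp f n L) (e : ∀ v, L v = v) : n = 1 := h.kp_eq a (Kp.one f) e

theorem isoL (a : Ac f n L) (v : V4) : q4 (L v) = q4 v := (h.iso n (h.nrm a) v _ (a v)).symm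

/-- polarisation: `2 * b4 u v = q4 (u + v) - q4 u - q4 v`, `ac_add` -/
theorem isoB (a : Ac f n L) (u v : V4) : b4 (L u) (L v) = b4 u v := by
  rw [b4_pol, b4_pol u, ← h.ac_add a, h.isoL a, h.isoL a, h.isoL a]

/-- An isometry moving one unit vector to a signed unit vector is monomial: the `q4 = 1` vectors orthogonal
to `± ev j` are the other signed unit vectors (decide); `L` is injective and additive (`ac_of`). -/
theorem mono (a : Ac f n L) {i j : Fin 4} (b : L (ev i) = ev j ∨ L (ev i) = -ev j) :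
    ∃ σ ε, σ i = j ∧ Sn ε ∧ Ac f n (sp σ ε) := by
  have p : ∀ k, ∃ l, ∃ s : ZMod 3, s ≠ 0 ∧ L (ev k) = s • ev l := fun k => by
    by_cases e : k = i
    · subst e
      exact b.elim (fun b => ⟨j, 1, by decide, by rw [b, one_smul]⟩)
        fun b => ⟨j, -1, by decide, by rw [b, neg_one_smul]⟩
    · refine (by decide +kernel : ∀ (j : Fin 4) (w : V4), q4 w = 1 →
        (b4 w (ev j) = 0 ∨ b4 w (-ev j) = 0) → ∃ l, ∃ s : ZMod 3, s ≠ 0 ∧ w = s • ev l) j _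
        ((h.isoL a _).trans (q4_ev k)) ?_
      have q := (h.isoB a (ev k) (ev i)).trans (b4_ev _ _ e)
      exact b.imp (fun b => by rwa [b] at q) fun b => by rwa [b] at q
  choose τ s hs hτ using p
  have inj : Function.Injective τ := fun k l e => by
    by_contra ne
    have q := (h.isoB a (ev k) (ev l)).trans (b4_ev _ _ ne)
    rw [hτ, hτ, e] at q
    exact (by decide +kernel : ∀ (l : Fin 4) (s t : ZMod 3), s ≠ 0 → t ≠ 0 →
      b4 (s • ev l) (t • ev l) ≠ 0) _ _ _ (hs k) (hs l) q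
  let σ := Equiv.ofBijective τ inj.bijective_of_finite
  refine ⟨σ, fun l => s (σ⁻¹ l), ?_, fun l => hs _, h.ac_of (sp_add _ _) fun k => ?_⟩
  · exact (by decide +kernel : ∀ (j l : Fin 4) (s : ZMod 3), s ≠ 0 →
      (s • ev l = ev j ∨ s • ev l = -ev j) → l = j) j _ _ (hs i) (hτ i ▸ b)
  · rw [a, hτ]
    congr 1
    funext l
    change s k * ev (σ k) l = s (σ⁻¹ l) * ev k (σ⁻¹ l)
    obtain ⟨l, rfl⟩ := σ.surjective l
    by_cases e : l = k
    · simp [ev, e]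
    · simp [ev, e]

/-- `n` commutes with the reflection in `ev 0`, so `L (ev 0)` is inverted by it: `= ± ev 0` -/
theorem monoT (a : n ∈ 𝐍[JJ f]) (b : Commute n (f T)) :
    ∃ σ ε, σ 0 = 0 ∧ Sn ε ∧ Ac f n (sp σ ε) := by
  obtain ⟨L, hL⟩ := h.exAc a
  refine h.mono hL ((by decide +kernel : ∀ w : V4, q4 w = 1 → rf (ev 0) w = -w →
    w = ev 0 ∨ w = -ev 0) _ ((h.isoL hL _).trans (q4_ev 0)) (h.jinj ?_))
  rw [← (h.acT.mul hL) (ev 0), ← b.eq, (hL.mul h.acT) (ev 0)]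
  exact congrArg _ ((congrArg L (by decide +kernel : rf (ev 0) (ev 0) = -ev 0)).trans
    ((AddMonoidHom.mk' L (h.ac_add hL)).map_neg _))

/-- the diagonal matrices are induced -/
theorem diag (b : Sn ε) : ∃ n, Kp f n (sp 1 ε) := by
  have m : ∀ {ε η : V4}, (∃ n, Kp f n (sp 1 ε)) → (∃ n, Kp f n (sp 1 η)) →
      ∃ n, Kp f n (sp 1 (ε * η)) := fun ⟨_, a⟩ ⟨_, b⟩ => ⟨_, (a.mul b).cong (sp_mul 1 1 _ _)⟩
  have s : ∀ i, ∀ x ∈ [1, sn i], ∃ n, Kp f n (sp 1 x) := fun i x hx => by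
    rcases List.mem_cons.1 hx with rfl | hx
    · exact ⟨1, (Kp.one f).cong (by decide +kernel)⟩
    · obtain ⟨r, r1, r2, -⟩ := h.ex (ev i) (q4_ev i)
      rw [List.mem_singleton.1 hx]
      exact ⟨r, r1.cong ((by decide +kernel : ∀ i v, rf (ev i) v = sp 1 (sn i) v) i), r2⟩
  obtain ⟨x, hx, y, hy, z, hz, w, hw, rfl⟩ := (by decide +kernel : ∀ ε : V4, Sn ε →
    ∃ x ∈ [1, sn 0], ∃ y ∈ [1, sn 1], ∃ z ∈ [1, sn 2], ∃ w ∈ [1, sn 3], ε = x * y * z * w) ε b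
  exact m (m (m (s 0 x hx) (s 1 y hy)) (s 2 z hz)) (s 3 w hw)

theorem fix (a : Ind f σ) (b : Sn ε) : ∃ n, Kp f n (sp σ ε) := by
  obtain ⟨η, a1, n, a2⟩ := a
  obtain ⟨d, hd⟩ := h.diag (ε := ε * η) fun i =>
    (by decide : ∀ x y : ZMod 3, x ≠ 0 → y ≠ 0 → x * y ≠ 0) _ _ (b i) (a1 i)
  refine ⟨_, (hd.mul a2).cong fun v => ?_⟩
  rw [sp_mul, one_mul]
  congr 1
  funext i
  change ε i * η i * η i = ε i
  rw [mul_assoc, sq1 _ (a1 i), mul_one]

/-- All even signed permutations are induced: the reflections `ex` in the `ev i` give the diagonal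
matrices, `rf ![1,1,1,1] ∘ rf ![1,1,-1,-1] = -(0 1)(2 3)`, and `C` is a 3-cycle; these generate `2⁴:A₄`
(for each even `σ` a word in `(0 1)(2 3)` and `(1 2 3)`; fix the signs by a diagonal element).  If `X ∈ D`
multiply by `f X`. -/
theorem exm (a : Perm.sign σ = 1 ∨ X ∈ D) (b : Sn ε) : ∃ n, Kp f n (sp σ ε) := by
  refine h.fix ?_ b
  have ev : ∀ τ : Perm (Fin 4), Perm.sign τ = 1 → Ind f τ := fun τ t => by
    have c : Ind f (swap 1 2 * swap 2 3) := ⟨1, by decide, _, h.kpC⟩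
    have d : Ind f (swap 0 1 * swap 2 3) := by
      obtain ⟨r, r1, r2, -⟩ := h.ex ![1, 1, 1, 1] (by decide)
      obtain ⟨s, s1, s2, -⟩ := h.ex ![1, 1, -1, -1] (by decide)
      exact ⟨fun _ => -1, by decide, _,
        (Kp.mul ⟨r1, r2⟩ ⟨s1, s2⟩).cong (by decide +kernel)⟩
    obtain ⟨x, hx, y, hy, rfl⟩ := (by decide +kernel : ∀ τ : Perm (Fin 4), Perm.sign τ = 1 →
      ∃ x ∈ [1, swap 0 1 * swap 2 3,
        (swap 1 2 * swap 2 3) * (swap 0 1 * swap 2 3) * (swap 1 2 * swap 2 3) * (swap 1 2 * swap 2 3),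
        (swap 1 2 * swap 2 3) * (swap 1 2 * swap 2 3) * (swap 0 1 * swap 2 3) * (swap 1 2 * swap 2 3)],
      ∃ y ∈ [1, swap 1 2 * swap 2 3, (swap 1 2 * swap 2 3) * (swap 1 2 * swap 2 3)], τ = x * y) τ t
    refine Ind.mul ?_ ?_
    · simp only [List.mem_cons, List.not_mem_nil, or_false] at hx
      rcases hx with rfl | rfl | rfl | rfl
      exacts [Ind.one f, d, ((c.mul d).mul c).mul c, ((c.mul c).mul d).mul c]
    · simp only [List.mem_cons, List.not_mem_nil, or_false] at hy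
      rcases hy with rfl | rfl | rfl
      exacts [Ind.one f, c, c.mul c]
  rcases Int.units_eq_one_or (Perm.sign σ) with e | e
  · exact ev σ e
  · have x : Ind f (swap 2 3) := ⟨1, by decide, _, h.kpX (a.resolve_left (by rw [e]; decide))⟩
    have := (ev (σ * swap 2 3) (by rw [map_mul, e, Perm.sign_swap (by decide)]; decide)).mul x
    rwa [Equiv.mul_swap_mul_self] at this

/-- Multiply by an even element (`exm`) to get `n'` acting as `sp (swap 2 3) 1`; it fixes `zz 0`, so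
`n' = f k`, `k ∈ D`, and `k * X⁻¹` centralises `Z, V, A` in `K`, so lies in `sJ ≤ s1 ≤ D`. -/
theorem odd (a : Ac f n (sp σ ε)) (b : Sn ε) (c : Perm.sign σ ≠ 1) : X ∈ D := by
  obtain ⟨m, hm⟩ := h.exm (σ := swap 2 3 * σ⁻¹) (ε := fun i => ε ((swap 2 3 * σ⁻¹ : Perm (Fin 4))⁻¹ i))
    (Or.inl (by
      rw [map_mul, Perm.sign_inv, (Int.units_eq_one_or _).resolve_left c, Perm.sign_swap (by decide)]
      decide)) fun i => b _
  have p : Ac f (m * n) (sp (swap 2 3) 1) := (hm.1.mul a).cong fun v => by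
    rw [sp_mul, inv_mul_cancel_right]
    congr 1
    funext i
    exact sq1 _ (b _)
  obtain ⟨k, hk, -, e⟩ := h.cz (g := m * n) (jK_val.1 ▸ p.comm (v := zz 0) (by decide +kernel))
  have q : ∀ v, Commute (X⁻¹ * k) (jK v) := fun v => by
    have : k * jK v * k⁻¹ = X * jK v * X⁻¹ := by
      rw [jK_X]
      refine h.eq (mul_mem (mul_mem hk (h.jD v)) (inv_mem hk)) (h.jD _) ?_
      rw [h.cj hk (h.jD v), e]
      exact p v
    refine comm_of_conj ?_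
    calc _ = X⁻¹ * (k * jK v * k⁻¹) * X := by group
      _ = _ := by rw [this]; group
  have := h.le ((bd! : ∀ k, Commute k Z → Commute k V → Commute k A → k ∈ s1) _ (jK_val.1 ▸ q _)
    (jK_val.2.2.2.1 ▸ q _) (jK_val.2.2.2.2.1 ▸ q _))
  exact inv_mem_iff.1 ((mul_mem_cancel_right hk).1 this)

/-- Transitivity on each type.  Every vector is moved to `zz 0`, `ev 0` or `![0,0,1,2]` by an even signed
permutation; vectors of weight four are first moved to `![1,1,1,-1]` by a diagonal element, and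
`rf ![1,1,1,1]` (`ex`) sends this to `ev 3` (decide). -/
theorem tr (a : u ≠ 0) (b : v ≠ 0) (c : q4 u = q4 v) : ∃ n L, Kp f n L ∧ L u = v := by
  have sy : ∀ {u v}, Rl f u v → Rl f v u := fun {u v} ⟨n, L, a, e⟩ => by
    obtain ⟨L', b⟩ := h.exAc (inv_mem (h.nrm a.1))
    refine ⟨n⁻¹, L', ⟨b, a.2.inv_left⟩, h.jinj ?_⟩
    rw [← e, ← (b.mul a.1) u]
    simp
  have mv : ∀ {σ ε} (u : V4), Perm.sign σ = 1 → Sn ε → Rl f u (sp σ ε u) := fun u a b =>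
    let ⟨n, hn⟩ := h.exm (Or.inl a) b; ⟨n, _, hn, rfl⟩
  have w4 : Rl f 1 (ev 0) := by
    obtain ⟨r, r1, r2, -⟩ := h.ex ![1, 1, 1, 1] (by decide)
    exact (mv (σ := 1) (ε := sn 0) 1 (by decide) (by decide)).trans
      ⟨r, _, ⟨r1, r2⟩, by decide +kernel⟩
  have rep : ∀ u, u ≠ 0 → ∃ w ∈ [ev 0, ![0, 0, 1, 1], zz 0], Rl f u w := fun u a => by
    obtain ⟨σ, s, t⟩ := (by decide +kernel : ∀ u : V4, u ≠ 0 → ∃ σ ∈ lE,
      sp σ (fun i => if u (σ⁻¹ i) = 0 then 1 else u (σ⁻¹ i)) u ∈ [1, ev 0, ![0, 0, 1, 1], zz 0]) u a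
    have p := mv (σ := σ) (ε := fun i => if u (σ⁻¹ i) = 0 then 1 else u (σ⁻¹ i)) u
      ((by decide +kernel : ∀ σ ∈ lE, Perm.sign σ = 1) σ s) fun i => by
        beta_reduce
        split_ifs with e
        exacts [by decide, e]
    rcases List.mem_cons.1 t with t | t
    · exact ⟨_, List.mem_cons_self, (t ▸ p).trans w4⟩
    · exact ⟨_, t, p⟩
  have q : ∀ {u v}, Rl f u v → q4 v = q4 u := fun ⟨_, _, a, e⟩ => e ▸ h.isoL a.1 _
  obtain ⟨x, x1, x2⟩ := rep u a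
  obtain ⟨y, y1, y2⟩ := rep v b
  obtain rfl : x = y := (by decide +kernel : ∀ x ∈ [ev 0, ![0, 0, 1, 1], zz 0],
    ∀ y ∈ [ev 0, ![0, 0, 1, 1], zz 0], q4 x = q4 y → x = y) x x1 y y1 (by rw [q x2, q y2, c])
  exact x2.trans (sy y2)

/-- `kp_comm` with `kpT` -/
theorem kT (a : Kp f n (sp σ ε)) (b : σ 0 = 0) : Commute n (f T) :=
  h.kp_comm a h.kpT fun v => funext fun i => by
    have : sn 0 (σ⁻¹ i) = sn 0 i := by
      simp only [sn, Perm.inv_eq_iff_eq, b]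
    simp only [sp, inv_one, Perm.one_apply, this]
    ring

theorem dsq (a : Kp f n (sp 1 ε)) (b : Sn ε) : n * n = 1 :=
  h.kp_one (a.mul a) fun v => funext fun i => by
    simp only [sp, inv_one, Perm.one_apply]
    rw [← mul_assoc, sq1 _ (b i), one_mul]

theorem dcm (a : Kp f n (sp 1 ε)) (b : Kp f m (sp 1 η)) : Commute n m :=
  h.kp_comm a b fun v => funext fun i => by
    simp only [sp, inv_one, Perm.one_apply]
    ring

/-- `ex` and `uniq` -/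
theorem rT {i : Fin 4} (a : Kp f r (sp 1 (sn i))) : IsConj (f T) r := by
  obtain ⟨s, s1, s2, s3⟩ := h.ex (ev i) (q4_ev i)
  rwa [h.kp_eq a ⟨s1, s2⟩ ((by decide +kernel : ∀ i v, sp 1 (sn i) v = rf (ev i) v) i)]

/-- Conjugates of `j v` in `J` have the same type (`fus`, `iso`). -/
theorem ty (a : IsConj (jv f u) (jv f v)) : q4 u = q4 v :=
  let ⟨n, b, c⟩ := h.fus a; h.iso n b u v c

/-- `C(J₀) ≤ J ⟨t⟩`: `g = f k` as `zz 0 ∈ J₀`, K-fact
`∀ k, Commute k g2 → Commute k g3 → Commute k g4 → k ∈ sJ ∨ k * T ∈ sJ`. -/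
theorem c0 (a : ∀ i, i ≠ 0 → Commute g (jv f (ev i))) : g ∈ JJ f ∨ g * f T ∈ JJ f := by
  have z : Commute g (f Z) := by
    rw [← jK_val.1]
    change Commute g (jv f (zz 0))
    rw [(by decide +kernel : zz 0 = ev 1 + ev 2 + ev 3), h.add, h.add]
    exact ((a 1 (by decide)).mul_right (a 2 (by decide))).mul_right (a 3 (by decide))
  obtain ⟨k, hk, -, rfl⟩ := h.cz z
  have q : ∀ i, i ≠ 0 → Commute k (jK (ev i)) := fun i e => (h.cm hk (h.jD _)).1 (a i e)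
  refine ((bd! : ∀ k, Commute k g2 → Commute k g3 → Commute k g4 → k ∈ sJ ∨ k * T ∈ sJ) k
    (jK_val.2.2.2.2.2.1 ▸ q 1 (by decide)) (jK_val.2.2.2.2.2.2.1 ▸ q 2 (by decide))
    (jK_val.2.2.2.2.2.2.2.1 ▸ q 3 (by decide))).imp memK fun e => ?_
  exact h.mul hk (h.le (bd! : T ∈ s1)) ▸ memK e

/-- `N(J₀) ≤ N(J)`: `g (j v) g⁻¹` centralises `J₀`, so lies in `J ⟨t⟩ ≤ N(J)`; `wc`. -/
theorem n0 (a : ∀ v, v 0 = 0 → ∃ w, w 0 = 0 ∧ g * jv f v * g⁻¹ = jv f w) : g ∈ 𝐍[JJ f] := by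
  choose W W0 hW using a
  let F : {v : V4 // v 0 = 0} → {v : V4 // v 0 = 0} := fun v => ⟨W v v.2, W0 _ _⟩
  have inj : Function.Injective F := fun x y e => Subtype.ext (h.jinj (by
    have := hW x x.2
    rw [show W x x.2 = W y y.2 from congrArg Subtype.val e, ← hW] at this
    simpa using this))
  refine h.wc fun v => ?_
  refine (h.c0 (g := g * jv f v * g⁻¹) fun i e => ?_).elim (fun a => le_normalizer a) fun a => ?_
  · obtain ⟨x, hx⟩ := inj.bijective_of_finite.2 ⟨ev i, if_neg (Ne.symm e)⟩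
    rw [← show W x x.2 = ev i from congrArg Subtype.val hx, ← hW]
    exact (h.jc v x).map (MulAut.conj g)
  · exact (mul_mem_cancel_right (h.nrm h.acT)).1 (le_normalizer a)

theorem nK {k : K} (hk : k ∈ D) (a : k * A * k⁻¹ ∈ sJ ∧ k * g2 * k⁻¹ ∈ sJ ∧ k * g3 * k⁻¹ ∈ sJ ∧
    k * g4 * k⁻¹ ∈ sJ) : f k ∈ 𝐍[JJ f] := mem_normalizer_fintype fun g b => by
  obtain ⟨v, rfl⟩ := h.memJ.1 b
  rw [jv, ← h.cj hk (h.jD v)]
  let W := sJ.comap (MulAut.conj k).toMonoidHom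
  refine memK (?_ : jK v ∈ W)
  exact W.mul_mem (W.pow_mem a.1 _) (W.mul_mem (W.pow_mem a.2.1 _)
    (W.mul_mem (W.pow_mem a.2.2.1 _) (W.pow_mem a.2.2.2 _)))

/-- a singular vector and an orthogonal vector of type E: move `u` to `zz 0` by `tr`; then `v` becomes
`± ev 0 + i • zz 0` (`isoL`, `isoB`, decide), so the conjugate of `g` commutes with `Z` and `A`; K-fact: `∀ k, Commute k Z → Commute k A → k * g2 * k⁻¹ ∈ sJ ∧ k * g3 * k⁻¹ ∈ sJ ∧
k * g4 * k⁻¹ ∈ sJ`. -/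
theorem cZE (a : u ≠ 0) (b : q4 u = 0) (c : q4 v = 1) (d : b4 u v = 0) (e : Commute g (jv f u))
    (k : Commute g (jv f v)) : g ∈ 𝐍[JJ f] := by
  obtain ⟨n, L, hn, p⟩ := h.tr a (v := zz 0) (by decide) (b.trans (by decide))
  have e' : Commute (n * g * n⁻¹) (jv f (zz 0)) := hn.1.cj p ▸ e.map (MulAut.conj n)
  have k' : Commute (n * g * n⁻¹) (jv f (L v)) := hn.1 v ▸ k.map (MulAut.conj n)
  obtain ⟨i, -, j, -, q⟩ := (by decide +kernel : ∀ w : V4, q4 w = 1 → b4 (zz 0) w = 0 →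
    ∃ i ∈ ([0, 1, 2] : List ℕ), ∃ j ∈ ([1, 2] : List ℕ), ev 0 = i • zz 0 + j • w) (L v)
    ((h.isoL hn.1 v).trans c) (by rw [← p, h.isoB hn.1, d])
  have a' : Commute (n * g * n⁻¹) (jv f (ev 0)) := by
    rw [q, h.add, h.nsmul, h.nsmul]
    exact (e'.pow_right i).mul_right (k'.pow_right j)
  obtain ⟨l, hl, z, s⟩ := h.cz (g := n * g * n⁻¹) (jK_val.1 ▸ e')
  rw [← s] at a'
  have cA : Commute l A := jK_val.2.2.2.2.1 ▸ (h.cm hl (h.jD _)).1 a'
  have t := h.nK hl ⟨by rw [conj_of_comm cA]; exact bd!, (bd! : ∀ k, Commute k Z → Commute k A →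
    k * g2 * k⁻¹ ∈ sJ ∧ k * g3 * k⁻¹ ∈ sJ ∧ k * g4 * k⁻¹ ∈ sJ) l z cA⟩
  rw [s] at t
  have u := h.nrm hn.1
  exact (mul_mem_cancel_left u).1 ((mul_mem_cancel_right (inv_mem u)).1 t)

/-- `C(z, t) = Q₈ N(J)`: K-fact `∀ k, Commute k Z → Commute k T → ∃ a ∈ lR, a * k * A * (a * k)⁻¹ ∈ sJ ∧
a * k * g2 * (a * k)⁻¹ ∈ sJ ∧ a * k * g3 * (a * k)⁻¹ ∈ sJ ∧ a * k * g4 * (a * k)⁻¹ ∈ sJ`. -/
theorem cZT (a : Commute g (f Z)) (b : Commute g (f T)) : ∃ a ∈ lR, f a * g ∈ 𝐍[JJ f] := by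
  obtain ⟨k, hk, z, rfl⟩ := h.cz a
  obtain ⟨a, a1, a2⟩ := (bd! : ∀ k, Commute k Z → Commute k T → ∃ a ∈ lR,
    a * k * A * (a * k)⁻¹ ∈ sJ ∧ a * k * g2 * (a * k)⁻¹ ∈ sJ ∧ a * k * g3 * (a * k)⁻¹ ∈ sJ ∧
      a * k * g4 * (a * k)⁻¹ ∈ sJ) k z ((h.cm hk (h.le bd!)).1 b)
  have aD := h.le (lR_s1 a a1)
  exact ⟨a, a1, h.mul aD hk ▸ h.nK (mul_mem aD hk) a2⟩

theorem nC {k : K} (hk : k ∈ s1 ∧ ∀ j ∈ sJ, (j * k) ^ 3 = 1 → j * k ∈ sQ ∧ j * k ∉ s81)
    (a : Ac f n L) (b : Ac f (f k) L) (c : n ^ 3 = 1) : ¬ IsConj n (jv f v) := by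
  obtain ⟨w, e⟩ := h.memJ.1 (h.dif a b)
  have kD := h.le hk.1
  obtain rfl : n = f (jK w * k) := by
    rw [h.mul (h.jD w) kD, show f (jK w) = _ from e, inv_mul_cancel_right]
  have wD := mul_mem (h.jD w) kD
  obtain ⟨p, q⟩ := hk.2 _ (jK_mem w) (h.inj (pow_mem wD 3) (by rw [h.pow wD, c]))
  exact h.nJ p q v

theorem nE0 (a : n ∈ 𝐍[JJ f]) (b : n ^ 3 = 1) (d : Commute n (jv f (ev 0)))
    (e : IsConj n (jv f v)) : n ∈ JJ f := by
  obtain ⟨L, hL⟩ := h.exAc a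
  obtain ⟨σ, ε, s0, sε, s2⟩ := h.mono hL (i := 0) (j := 0)
    (Or.inl (h.jinj (by rw [← hL, conj_of_comm d])))
  have c3 : ∀ i, sp σ ε (sp σ ε (sp σ ε (ev i))) = ev i := fun i => h.jinj (by
    rw [← (s2.mul (s2.mul s2)) (ev i), show n * (n * n) = 1 by rw [← b, pow_three]]
    simp)
  rcases (by decide +kernel : ∀ σ : Perm (Fin 4), σ 0 = 0 → ∀ ε : V4, Sn ε →
    (∀ i, sp σ ε (sp σ ε (sp σ ε (ev i))) = ev i) → (σ = 1 ∧ ε = 1) ∨
    (σ = swap 1 2 * swap 2 3 ∨ σ = (swap 1 2 * swap 2 3)⁻¹) ∧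
      ∃ η : V4, Sn η ∧ ∀ i, η i * ε i * η (σ⁻¹ i) = 1) σ s0 ε sε c3 with ⟨rfl, rfl⟩ | ⟨p, η, q, r⟩
  · exact h.cJ fun v => s2.comm ((by decide +kernel : ∀ v, sp 1 1 v = v) v)
  · obtain ⟨m, hm⟩ := h.diag q
    have mi : m⁻¹ = m := inv_eq_of_mul_eq_one_right (h.dsq hm q)
    have t : Ac f (m * n * m⁻¹) (sp σ 1) := mi.symm ▸ ((hm.1.mul s2).mul hm.1).cong fun v => by
      funext i
      simp only [sp, inv_one, Perm.one_apply, Pi.one_apply]
      rw [← r i]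
      ring
    have u : (m * n * m⁻¹) ^ 3 = 1 := by rw [conj_pow, b]; simp
    refine absurd ((isConj_iff.2 ⟨m, rfl⟩).symm.trans e) ?_
    rcases p with rfl | rfl
    · exact h.nC (k := C) bd! t h.acC u
    · have cs : C ∈ s1 := bd!
      refine h.nC (k := C⁻¹) bd! t ?_ u
      rw [h.inv (h.le cs)]
      exact h.acC.inv (by decide +kernel)

/-- An element of order three of `N(J)` fixing a vector of type E lies in `J` or is not conjugate into `J`.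
Move the vector to `ev 0` (`tr`); `mono`: `n` acts as `sp σ ε`, `σ 0 = 0`, `ε 0 = 1`, of order dividing 3;
either trivially (`cJ`), or after conjugating by a diagonal element (`exm`) as `C^±`; then
`n = f (j * C^±)` (`dif`) of order 3, and the K-fact `∀ j ∈ sJ, (j * C) ^ 3 = 1 → j * C ∈ sQ ∧ j * C ∉ s81`
(same for `C⁻¹`) with `nJ`. -/
theorem nE (a : n ∈ 𝐍[JJ f]) (b : n ^ 3 = 1) (c : q4 u = 1) (d : Commute n (jv f u))
    (e : IsConj n (jv f v)) : n ∈ JJ f := by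
  obtain ⟨m, M, hm, p⟩ := h.tr (u := u) (v := ev 0) (by rintro rfl; revert c; decide) (by decide)
    (c.trans (q4_ev 0).symm)
  have mN := h.nrm hm.1
  have t := h.nE0 (n := m * n * m⁻¹) (mul_mem (mul_mem mN a) (inv_mem mN))
    (by rw [conj_pow, b]; simp) (hm.1.cj p ▸ d.map (MulAut.conj m))
    ((isConj_iff.2 ⟨m, rfl⟩).symm.trans e)
  have := conj_mem_of_mem_normalizer (inv_mem mN) t
  simpa [mul_assoc] using this

end NJ

end Cfsg.Agent.O8T
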