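import Cfsg.Agent.Loc3.O8D
import Cfsg.Agent.Loc3.PrZ

/-!
Two facts in the frame of Prince's theorem for `3^{1+2}:SL₂(3)`
(`Loc3/PrP`, `PrS`, `PrB`, `PrX`, `PrZ`); `x = φ.comp fr`, `s = φ (e 189)`, `φ (e 1) = x (e 13)`.
-/

set_option autoImplicit false
set_option maxRecDepth 100000
set_option synthInstance.maxHeartbeats 400000
set_option synthInstance.maxSize 4000

namespace Cfsg.Agent.O8T

open Subgroup Cfsg Cfsg.Agent.PLocal.Amb Cfsg.Agent.Loc3 Cfsg.Agent.Comp Cfsg.Agent.LES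
open Cfsg.Agent.X32 (TG)
open Cfsg.Agent.X32.TG
open Cfsg.Agent.Loc3.Pr hiding V rf
open Cfsg.Agent.TT (XS)
open Cfsg.Agent.PS4 (K2 l2)
open Equiv (Perm swap)
open scoped commutatorElement

variable {G : Type*} [Group G] [Finite G] {φ : K2 →* G} {ν t : G} {O : Subgroup G}

theorem q8O (h : PS φ) (c : Core (φ.comp fr) (φ (e 189)) O) : ∀ l ∈ Q8, φ l ∈ O := fun l hl => by
  obtain (rfl | rfl) | ⟨d, a, b⟩ := (bd! : ∀ l ∈ Q8, (l = 1 ∨ l = e 189) ∨
    ∃ d, Commute d (e 189) ∧ d * e 27 * d⁻¹ = l) l hl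
  exacts [by simp, c.ms, PS4.cjm φ b ▸ conj_mem_of_mem_normalizer (c.nrm _ (a.map φ)) (h.qO c)]

omit [Finite G] in
theorem lq_comm {g y : G} (y3 : y ^ 3 = 1) (a : (g * y) ^ 3 = 1) (b : (g⁻¹ * y) ^ 3 = 1) :
    Commute g (y * g * y⁻¹) ∧ g * (y * g * y⁻¹) * (y⁻¹ * g * y) = 1 := by
  have i : y⁻¹ = y * y := inv_eq_of_mul_eq_one_right (by rw [← y3, pow_three])
  have k : ∀ {g}, (g * y) ^ 3 = 1 → g * (y * g * y⁻¹) * (y⁻¹ * g * y) = 1 := fun {g} a => by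
    rw [← a, pow_three, show g * (y * g * y⁻¹) * (y⁻¹ * g * y) = g * y * g * (y * y)⁻¹ * g * y by group,
      ← i]
    group
  refine ⟨?_, k a⟩
  rw [Commute, SemiconjBy, eq_inv_of_mul_eq_one_left (k a), ← inv_inj, inv_inv,
    show (y * g * y⁻¹ * g)⁻¹ = g⁻¹ * (y * g⁻¹ * y⁻¹) by group, eq_inv_of_mul_eq_one_left (k b)]
  group

theorem qq (h : B0 φ ν) (c : Core (φ.comp fr) (φ (e 189)) O)
    (h9 : ∀ g, Commute g ((φ.comp fr) (e 9)) → g ∈ 𝐍[(φ.comp fr).range]) :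
    ∀ l ∈ Q8, ∀ m ∈ Q8, Commute (φ l) (ν * φ m * ν⁻¹) := by
  obtain ⟨X, _, _, π, q⟩ := exists_CQ (φ (e 189))
  have sf := h.sf
  have o3 : Nat.Coprime 3 (orderOf (φ (e 189))) := by rw [sf.os]; norm_num
  have : (q.im O).Normal := ⟨fun y hy g => by
    obtain ⟨g, cg, rfl⟩ := q.surj g
    obtain ⟨o, ho', co, rfl⟩ := q.mem_im.1 hy
    rw [← q.map_conj cg co]
    exact q.mem_im_of (conj_mem_of_mem_normalizer (c.nrm g cg) ho')
      ((cg.mul_left co).mul_left cg.inv_left)⟩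
  have fp : ∀ {y}, y ^ 3 = 1 → Commute y (φ (e 189)) → (∀ g, Commute g y → g ∈ 𝐍[(φ.comp fr).range]) →
      ∀ g ∈ q.im O, Commute g (π y * g * (π y)⁻¹) ∧
        g * (π y * g * (π y)⁻¹) * ((π y)⁻¹ * g * π y) = 1 := fun {y} y3 cu hy g hg => by
    have p3 : π y ^ 3 = 1 := by rw [← q.map_pow cu, y3, q.map_one]
    have k := fun g (hg : g ∈ q.im O) => PS4.cube_fpf p3 (fun n hn a => by
      obtain ⟨n, hn', cn, rfl⟩ := q.mem_im.1 hn
      exact (q.eq_one_iff_two sf.s2 cn).2 (sf.core_mem c.two c.le c.nrm hn'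
        (hy _ (q.comm_of_comm cn cu a y3 o3)))) hg
    exact lq_comm p3 (k g hg) (k _ (inv_mem hg))
  have c4 := sf.cs (v := e 4) bd!
  have c9 := (sf.cs (v := e 9) bd!).inv_left
  have f4 := fp (xcube _ (e 4)) c4 fun _ => sf.cu
  have f9 := fp (by rw [inv_pow, xcube, inv_one]) c9 fun g a => h9 g (Commute.inv_right_iff.1 a)
  have z : ∀ l, Commute (φ l) ((φ.comp fr) (e 13)) := fun l =>
    ((bd! : ∀ l : K2, Commute l (fr (e 13))) l).map φ
  have n13 : ν * (φ.comp fr) (e 13) * ν⁻¹ = ((φ.comp fr) (e 4))⁻¹ * (φ.comp fr) (e 9) := by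
    rw [← map_inv, ← map_mul]; exact h.n1.cj bd!
  have bO : ∀ m ∈ Q8, ν * φ m * ν⁻¹ ∈ O := fun m hm =>
    conj_mem_of_mem_normalizer (c.nrm _ h.n3) (q8O h.toPS c m hm)
  have key : ∀ l ∈ Q8, ∀ m ∈ Q8, Commute (π (φ l)) (π (ν * φ m * ν⁻¹)) := fun l hl m hm => by
    have a := q8O h.toPS c l hl
    have b := bO m hm
    have ca := c.le _ a
    have cb := c.le _ b
    have b2 : π (ν * φ m * ν⁻¹) * π (ν * φ m * ν⁻¹) = 1 := by
      rw [← q.mul cb cb, conj_mul, ← map_mul]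
      rcases (bd! : ∀ m ∈ Q8, m * m = 1 ∨ m * m = e 189) m hm with e | e <;> rw [e]
      exacts [by simp [q.map_one], by rw [conj_of_comm h.n3, q.map_s]]
    have e1 := congrArg π (conj_of_comm (z l).inv_right.symm)
    have e2 := congrArg π (conj_of_comm ((z m).cj ν).inv_right.symm)
    rw [(bd! : (e 13 : Pr.V) = e 9 * e 4), map_mul, mul_inv_rev,
      q.map_conj (c4.inv_left.mul_left c9) ca, q.mul c4.inv_left c9, q.map_inv c4] at e1
    rw [n13, ← (xcomm _ (e 9) (e 4)).inv_right.eq, mul_inv_rev, inv_inv, q.map_conj (c4.mul_left c9) cb,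
      q.mul c4 c9] at e2
    have g1 := (f4 _ (mul_mem (q.mem_im_of a ca) (q.mem_im_of b cb))).1
    have g2 := (f9 _ (mul_mem (q.mem_im_of a ca) (q.mem_im_of b cb))).1
    have g3 := (f4 _ (q.mem_im_of b cb)).2
    generalize π (ν * φ m * ν⁻¹) = b at *
    generalize π (φ l) = a at *
    generalize π ((φ.comp fr) (e 4)) = y at *
    generalize π ((φ.comp fr) (e 9))⁻¹ = u at *
    have i := inv_eq_of_mul_eq_one_right b2
    rw [← conj_mul, show u * a * u⁻¹ = y * a * y⁻¹ by nth_rw 2 [← e1]; group,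
      show u * b * u⁻¹ = y⁻¹ * b * y by nth_rw 2 [← e2]; group] at g2
    have := g1.inv_right.mul_right g2
    rw [show (y * (a * b) * y⁻¹)⁻¹ * (y * a * y⁻¹ * (y⁻¹ * b * y)) =
      y * b⁻¹ * y⁻¹ * (y⁻¹ * b * y) by group, i, ← inv_eq_of_mul_eq_one_right ((mul_assoc b ..).symm.trans g3),
      i] at this
    simpa using this.mul_left (Commute.refl b).inv_left
  intro l hl m hm
  have cz := sf.cs (v := e 13) bd!
  have k : ∀ m ∈ Q8, Commute (φ l) (ν * φ (m * fr (e 22) * m⁻¹ * (fr (e 22))⁻¹) * ν⁻¹) := fun m hm => by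
    have cb := c.le _ (bO m hm)
    have ca := c.le _ (q8O h.toPS c l hl)
    have := q.comm_of_comm ca ((cb.mul_left cz).mul_left cb.inv_left) (m := 3) (by
      rw [q.map_conj cb cz]
      exact ((key l hl m hm).mul_right (by
        rw [Commute, SemiconjBy, ← q.mul ca cz, ← q.mul cz ca, (z l).eq])).mul_right
          (key l hl m hm).inv_right) (by rw [conj_pow, xcube]; simp) o3
    have e1 : ν * (φ.comp fr) (e 22) * ν⁻¹ = ((φ.comp fr) (e 13))⁻¹ := by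
      rw [← map_inv]; exact h.n1.cj bd!
    have := this.inv_right.mul_right (z l)
    rw [← inv_inv ((φ.comp fr) (e 13)), ← e1] at this
    refine Commute.symm (Eq.subst (motive := fun g => Commute g _) ?_ this.symm)
    simp only [map_mul, map_inv, MonoidHom.comp_apply]; group
  obtain ⟨a, ha, b, hb, rfl⟩ := (bd! : ∀ m ∈ Q8, ∃ a, a ∈ Q8 ∧ ∃ b, b ∈ Q8 ∧
    m = a * fr (e 22) * a⁻¹ * (fr (e 22))⁻¹ * (b * fr (e 22) * b⁻¹ * (fr (e 22))⁻¹)) m hm
  rw [map_mul, ← conj_mul]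
  exact (k a ha).mul_right (k b hb)

theorem eq8 (h : B2 φ ν t) {ψ : Perm (Fin 6) →* G}
    (k : SX (φ.comp fr) (φ (e 5)) (φ (e 189)) ν t ψ) : ∀ l ∈ Q8, Commute (ψ (swap 2 3)) (φ l) := by
  obtain ⟨O, c⟩ := h.core k.loc
  obtain ⟨X, _, _, π, q⟩ := exists_CQ (φ (e 189))
  have mK : ∀ {g : G}, g ∈ O ⊓ (𝐂[q.im O].comap q.hom).map (centralizer {φ (e 189)}).subtype ↔
      g ∈ O ∧ ∀ o ∈ O, Commute (π o) (π g) := ⟨fun ⟨a, b, d, f⟩ => ⟨a, fun o ho => f ▸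
        d _ (q.mem_im_of ho (c.le o ho))⟩, fun ⟨a, b⟩ => ⟨a, ⟨_, mem_cent.2 (c.le _ a)⟩, fun o ho => by
      obtain ⟨o, ho', -, rfl⟩ := q.mem_im.1 ho
      exact b o ho', rfl⟩⟩
  generalize O ⊓ (𝐂[q.im O].comap q.hom).map (centralizer {φ (e 189)}).subtype = K at mK
  have le : K ≤ O := fun g a => (mK.1 a).1
  have hn : ∀ g, Commute g (φ (e 189)) → g ∈ 𝐍[K] := fun g a => mem_normalizer_fintype fun y b =>
    mK.2 ⟨conj_mem_of_mem_normalizer (c.nrm g a) (le b), fun o ho => by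
      have := (mK.1 b).2 _ (conj_mem_of_mem_normalizer (c.nrm _ a.inv_left) ho)
      rw [q.map_conj a.inv_left (c.le o ho), q.map_inv a, inv_inv] at this
      rw [q.map_conj a (c.le _ (le b))]
      exact (comm_conj_iff.2 this.symm).symm⟩
  have e1 := k.eO c
  have q1 := h.toPS.qO c
  have cm : Commute (π (φ (e 27))) (π (ψ (swap 2 3))) := by_contra fun nc => by
    have p2 : IsPGroup 2 (q.im O) := (isPGroup_subgroupOf c.two _).map _
    obtain ⟨y, ⟨hy, hc⟩, y1⟩ := (q.im O ⊓ 𝐂[q.im O]).bot_or_exists_ne_one.resolve_left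
      (inf_centralizer_ne_bot p2 p2 le_normalizer fun a => nc (by
        rw [mem_bot.1 (a.le (q.mem_im_of q1 (c.le _ q1)))]; exact Commute.one_left _))
    obtain ⟨y, a, b, rfl⟩ := q.mem_im.1 hy
    refine y1 ((q.eq_one_iff_two h.sf.s2 b).2 (h.le_zp c le hn (fun l d f => ?_) (fun l d f => ?_)
      (mK.2 ⟨a, fun o ho => hc _ (q.mem_im_of ho (c.le o ho))⟩)))
    · exact (k.e_mem (c.two.to_le le) (mK.2 ⟨c.ms, fun o _ => q.map_s ▸ Commute.one_right _⟩)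
        (hn _ (h.sf.cs bd!)) d (c.le l (le d)) f).resolve_right fun a => nc ((mK.1 a).2 _ q1)
    · refine ((bd! : ∀ l ∈ Q8, (l = 1 ∨ l = e 189) ∨ ∃ d, Commute d (e 189) ∧ d * l * d⁻¹ = e 27)
        l d).resolve_right fun ⟨g, a, b⟩ => nc ((mK.1 (PS4.cjm φ b ▸ conj_mem_of_mem_normalizer
          (hn _ (a.map φ)) f)).2 _ e1).symm
  have cq := c.le _ q1
  have ce := c.le _ e1
  have c9 := h.sf.cs (v := e 9) bd!
  have a := k.cψ (swap 2 3)
  have b := q.comm_of_comm ce ((cq.mul_left c9).mul_left cq.inv_left) (m := 3) (by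
    rw [q.map_conj cq c9]
    exact (cm.symm.mul_right (by rw [Commute, SemiconjBy, ← q.mul ce c9, ← q.mul c9 ce, a.eq])).mul_right
      cm.symm.inv_right) (by rw [conj_pow, xcube]; simp) (by rw [h.sf.os]; norm_num)
  intro l hl
  obtain ⟨i, -, j, -, rfl⟩ := (bd! : ∀ l ∈ Q8, ∃ i ∈ [0, 1, 2, 3], ∃ j ∈ [0, 1],
    l = (e 27 * fr (e 9) * (e 27)⁻¹ * (fr (e 9))⁻¹) ^ i *
      ((fr (e 9))⁻¹ * (e 27 * fr (e 9) * (e 27)⁻¹)) ^ j) l hl
  simp only [map_mul, map_pow, map_inv]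
  exact ((b.mul_right a.inv_right).pow_right i).mul_right ((a.inv_right.mul_right b).pow_right j)

end Cfsg.Agent.O8T
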