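import Cfsg.Agent.Loc3.O8G
import Cfsg.Agent.Loc3.O8Lq

/-! The centraliser of `U = j (0,0,1,2)`, through the Prince frame of `C(U)/⟨U⟩`. -/

set_option autoImplicit false
set_option maxRecDepth 100000
set_option synthInstance.maxHeartbeats 400000
set_option synthInstance.maxSize 4000

namespace Cfsg.Agent.O8T

open Subgroup Cfsg Cfsg.Agent.PLocal.Amb Cfsg.Agent.Loc3 Cfsg.Agent.Comp Cfsg.Agent.LES
open Cfsg.Agent.X32 (TG)
open Cfsg.Agent.X32.TG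
open Cfsg.Agent.Loc3.Pr hiding V rf
open Cfsg.Agent.TT (XS)
open Cfsg.Agent.PS4 (K2 l2)
open Equiv (Perm swap)
open scoped commutatorElement

/-- coordinates in `U^⊥` -/
def lbv (v : Pr.V) : V4 :=
  ![(2 * (v.v % 3) + v.v / 3 % 3 : ℕ), (2 * (v.v % 3) + 2 * (v.v / 3 % 3) : ℕ), (v.v / 9 : ℕ), (v.v / 9 : ℕ)]

theorem lb_dec : ∀ w : V4, ∃ v, ∃ c ∈ [0, ![0, 0, 1, 2], -![0, 0, 1, 2]], w = lbv v + c ∧
    (b4 w ![0, 0, 1, 2] = 0 → c = 0) := bd!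

theorem lb_mon : ∀ A : Pr.V, q4 (lbv A) = 2 → ∀ B : Pr.V, q4 (lbv B) = 2 ∧ b4 (lbv A) (lbv B) = 0 →
    ∀ C : Pr.V, q4 (lbv C) = 2 ∧ b4 (lbv A) (lbv C) = 0 ∧ b4 (lbv B) (lbv C) = 0 →
    ∃ h : H, ac h (e 1) = A ∧ ac h (e 3) = B ∧ ac h (e 9) = C := bd!

theorem lb_cu : ∀ k : K, Commute k Z → Commute k U → ∃ a ∈ lR, ∃ b ∈ [1, B, B⁻¹], b * (a * k) ∈ sJ := bd!

theorem lb_chi : ∃ χ : K2 →* K, χ (e 5) = B ∧ χ (e 189) = T ∧ (∀ v, χ (fr v) = jK (lbv v)) ∧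
    (∀ k, χ k ∈ s1 ⊓ centralizer {U}) ∧ ∀ a ∈ lR, ∃ l ∈ Q8, χ l = a := by
  obtain ⟨χ, h⟩ := exists_chi
  have k : ∀ W a b, BN.ev (tup l2) W = a ∧ BN.ev (tup lX) W = b → χ a = b := by
    rintro W _ _ ⟨rfl, rfl⟩; exact h W
  refine ⟨χ, k [6] _ _ bd!, k [8, 8] _ _ bd!, fun v => ?_, X32.range_le_of_gen PS4.link2.top fun i hi => ?_,
    fun a ha => ?_⟩
  · refine (hom_eq (χ.comp fr) v).trans ?_
    rw [show χ.comp fr (e 1) = jK ![2, 2, 0, 0] from k [3, 0, 4] _ _ bd!,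
      show χ.comp fr (e 3) = jK ![1, 2, 0, 0] from k [3, 0, 5] _ _ bd!,
      show χ.comp fr (e 9) = jK ![0, 0, 1, 1] from k [1, 3] _ _ bd!]
    revert v; exact bd!
  · rw [k [i] _ (tup lX i) ⟨by simp, by simp⟩]
    exact (bd! : ∀ i ∈ List.range 12, tup lX i ∈ s1 ⊓ centralizer {U}) i (List.mem_range.2 hi)
  · obtain ⟨W, -, b, rfl⟩ := (bd! : ∀ a ∈ lR, ∃ W ∈ [[], [8], [9], [10], [11], [8, 8], [8, 10], [10, 8]],
      BN.ev (tup l2) W ∈ Q8 ∧ BN.ev (tup lX) W = a) a ha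
    exact ⟨_, b, h W⟩

variable {G : Type*} [Group G] [Finite G] {D : Subgroup K} {f : K → G} {X' : Type*} [Group X'] [Finite X']
  {π : G → X'} {φ : K2 →* X'} {g n ν : G} {L : V4 → V4}

/-- the Prince frame in `C(U)/⟨U⟩` -/
structure LB (f : K → G) (π : G → X') (φ : K2 →* X') : Prop extends CQ (f U) π where
  x : ∀ v, (φ.comp fr) v = π (jv f (lbv v))
  s : φ (e 189) = π (f T)
  ρ : φ (e 5) = π (f B)
  Q : ∀ a ∈ lR, ∃ l ∈ Q8, φ l = π (f a)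

namespace NJ

variable (h : NJ D f)
include h

omit [Finite G] in
theorem lb_U : f U = jv f ![0, 0, 1, 2] := by
  have := h.le
  rw [jv, jK_val.2.2.1]

theorem lb_j (v : V4) : Commute (jv f v) (f U) := h.lb_U ▸ h.jc _ _

theorem lb_a (a : Ac f n L) (e : L ![0, 0, 1, 2] = ![0, 0, 1, 2]) : Commute n (f U) := h.lb_U ▸ a.comm e

theorem lb_o {m : ℕ} (e : m.Coprime 3) : m.Coprime (orderOf (f U)) := by
  rwa [orderOf_three (h.pow1 bd!) (h.ne1 bd!)]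

theorem lb_z : g ∈ zpowers (f U) ↔ ∃ c ∈ [0, ![0, 0, 1, 2], -![0, 0, 1, 2]], jv f c = g := by
  rw [mem_zpowers_three (h.pow1 bd!), h.lb_U]
  simp only [List.mem_cons, List.not_mem_nil, or_false, exists_eq_or_imp, exists_eq_left, h.zero, h.neg,
    eq_comm]

theorem lb_T : Commute (f T) (f U) := h.cm1 bd!

theorem lb_R {a : K} (ha : a ∈ lR) : Commute (f a) (f U) ∧ Commute (f a) (f T) ∧ f a ^ 4 = 1 :=
  have := (bd! : ∀ a ∈ lR, (a ∈ s1 ∧ U ∈ s1 ∧ Commute a U) ∧ (a ∈ s1 ∧ T ∈ s1 ∧ Commute a T) ∧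
    a ∈ s1 ∧ a ^ 4 = 1) a ha
  ⟨h.cm1 this.1, h.cm1 this.2.1, h.pow1 this.2.2⟩

theorem lb_exists (q : CQ (f U) π) : ∃ φ : K2 →* X', LB f π φ ∧
    ∀ k, Commute k Z → Commute k U → k ∈ D → π (f k) ∈ φ.range := by
  obtain ⟨χ, a, b, c, d, i⟩ := lb_chi
  have m : ∀ k, χ k ∈ D := fun k => h.le (d k).1
  have u : ∀ {k}, k ∈ D → Commute k U → Commute (f k) (f U) := fun a b => (h.cm a (h.le bd!)).2 b
  let φ : K2 →* X' := MonoidHom.mk' (fun k => π (f (χ k))) fun a b => by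
    rw [map_mul, h.mul (m a) (m b), q.mul (u (m a) (mem_cent.1 (d a).2)) (u (m b) (mem_cent.1 (d b).2))]
  refine ⟨φ, ⟨q, fun v => congrArg (fun k => π (f k)) (c v), congrArg (fun k => π (f k)) b,
    congrArg (fun k => π (f k)) a, fun a ha => (i a ha).imp fun _ e =>
      ⟨e.1, congrArg (fun k => π (f k)) e.2⟩⟩, fun k z y hk => ?_⟩
  obtain ⟨r, hr, s, hs, e⟩ := lb_cu k z y
  obtain ⟨r, -, rfl⟩ := i r hr
  obtain ⟨s, rfl⟩ : s ∈ χ.range := by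
    simp only [List.mem_cons, List.not_mem_nil, or_false] at hs
    rcases hs with rfl | rfl | rfl
    exacts [one_mem _, ⟨_, a⟩, inv_mem ⟨_, a⟩]
  obtain ⟨w, e⟩ := jK_surj _ e
  obtain ⟨v, o, ho, rfl, -⟩ := lb_dec w
  have : π (jv f (lbv v + o)) = π (f (χ s * (χ r * k))) := congrArg (fun k => π (f k)) e
  rw [← mul_assoc, ← map_mul, h.mul (m _) hk, q.mul (u (m _) (mem_cent.1 (d _).2)) (u hk y), h.add,
    q.mul (h.lb_j _) (h.lb_j _), (q.ker (h.lb_j o)).2 (h.lb_z.2 ⟨o, ho, rfl⟩), mul_one, jv, ← c] at this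
  exact (mul_mem_cancel_left (⟨s * r, rfl⟩ : _ ∈ φ.range)).1 ⟨_, this⟩

variable (q : LB f π φ)
include q

theorem lb_cj (c : Commute g (f U)) {v w : Pr.V} (e : q4 (lbv v) = q4 (lbv w))
    (a : π g * (φ.comp fr) v * (π g)⁻¹ = (φ.comp fr) w) : g * jv f (lbv v) * g⁻¹ = jv f (lbv w) := by
  rw [q.x, q.x, ← q.map_conj c (h.lb_j _)] at a
  obtain ⟨d, hd, b⟩ := h.lb_z.1 ((q.eq_iff ((c.mul_left (h.lb_j _)).mul_left c.inv_left) (h.lb_j _)).1 a)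
  have b : g * jv f (lbv v) * g⁻¹ = jv f (lbv w + d) := by rw [h.add, b]; simp
  rw [b, (bd! : ∀ w, ∀ d ∈ [0, ![0, 0, 1, 2], -![0, 0, 1, 2]], q4 (lbv w) = q4 (lbv w + d) →
    lbv w + d = lbv w) w d hd (e.symm.trans (h.ty (isConj_iff.2 ⟨g, b⟩)))]

theorem lb_comm (c : Commute g (f U)) {v : Pr.V} (a : Commute (π g) ((φ.comp fr) v)) :
    Commute g (jv f (lbv v)) := comm_of_conj (h.lb_cj q c rfl (conj_of_comm a))

theorem lb_range : (φ.comp fr).range = q.im (JJ f) := by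
  ext g
  rw [q.mem_im]
  constructor
  · rintro ⟨v, rfl⟩
    exact ⟨_, Ch.jJ _, h.lb_j _, (q.x v).symm⟩
  · rintro ⟨g, hg, -, rfl⟩
    obtain ⟨w, rfl⟩ := h.memJ.1 hg
    obtain ⟨v, o, ho, rfl, -⟩ := lb_dec w
    exact ⟨v, by rw [q.x, h.add, q.mul (h.lb_j _) (h.lb_j _), (q.ker (h.lb_j o)).2 (h.lb_z.2 ⟨o, ho, rfl⟩),
      mul_one]⟩

theorem lb_norm (hg : Commute g (f U)) : π g ∈ 𝐍[(φ.comp fr).range] ↔ g ∈ 𝐍[JJ f] := by
  have c : ∀ p ∈ JJ f, Commute p (f U) := fun p hp => by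
    obtain ⟨w, rfl⟩ := h.memJ.1 hp; exact h.lb_j _
  rw [h.lb_range q]
  refine ⟨fun a => mem_normalizer_fintype fun p hp => q.mem_of_mem_im (h.lb_U ▸ Ch.jJ _)
    ((hg.mul_left (c p hp)).mul_left hg.inv_left) ?_, fun a => mem_normalizer_fintype fun p hp => ?_⟩
  · rw [q.map_conj hg (c p hp)]
    exact conj_mem_of_mem_normalizer a (q.mem_im_of hp (c p hp))
  · obtain ⟨p, hp', d, rfl⟩ := q.mem_im.1 hp
    rw [← q.map_conj hg d]
    exact q.mem_im_of (conj_mem_of_mem_normalizer a hp') ((hg.mul_left d).mul_left hg.inv_left)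

theorem lb_act (a : Ac f n L) {k : H} (e : L ![0, 0, 1, 2] = ![0, 0, 1, 2] ∧
    ∀ v, L (lbv v) = lbv (ac k v)) : Act (φ.comp fr) (π n) k := fun v => by
  rw [q.x, q.x, ← q.map_conj (h.lb_a a e.1) (h.lb_j _), a, e.2]

theorem lb_ac (c : Commute g (f U)) {k : H} (a : Act (φ.comp fr) (π g) k) (e : ∀ v,
    q4 (lbv v) = q4 (lbv (ac k v)) ∧ ∀ d ∈ [0, ![0, 0, 1, 2], -![0, 0, 1, 2]],
      lbv (ac k v) + d = L (lbv v + d)) : Ac f g L := fun w => by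
  obtain ⟨v, d, hd, rfl, -⟩ := lb_dec w
  obtain ⟨i, hi⟩ := h.lb_z.2 ⟨d, hd, rfl⟩
  rw [← (e v).2 d hd, h.add, h.add, ← conj_mul, h.lb_cj q c (e v).1 (a v), ← hi,
    conj_of_comm (c.zpow_right i)]

theorem lb_mf : MF (φ.comp fr) where
  inj := (injective_iff_map_eq_one _).2 fun v a => by
    obtain ⟨c, hc, e⟩ := h.lb_z.1 ((q.ker (h.lb_j _)).1 ((q.x v).symm.trans a))
    exact (bd! : ∀ v, ∀ c ∈ [0, ![0, 0, 1, 2], -![0, 0, 1, 2]], c = lbv v → v = 1) v c hc (h.jinj e)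
  cent := fun g a => by
    obtain ⟨g, c, rfl⟩ := q.surj g
    rw [h.lb_range q]
    exact q.mem_im_of (h.cJ fun v => (h.lb_ac q c (L := id) (Act.of_comm a) bd!).comm rfl) c
  mon := fun n hn => by
    obtain ⟨g, c, rfl⟩ := q.surj n
    obtain ⟨L, a⟩ := h.exAc ((h.lb_norm q c).1 hn)
    have f0 : L ![0, 0, 1, 2] = ![0, 0, 1, 2] := h.jinj ((a _).symm.trans (conj_of_comm (h.lb_U ▸ c)))
    have : ∀ v, ∃ w, L (lbv v) = lbv w := fun v => by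
      obtain ⟨w, d, -, e, o⟩ := lb_dec (L (lbv v))
      rw [o (by rw [← f0, h.isoB a]; exact (bd! : ∀ v, b4 (lbv v) ![0, 0, 1, 2] = 0) v), add_zero] at e
      exact ⟨w, e⟩
    choose F hF using this
    obtain ⟨k, k1, k2, k3⟩ := lb_mon (F (e 1)) (by rw [← hF, h.isoL a]; exact bd!)
      (F (e 3)) (by rw [← hF, ← hF, h.isoL a, h.isoB a]; exact bd!)
      (F (e 9)) (by rw [← hF, ← hF, ← hF, h.isoL a, h.isoB a, h.isoB a]; exact bd!)
    have u : ∀ v, π g * (φ.comp fr) v * (π g)⁻¹ = (φ.comp fr) (F v) := fun v => by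
      rw [q.x, q.x, ← q.map_conj c (h.lb_j _), a, hF]
    exact ⟨k, Act.of_three (k1 ▸ u _) (k2 ▸ u _) (k3 ▸ u _)⟩
  sig := by
    rw [h.lb_range q]
    exact q.sig (h.pow1 bd!) (h.ne1 bd!) (fun p hp => by
      obtain ⟨w, rfl⟩ := h.memJ.1 hp; exact h.lb_j _) h.toCh.sig

theorem lb_Z (c : Commute g (f U)) (a : Commute (π g) ((φ.comp fr) (e 13))) : Commute g (f Z) := by
  have := h.lb_comm q c a
  rwa [jv, (bd! : jK (lbv (e 13)) = Z)] at this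

theorem lb_9 (c : Commute g (f U)) : Commute (π g) ((φ.comp fr) (e 9)) ↔
    Commute g (jv f (ev 2)) ∧ Commute g (jv f (ev 3)) := by
  refine ⟨fun a => ?_, fun a => ?_⟩
  · have b := h.lb_comm q c a
    rw [h.lb_U] at c
    rw [(bd! : ev 2 = -(lbv (e 9) + ![0, 0, 1, 2])), (bd! : ev 3 = ![0, 0, 1, 2] + -lbv (e 9)), h.neg, h.add,
      h.add, h.neg]
    exact ⟨(b.mul_right c).inv_right, c.mul_right b.inv_right⟩
  · rw [q.x, (bd! : lbv (e 9) = ev 2 + ev 3), Commute, SemiconjBy, ← q.mul c (h.lb_j _),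
      ← q.mul (h.lb_j _) c, h.add, (a.1.mul_right a.2).eq]

omit q in
theorem lb_B0 (q : CQ (f U) π) : ∃ φ : K2 →* X', LB f π φ ∧ ∃ ν, Kp f ν (sp 1 ![-1, -1, 1, 1]) ∧
    B0 φ (π ν) := by
  obtain ⟨φ, q, cu⟩ := h.lb_exists q
  obtain ⟨ν, a⟩ := h.exm (σ := 1) (ε := ![-1, -1, 1, 1]) (Or.inl (map_one _)) (by decide)
  have mf := h.lb_mf q
  have c := h.lb_a a.1 bd!
  have cb : Commute (f B) (f U) := h.cm1 bd!
  refine ⟨φ, q, ν, a, ⟨PS4.inj2 (xe φ 13 1 bd! ▸ mf.ne1 bd!), fun g b => ?_, mf⟩, h.lb_act q a.1 bd!,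
    by rw [← q.mul c c, h.dsq a (by decide), q.map_one], ?_, ?_⟩
  · obtain ⟨g, d, rfl⟩ := q.surj g
    obtain ⟨k, hk, z, rfl⟩ := h.cz (h.lb_Z q d (xe φ 13 1 bd! ▸ b))
    exact cu k z ((h.cm hk (h.le bd!)).1 d) hk
  · rw [q.s, Commute, SemiconjBy, ← q.mul c h.lb_T, ← q.mul h.lb_T c, (h.kT a rfl).eq]
  · rw [q.ρ, ← q.mul c cb, ← q.map_pow (c.mul_left cb), pow_three,
      h.kp_one ((a.mul h.kpB).mul ((a.mul h.kpB).mul (a.mul h.kpB))) (by decide +kernel), q.map_one]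

omit q

theorem lb_cU (a : Commute g (jv f (ev 2))) (b : Commute g (jv f (ev 3))) : Commute g (f U) := by
  rw [h.lb_U, (bd! : ![0, 0, 1, 2] = ev 2 + -ev 3), h.add, h.neg]; exact a.mul_right b.inv_right

theorem yb1 : (∀ g, Commute g (jv f (ev 2)) → Commute g (jv f (ev 3)) → g ∈ 𝐍[JJ f]) ∨
    ∃ v, Bad D f v := by
  obtain ⟨X', _, _, π, q⟩ := exists_CQ (f U)
  obtain ⟨φ, q, ν, a, b⟩ := h.lb_B0 q
  have l : (∀ g, Commute g ((φ.comp fr) (e 9)) → g ∈ 𝐍[(φ.comp fr).range]) → ∀ g,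
      Commute g (jv f (ev 2)) → Commute g (jv f (ev 3)) → g ∈ 𝐍[JJ f] := fun k g c d =>
    (h.lb_norm q (h.lb_cU c d)).1 (k _ ((h.lb_9 q (h.lb_cU c d)).2 ⟨c, d⟩))
  by_cases n : e 42 ∈ Gam (φ.comp fr) ⊤
  swap
  · refine .inl (l fun g => b.mf.cent_le' (m := P24) (fun k hk => ?_) bd!)
    exact ((bd! : ∀ a : H, P24 a ∨ P24 (a * e 42)) k).resolve_right fun c => n
      ((mul_mem_cancel_left hk).1 (p24_mem b.sf.g1 b.sf.g3 ⟨_, trivial, b.n1⟩ c))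
  obtain ⟨n, -, c⟩ := n
  obtain ⟨n, d, rfl⟩ := q.surj n
  have hX := h.odd (h.lb_ac q d (L := sp (swap 2 3) fun _ => -1) c bd!) (by decide) (by decide)
  have t := h.kpR.mul (h.kpX hX)
  have tU := h.lb_a t.1 (by decide)
  have m : ∀ {g L}, Kp f g L → Commute g (f U) → (∀ v, sp 1 (fun _ => -1) (sp (swap 2 3) 1 (L v)) =
      L (sp 1 (fun _ => -1) (sp (swap 2 3) 1 v))) → Commute (π (f R * f X)) (π g) := fun a c e => by
    rw [Commute, SemiconjBy, ← q.mul c tU, ← q.mul tU c, (h.kp_comm t a e).eq]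
  have b2 : B2 φ (π ν) (π (f R * f X)) := ⟨b, h.lb_act q t.1 bd!, by
    rw [← q.mul tU tU, h.kp_one (t.mul t) (by decide +kernel), q.map_one],
    q.s ▸ m h.kpT h.lb_T (by decide +kernel), q.ρ ▸ m h.kpB (h.cm1 bd!) (by decide +kernel),
    m a (h.lb_a a.1 bd!) (by decide +kernel)⟩
  refine b2.sn.split.imp l fun ⟨ψ, k⟩ => ?_
  obtain ⟨g, gU, e⟩ := q.surj (ψ (swap 0 5 * swap 1 4))
  obtain ⟨v, vU, e, v2, -⟩ := q.exists_lift (m := 2) (by rw [← map_pow]; exact map_one ψ ▸ congrArg ψ (by decide))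
    (h.lb_o (by norm_num)) gU e
  have o := h.lb_o (m := 2) (by norm_num)
  have c9 := (h.lb_9 q vU).1 (e ▸ k.cψ _)
  have y : π (jv f (ev 1)) = ψ (swap 1 2 * swap 0 1 * (swap 3 4 * swap 4 5)) := by
    rw [k.fu, q.x, (bd! : lbv (TG.e 4) = ev 1)]
  have j := h.lb_j (ev 1)
  have cj := (j.mul_left vU).mul_left j.inv_left
  have cj' := (j.inv_left.mul_left vU).mul_left j
  refine ⟨v, hX, pow_two v ▸ v2, fun z => ?_, c9.1, c9.2, (q.comm_of_comm h.lb_T vU ?_ v2 o).symm, ?_,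
    fun a ha => (q.comm_of_comm (h.lb_R ha).1 vU ?_ v2 o).symm⟩
  · rw [z, q.map_one, eq_comm, map_eq_one_iff _ k.inψ] at e
    exact absurd e (by decide)
  · rw [← q.s, ← k.fs, e]; exact Commute.map (show _ * _ = _ * _ by decide) ψ
  · have c := q.comm_of_comm cj vU (by
      rw [q.map_conj j vU, y, e, ← map_inv, ← map_mul, ← map_mul]; exact Commute.map (show _ * _ = _ * _ by decide) ψ) v2 o
    have c' := q.comm_of_comm (cj.mul_left vU) cj' (m := 2) (by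
      rw [q.mul cj vU, q.map_conj j vU, q.mul (j.inv_left.mul_left vU) j, q.mul j.inv_left vU, q.map_inv j, y, e]
      simp only [← map_inv, ← map_mul]; exact Commute.map (show _ * _ = _ * _ by decide) ψ) (by
        simpa [v2] using conj_pow (a := (jv f (ev 1))⁻¹) (b := v) (i := 2)) o
    rw [c.eq] at c'
    obtain ⟨d, -, z⟩ := h.lb_z.1 ((q.ker ((vU.mul_left cj).mul_left cj')).1 (by
      rw [q.mul (vU.mul_left cj) cj', q.mul vU cj, q.map_conj j vU, q.mul (j.inv_left.mul_left vU) j,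
        q.mul j.inv_left vU, q.map_inv j, y, e]
      simp only [← map_inv, ← map_mul]; exact map_one ψ ▸ congrArg ψ (by decide)))
    refine eq_one_of_two_three (k := 1) ?_ (z ▸ h.j3 d)
    rw [pow_one, c'.mul_pow, c.symm.mul_pow, conj_pow, v2]
    simpa [v2] using conj_pow (a := (jv f (ev 1))⁻¹) (b := v) (i := 2)
  · obtain ⟨l, hl, i⟩ := q.Q a ha
    rw [← i, e, show ψ (swap 0 5 * swap 1 4) = φ (TG.e 189) * ψ (swap 2 3) by
      rw [← k.fs, ← map_mul]; exact congrArg ψ (by decide)]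
    exact (((bd! : ∀ l ∈ Q8, Commute l (TG.e 189)) l hl).map φ).mul_right (eq8 b2 k l hl).symm

variable (cD : ∀ g, Commute g (jv f (ev 2)) → Commute g (jv f (ev 3)) → g ∈ 𝐍[JJ f])
include cD

theorem lb_h9 (q : LB f π φ) (g : X') (a : Commute g ((φ.comp fr) (e 9))) :
    g ∈ 𝐍[(φ.comp fr).range] := by
  obtain ⟨g, c, rfl⟩ := q.surj g
  have := (h.lb_9 q c).1 a
  exact (h.lb_norm q c).2 (cD g this.1 this.2)

theorem yb2 : ∀ r, Ac f r (rf (ev 1)) → Commute r (f R) → ∀ a ∈ lR, ∀ b ∈ lR,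
    Commute (f a) (r * f b * r⁻¹) := fun r c d a ha b hb => by
  obtain ⟨X', _, _, π, q⟩ := exists_CQ (f U)
  obtain ⟨φ, q, ν, n, k⟩ := h.lb_B0 q
  obtain ⟨O, o⟩ := k.core (locG_of k.sf.s2 (k.sf.cs bd!).symm (h.lb_h9 cD q))
  obtain ⟨l, hl, i⟩ := q.Q a ha
  obtain ⟨m, hm, j⟩ := q.Q b hb
  have u := h.lb_a n.1 bd!
  rw [h.kp_eq ⟨c, d⟩ (n.mul h.kpT) (by decide +kernel), show ν * f T * f b * (ν * f T)⁻¹ =
    ν * (f T * f b * (f T)⁻¹) * ν⁻¹ by group, conj_of_comm (h.lb_R hb).2.1.symm]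
  refine (q.comm_of_comm ((u.mul_left (h.lb_R hb).1).mul_left u.inv_left) (h.lb_R ha).1 ?_
    (h.lb_R ha).2.2 (h.lb_o (by norm_num))).symm
  rw [q.map_conj u (h.lb_R hb).1, ← i, ← j]
  exact (qq k o (h.lb_h9 cD q) l hl m hm).symm

theorem yb3 : ∀ M : Subgroup G, (∀ n ∈ 𝐍[JJ f], Commute n (f T) → n ∈ M) → (∀ a ∈ lR, f a ∈ M) →
    ∀ g, Commute g (f T) → Commute g (f U) → g ∈ M := fun M hN hR g gT gU => by
  obtain ⟨X', _, _, π, q⟩ := exists_CQ (f U)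
  obtain ⟨φ, q, ν, n, k⟩ := h.lb_B0 q
  obtain ⟨O, o⟩ := k.core (locG_of k.sf.s2 (k.sf.cs bd!).symm (h.lb_h9 cD q))
  have cT : ∀ {g}, Commute g (f U) → Commute (π g) (φ (e 189)) → Commute g (f T) := fun a b =>
    q.comm_of_comm a h.lb_T (q.s ▸ b) ((pow_two _).trans h.t2) (h.lb_o (by norm_num))
  have N : ∀ y ∈ 𝐍[(φ.comp fr).range], Commute y (φ (e 189)) → y ∈ q.im M := fun y a b => by
    obtain ⟨y, c, rfl⟩ := q.surj y
    exact q.mem_im_of (hN y ((h.lb_norm q c).1 a) (cT c b)) c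
  have Z : ∀ y, Commute y ((φ.comp fr) (e 13)) → Commute y (φ (e 189)) → y ∈ q.im M := fun y a b => by
    obtain ⟨y, c, rfl⟩ := q.surj y
    obtain ⟨r, hr, d⟩ := h.cZT (h.lb_Z q c a) (cT c b)
    exact q.mem_im_of ((mul_mem_cancel_left (hR r hr)).1 (hN _ d ((h.lb_R hr).2.1.mul_left (cT c b)))) c
  have le : O ≤ q.im M := k.sf.le_of o o.two (fun v a => o.nrm _ (k.sf.cs a)) fun y hy v hv c => by
    have s := o.le y hy
    simp only [es, List.map, List.mem_cons, List.not_mem_nil, or_false] at hv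
    rcases hv with rfl | rfl | rfl | rfl
    · exact N y (k.sf.cu c) s
    · exact N y (h.lb_h9 cD q y c) s
    · exact Z y c s
    have m := N _ k.n1.norm k.n3
    have := c.cj (π ν)
    rw [k.n1.cj (w := (e 13)⁻¹) bd!, map_inv, Commute.inv_right_iff] at this
    exact (mul_mem_cancel_left m).1 ((mul_mem_cancel_right (inv_mem m)).1
      (Z _ this ((k.n3.mul_left s).mul_left k.n3.inv_left)))
  have s : Commute (π g) (φ (e 189)) := by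
    rw [q.s, Commute, SemiconjBy, ← q.mul gU h.lb_T, ← q.mul h.lb_T gU, gT.eq]
  obtain ⟨a, ha, y, hy, e⟩ := o.fac _ s
  refine q.mem_of_mem_im (hN _ (h.lb_U ▸ le_normalizer (Ch.jJ _)) h.lb_T.symm) gU ?_
  rw [e] at s ⊢
  exact mul_mem (le ha) (N y hy (by simpa using (o.le a ha).inv_left.mul_left s))

end NJ

end Cfsg.Agent.O8T
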