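import Cfsg.Agent.Loc3.O8G

/-!
The centraliser of the outer involution `c = f X`: modulo `c` it satisfies the hypothesis of Prince's theorem.
-/

set_option autoImplicit false
set_option maxRecDepth 100000
set_option synthInstance.maxHeartbeats 400000
set_option synthInstance.maxSize 4000

namespace Cfsg.Agent.O8T

open Subgroup Cfsg Cfsg.Agent.PLocal.Amb Cfsg.Agent.Loc3 Cfsg.Agent.Comp Cfsg.Agent.LES
open Cfsg.Agent.X32 (TG)
open Cfsg.Agent.X32.TG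
open Cfsg.Agent.Loc3.Pr hiding V rf
open Cfsg.Agent.TT (XS)
open Cfsg.Agent.PS4 (K2 l2)
open Equiv (Perm swap)
open scoped commutatorElement

variable {G : Type*} [Group G] [Finite G] {D : Subgroup K} {f : K → G} {g : G}

theorem lc_chi : ∃ χ : K2 →* K, χ (e 1) = Z ∧ χ (e 4) = A ∧ χ (e 135) = Y ∧
    χ.range = s1 ⊓ (centralizer {Z} ⊓ centralizer {X}) := by
  obtain ⟨χ, a⟩ := exists_chi
  have b : ∀ k, χ (tup l2 k) = tup lX k := fun k => by simpa using a [k]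
  refine ⟨χ, b 0, b 5, b 2, eq_of_le_of_card_ge ?_ ?_⟩
  · rw [MonoidHom.range_eq_map, ← PS4.link2.top, map_le_iff_le_comap]
    refine (closure_le _).2 ?_
    rintro _ ⟨k, rfl⟩
    rw [SetLike.mem_coe, mem_comap, b]
    by_cases c : k < 12
    · exact (bd! : ∀ k ∈ List.range 12, tup lX k ∈ s1 ⊓ (centralizer {Z} ⊓ centralizer {X})) k
        (List.mem_range.2 c)
    · rw [tup, List.getD_eq_default _ _ (not_lt.1 c)]
      exact one_mem _
  · rw [← Nat.card_congr (MonoidHom.ofInjective (PS4.inj2 (φ := χ) (by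
      rw [show χ (e 1) = Z from b 0]; exact bd!))).toEquiv, TG.card,
      X32.card_sub (· ∈ s1 ⊓ (centralizer {Z} ⊓ centralizer {X})) fun _ => Iff.rfl]
    decide +kernel

namespace LC

variable (h : LC D f) (hX : X ∈ D)
include h hX

theorem lc_x2 : f X * f X = 1 := by rw [← h.mul hX hX, (bd! : X * X = 1), h.one]

theorem lc_x1 : f X ≠ 1 := mt (h.inj hX) bd!

theorem lc_ord : orderOf (f X) = 2 := orderOf_eq_prime ((pow_two _).trans (h.lc_x2 hX)) (h.lc_x1 hX)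

theorem lc_cube (a : Commute g (f X)) (b : g ^ 3 = 1) : (g * f X) ^ 3 ≠ 1 := by
  rw [a.mul_pow, b, one_mul, pow_three, h.lc_x2 hX, mul_one]
  exact h.lc_x1 hX

theorem lc_cm {k : K} (a : Commute k X) : Commute (f k) (f X) := (h.cm (h.top hX k) hX).2 a

variable {Q : Type*} [Group Q] {π : G → Q} (q : CQ (f X) π)
include q

theorem lc_z (a : Commute g (f X)) (b : Commute (π g) (π (f Z))) :
    ∃ k, Commute k Z ∧ Commute k X ∧ f k = g := by
  obtain ⟨k, c, d, rfl⟩ := h.cz (q.comm_of_comm a (h.lc_cm hX bd!) b h.z3 (by rw [h.lc_ord hX]; norm_num))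
  exact ⟨k, d, (h.cm c hX).1 a, rfl⟩

theorem lc_sig {P : Subgroup Q} [Finite Q] (a : π (f Z) ∈ P) (b : π (f A) ∈ P) (c : π (f Y) ∈ P) :
    Sig P := fun E hE hn => by
  have mF : ∀ {g}, g ∈ (E.comap q.hom).map (centralizer {f X}).subtype ↔ Commute g (f X) ∧ π g ∈ E :=
    ⟨fun ⟨y, a, b⟩ => b ▸ ⟨mem_cent.1 y.2, a⟩, fun a => ⟨⟨_, mem_cent.2 a.1⟩, a.2, rfl⟩⟩
  generalize (E.comap q.hom).map (centralizer {f X}).subtype = F at mF
  have k3 : ∀ g ∈ F, g ^ 3 = 1 → g = 1 := fun g a b => by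
    refine ((q.eq_one_iff_two (h.lc_x2 hX) (mF.1 a).1).1 (orderOf_eq_one_iff.1
      (Nat.eq_one_of_dvd_coprimes hE (E.orderOf_dvd_natCard (mF.1 a).2) (orderOf_dvd_of_pow_eq_one (by
        rw [← q.map_pow (mF.1 a).1, b, q.map_one]))))).resolve_right fun d => ?_
    exact h.lc_cube hX (Commute.one_left _) (one_pow _) (by rwa [one_mul, ← d])
  have nF : ∀ {k}, Commute k X → π (f k) ∈ P → f k ∈ 𝐍[F] := fun a b => mem_normalizer_fintype fun y d =>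
    mF.2 ⟨((h.lc_cm hX a).mul_left (mF.1 d).1).mul_left (h.lc_cm hX a).inv_left, by
      rw [q.map_conj (h.lc_cm hX a) (mF.1 d).1]
      exact conj_mem_of_mem_normalizer (hn b) (mF.1 d).2⟩
  have cm : ∀ {j k}, j ∈ 𝐍[F] → k ∈ F → (k * j * k⁻¹ * j⁻¹) ^ 3 = 1 → Commute k j := fun {j k} a b d =>
    comm_of_conj (mul_inv_eq_one.1 (k3 _ (by
      simpa only [mul_assoc] using mul_mem b (conj_mem_of_mem_normalizer a (inv_mem b))) d))
  have cJ : ∀ {v k}, jv f v ∈ 𝐍[F] → k ∈ F → k ∈ 𝐍[JJ f] → Commute k (jv f v) := fun {v k} a b d => by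
    obtain ⟨w, hw⟩ := h.memJ.1 (mul_mem (conj_mem_of_mem_normalizer d (Ch.jJ v)) (inv_mem (Ch.jJ v)))
    exact cm a b (hw ▸ h.j3 w)
  have vz : jv f (zz 0) = f Z := congrArg f jK_val.1
  have vy : jv f (zz 1) = f Y := congrArg f jK_val.2.1
  have va : jv f (ev 0) = f A := congrArg f jK_val.2.2.2.2.1
  have nz := nF bd! a
  have na := nF bd! b
  have main : ∀ k ∈ F, k ∈ 𝐍[JJ f] → k ∈ zpowers (f X) := fun k d n => by
    obtain ⟨l, l1, l2, rfl⟩ := h.cz (vz ▸ cJ (vz ▸ nz) d n)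
    have j : ∀ l ∈ sJ, f l ∈ F → f l = 1 := fun l a b => by
      obtain ⟨v, rfl⟩ := jK_surj l a
      exact k3 _ b (h.j3 v)
    rcases (bd! : ∀ l, Commute l Z → Commute l A → Commute l Y → l ∈ sJ ∨ l * X ∈ sJ) l l2
      ((h.cm l1 (h.le bd!)).1 (va ▸ cJ (va ▸ na) d n))
      ((h.cm l1 (h.le bd!)).1 (vy ▸ cJ (vy ▸ nF bd! c) d n)) with m | m
    · exact j l m d ▸ one_mem _
    · have := j _ m (h.mul l1 hX ▸ mul_mem d (mF.2 ⟨Commute.refl _, q.map_s ▸ one_mem _⟩))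
      rw [h.mul l1 hX] at this
      exact eq_inv_of_mul_eq_one_left this ▸ inv_mem (mem_zpowers _)
  have ea : ∀ k ∈ F, Commute k (f A) → k ∈ zpowers (f X) := fun k d m =>
    main k d (h.cE _ (by decide) k (va ▸ m))
  have le : F ≤ zpowers (f X) := by
    refine le_of_four h.z3 (h.pow1 bd!) (h.cm1 bd!) (h.ne1 bd!) (fun d => ?_) nz na
      (Nat.Coprime.symm (Nat.prime_three.coprime_iff_not_dvd.2 fun d => ?_)) fun k d m => ?_
    · rw [mem_zpowers_three (h.pow1 bd!), ← h.inv (h.le bd!)] at d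
      rcases d with d | d | d
      exacts [h.z1 d, absurd (h.eq (h.le bd!) (h.le bd!) d) bd!, absurd (h.eq (h.le bd!) (h.le bd!) d) bd!]
    · have := Fact.mk Nat.prime_three
      obtain ⟨y, hy⟩ := exists_prime_orderOf_dvd_card' 3 d
      rw [show y = 1 from Subtype.ext (k3 y y.2 (congrArg Subtype.val (hy ▸ pow_orderOf_eq_one y)))] at hy
      simp at hy
    rcases m with m | m | m | m
    · obtain ⟨l, l1, -, rfl⟩ := h.cz m
      refine ea _ d (cm na d ?_)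
      have a1 : A ∈ D := h.le bd!
      rw [← h.cj l1 a1, ← h.inv a1, ← h.mul (h.top hX _) (h.top hX _), ← h.pow (h.top hX _),
        (bd! : ∀ l, (l * A * l⁻¹ * A⁻¹) ^ 3 = 1), h.one]
    · exact ea k d m
    · exact main k d (h.cE (zz 0 + ev 0) (by decide) k (by rwa [h.add, vz, va]))
    · exact main k d (h.cE (zz 0 + -ev 0) (by decide) k (by rwa [h.add, h.neg, vz, va]))
  refine eq_bot_iff.2 fun x hx => ?_
  obtain ⟨g, a, rfl⟩ := q.surj x
  exact (q.ker a).2 (le (mF.2 ⟨a, hx⟩))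

theorem lc_ps [Finite Q] : ∃ ψ : K2 →* Q, PS ψ ∧ ψ (e 1) = π (f Z) := by
  obtain ⟨χ, c1, c2, c3, c4⟩ := lc_chi
  have cx : ∀ l, Commute (f (χ l)) (f X) := fun l => h.lc_cm hX (mem_cent.1 (c4.le ⟨l, rfl⟩).2.2)
  let φ : K2 →* Q := MonoidHom.mk' (fun l => π (f (χ l))) fun a b => by
    rw [map_mul, h.mul (h.top hX _) (h.top hX _), q.mul (cx a) (cx b)]
  have p : ∀ l, φ l = π (f (χ l)) := fun _ => rfl
  have p1 : φ (e 1) = π (f Z) := by rw [p, c1]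
  refine p1 ▸ exists_PS (PS4.inj2 fun d => ?_) (fun x a => ?_) (h.lc_sig hX q
    (p1 ▸ mem_map_of_mem φ bd!) (c2 ▸ mem_map_of_mem φ (bd! : e 4 ∈ PS4.J2))
    (c3 ▸ mem_map_of_mem φ (bd! : e 135 ∈ PS4.J2)))
  · rcases (q.eq_one_iff_two (h.lc_x2 hX) (h.lc_cm hX bd!)).1 (p1 ▸ d) with d | d
    exacts [h.z1 d, absurd (h.eq (h.le bd!) hX d) bd!]
  obtain ⟨g, b, rfl⟩ := q.surj x
  obtain ⟨k, k1, k2, rfl⟩ := h.lc_z hX q b (p1 ▸ a)
  rcases s1_or k with d | d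
  · obtain ⟨l, rfl⟩ := c4.ge ⟨d, mem_cent.2 k1, mem_cent.2 k2⟩
    exact ⟨l, rfl⟩
  · obtain ⟨l, m⟩ := c4.ge ⟨d, mem_cent.2 (k1.mul_left bd!), mem_cent.2 (k2.mul_left (Commute.refl _))⟩
    exact ⟨l, by rw [p, m, h.mul (h.top hX _) hX, q.mul b (Commute.refl _), q.map_s, mul_one]⟩

omit q

theorem cc : ¬ 2 ^ 11 ∣ Nat.card (centralizer ({f X} : Set G)) := by
  obtain ⟨Q, _, _, π, q⟩ := exists_CQ (f X)
  obtain ⟨ψ, a, b⟩ := h.lc_ps hX q
  rw [← q.card_mul, h.lc_ord hX]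
  rcases a.real' (g := π (f R)) (by
    rw [b, ← q.map_conj (h.lc_cm hX bd!) (h.lc_cm hX bd!), ← q.map_inv (h.lc_cm hX bd!),
      h.cj1 (c := Z⁻¹) bd!, h.inv (h.le bd!)]) with c | ⟨⟨c⟩⟩ | ⟨⟨c⟩⟩
  · have d : Nat.card ψ.range = 648 := by
      rw [← Nat.card_congr (MonoidHom.ofInjective a.inj).toEquiv, TG.card]; rfl
    have d1 := card_le_two (A := ⊤) (K := ψ.range) fun x _ y _ => by
      rcases a.na.1 (c.ge (mem_top x)) with p | p
      · exact Or.inl (a.cu _ (comm_of_conj p))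
      rcases a.na.1 (c.ge (mem_top y)) with r | r
      · exact Or.inr (Or.inl (a.cu _ (comm_of_conj r)))
      refine Or.inr (Or.inr (a.cu _ (comm_of_conj ?_)))
      rw [show ∀ w, x * y * w * (x * y)⁻¹ = x * (y * w * y⁻¹) * x⁻¹ from fun w => by group, r, conj_inv',
        p, inv_inv]
    have d2 := card_subgroup_dvd_card ψ.range
    rw [inf_top_eq, card_top, d] at d1
    rw [d] at d2
    have := Nat.card_pos (α := Q)
    generalize Nat.card Q = n at *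
    omega
  · rw [Nat.card_congr c.toEquiv,
      S0814.result (F := ZMod 3) 3 1 le_rfl (by simp) 2 le_rfl fun _ => le_rfl, PS4.card43]
    decide
  · rw [Nat.card_congr c.toEquiv, card62]
    decide

theorem par (a : Commute g (f X)) (b : g ^ 3 = 1) :
    ∃ c, Commute c (f X) ∧ c * g * c⁻¹ ∈ JJ f := by
  have := Fact.mk Nat.prime_three
  obtain ⟨Q, _, _, π, q⟩ := exists_CQ (f X)
  obtain ⟨ψ, s, s1⟩ := h.lc_ps hX q
  obtain ⟨x, -, l⟩ := s.syl.exists_cj_le (isPGroup_zpowers (x := π g)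
    ⟨1, by rw [pow_one, ← q.map_pow a, b, q.map_one]⟩) le_top
  obtain ⟨c, c1, rfl⟩ := q.surj x
  obtain ⟨y, -, m⟩ := l (conj_mem_cj _ (mem_zpowers _))
  obtain ⟨k, k1, k2, k3⟩ := h.lc_z hX q ((c1.mul_left a).mul_left c1.inv_left) (by
    rw [q.map_conj c1 a, ← m, ← s1]
    exact ((bd! : ∀ k : K2, Commute k (e 1)) y).map ψ)
  obtain ⟨d, -, d1, d2⟩ := (bd! : ∀ k, Commute k Z → Commute k X → k ^ 3 = 1 →
    ∃ d ∈ lR, Commute d X ∧ d * k * d⁻¹ ∈ sJ) k k1 k2 (h.inj (h.top hX _) (by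
      rw [h.pow (h.top hX _), k3, conj_pow, b]; simp))
  obtain ⟨v, hv⟩ := jK_surj _ d2
  refine ⟨f d * c, (h.lc_cm hX d1).mul_left c1, h.memJ.2 ⟨v, ?_⟩⟩
  rw [jv, hv, h.cj (h.top hX _) (h.top hX _), k3]
  group

theorem lc_ncd {n : G} {ε : V4} (a : Kp f n (sp 1 ε)) (b : Sn ε) {i : Fin 4} (c : ε i = 1) :
    ¬ IsConj (f X) n := fun d => by
  obtain ⟨m, rfl⟩ := isConj_iff.1 d
  obtain ⟨w, w1, w2⟩ := h.par hX (g := m⁻¹ * jv f (ev i) * m) (comm_conj_iff.1 (a.1.comm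
    ((by decide : ∀ (ε : V4) i, ε i = 1 → sp 1 ε (ev i) = ev i) ε i c))).symm
      (by simpa using conj_pow (i := 3) (a := m⁻¹) (b := jv f (ev i)) |>.trans (by rw [h.j3]; simp))
  obtain ⟨u, hu⟩ := h.memJ.1 w2
  have q1 : ∀ i, q4 (ev i) = 1 := by decide
  have t : q4 u = q4 (ev i) := h.ty (isConj_iff.2 ⟨m * w⁻¹, by rw [hu]; group⟩)
  obtain ⟨n, L, n1, n2⟩ := h.tr (u := u) (v := ev i) (by rintro rfl; revert t; rw [q1]; decide)
    ((by decide : ∀ i, ev i ≠ 0) i) t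
  have mN : m * w⁻¹ ∈ 𝐍[JJ f] := (mul_mem_cancel_right (inv_mem (h.nrm n1.1))).1
    (h.cE _ (q1 i) _ (comm_of_conj (by
      nth_rw 1 [← n1.1.cj n2]
      rw [hu]; group)))
  have e1 : m * f X * m⁻¹ = m * w⁻¹ * f X * (m * w⁻¹)⁻¹ := by
    nth_rw 1 [← conj_of_comm w1.inv_left]; group
  rw [e1] at a
  generalize m * w⁻¹ = r at *
  obtain ⟨M, hM⟩ := h.exAc (inv_mem mN)
  rcases (by decide : ∀ ε : V4, Sn ε → (∀ v, sp 1 ε v = v) ∨ ∃ j, sp 1 ε (ev j) = -ev j) ε b with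
    p | ⟨j, p⟩
  · exact h.lc_x1 hX (by simpa using h.kp_one a p)
  refine (by decide : ∀ v, sp (swap 2 3) 1 v = -v → q4 v ≠ 1) (M (ev j)) (h.jinj ?_)
    ((h.isoL hM _).trans (q1 j))
  have := a.1.cj p
  rw [← h.acX hX, h.neg, ← hM, ← conj_inv', ← h.neg, ← this]
  group

theorem ncd {n : G} {ε : V4} (a : Kp f n (sp 1 ε)) (b : Sn ε) : ¬ IsConj (f X) n := by
  rcases (by decide : ∀ ε : V4, Sn ε → (∃ i, ε i = 1) ∨ ε = fun _ => -1) ε b with ⟨i, c⟩ | rfl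
  · exact h.lc_ncd hX a b c
  rw [h.kp_eq a h.kpR fun _ => rfl]
  refine fun d => h.lc_ncd hX (ε := ![1, -1, -1, -1]) ((h.kpR.mul h.kpT).cong (by decide)) (by decide)
    (i := 0) rfl (d.trans (isConj_iff.2 ⟨f N⁻¹, ?_⟩))
  rw [h.cj1 (c := R * T) bd!, h.mul1 (c := R * T) bd!]

end LC

end Cfsg.Agent.O8T
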