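import Cfsg.Agent.Loc3.O8Y

/-!
The exceptional configuration does not occur.  Read `Loc3/O8D`, `O8F`, `O8G`, `O8Y`,
`PrW` (`NF.cases`), `PrX`, `PrY` (`SX.exists_SY`, `SY.exists_θ`).
-/

set_option autoImplicit false
set_option maxRecDepth 100000
set_option synthInstance.maxHeartbeats 400000
set_option synthInstance.maxSize 4000

namespace Cfsg.Agent.O8T

open Subgroup Cfsg Cfsg.Agent.PLocal.Amb Cfsg.Agent.Loc3 Cfsg.Agent.Comp Cfsg.Agent.LES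
open Cfsg.Agent.X32 (TG)
open Cfsg.Agent.X32.TG
open Cfsg.Agent.Loc3.Pr hiding V rf
open Cfsg.Agent.TT (XS)
open Cfsg.Agent.PS4 (K2 l2)
open Equiv (Perm swap)
open scoped commutatorElement

namespace Le

abbrev a9 : Perm (Fin 9) := (swap 0 1 * swap 1 2)⁻¹
abbrev b9 : Perm (Fin 9) := (swap 3 4 * swap 4 5)⁻¹
abbrev c9 : Perm (Fin 9) := swap 6 7 * swap 7 8

theorem s9T : ∀ T : Perm (Fin 9), Commute T a9 → Commute T c9 → T * T = 1 → T * b9 * T⁻¹ = b9⁻¹ →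
    T ∈ [swap 3 4, swap 4 5, swap 3 5] := pd!

theorem s9R : ∀ T : Perm (Fin 9), Commute T a9 → Commute T b9 → T * T = 1 → T * c9 * T⁻¹ = c9⁻¹ →
    T ∈ [swap 6 7, swap 7 8, swap 6 8] := pd!

theorem s9V : ∀ T ∈ ([swap 3 4, swap 4 5, swap 3 5] : List (Perm (Fin 9))),
    ∀ V : Perm (Fin 9), Commute V a9 → Commute V T → V * V = 1 → V ≠ 1 →
      V * (c9 * V * c9⁻¹) * (c9⁻¹ * V * c9) = 1 →
    ∀ W : Perm (Fin 9), Commute W c9 → Commute W T → W * W = 1 → W ≠ 1 →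
      W * (a9 * W * a9⁻¹) * (a9⁻¹ * W * a9) = 1 →
    V * W * (c9 * V * c9⁻¹) * W * (c9⁻¹ * V * c9) * W * V * W = c9⁻¹ ∧
    ∀ R ∈ ([swap 6 7, swap 7 8, swap 6 8] : List (Perm (Fin 9))), R * W * R⁻¹ = W ∧
      ∀ X ∈ [V, c9 * V * c9⁻¹, c9⁻¹ * V * c9], R * X * R⁻¹ ∈ [V, c9 * V * c9⁻¹, c9⁻¹ * V * c9] :=
  pd!

theorem core {C Γ : Type*} [Group C] [Group Γ] (φ : C →* Γ) (θ : Perm (Fin 9) →* Γ)
    (inj : Function.Injective θ) (hk : ∀ k, φ k = 1 → k ^ 3 = 1 ∧ ∀ g, Commute k g)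
    {g1 g2 g3 t v w r : C} (ha : θ a9 = φ g3) (hb : θ b9 = φ g1) (hc : θ c9 = φ g2)
    (mt : φ t ∈ θ.range) (mv : φ v ∈ θ.range) (mw : φ w ∈ θ.range) (mr : φ r ∈ θ.range)
    (t2 : t * t = 1) (t3 : Commute t g3) (t4 : Commute t g2) (t5 : t * g1 * t⁻¹ = g1⁻¹)
    (v2 : v * v = 1) (v1 : v ≠ 1) (v3 : Commute v g3) (v4 : Commute v t)
    (v5 : v * (g2 * v * g2⁻¹) * (g2⁻¹ * v * g2) = 1)
    (w2 : w * w = 1) (w1 : w ≠ 1) (w3 : Commute w g2) (w4 : Commute w t)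
    (w5 : w * (g3 * w * g3⁻¹) * (g3⁻¹ * w * g3) = 1)
    (r2 : r * r = 1) (r3 : Commute r g3) (r4 : Commute r g1) (r5 : r * g2 * r⁻¹ = g2⁻¹)
    (g23 : g2 ^ 3 = 1) {Λ : Subgroup C} (l1 : v ∈ Λ) (l2 : g2 * v * g2⁻¹ ∈ Λ)
    (l3 : g2⁻¹ * v * g2 ∈ Λ) (l4 : w ∈ Λ) : g2 ∈ Λ := by
  obtain ⟨T, hT⟩ := mt
  obtain ⟨V, hV⟩ := mv
  obtain ⟨W, hW⟩ := mw
  obtain ⟨R, hR⟩ := mr
  have cm : ∀ {X Y x y}, θ X = φ x → θ Y = φ y → Commute x y → Commute X Y := fun a b c =>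
    inj (by rw [map_mul, map_mul, a, b, ← map_mul, ← map_mul, c.eq])
  have sq : ∀ {X x}, θ X = φ x → x * x = 1 → X * X = 1 := fun a c =>
    inj (by rw [map_mul, a, ← map_mul, c, map_one, map_one])
  have iv : ∀ {X Y x y}, θ X = φ x → θ Y = φ y → x * y * x⁻¹ = y⁻¹ → X * Y * X⁻¹ = Y⁻¹ :=
    fun a b c => inj (by
      rw [map_mul, map_mul, map_inv, map_inv, a, b, ← map_inv, ← map_inv, ← map_mul, ← map_mul, c])
  have pr : ∀ {X Y x y}, θ X = φ x → θ Y = φ y → x * (y * x * y⁻¹) * (y⁻¹ * x * y) = 1 →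
      X * (Y * X * Y⁻¹) * (Y⁻¹ * X * Y) = 1 := fun a b c => inj (by
    have := congrArg φ c
    simpa only [map_mul, map_inv, map_one, a, b] using this)
  have lift : ∀ {p q : C}, p * p = 1 → q * q = 1 → φ p = φ q → p = q := fun {p q} a b c => by
    obtain ⟨k3, kc⟩ := hk (q⁻¹ * p) (by rw [map_mul, map_inv, c, inv_mul_cancel])
    have e : p = q * (q⁻¹ * p) := by group
    generalize q⁻¹ * p = k at *
    subst e
    rw [(kc q).mul_mul_mul_comm, b, one_mul] at a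
    rw [pow_succ, pow_two, a, one_mul] at k3
    rw [k3, mul_one]
  have ne : ∀ {X x}, θ X = φ x → x * x = 1 → x ≠ 1 → X ≠ 1 := fun {X x} a b c d =>
    c (lift b (mul_one 1) (by rw [← a, d, map_one, map_one]))
  obtain ⟨e1, e2⟩ := s9V T (s9T T (cm hT ha t3) (cm hT hc t4) (sq hT t2) (iv hT hb t5))
    V (cm hV ha v3) (cm hV hT v4) (sq hV v2) (ne hV v2 v1) (pr hV hc v5)
    W (cm hW hc w3) (cm hW hT w4) (sq hW w2) (ne hW w2 w1) (pr hW ha w5)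
  obtain ⟨e3, e4⟩ := e2 R (s9R R (cm hR ha r3) (cm hR hb r4) (sq hR r2) (iv hR hc r5))
  have cj2 : ∀ (g : C) {p : C}, p * p = 1 → g * p * g⁻¹ * (g * p * g⁻¹) = 1 := fun g p a => by
    rw [conj_mul, a]; group
  have v2' := cj2 g2 v2
  have v2'' := cj2 g2⁻¹ v2
  rw [inv_inv] at v2''
  have h1 : θ (c9 * V * c9⁻¹) = φ (g2 * v * g2⁻¹) := by simp only [map_mul, map_inv, hc, hV]
  have h2 : θ (c9⁻¹ * V * c9) = φ (g2⁻¹ * v * g2) := by simp only [map_mul, map_inv, hc, hV]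
  have key : ∀ {X x}, X ∈ [V, c9 * V * c9⁻¹, c9⁻¹ * V * c9] → θ X = φ x → x * x = 1 →
      r * x * r⁻¹ ∈ Λ := fun {X x} a b c => by
    have e : θ (R * X * R⁻¹) = φ (r * x * r⁻¹) := by simp only [map_mul, map_inv, hR, b]
    have d := e4 X a
    simp only [List.mem_cons, List.not_mem_nil, or_false] at d
    rcases d with d | d | d <;> rw [d] at e
    · rw [lift (cj2 r c) v2 (e.symm.trans hV)]; exact l1
    · rw [lift (cj2 r c) v2' (e.symm.trans h1)]; exact l2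
    · rw [lift (cj2 r c) v2'' (e.symm.trans h2)]; exact l3
  have k4 : r * w * r⁻¹ ∈ Λ := by
    have e : θ (R * W * R⁻¹) = φ (r * w * r⁻¹) := by simp only [map_mul, map_inv, hR, hW]
    rw [e3] at e
    rw [lift (cj2 r w2) w2 (e.symm.trans hW)]; exact l4
  let Λ' : Subgroup C := Λ ⊓ Λ.comap (MulAut.conj r).toMonoidHom
  have m1 : v ∈ Λ' := ⟨l1, key (by simp) hV v2⟩
  have m2 : g2 * v * g2⁻¹ ∈ Λ' := ⟨l2, key (by simp) h1 v2'⟩
  have m3 : g2⁻¹ * v * g2 ∈ Λ' := ⟨l3, key (by simp) h2 v2''⟩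
  have m4 : w ∈ Λ' := ⟨l4, k4⟩
  have m := mul_mem (mul_mem (mul_mem (mul_mem (mul_mem (mul_mem (mul_mem m1 m4) m2) m4) m3) m4) m1) m4
  have e5 : φ (g2 * (v * w * (g2 * v * g2⁻¹) * w * (g2⁻¹ * v * g2) * w * v * w)) = 1 := by
    have := congrArg θ e1
    rw [map_mul θ _ W, map_mul θ _ V, map_mul θ _ W, map_mul θ _ (c9⁻¹ * V * c9), map_mul θ _ W,
      map_mul θ _ (c9 * V * c9⁻¹), map_mul θ V W, h1, h2, hV, hW, map_inv, hc] at this
    rw [map_mul φ g2, map_mul φ _ w, map_mul φ _ v, map_mul φ _ w, map_mul φ _ (g2⁻¹ * v * g2),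
      map_mul φ _ w, map_mul φ _ (g2 * v * g2⁻¹), map_mul φ v w, this, mul_inv_cancel]
  generalize v * w * (g2 * v * g2⁻¹) * w * (g2⁻¹ * v * g2) * w * v * w = p at m e5
  obtain ⟨-, kc⟩ := hk _ e5
  have n1 : p ∈ Λ := m.1
  have n2 : r * p * r⁻¹ ∈ Λ := m.2
  have e6 : r * p * r⁻¹ = g2 * (g2 * p) := by
    calc r * p * r⁻¹ = (r * g2 * r⁻¹)⁻¹ * (r * (g2 * p) * r⁻¹) := by group
      _ = g2 * (g2 * p) := by rw [r5, ← (kc r).eq]; group
  have n3 := mul_mem n2 (inv_mem n1)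
  rw [e6, show g2 * (g2 * p) * p⁻¹ = g2 * g2 by group, ← inv_eq_sq g23] at n3
  exact inv_mem_iff.1 n3

theorem kN : ∀ k : K, Commute k Z → Commute k T → k * N * k⁻¹ ∈ lR := bd!

theorem kg : g2 ∈ s1 ∧ N ∈ s1 ∧ ¬ Commute g2 N := bd!

end Le

variable {G : Type*} [Group G] [Finite G] {D : Subgroup K} {f : K → G} {v : G}

/-- Write `g1, …, g4 = jv f (ev 0), …, jv f (ev 3)`.  Take `YF f σ π x` with `σ 0 = 3, σ 1 = 0, σ 2 = 1,
σ 3 = 2`: `Γ = C(g4)/g4`, `x (e 1) = π g1`, `x (e 3) = π g2`, `x (e 9) = π g3`; `nf`, `NF.cases`.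
* If `N(x.range) = ⊤`, then `v ∈ N(J)`; modulo `J` the relation `pr` reads `v³ ∈ J`, so `v ∈ J`, `v = 1`.
* Otherwise `SX`, `SY`, `θ : Perm (Fin 9) →* Γ` injective (`inj_of_perm`) with `N(x.range), ψ.range ≤ θ.range`,
  `π g3 ~ a = (0 1 2)^±`, `π g1 ~ b = (3 4 5)^±`, `π g2 ~ c = (6 7 8)^±`.  `π v ∈ θ.range` by `SX.fac`.
  Let `c23` be the κ-lift of `sp (swap 1 2) 1` (`exm`), `w = c23 v c23⁻¹`, `r2` the κ-lift of
  `sp 1 (sn 1)`; `t, c23, r2 ∈ N(J) ∩ C(g4)`.  In `S₉`: `t` inverts `b` and commutes with `a`, `c`, so it is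
  a transposition of `{3,4,5}` fixing a point `∞`; `v ≠ 1` is an involution commuting with `a`, `t` with
  `v v^c v^{c⁻¹} = 1`, so `v` is one of the three double transpositions of `{∞,6,7,8}`; likewise `w` (it
  commutes with `c`, `t`, and `w w^a w^{a⁻¹} = 1`) is a double transposition of `{∞,0,1,2}`; `r2` is a
  transposition of `{6,7,8}`.  Let `Λ = C(f lR) ⊓ C(g4)` and `Λ' = Λ ⊓ r2⁻¹ Λ r2`.  `g2, g3, c23` normalise
  `f lR` (K-fact: `lR` is normalised by `C_K(Z, T)`, and they commute with `z`, `t`), so the six involutions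
  `v^{g2^i}`, `w^{g3^i}` lie in `Λ`; `r2` permutes them (true in `S₉`; two involutions of `C(g4)` with the
  same image are equal), so they lie in `Λ'`.  In `S₉` they generate `A₇ ∋ c`: `⁅v, w⁆ = (∞ 6 0)^±` for
  `v = (∞ 6)(7 8)`, `w = (∞ 0)(1 2)`, etc.; one fixed word in `v, v^c, v^{c⁻¹}, w` equals `c^±` in all
  `27` cases.  So `p = g2^± g4^i ∈ Λ'`; `r2 p r2⁻¹ = g2^∓ g4^i ∈ Λ` too, so `g2` centralises `f lR`, against
  the K-fact `¬ Commute g2 N`. -/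
theorem NJ.notBad (h : NJ D f) : ¬ Bad D f v := fun hb => by
  obtain ⟨Γ, _, _, π, x, y⟩ := h.toCh.exists_YF (f := f) (swap 0 1 * swap 1 2 * swap 2 3)⁻¹
  have s0 : (swap 0 1 * swap 1 2 * swap 2 3 : Perm (Fin 4))⁻¹ 0 = 3 := by decide
  have q : CQ (jv f (ev 3)) π := s0 ▸ y.q
  have nrm : ∀ {g}, Commute g (jv f (ev 3)) → (π g ∈ 𝐍[x.range] ↔ g ∈ 𝐍[JJ f]) := fun a =>
    y.nrm h (s0.symm ▸ a)
  have x1 : x (e 1) = π (jv f (ev 0)) := by rw [y.val]; congr 2; decide +kernel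
  have x3 : x (e 3) = π (jv f (ev 1)) := by rw [y.val]; congr 2; decide +kernel
  have x9 : x (e 9) = π (jv f (ev 2)) := by rw [y.val]; congr 2; decide +kernel
  obtain ⟨ρ, s, nf⟩ := y.nf h hb.hX
  have vi : v⁻¹ = v := inv_eq_of_mul_eq_one_right hb.v2
  rcases nf.cases with top | ⟨ν, t, ψ, sx⟩
  · have n := (nrm hb.c3).1 (top _)
    have j := Ch.jJ (f := f) (ev 1)
    have e : v = jv f (ev 1) * jv f (ev 1) * (v * jv f (ev 1) * v⁻¹)⁻¹ * (jv f (ev 1))⁻¹ := by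
      have := hb.pr
      rw [vi]
      generalize jv f (ev 1) = g at *
      calc v = g * g * (v * g * v)⁻¹ * (v * (g * v * g⁻¹) * (g⁻¹ * v * g)) * g⁻¹ := by group
        _ = _ := by rw [this, mul_one]
    have m : v ∈ JJ f := e ▸ mul_mem (mul_mem (mul_mem j j)
      (inv_mem (conj_mem_of_mem_normalizer n j))) (inv_mem j)
    obtain ⟨u, rfl⟩ := h.memJ.1 m
    have := h.j3 u
    rw [pow_succ, pow_two, hb.v2, one_mul] at this
    exact hb.v1 this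
  obtain ⟨Ψ, sy⟩ := sx.exists_SY nf.ca
  obtain ⟨θ, hN, hψ, -, ea, eb, ec⟩ := sy.exists_θ
  have inj : Function.Injective θ := inj_of_perm (by norm_num) θ
    (x := ⟨swap 6 7 * swap 7 8, pd!⟩) (ec ▸ nf.ne1 bd!)
  obtain ⟨c, kc⟩ := h.exm (σ := swap 1 2) (ε := 1) (Or.inr hb.hX) (by decide)
  obtain ⟨r, kr⟩ := h.exm (σ := 1) (ε := sn 1) (Or.inr hb.hX) (by decide)
  have c4 : Commute c (jv f (ev 3)) := kc.1.comm (by decide)
  have r4 : Commute r (jv f (ev 3)) := kr.1.comm (by decide)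
  have t4 : Commute (f T) (jv f (ev 3)) := h.acT.comm (by decide)
  have c23 : c * jv f (ev 1) * c⁻¹ = jv f (ev 2) := kc.1.cj (by decide)
  have c32 : c * jv f (ev 2) * c⁻¹ = jv f (ev 1) := kc.1.cj (by decide)
  have ct : Commute c (f T) := h.kT kc (by decide)
  have w4 : Commute (c * v * c⁻¹) (jv f (ev 3)) := (c4.mul_left hb.c3).mul_left c4.inv_left
  have mv : π v ∈ θ.range := by
    obtain ⟨τ, k, b, e⟩ := sx.fac (π v) (by
      rw [x9, Commute, SemiconjBy, ← q.mul hb.c3 (h.jc _ _), ← q.mul (h.jc _ _) hb.c3, hb.c2.eq])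
    rw [e]
    exact mul_mem (hψ ⟨τ, rfl⟩) (zpowers_le.2 (hN (le_normalizer ⟨_, rfl⟩)) b)
  have mc : π c ∈ θ.range := hN ((nrm c4).2 (h.nrm kc.1))
  have zv : f Z = jv f (zz 0) := by rw [jv, jK_val.1]
  have cN : ∀ g, Commute g (f Z) → Commute g (f T) → Commute (g * v * g⁻¹) (f N) := fun g a b => by
    obtain ⟨k, hk, k1, e⟩ := h.cz a.inv_left
    have k2 : Commute k T := (h.cm hk (h.le bd!)).1 (e ▸ b.inv_left)
    have := hb.cr _ (Le.kN k k1 k2)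
    rw [h.cj hk (h.le Le.kg.2.1), e] at this
    simpa [mul_assoc] using Commute.cj this g
  have jT : Commute (jv f (ev 1)) (f T) := (h.acT.comm (by decide)).symm
  have := Le.core q.hom θ inj (fun k a => ?_)
    (g1 := ⟨_, mem_cent.2 (h.jc (ev 0) _)⟩) (g2 := ⟨_, mem_cent.2 (h.jc (ev 1) _)⟩)
    (g3 := ⟨_, mem_cent.2 (h.jc (ev 2) _)⟩) (t := ⟨_, mem_cent.2 t4⟩) (v := ⟨_, mem_cent.2 hb.c3⟩)
    (w := ⟨_, mem_cent.2 w4⟩) (r := ⟨_, mem_cent.2 r4⟩)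
    (by rw [map_inv, ea, map_inv, inv_inv, x9]; rfl) (by rw [map_inv, eb, map_inv, inv_inv, x1]; rfl)
    (ec.trans x3) (hN ((nrm t4).2 (h.nrm h.acT))) mv
    (by
      change π (c * v * c⁻¹) ∈ θ.range
      rw [q.map_conj c4 hb.c3]
      exact mul_mem (mul_mem mc mv) (inv_mem mc))
    (hN ((nrm r4).2 (h.nrm kr.1)))
    (Subtype.ext h.t2) (Subtype.ext (h.acT.comm (by decide))) (Subtype.ext jT.symm)
    (Subtype.ext ((h.acT.cj (by decide)).trans (h.neg _)))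
    (Subtype.ext hb.v2) (fun a => hb.v1 (congrArg Subtype.val a)) (Subtype.ext hb.c2)
    (Subtype.ext hb.ct) (Subtype.ext hb.pr)
    (Subtype.ext (by
      change c * v * c⁻¹ * (c * v * c⁻¹) = 1
      rw [conj_mul, hb.v2]; group))
    (fun a => hb.v1 (by simpa using congrArg Subtype.val a))
    (Subtype.ext (by have := Commute.cj hb.c2 c; rw [c32] at this; exact this))
    (Subtype.ext ((ct.mul_left hb.ct).mul_left ct.inv_left))
    (Subtype.ext (by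
      change c * v * c⁻¹ * (jv f (ev 2) * (c * v * c⁻¹) * (jv f (ev 2))⁻¹) *
        ((jv f (ev 2))⁻¹ * (c * v * c⁻¹) * jv f (ev 2)) = 1
      have := congrArg (fun g => c * g * c⁻¹) hb.pr
      simp only [mul_one, mul_inv_cancel] at this
      rw [← c23, ← this]; group))
    (Subtype.ext (h.dsq kr (by decide))) (Subtype.ext (kr.1.comm (by decide)))
    (Subtype.ext (kr.1.comm (by decide))) (Subtype.ext ((kr.1.cj (by decide)).trans (h.neg _)))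
    (Subtype.ext (h.j3 _)) (Λ := (centralizer {f N}).subgroupOf _)
    (mem_cent.2 (hb.cr N bd!)) (mem_cent.2 (cN _ (by rw [zv]; exact h.jc _ _) jT))
    (mem_cent.2 (by simpa using cN (jv f (ev 1))⁻¹ (by rw [zv]; exact (h.jc _ _).inv_left) jT.inv_left))
    (mem_cent.2 (cN _ (by rw [zv]; exact kc.1.comm (by decide)) ct))
  · have e : jv f (ev 1) = f g2 := by rw [jv, jK_val.2.2.2.2.2.1]
    refine Le.kg.2.2 ((h.cm (h.le Le.kg.1) (h.le Le.kg.2.1)).1 ?_)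
    rw [← e]
    exact mem_cent.1 this
  · obtain ⟨i, hi⟩ := (q.ker (mem_cent.1 k.2)).1 a
    refine ⟨Subtype.ext ?_, fun g => Subtype.ext ?_⟩
    · change (k : G) ^ 3 = 1
      rw [← hi, ← zpow_natCast, ← zpow_mul, mul_comm, zpow_mul, zpow_natCast, h.j3, one_zpow]
    · change (k : G) * g = g * k
      rw [← hi]
      exact ((mem_cent.1 g.2).zpow_right i).symm.eq


end Cfsg.Agent.O8T
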