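import Cfsg.Agent.Loc3.O8X0

/-!
`AX x W M` with `Γ ≤ 2³:3` forces `M = G`.  Read `Loc3/O8X0`, `L43/Core`.
`α`, `κ` are from `exists_ak`, `r₁, r₂, r₃ = κ (e 6), κ (e 12), κ (e 24)`, `d = κ (e 42) = r₁ r₂ r₃`.
-/

set_option autoImplicit false
set_option maxRecDepth 100000
set_option synthInstance.maxHeartbeats 400000
set_option synthInstance.maxSize 4000

namespace Cfsg.Agent.O8T

open Subgroup Cfsg Cfsg.Agent.PLocal.Amb Cfsg.Agent.Loc3 Cfsg.Agent.Comp Cfsg.Agent.LES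
open Cfsg.Agent.X32 (TG)
open Cfsg.Agent.X32.TG
open Cfsg.Agent.Loc3.Pr hiding V rf
open Cfsg.Agent.TT (XS)
open Cfsg.Agent.PS4 (K2 l2)
open Equiv (Perm swap)
open scoped commutatorElement

variable {G : Type*} [Group G] [Finite G] {x : Pr.V →* G} {W M : Subgroup G} {g r : G} {k : H}

namespace AX

variable (h : AX x W M)
include h

omit [Finite G] in
theorem ne1 {v : Pr.V} (a : v ≠ 1) : x v ≠ 1 := fun c => a (h.inj (c.trans (map_one x).symm))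

omit [Finite G] in
theorem actJ (a : Act x g 1) : g ∈ x.range := h.cent g fun v => a.comm (ac_one v)

omit [Finite G] in
theorem dgm (a : P8 k) : k ∈ Gam x ⊤ := by
  obtain ⟨i, -, j, -, l, -, c⟩ := (bd! : ∀ k : H, P8 k → ∃ i ∈ [0, 1], ∃ j ∈ [0, 1], ∃ l ∈ [0, 1],
    k = e 6 ^ i * e 12 ^ j * e 24 ^ l) k a
  exact c ▸ mul_mem (mul_mem (pow_mem (h.dg _ bd!) i) (pow_mem (h.dg _ bd!) j)) (pow_mem (h.dg _ bd!) l)

omit [Finite G] in
theorem nzp {u v : Pr.V} (a : u ∉ [1, v, v⁻¹]) : x u ∉ zpowers (x v) := fun c => by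
  rw [mem_zpowers_three (xcube x v), ← map_inv, ← map_one x] at c
  simp only [h.inj.eq_iff] at c
  exact a (by simpa using c)

omit h [Finite G] in
theorem p3 : IsPGroup 3 x.range := isPGroup_iff.2 (by rintro _ ⟨v, rfl⟩; exact ⟨1, xcube x v⟩)

/-- involutions with the same action are conjugate under `J₀` -/
theorem cj2 {s : G} (a : Act x r k) (b : Act x s k) (c : r * r = 1) (d : s * s = 1) :
    ∃ v, x v * s * (x v)⁻¹ = r := by
  obtain ⟨_, ⟨v, rfl⟩, f⟩ := conj2 p3 c d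
    (h.actJ ((a.mul b).cong ((a.mul a).eq h.inj (c ▸ Act.one))))
  exact ⟨v, f⟩

theorem kap : ∃ (α : G → H) (κ : Gam x ⊤ →* G), WH M (W ⊔ x.range) α ∧ (∀ n k, Act x n k → α n = k) ∧
    (∀ m ∈ M, α m ∈ Gam x ⊤) ∧ ∀ k, Act x (κ k) k := by
  obtain ⟨α, κ, a, b, c, d, f⟩ := h.exists_ak
  exact ⟨α, MonoidHom.mk' (fun k => κ k) fun k l => f _ k.2 _ l.2, a, b, c, fun k => d _ k.2⟩

theorem cr (pa : ∀ k ∈ Gam x ⊤, PA k) (a : k ∈ (es [6, 12, 24] : List H)) (b : Act x r k) (c : r * r = 1)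
    (d : Commute g r) : g ∈ M := by
  obtain ⟨u, hu, v, hv, ⟨u1, v1, nu, s1, s2, ku, kv, k1, k2⟩, f1, f2, f3⟩ := (bd! :
    ∀ k ∈ (es [6, 12, 24] : List H), ∃ u ∈ (es [1, 3, 9] : List Pr.V), ∃ v ∈ (es [1, 3, 9] : List Pr.V),
      (u ≠ 1 ∧ v ≠ 1 ∧ u ∉ [1, v, v⁻¹] ∧ u * v ≠ 1 ∧ u * v⁻¹ ≠ 1 ∧ ac k u = u ∧ ac k v = v ∧ k ≠ 1 ∧
        k * k = 1) ∧ (∀ w, ac k w = w → ∃ a ∈ [1, u, u⁻¹], ∃ b ∈ [1, v, v⁻¹], w = a * b) ∧
      (∀ l, ac l u = u → ac l v = v → l = 1 ∨ l * k = 1) ∧ ∀ l, PA l → Commute l k →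
        (ac l u = u ∨ ac l u = u⁻¹) ∧ (ac l v = v ∨ ac l v = v⁻¹)) k a
  have hD : closure ({x u, x v} : Set G) = x.range ⊓ centralizer {r} := le_antisymm
    ((closure_le _).2 (Set.pair_subset ⟨⟨_, rfl⟩, mem_cent.2 (b.comm ku).symm⟩
      ⟨⟨_, rfl⟩, mem_cent.2 (b.comm kv).symm⟩)) (by
      rintro _ ⟨⟨w, rfl⟩, c⟩
      obtain ⟨p, hp, q, hq, rfl⟩ := f1 w (b.fix h.inj (mem_cent.1 c).symm)
      exact map_mul x p q ▸ mul_mem (zpowers_le.2 mem_l (mem_zp hp)) (zpowers_le.2 mem_r (mem_zp hq)))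
  have nM : ∀ n ∈ 𝐍[closure ({x u, x v} : Set G)], n ∈ M := fun n hn => by
    obtain ⟨w, f⟩ := (hD.le (conj_mem_of_mem_normalizer hn mem_l)).1
    exact (h.uf u u1).2 n (f ▸ h.xM w)
  obtain ⟨-, κ, -, -, -, κA⟩ := h.kap
  obtain ⟨j, hj⟩ := h.cj2 b (κA ⟨k, h.dg k a⟩) c (hsq (Subtype.ext k2))
  have at' : Act x (x j * κ ⟨e 42, h.dgm bd!⟩ * (x j)⁻¹) (e 42) :=
    (((Act.self j).mul (κA _)).mul (Act.self j).inv).cong (by simp)
  have iv : ∀ v : Pr.V, ac (e 42) v = v⁻¹ := bd!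
  have D : L43.D2 r (x u) (x v) (x j * κ ⟨e 42, h.dgm bd!⟩ * (x j)⁻¹) := by
    refine ⟨c, fun f => k1 ((f ▸ b).eq h.inj Act.one), xcube x u, xcube x v, xcomm .., (b.comm ku).symm,
      (b.comm kv).symm, h.ne1 v1, h.nzp nu, fun g c1 c2 c3 => ?_, fun n c1 c2 => ?_,
      hj ▸ Commute.cj (Commute.map (Subtype.ext ((bd! : ∀ k : H, e 42 * k = k * e 42) k)) κ) _,
      at'.inverts (iv u), at'.inverts (iv v)⟩
    · obtain ⟨l, p⟩ := h.mon (h.cN hu c2)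
      rw [hD]
      exact (f2 l (p.fix h.inj c2) (p.fix h.inj c3)).imp (fun f => ⟨h.actJ (p.cong f), mem_cent.2 c1⟩)
        fun f => ⟨h.actJ ((p.mul b).cong f), mem_cent.2 (c1.mul_left (Commute.refl r))⟩
    obtain ⟨w, hw, n, l, p, rfl⟩ := h.fac n (nM n c2)
    have q := f3 l (pa l ⟨n, trivial, p⟩)
      ((p.mul b).eq h.inj ((h.split hw p.norm b.norm c1).2.eq ▸ b.mul p))
    have s : ∀ y, x y ∈ closure ({x u, x v} : Set G) → w * n * x y * (w * n)⁻¹ = x (ac l y) := fun y hy => by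
      have t := (hD.le (conj_mem_of_mem_normalizer c2 hy)).1
      rw [show w * n * x y * (w * n)⁻¹ = w * (n * x y * n⁻¹) * w⁻¹ by group, p] at t ⊢
      refine mul_inv_eq_one.1 (h.wN ?_ (le_normalizer (mul_mem t (inv_mem ⟨_, rfl⟩))))
      simpa only [mul_assoc] using mul_mem hw (conj_mem_of_mem_normalizer (h.nw (h.xM _)) (inv_mem hw))
    rw [s u mem_l, s v mem_r, ← map_inv, ← map_inv]
    exact ⟨q.1.imp (congrArg x) (congrArg x), q.2.imp (congrArg x) (congrArg x)⟩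
  have cz : centralizer {r} ≤ 𝐍[zpowers r] := centralizer_zpowers r ▸ centralizer_le_normalizer' _
  obtain ⟨O, hO⟩ := D.core fun y hy y1 => by
    obtain ⟨⟨y, rfl⟩, cy⟩ := hD.le hy
    refine ⟨W ⊓ centralizer {r} ⊓ centralizer {x y} ⊔ zpowers r, isPGroup_sup
      (isPGroup_iff.2 fun w hw => ⟨1, by simpa [pow_two] using h.w2 w hw.1.1⟩)
      (isPGroup_zpowers ⟨1, by simpa [pow_two] using c⟩) fun w hw => cz hw.1.2,
      mem_sup_right (mem_zpowers r), fun o ho => ?_, fun g c1 c2 => ?_⟩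
    · exact And.imp mem_cent.1 mem_cent.1 (sup_le (c := centralizer {r} ⊓ centralizer {x y})
        (inf_le_inf_right _ inf_le_right) (zpowers_le.2
        ⟨mem_cent.2 (Commute.refl r), mem_cent.2 (mem_cent.1 cy).symm⟩) ho)
    have m := (h.uf y fun f => y1 (by rw [f, map_one])).comm c2
    refine ⟨le_normalizer_sup (L := M ⊓ centralizer {r} ⊓ centralizer {x y}) (le_normalizer_inf
      (le_normalizer_inf (fun _ a => h.nw a.1.1) fun _ a => le_normalizer a.1.2)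
      fun _ a => le_normalizer a.2) (fun _ a => cz a.1.2) ⟨⟨m, mem_cent.2 c1⟩, mem_cent.2 c2⟩, ?_⟩
    obtain ⟨w, hw, n, l, p, rfl⟩ := h.fac g m
    have q := h.split hw p.norm b.norm c1
    exact ⟨w, mem_sup_left ⟨⟨hw, mem_cent.2 q.1⟩, mem_cent.2 (h.split hw p.norm (Act.self y).norm c2).1⟩,
      n, hD ▸ le_normalizer_inf (L := 𝐍[x.range] ⊓ centralizer {r}) inf_le_left
        (fun _ a => le_normalizer a.2) ⟨p.norm, mem_cent.2 q.2⟩, rfl⟩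
  refine D.cent_le hO (fun g a _ => nM g a) (fun g _ a => ?_) d
  rw [← map_inv, ← map_mul, ← map_mul] at a
  rcases a with a | a | a | a
  exacts [(h.uf _ u1).comm a, (h.uf _ v1).comm a, (h.uf _ s1).comm a, (h.uf _ s2).comm a]

theorem fu (pa : ∀ k ∈ Gam x ⊤, PA k) (a : k ∈ (es [6, 12, 24] : List H)) (b : Act x r k)
    (c : r * r = 1) (d : g * r * g⁻¹ ∈ M) :
    g ∈ M ∨ ∃ w ∈ W, Act x (w * (g * r * g⁻¹) * w⁻¹) (e 42) := by
  have := Fact.mk Nat.prime_three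
  obtain ⟨w, hw, n, l, p, q, n2, l2, cw⟩ := h.invol d (X32.conj_sq c)
  obtain ⟨k1, y, y1, ky⟩ := (bd! : ∀ k ∈ (es [6, 12, 24] : List H), k ≠ 1 ∧ ∃ y, y ≠ 1 ∧ ac k y = y) k a
  obtain rfl | ⟨v, hv, f, t⟩ := (bd! : ∀ l : H, PA l → l * l = 1 → l = 1 ∨
    ∃ v ∈ (es [1, 3, 9] : List Pr.V), ac l v = v⁻¹ ∧ (l = e 42 ∨ ∃ z, z ≠ 1 ∧ ac l z = z)) l
      (pa l ⟨n, trivial, p⟩) l2
  · obtain ⟨v, rfl⟩ := h.actJ p
    rw [eq_one_of_two_three (k := 1) (d := x v) (by simpa [pow_two] using n2) (xcube x v), mul_one] at q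
    have cw : ∀ a ∈ W, Commute a w := fun a ha => comm_of_inv (t := 1) (fun k hk => by
      simpa using (inv_eq_of_mul_eq_one_right (h.w2 k hk)).symm) ha hw
    have s := h.wcl (A := cj(g⁻¹, W)) (cj_le_iff_forall.2 fun a ha => h.cr pa ‹_› b c (by
      simpa using comm_conj_iff.2 (show Commute a (g⁻¹⁻¹ * r * g⁻¹) by simpa [q] using cw a ha))) (by
      rintro _ ⟨w, hw, rfl⟩; exact X32.conj_sq (h.w2 w hw)) (card_cj ..)
    have m : r ∈ W := s ▸ mem_cj.2 (by simpa [q] using hw)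
    exact absurd ((h.wN m b.norm ▸ b).eq h.inj Act.one) k1
  obtain ⟨o, ho, s⟩ := h.free hv p f n2 hw cw
  rw [← q] at s
  rcases t with rfl | ⟨z, z1, t⟩
  · exact Or.inr ⟨o, ho, s.symm ▸ p⟩
  obtain ⟨m, hm, t⟩ := (h.uf y y1).fusion' (p := 3) (t := r) (g := o * g) (h.uf z z1) (xcube x y)
    (xcube x z) (b.comm ky).symm (by
      rw [show o * g * r * (o * g)⁻¹ = o * (g * r * g⁻¹) * o⁻¹ by group, s]; exact (p.comm t).symm)
  have := h.cr pa a b c (g := m⁻¹ * (o * g)) (comm_of_conj (by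
    rw [show m⁻¹ * (o * g) * r * (m⁻¹ * (o * g))⁻¹ = m⁻¹ * (o * g * r * (o * g)⁻¹) * m by group, ← t]
    group))
  rw [mul_mem_cancel_left (inv_mem hm), mul_mem_cancel_left (h.le ho)] at this
  exact Or.inl this

theorem ufr (pa : ∀ k ∈ Gam x ⊤, PA k) (a : k ∈ (es [6, 12, 24] : List H)) (b : Act x r k)
    (c : r * r = 1) : UF M r := ⟨h.nM b.norm, fun g d => (h.fu pa a b c d).resolve_right fun ⟨w, _, p⟩ => by
  obtain ⟨α, κ, q, αA, -, κA⟩ := h.kap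
  obtain ⟨j, hj⟩ := h.cj2 p (κA ⟨e 42, h.dgm bd!⟩) (X32.conj_sq (X32.conj_sq c)) 
    (hsq (Subtype.ext (bd! : (e 42 * e 42 : H) = 1)))
  have f : (w * g)⁻¹ * x j * κ ⟨e 42, h.dgm bd!⟩ * ((w * g)⁻¹ * x j)⁻¹ = r := by
    rw [show ∀ d, (w * g)⁻¹ * x j * d * ((w * g)⁻¹ * x j)⁻¹ = (w * g)⁻¹ * (x j * d * (x j)⁻¹) * (w * g) from
      fun d => by group, hj]; group
  generalize (w * g)⁻¹ * x j = g at f
  have k1 := (bd! : ∀ k ∈ (es [6, 12, 24] : List H), ∀ l : H, l * e 42 * l⁻¹ ≠ k) k a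
  have s : ∀ l (a : l ∈ (es [6, 12, 24] : List H)), g * κ ⟨l, h.dg l a⟩ * g⁻¹ ∈ M ∧
      α (g * κ ⟨l, h.dg l a⟩ * g⁻¹) = e 42 := fun l hl => by
    have m := h.cr pa a b c (f ▸ Commute.cj (Commute.map (Subtype.ext
      ((bd! : ∀ k : H, k * e 42 = e 42 * k) l)) κ : Commute (κ ⟨l, h.dg l hl⟩) _) g)
    rcases h.fu pa hl (κA ⟨l, h.dg l hl⟩)
      (hsq (Subtype.ext ((bd! : ∀ k ∈ (es [6, 12, 24] : List H), k * k = 1) l hl))) m with t | ⟨w, hw, t⟩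
    · exact absurd (by rw [← αA _ _ b, ← f, q.map_conj t (h.nM (κA _).norm), αA _ _ (κA _)]) (k1 (α g))
    · exact ⟨m, by simpa [q.map_conj (h.le hw) m, q.of_mem (mem_sup_left hw)] using αA _ _ t⟩
  obtain ⟨m1, s1⟩ := s (e 6) bd!
  obtain ⟨m2, s2⟩ := s (e 12) bd!
  obtain ⟨m3, s3⟩ := s (e 24) bd!
  have t := q.mul m1 (mul_mem m2 m3)
  rw [q.mul m2 m3, s1, s2, s3, conj_mul, conj_mul, ← map_mul, ← map_mul] at t
  refine k1 (e 42) (Eq.trans ?_ (αA _ _ b))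
  rw [← f, (bd! : (e 42 * e 42 * (e 42)⁻¹ : H) = e 42 * (e 42 * e 42)), ← t]
  exact congrArg (fun k => α (g * κ k * g⁻¹))
    (Subtype.ext (bd! : (e 6 * (e 12 * e 24) : H) = e 42))⟩

omit h in
theorem tr_eq {A : Type*} [CommGroup A] (μ : M →* A) (a : r ∈ M)
    (f : ∀ n : ℕ, ∀ g, g * r ^ n * g⁻¹ ∈ M → ∃ m ∈ M, m * r ^ n * m⁻¹ = g * r ^ n * g⁻¹) :
    MonoidHom.transfer μ r = μ ⟨r, a⟩ ^ M.index :=
  Transfer.transfer_eq_pow_of_forall μ r _ fun g n c => by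
    obtain ⟨m, hm, d⟩ := f n g⁻¹ (by simpa using c)
    rw [show (⟨_, c⟩ : M) = ⟨m, hm⟩ * ⟨r, a⟩ ^ n * (⟨m, hm⟩ : M)⁻¹ from Subtype.ext (by simp [d]),
      map_mul, map_mul, map_inv, mul_inv_cancel_comm, map_pow]

theorem top0 (p8 : ∀ k ∈ Gam x ⊤, P8 k) : M = ⊤ := by
  have := Fact.mk Nat.prime_three
  have pa : ∀ k ∈ Gam x ⊤, PA k := fun k a => (bd! : ∀ k : H, P8 k → PA k) k (p8 k a)
  obtain ⟨α, κ, q, αA, αG, κA⟩ := h.kap
  have κM := fun k => h.nM (κA k).norm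
  let : CommGroup (Gam x ⊤) := { (inferInstance : Group (Gam x ⊤)) with
    mul_comm := fun k l => Subtype.ext
      ((bd! : ∀ k l : H, P8 k → P8 l → k * l = l * k) _ _ (p8 _ k.2) (p8 _ l.2)) }
  have k2 : ∀ k : Gam x ⊤, k * k = 1 := fun k =>
    Subtype.ext ((bd! : ∀ k : H, P8 k → k * k = 1) _ (p8 _ k.2))
  have uf := fun l a => h.ufr pa a (κA ⟨l, h.dg l a⟩) (hsq (k2 _))
  obtain ⟨i, hi⟩ := (uf (e 6) bd!).odd_relIndex (hsq (k2 _)) (mem_top _)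
  rw [relIndex_top_right] at hi
  let μ : M →* Gam x ⊤ := q.hom.codRestrict _ fun m => αG _ m.2
  have t : ∀ l a, MonoidHom.transfer μ (κ ⟨l, h.dg l a⟩) = ⟨l, h.dg l a⟩ := fun l a => by
    rw [tr_eq μ (κM _) fun n g c => ?_, hi, pow_succ, pow_mul, pow_two, k2, one_pow, one_mul]
    · exact Subtype.ext (αA _ _ (κA _))
    rcases (mem_zpowers_two (hsq (k2 _))).1 (pow_mem (mem_zpowers (κ ⟨l, h.dg l a⟩)) n) with p | p
    exacts [⟨1, one_mem _, by simp [p]⟩, ⟨g, (uf l a).2 g (p ▸ c), rfl⟩]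
  generalize MonoidHom.transfer μ = T at t
  have tκ : ∀ k, T (κ k) = k := fun k => by
    obtain ⟨i, -, j, -, l, -, c⟩ := (bd! : ∀ k : H, P8 k → ∃ i ∈ [0, 1], ∃ j ∈ [0, 1], ∃ l ∈ [0, 1],
      k = e 6 ^ i * e 12 ^ j * e 24 ^ l) _ (p8 _ k.2)
    rw [show k = ⟨e 6, h.dg _ bd!⟩ ^ i * ⟨e 12, h.dg _ bd!⟩ ^ j * ⟨e 24, h.dg _ bd!⟩ ^ l from
      Subtype.ext c]
    simp only [map_mul, map_pow]
    rw [t _ bd!, t _ bd!, t _ bd!]
  have tx : x.range ≤ T.ker := by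
    rintro _ ⟨v, rfl⟩
    exact eq_one_of_two_three (k := 1) (by simpa [pow_two] using k2 _) (hpow (xcube x v))
  have nJ : T.ker ⊓ 𝐍[x.range] ≤ x.range := fun n a => by
    obtain ⟨k, c⟩ := h.mon a.2
    have d := tx (h.actJ ((c.mul (κA ⟨k, n, trivial, c⟩).inv).cong (mul_inv_cancel k)))
    rw [MonoidHom.mem_ker, map_mul, map_inv, tκ, show T n = 1 from a.1, one_mul, inv_eq_one] at d
    exact h.actJ (c.cong (congrArg Subtype.val d))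
  have s : IsSyl 3 x.range T.ker := isSyl_of_isSyl_normalizer
    ⟨le_inf tx le_normalizer, p3, fun R _ _ a => a.trans nJ⟩
  have l : Op' 3 T.ker ≤ M := le_of_four (xcube x (e 1)) (xcube x (e 3)) (xcomm ..) (h.ne1 bd!)
    (h.nzp bd!) (le_norm_Op' 3 _ (tx ⟨_, rfl⟩)) (le_norm_Op' 3 _ (tx ⟨_, rfl⟩)) (coprime_Op' 3 _)
    fun k _ c => by
      rw [← map_inv, ← map_mul, ← map_mul] at c
      rcases c with c | c | c | c <;> exact (h.uf _ bd!).comm c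
  refine (eq_top_iff' M).2 fun g => ?_
  obtain ⟨o, ho, _, ⟨v, rfl⟩, c⟩ := burn s (fun n a => by
    obtain ⟨v, rfl⟩ := nJ a
    rintro _ ⟨w, rfl⟩
    exact xcomm x w v) (g := g * (κ (T g))⁻¹) (by simp [tκ])
  exact (mul_mem_cancel_right (inv_mem (κM _))).1 (c ▸ mul_mem (l ho) (h.xM v))

/-- fusion of `3`-elements -/
theorem fu3 {v : Pr.V} (v1 : v ≠ 1) (a : Commute (x v) r) (b : r ^ 3 = 1) (c : g * r * g⁻¹ ∈ M) :
    ∃ m ∈ M, m * r * m⁻¹ = g * r * g⁻¹ := by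
  have := Fact.mk Nat.prime_three
  obtain ⟨P, hP, l⟩ := exists_isSyl_ge (L := M) p3 (by rintro _ ⟨v, rfl⟩; exact h.xM v)
  obtain ⟨m, hm, d⟩ := hP.exists_cj_le (isPGroup_zpowers (x := g * r * g⁻¹)
    ⟨1, by rw [conj_pow, pow_one, b]; simp⟩) (zpowers_le.2 c)
  obtain ⟨⟨z, z0, z2⟩, z1⟩ := ne_bot_iff_exists_ne_one.1 (inf_centralizer_ne_bot hP.pgrp hP.pgrp
    le_normalizer fun f => h.ne1 v1 (f.le (l ⟨v, rfl⟩)))
  obtain ⟨w, rfl⟩ := h.cent z fun v => (z2 _ (l ⟨v, rfl⟩)).symm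
  obtain ⟨n, hn, f⟩ := (h.uf v v1).fusion' (p := 3) (t := r) (g := m * g)
    (h.uf w fun f => z1 (Subtype.ext (by simp [f]))) (xcube x v) (xcube x w) a (by
      rw [show m * g * r * (m * g)⁻¹ = m * (g * r * g⁻¹) * m⁻¹ by group]
      exact (z2 _ (d (conj_mem_cj m (mem_zpowers _)))).symm)
  refine ⟨m⁻¹ * n, mul_mem (inv_mem hm) hn, ?_⟩
  rw [show m⁻¹ * n * r * (m⁻¹ * n)⁻¹ = m⁻¹ * (n * r * n⁻¹) * m by group, f]; group

/-- restriction to a subgroup -/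
theorem sub {L : Subgroup G} (a : ∀ v, x v ∈ L) (b : ∀ g : G, g * g = 1 → g ∈ L) :
    AX (x.codRestrict L a) (W.subgroupOf L) (M.subgroupOf L) := by
  have w := fun w hw => b w (h.w2 w hw)
  obtain ⟨-, κ, -, -, -, κA⟩ := h.kap
  refine ⟨fun u v c => h.inj (congrArg Subtype.val c), fun g c => ?_,
    fun v c => ⟨h.xM v, fun g d => (h.uf v c).2 g d⟩, fun w c => Subtype.ext (h.w2 _ c),
    fun _ c => h.le c, fun m c => mem_normalizer_fintype fun w d => ?_,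
    h.big.imp (fun c => by simp [c]) fun c => ?_,
    fun v c w d f => Subtype.ext (h.fpf v c _ d (f.map L.subtype)), fun m c => ?_, fun k c => ?_⟩
  · exact (h.cent g fun v => (c v).map L.subtype).imp fun v d => Subtype.ext d
  · exact conj_mem_of_mem_normalizer (Q := W) (h.nw c) d
  · rwa [Nat.card_congr (subgroupOfEquivOfLe w).toEquiv]
  · obtain ⟨o, ho, n, k, d, f⟩ := h.fac _ c
    exact ⟨⟨o, w o ho⟩, ho, ⟨n, (mul_mem_cancel_left (w o ho)).1 (f ▸ m.2)⟩, k,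
      fun v => Subtype.ext (d v), Subtype.ext f⟩
  · exact ⟨⟨κ ⟨k, h.dg k c⟩, b _ (hsq (Subtype.ext ((bd! : ∀ k ∈ (es [6, 12, 24] : List H), k * k = 1)
      k c)))⟩, trivial, fun v => Subtype.ext (κA _ v)⟩

omit h in
theorem z2 : ∀ a : Multiplicative (ZMod 3), a * a = 1 → a = 1 := by decide

omit h in
theorem z3 : ∀ a b : Multiplicative (ZMod 3), b ≠ 1 → ∃ i : Fin 3, a * b ^ i.val = 1 := by decide

theorem top1 (pa : ∀ k ∈ Gam x ⊤, PA k) : M = ⊤ := by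
  have := Fact.mk Nat.prime_three
  by_cases p8 : ∀ k ∈ Gam x ⊤, P8 k
  · exact h.top0 p8
  obtain ⟨k, hk, p8⟩ := not_forall₂.1 p8
  obtain ⟨i, -, l, c, d⟩ := (bd! : ∀ k : H, PA k → ¬ P8 k → ∃ i ∈ [1, 2], ∃ l, P8 l ∧ e 1 = l * k ^ i) k
    (pa k hk) p8
  have a : e 1 ∈ Gam x ⊤ := d ▸ mul_mem (h.dgm c) (pow_mem hk i)
  obtain ⟨α, κ, q, αA, αG, κA⟩ := h.kap
  have aρ : Act x (κ ⟨_, a⟩) (e 1) := κA _
  have ρ3 : κ ⟨_, a⟩ ^ 3 = 1 := hpow (Subtype.ext (bd! : (e 1 : H) ^ 3 = 1))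
  generalize κ ⟨_, a⟩ = ρ at aρ ρ3
  have ρM := h.nM aρ.norm
  let μ : M →* Multiplicative (ZMod 3) := MonoidHom.mk'
    (fun m => Multiplicative.ofAdd ((α m).v : ZMod 3)) fun m n => by
      rw [← ofAdd_add, ← Nat.cast_add, Subgroup.coe_mul, q.mul m.2 n.2]
      exact congrArg _ ((ZMod.natCast_eq_natCast_iff' _ _ 3).2 ((bd! : ∀ k l : H, PA k → PA l →
        (k * l).v % 3 = (k.v + l.v) % 3) _ _ (pa _ (αG _ m.2)) (pa _ (αG _ n.2))))
  have t : MonoidHom.transfer μ ρ ≠ 1 := by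
    have nd := (h.uf (e 1) bd!).not_dvd (p := 3) (xcube x _) (mem_top _)
    rw [relIndex_top_right] at nd
    rw [tr_eq μ ρM fun n g => h.fu3 (v := e 13) bd! ((aρ.comm bd!).symm.pow_right n)
      (by rw [← pow_mul, mul_comm, pow_mul, ρ3, one_pow]),
      show μ ⟨ρ, ρM⟩ = Multiplicative.ofAdd 1 from congrArg (fun k : H =>
        Multiplicative.ofAdd (k.v : ZMod 3)) (αA _ _ aρ)]
    exact fun f => nd (by simpa using orderOf_dvd_of_pow_eq_one f)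
  generalize MonoidHom.transfer μ = T at t
  have tx : ∀ v, x v ∈ T.ker := fun v => z2 _ (by
    have := congrArg T ((κA ⟨e 42, h.dgm bd!⟩).inverts ((bd! : ∀ v : Pr.V, ac (e 42) v = v⁻¹) v))
    rwa [map_mul, map_mul, map_inv, map_inv, mul_inv_cancel_comm, eq_inv_iff_mul_eq_one] at this)
  have t8 : ∀ n k, Act x n k → P8 k → T n = 1 := fun n k c d => z2 _ (by
    obtain ⟨v, f⟩ := h.actJ ((c.mul c).cong ((bd! : ∀ k : H, P8 k → k * k = 1) k d))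
    rw [← map_mul, ← f]; exact tx v)
  have s := (h.sub tx fun g c => z2 _ (hsq c)).top0 fun k ⟨n, _, c⟩ => by
    replace c : Act x n k := fun v => congrArg Subtype.val (c v)
    rcases (bd! : ∀ k : H, PA k → P8 k ∨ ∃ l, P8 l ∧ (k * e 1 = l ∨ k * (e 1)⁻¹ = l)) k
      (pa k ⟨n, trivial, c⟩) with d | ⟨l, d, f | f⟩
    · exact d
    · exact absurd (by simpa [show T n = 1 from n.2] using t8 _ _ ((c.mul aρ).cong f) d) t
    · exact absurd (by simpa [show T n = 1 from n.2] using t8 _ _ ((c.mul aρ.inv).cong f) d) t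
  rw [subgroupOf_eq_top] at s
  refine (eq_top_iff' M).2 fun g => ?_
  obtain ⟨i, f⟩ := z3 (T g) _ t
  exact (mul_mem_cancel_right (pow_mem ρM i)).1 (s (by simpa using f))

end AX

end Cfsg.Agent.O8T
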