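import Cfsg.Agent.Loc3.O8Y
import Cfsg.Agent.Loc3.O8X1

/-!
Centralisers of vectors of type E.
-/

set_option autoImplicit false
set_option maxRecDepth 100000
set_option synthInstance.maxHeartbeats 400000
set_option synthInstance.maxSize 4000

namespace Cfsg.Agent.O8T

open Subgroup Cfsg Cfsg.Agent.PLocal.Amb Cfsg.Agent.Loc3 Cfsg.Agent.Comp Cfsg.Agent.LES
open Cfsg.Agent.X32 (TG)
open Cfsg.Agent.X32.TG
open Cfsg.Agent.Loc3.Pr hiding V rf
open Cfsg.Agent.TT (XS)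
open Cfsg.Agent.PS4 (K2 l2)
open Equiv (Perm swap)
open scoped commutatorElement

variable {G : Type*} [Group G] [Finite G] {D : Subgroup K} {f : K → G}

theorem NJ.cE_of (h : NJ D f)
    (cD : ∀ g, Commute g (jv f (ev 2)) → Commute g (jv f (ev 3)) → g ∈ 𝐍[JJ f]) :
    ∀ u, q4 u = 1 → ∀ g, Commute g (jv f u) → g ∈ 𝐍[JJ f] := by
  have mv : ∀ {X : Type _} [Group X] {M : Subgroup X} {n g : X}, n ∈ M → n * g * n⁻¹ ∈ M → g ∈ M :=
    fun m a => (mul_mem_cancel_left m).1 ((mul_mem_cancel_right (inv_mem m)).1 a)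
  obtain ⟨Γ, _, _, π, x, y⟩ := h.exists_YF 1
  suffices k : ∀ γ, γ ∈ 𝐍[x.range] by
    intro u hu g c
    obtain ⟨n, L, a, b⟩ := h.tr (u := u) (v := ev 0) (by rintro rfl; exact absurd hu (by decide))
      (by decide) (hu.trans (by decide))
    exact mv (h.nrm a.1) ((y.nrm h (a.1.cj b ▸ Commute.cj c n)).1 (k _))
  have mf := y.mf h
  have c9 : ∀ γ, Commute γ (x (e 9)) → γ ∈ 𝐍[x.range] := fun γ c => by
    obtain ⟨g, a, rfl⟩ := y.q.surj γ
    obtain ⟨n, k⟩ := h.exm (σ := swap 1 2 * swap 0 1) (ε := 1) (.inl (by decide)) (by decide)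
    exact (y.nrm h a).2 (mv (h.nrm k.1) (cD _
      (k.1.cj (u := ev 0) (v := ev 2) (by decide +kernel) ▸ Commute.cj a n)
      (k.1.cj (u := vec 1 (e 9)) (v := ev 3) (by decide +kernel) ▸ Commute.cj (y.comm h a c) n)))
  by_cases hX : X ∈ D
  · obtain ⟨ρ, s, nf⟩ := y.nf h hX
    refine nf.cases.resolve_right fun ⟨ν, t, ψ, k⟩ => ?_
    obtain ⟨w, e1⟩ := conj_mem_of_mem_normalizer (c9 _ (k.cψ (swap 2 3))) ⟨e 1, rfl⟩
    have := xcomm x w (e 1)
    rw [e1, ← k.x1, ← map_inv, ← map_mul, ← map_mul, Commute, SemiconjBy, ← map_mul, ← map_mul] at this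
    exact absurd (k.inψ this) (by decide)
  have hC : ∀ v, v ≠ 1 → ∀ γ, Commute γ (x v) → γ ∈ 𝐍[x.range] := fun v v1 γ c => by
    rcases ((bd! : ∀ j : Pr.V, j = 1 ∨ (∃ k, PA k ∧ (ac k j = e 13 ∨ ac k j = e 9)) ∨
      MF.Dg (fun _ => True) j) v).resolve_left v1 with ⟨k, a, b⟩ | d
    · obtain ⟨n, -, a⟩ := y.gam h (.inl a)
      exact mv a.norm (b.elim (fun b => y.ca h _ (a.cj b ▸ Commute.cj c n))
        fun b => c9 _ (a.cj b ▸ Commute.cj c n))
    · exact mf.cent_le' (fun _ _ => trivial) d c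
  have ax : AX x ⊥ 𝐍[x.range] := ⟨mf.inj, mf.cent, fun v v1 => ⟨le_normalizer ⟨v, rfl⟩, fun γ a => ?_⟩,
    by simp, bot_le, le_normalizer_of_normal, .inl rfl, by simp, fun m a =>
      (mf.mon m a).elim fun k b => ⟨1, one_mem _, m, k, b, (one_mul m).symm⟩,
    fun k a => y.gam h (.inl ((bd! : ∀ k ∈ (es [6, 12, 24] : List H), PA k) k a))⟩
  · exact fun γ => (ax.top1 fun k a => y.pa h hX a).ge trivial
  obtain ⟨g, c, rfl⟩ := y.q.surj γ
  have d := h.jc (vec 1 v) (ev 0)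
  have d' := (c.mul_left d).mul_left c.inv_left
  have e1 := y.q.map_conj c d
  rw [← y.val] at e1
  obtain ⟨w, e2⟩ : π g * x v * (π g)⁻¹ ∈ x.range := y.range h ▸ e1 ▸ y.q.mem_im_of
    (h.nE (u := ev 0) ((y.nrm h d').1 (e1 ▸ a)) (by rw [conj_pow, h.j3]; simp) (by decide) d'
      (isConj_iff.2 ⟨g, rfl⟩).symm) d'
  exact mf.wc fun u => hC w (by rintro rfl; exact mf.ne1 v1 (conj_eq_one_iff.1 (e2.symm.trans x.map_one)))
    _ (e2 ▸ Commute.cj (xcomm x u v) _)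

end Cfsg.Agent.O8T
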