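import Cfsg.Agent.Loc3.O8X1

/-!
`AX x W M` forces odd index.  Read `Loc3/O8X0`, `PrW`, `PrX`.
-/

set_option autoImplicit false
set_option maxRecDepth 100000
set_option synthInstance.maxHeartbeats 400000
set_option synthInstance.maxSize 4000

namespace Cfsg.Agent.O8T

open Subgroup Cfsg Cfsg.Agent.PLocal.Amb Cfsg.Agent.Loc3 Cfsg.Agent.Comp Cfsg.Agent.LES
open Cfsg.Agent.X32 (TG)
open Cfsg.Agent.X32.TG
open Cfsg.Agent.Loc3.Pr hiding V rf
open Cfsg.Agent.TT (XS)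
open Cfsg.Agent.PS4 (K2 l2)
open Equiv (Perm swap)
open scoped commutatorElement

variable {G : Type*} [Group G] [Finite G] {x : Pr.V →* G} {W M : Subgroup G}

namespace AX

variable (h : AX x W M)
include h

theorem nW (a : e 1 ∈ Gam x ⊤) (b : e 3 ∈ Gam x ⊤) : 𝐍[W] ≤ M := by
  have := normal_subgroupOf' (A := W) (L := 𝐍[W]) le_rfl
  obtain ⟨π, q⟩ := PH.of_equiv (M := 𝐍[W]) (K := W) le_normalizer (MulEquiv.refl _)
  have xN := fun v => h.nw (h.xM v)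
  obtain ⟨y, hy⟩ : ∃ y : Pr.V →* _, ∀ v, y v = π (x v) :=
    ⟨MonoidHom.mk' (fun v => π (x v)) fun u v => by rw [map_mul, q.mul (xN u) (xN v)], fun _ => rfl⟩
  have k1 : ∀ g ∈ 𝐍[W], ∀ v, v ≠ 1 → ∀ w, π g * y v * (π g)⁻¹ = y w → g ∈ M := fun g hg v v1 w c => by
    rw [hy, hy, ← q.map_conj hg (xN v), q.eq_iff (mul_mem (mul_mem hg (xN v)) (inv_mem hg)) (xN w)] at c
    exact (h.uf v v1).2 g ((mul_mem_cancel_right (inv_mem (h.xM w))).1 (h.le c))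
  have k2 : ∀ {n k}, Act x n k → Act y (π n) k := fun c v => by
    rw [hy, hy, ← q.map_conj (h.nw (h.nM c.norm)) (xN v), c]
  have k3 : ∀ m ∈ M, ∃ n k, Act x n k ∧ π m = π n := fun m hm => by
    obtain ⟨w, hw, n, k, c, rfl⟩ := h.fac m hm
    exact ⟨n, k, c, by rw [q.mul (le_normalizer hw) (h.nw (h.nM c.norm)), q.of_mem hw, one_mul]⟩
  have inj : Function.Injective y := (injective_iff_map_eq_one y).2 fun v c => by
    rw [hy, q.ker (xN v)] at c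
    exact h.inj ((h.wN c (le_normalizer ⟨v, rfl⟩)).trans (map_one x).symm)
  have hC : ∀ v, v ≠ 1 → ∀ g, Commute g (y v) → g ∈ 𝐍[y.range] := fun v v1 g c => by
    obtain ⟨g, hg, rfl⟩ := q.surj g
    obtain ⟨n, k, d, f⟩ := k3 g (k1 g hg v v1 v (conj_of_comm c))
    exact f ▸ (k2 d).norm
  have k4 : ∀ g ∈ 𝐍[W], π g ∈ 𝐍[y.range] → g ∈ M := fun g hg c => by
    obtain ⟨w, d⟩ := conj_mem_of_mem_normalizer c (⟨e 1, rfl⟩ : y (e 1) ∈ y.range)
    exact k1 g hg _ bd! w d.symm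
  have cent : ∀ g, (∀ v, Commute g (y v)) → g ∈ y.range := fun g c => by
    obtain ⟨g, hg, rfl⟩ := q.surj g
    obtain ⟨n, k, d, f⟩ := k3 g (k1 g hg (e 1) bd! _ (conj_of_comm (c _)))
    obtain rfl := (f ▸ k2 d).eq inj (Act.of_comm c)
    obtain ⟨v, rfl⟩ := h.cent n fun v => d.comm (ac_one v)
    exact ⟨v, (hy v).trans f.symm⟩
  have mf : MF y := ⟨inj, cent, fun g c => by
    obtain ⟨g, hg, rfl⟩ := q.surj g
    obtain ⟨n, k, d, f⟩ := k3 g (k4 g hg c)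
    exact ⟨k, f ▸ k2 d⟩, fun K hK hN => by
    have l : K ≤ 𝐍[y.range] := le_of_four (xcube y (e 1)) (xcube y (e 3)) (xcomm ..)
      (fun c => absurd (inj (c.trans (map_one y).symm)) bd!)
      (fun c => by
        rw [mem_zpowers_three (xcube y _), ← map_inv, ← map_one y, inj.eq_iff, inj.eq_iff,
          inj.eq_iff] at c
        exact absurd c bd!)
      (hN ⟨_, rfl⟩) (hN ⟨_, rfl⟩) hK fun k _ c => by
        rw [← map_inv, ← map_mul, ← map_mul] at c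
        rcases c with c | c | c | c <;> exact hC _ bd! k c
    have o : ∀ k ∈ K, k ∈ y.range → k = 1 := fun k hk ⟨v, c⟩ =>
      eq_one_of_cop hK hk (c ▸ xcube y v)
    refine eq_bot_iff.2 fun k hk => o k hk (cent k fun v => comm_of_conj (mul_inv_eq_one.1 (o _ ?_
      (mul_mem (conj_mem_of_mem_normalizer (l hk) ⟨v, rfl⟩) (inv_mem ⟨v, rfl⟩)))))
    simpa only [mul_assoc] using mul_mem hk (conj_mem_of_mem_normalizer (hN ⟨v, rfl⟩) (inv_mem hk))⟩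
  obtain ⟨-, κ, -, -, -, κA, κm⟩ := h.exists_ak
  have κN := fun k hk => h.nw (h.nM (κA k hk).norm)
  let φ : Gam x ⊤ →* _ := MonoidHom.mk' (fun k => π (κ k)) fun k l => by
    rw [Subgroup.coe_mul, κm _ k.2 _ l.2, q.mul (κN _ k.2) (κN _ l.2)]
  have nf : NF y (φ ⟨_, a⟩) (φ ⟨_, b⟩) := ⟨⟨mf, hpow (Subtype.ext (bd! : (e 1 : H) ^ 3 = 1)),
    hsq (Subtype.ext (bd! : (e 3 * e 3 : H) = 1)),
    (hcj (Subtype.ext (bd! : (e 3 * e 1 * (e 3)⁻¹ : H) = (e 1)⁻¹))).trans (map_inv φ _),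
    k2 (κA _ a), k2 (κA _ b)⟩, hC _ bd!⟩
  rcases nf.cases with c | ⟨ν, t, ψ, c⟩
  · exact fun g hg => k4 g hg (c _)
  obtain ⟨v, d⟩ := conj_mem_of_mem_normalizer (hC _ bd! _ (c.cψ (swap 2 3)))
    (⟨e 1, rfl⟩ : y (e 1) ∈ y.range)
  have f := xcomm y v (e 1)
  rw [d, ← c.x1, hcj rfl] at f
  exact absurd (Commute.of_map c.inψ f).eq (by decide)

theorem odd (a : e 1 ∈ Gam x ⊤) : Odd M.index := by
  by_cases pa : ∀ k ∈ Gam x ⊤, PA k
  · simp [h.top1 pa]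
  obtain ⟨k, hk, pa⟩ := not_forall₂.1 pa
  obtain ⟨i, -, c⟩ := (bd! : ∀ k : H, ¬ PA k → ∃ i ∈ [0, 1, 2], ∃ l, P8 l ∧ e 3 = l * (k * e 1 ^ i)) k pa
  obtain ⟨l, c, d⟩ := c
  have N := h.nW a (d ▸ mul_mem (h.dgm c) (mul_mem hk (pow_mem a i)))
  have := Fact.mk Nat.prime_two
  obtain ⟨T, hT, l⟩ := exists_isSyl_ge (p := 2)
    (isPGroup_iff.2 fun w hw => ⟨1, by simpa [pow_two] using h.w2 w hw⟩) h.le
  have s : IsSyl 2 T ⊤ := isSyl_of_isSyl_normalizer (hT.mono (le_inf le_top le_normalizer)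
    fun g hg => N (cj_eq_iff.1 (h.wcl ((cj_le_of_mem_normalizer l hg.2).trans hT.le) (by
      rintro _ ⟨w, hw, rfl⟩; exact X32.conj_sq (h.w2 w hw)) (card_cj ..))))
  have := s.not_dvd_relIndex
  rw [relIndex_top_right] at this
  exact Nat.odd_iff.2 (Nat.two_dvd_ne_zero.1 fun c => this (c.trans (index_dvd_of_le hT.le)))

end AX

end Cfsg.Agent.O8T
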