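import Cfsg.Agent.Loc3.O8G

/-!
The centraliser of a unit vector `ev (σ 0)` modulo that vector, as a monomial frame
(`Loc3/PrF`, `PrW`).  Read `Loc3/O8D`, `O8F`, `O8G`.
-/

set_option autoImplicit false
set_option maxRecDepth 100000
set_option synthInstance.maxHeartbeats 400000
set_option synthInstance.maxSize 4000

namespace Cfsg.Agent.O8T

open Subgroup Cfsg Cfsg.Agent.PLocal.Amb Cfsg.Agent.Loc3 Cfsg.Agent.Comp Cfsg.Agent.LES
open Cfsg.Agent.X32 (TG)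
open Cfsg.Agent.X32.TG
open Cfsg.Agent.Loc3.Pr hiding V rf
open Cfsg.Agent.TT (XS)
open Cfsg.Agent.PS4 (K2 l2)
open Equiv (Perm swap)
open scoped commutatorElement

universe w

variable {G : Type w} [Group G] {D : Subgroup K} {f : K → G} {g n : G} {L : V4 → V4}
  {σ : Perm (Fin 4)} {Γ : Type w} [Group Γ] {π : G → Γ} {x : Pr.V →* Γ} {k : H}

/-- the vector with the digits of `v` in the places `σ 1`, `σ 2`, `σ 3` -/
def vec (σ : Perm (Fin 4)) (v : Pr.V) : V4 := fun i =>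
  if i = σ 1 then (Nat.mod v.v 3 : ℕ) else if i = σ 2 then (Nat.mod (Nat.div v.v 3) 3 : ℕ)
  else if i = σ 3 then (Nat.div v.v 9 : ℕ) else 0

structure YF (f : K → G) (σ : Perm (Fin 4)) (π : G → Γ) (x : Pr.V →* Γ) : Prop where
  q : CQ (jv f (ev (σ 0))) π
  val : ∀ v, x v = π (jv f (vec σ v))

namespace YA

/-- decidable propositions inside `bd!` -/
theorem bdDec (p : Prop) [Decidable p] : X32.BD p (decide p) := ⟨decide_eq_true_iff⟩

attribute [local instance 10] bdDec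

/-- permuted coordinates -/
def tw (σ : Perm (Fin 4)) (w : V4) : V4 := fun i => w (σ⁻¹ i)

def iv (v : Pr.V) : V4 := ![0, (v.v % 3 : ℕ), (v.v / 3 % 3 : ℕ), (v.v / 9 : ℕ)]

/-- the last three coordinates -/
noncomputable def pc (w : V4) : Pr.V := e ((w 1).val + 3 * (w 2).val + 9 * (w 3).val)

theorem vec_eq (σ : Perm (Fin 4)) (v : Pr.V) : vec σ v = tw σ (iv v) := by
  funext i
  obtain ⟨j, rfl⟩ := σ.surjective i
  simp only [vec, tw, Perm.coe_inv, Equiv.symm_apply_apply, σ.injective.eq_iff]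
  fin_cases j <;> rfl

theorem ev_eq (σ : Perm (Fin 4)) (j : Fin 4) : ev (σ j) = tw σ (ev j) := by
  funext i
  obtain ⟨i, rfl⟩ := σ.surjective i
  simp only [ev, tw, Perm.coe_inv, Equiv.symm_apply_apply, σ.injective.eq_iff]

theorem tw_add (σ : Perm (Fin 4)) (u v : V4) : tw σ (u + v) = tw σ u + tw σ v := rfl

theorem tw_smul (σ : Perm (Fin 4)) (c : ZMod 3) (v : V4) : tw σ (c • v) = c • tw σ v := rfl

theorem tw_tw (σ : Perm (Fin 4)) (v : V4) : tw σ (tw σ⁻¹ v) = v := by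
  funext i; simp [tw]

theorem tw_inj {u v : V4} (a : tw σ u = tw σ v) : u = v := by
  funext i; simpa [tw] using congrFun a (σ i)

theorem b4_tw (σ : Perm (Fin 4)) (u v : V4) : b4 (tw σ u) (tw σ v) = b4 u v := by
  have := Equiv.sum_comp σ⁻¹ fun i => u i * v i
  rwa [Fin.sum_univ_four, Fin.sum_univ_four] at this

theorem q4_tw (σ : Perm (Fin 4)) (u : V4) : q4 (tw σ u) = q4 u := b4_tw σ u u

theorem sp_tw (σ τ : Perm (Fin 4)) (ε w : V4) :
    sp (σ * τ * σ⁻¹) (tw σ ε) (tw σ w) = tw σ (sp τ ε w) := by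
  funext i; simp [sp, tw]

theorem iv_mul : ∀ v w : Pr.V, iv (v * w) = iv v + iv w := bd!

theorem iv_pc : ∀ w : V4, w = iv (pc w) + w 0 • ev 0 := by decide +kernel

theorem iv_one : ∀ v : Pr.V, (∃ c : ZMod 3, c • ev 0 = iv v) → v = 1 := bd!

theorem iv_q : ∀ w : V4, ∀ d : ZMod 3, w 0 = 0 → q4 w = q4 (w + d • ev 0) → w + d • ev 0 = w := by
  decide +kernel

/-- the permutations fixing `0` -/
def l6 : List (Perm (Fin 4)) := [1, swap 1 2 * swap 2 3, swap 2 3 * swap 1 2, swap 1 2, swap 2 3, swap 1 3]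

theorem mem_l6 : ∀ τ : Perm (Fin 4), τ 0 = 0 → τ ∈ l6 := by decide +kernel

theorem monA : ∀ τ ∈ l6, ∀ ε : V4, Sn ε → ∃ k : H, (Perm.sign τ = 1 → PA k) ∧
    ∀ v ∈ (es [1, 3, 9] : List Pr.V), sp τ ε (iv v) = iv (ac k v) := bd!

theorem monB : ∀ k : H, ∃ τ ∈ l6, ∃ ε : V4, Sn ε ∧ (PA k → Perm.sign τ = 1) ∧ sp τ ε (ev 0) = ev 0 ∧
    ∀ v, sp τ ε (iv v) = iv (ac k v) := bd!

theorem vec_mul (σ : Perm (Fin 4)) (v w : Pr.V) : vec σ (v * w) = vec σ v + vec σ w := by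
  rw [vec_eq, vec_eq, vec_eq, iv_mul, tw_add]

theorem dec (σ : Perm (Fin 4)) (w : V4) : ∃ v, ∃ c : ZMod 3, w = vec σ v + c • ev (σ 0) :=
  ⟨pc (tw σ⁻¹ w), tw σ⁻¹ w 0, by rw [vec_eq, ev_eq, ← tw_smul, ← tw_add, ← iv_pc, tw_tw]⟩

theorem mem_zp (h : Ch D f) {u : V4} : g ∈ zpowers (jv f u) ↔ ∃ c : ZMod 3, jv f (c • u) = g := by
  rw [Loc3.mem_zpowers_three (h.j3 u)]
  constructor
  · rintro (rfl | rfl | rfl)
    exacts [⟨0, by rw [zero_smul, h.zero]⟩, ⟨1, by rw [one_smul]⟩, ⟨-1, by rw [neg_smul, one_smul, h.neg]⟩]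
  · rintro ⟨c, rfl⟩
    rcases (by decide : ∀ c : ZMod 3, c = 0 ∨ c = 1 ∨ c = -1) c with rfl | rfl | rfl
    exacts [Or.inl (by rw [zero_smul, h.zero]), Or.inr (Or.inl (by rw [one_smul])),
      Or.inr (Or.inr (by rw [neg_smul, one_smul, h.neg]))]

theorem ac_smul (h : Ch D f) (a : Ac f n L) (c : ZMod 3) (u : V4) : L (c • u) = c • L u := by
  have z : L 0 = 0 := h.jinj (by rw [← a, h.zero]; simp)
  rcases (by decide : ∀ c : ZMod 3, c = 0 ∨ c = 1 ∨ c = 1 + 1) c with rfl | rfl | rfl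
  · rw [zero_smul, zero_smul, z]
  · rw [one_smul, one_smul]
  · rw [add_smul, add_smul, one_smul, one_smul, h.ac_add a]

/-- κ-lifts of monomial elements -/
def KL (f : K → G) (σ : Perm (Fin 4)) (n : G) (k : H) : Prop :=
  ∃ L, Kp f n L ∧ L (ev (σ 0)) = ev (σ 0) ∧ ∀ v, L (vec σ v) = vec σ (ac k v)

theorem KL.mul {m : G} {l : H} (a : KL f σ n k) (b : KL f σ m l) : KL f σ (n * m) (k * l) := by
  obtain ⟨L, a1, a2, a3⟩ := a
  obtain ⟨L', b1, b2, b3⟩ := b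
  exact ⟨_, a1.mul b1, by simp only [b2, a2], fun v => by simp only [b3, a3, Pr.ac_mul]⟩

theorem KL.one [Finite G] (h : NJ D f) (a : KL f σ n k) (b : k = 1) : n = 1 := by
  obtain ⟨L, a1, a2, a3⟩ := a
  refine h.kp_one a1 fun w => ?_
  obtain ⟨v, c, rfl⟩ := dec σ w
  rw [h.ac_add a1.1, ac_smul h.toCh a1.1, a2, a3, b, Pr.ac_one]

theorem exKL [Finite G] (h : NJ D f) (σ : Perm (Fin 4)) (a : PA k ∨ X ∈ D) : ∃ n, KL f σ n k := by
  obtain ⟨τ, -, ε, a1, a2, a3, a4⟩ := monB k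
  obtain ⟨n, hn⟩ := h.exm (σ := σ * τ * σ⁻¹) (ε := tw σ ε)
    (a.imp_left fun b => by simp [a2 b]) fun i => a1 _
  exact ⟨n, _, hn, by rw [ev_eq, sp_tw, a3], fun v => by rw [vec_eq, vec_eq, sp_tw, a4]⟩

theorem px (y : YF f σ π x) (h : Ch D f) (v : Pr.V) (c : ZMod 3) :
    π (jv f (vec σ v + c • ev (σ 0))) = x v := by
  rw [h.add, y.q.mul (h.jc _ _) (h.jc _ _), (y.q.ker (h.jc _ _)).2 ((mem_zp h).2 ⟨c, rfl⟩), mul_one,
    y.val]

end YA

open YA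

variable [Finite G]

/-- `exists_CQ`, `exists_lin`, `V_ext`/`hom_eq` -/
theorem Ch.exists_YF (h : Ch D f) (σ : Perm (Fin 4)) :
    ∃ (Γ : Type w) (_ : Group Γ) (_ : Finite Γ) (π : G → Γ) (x : Pr.V →* Γ), YF f σ π x := by
  obtain ⟨Γ, _, _, π, q⟩ := exists_CQ (jv f (ev (σ 0)))
  exact ⟨Γ, _, ‹_›, π, MonoidHom.mk' (fun v => π (jv f (vec σ v))) fun v w => by
    rw [vec_mul, h.add, q.mul (h.jc _ _) (h.jc _ _)], q, fun _ => rfl⟩

namespace YF

variable [Finite Γ] (y : YF f σ π x) (h : NJ D f)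
include y h

theorem range : x.range = y.q.im (JJ f) := by
  ext g
  rw [y.q.mem_im]
  constructor
  · rintro ⟨v, rfl⟩
    exact ⟨_, Ch.jJ _, h.jc _ _, (y.val v).symm⟩
  · rintro ⟨g, hg, -, rfl⟩
    obtain ⟨w, rfl⟩ := h.memJ.1 hg
    obtain ⟨v, c, rfl⟩ := dec σ w
    exact ⟨v, (px y h.toCh v c).symm⟩

/-- `J` is the full preimage of `x.range` -/
theorem nrm (a : Commute g (jv f (ev (σ 0)))) : π g ∈ 𝐍[x.range] ↔ g ∈ 𝐍[JJ f] := by
  have c : ∀ p ∈ JJ f, Commute p (jv f (ev (σ 0))) := fun p hp => by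
    obtain ⟨w, rfl⟩ := h.memJ.1 hp; exact h.jc _ _
  rw [y.range h]
  refine ⟨fun b => mem_normalizer_fintype fun p hp => y.q.mem_of_mem_im (Ch.jJ _)
    ((a.mul_left (c p hp)).mul_left a.inv_left) ?_, fun b => mem_normalizer_fintype fun p hp => ?_⟩
  · rw [y.q.map_conj a (c p hp)]
    exact conj_mem_of_mem_normalizer b (y.q.mem_im_of hp (c p hp))
  · obtain ⟨p, hp', d, rfl⟩ := y.q.mem_im.1 hp
    rw [← y.q.map_conj a d]
    exact y.q.mem_im_of (conj_mem_of_mem_normalizer b hp') ((a.mul_left d).mul_left a.inv_left)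

theorem act (a : Ac f n L) (b : L (ev (σ 0)) = ev (σ 0)) (c : ∀ v, L (vec σ v) = vec σ (ac k v)) :
    Act x (π n) k := fun v => by
  rw [y.val, y.val, ← y.q.map_conj (a.comm b) (h.jc _ _), a, c]

/-- If `π g` commutes with `x v` then `g (j v) g⁻¹ = j (v + i • ev (σ 0))` has the type of `v`, and
`q4 (v + i • ev (σ 0)) = q4 v + i²`; so `i = 0` (`NJ.ty`). -/
theorem comm (a : Commute g (jv f (ev (σ 0)))) {v : Pr.V} (b : Commute (π g) (x v)) :
    Commute g (jv f (vec σ v)) := by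
  have cv := h.jc (vec σ v) (ev (σ 0))
  rw [y.val] at b
  obtain ⟨d, e1⟩ := (mem_zp h.toCh).1 ((y.q.eq_iff ((a.mul_left cv).mul_left a.inv_left) cv).1
    ((y.q.map_conj a cv).trans (conj_of_comm b)))
  have e2 : g * jv f (vec σ v) * g⁻¹ = jv f (vec σ v + d • ev (σ 0)) := by rw [h.add, e1]; simp
  have e3 := h.ty (isConj_iff.2 ⟨g, e2⟩)
  rw [vec_eq, ev_eq, ← tw_smul, ← tw_add] at e2 e3
  rw [q4_tw, q4_tw] at e3
  rw [iv_q _ d rfl e3, ← vec_eq] at e2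
  exact comm_of_conj e2

theorem mon' (a : Commute g (jv f (ev (σ 0)))) (b : g ∈ 𝐍[JJ f]) :
    ∃ k, (X ∉ D → PA k) ∧ Act x (π g) k := by
  obtain ⟨L, c⟩ := h.exAc b
  obtain ⟨τ, ε, c1, c2, c3⟩ := h.mono c (i := σ 0) (j := σ 0)
    (Or.inl (h.jinj ((c _).symm.trans (conj_of_comm a))))
  obtain ⟨k, k1, k2⟩ := monA (σ⁻¹ * τ * σ) (mem_l6 _ (by simp [c1])) (tw σ⁻¹ ε) fun i => c2 _
  have u : ∀ v ∈ (es [1, 3, 9] : List Pr.V), π g * x v * (π g)⁻¹ = x (ac k v) := fun v hv => by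
    have := sp_tw σ (σ⁻¹ * τ * σ) (tw σ⁻¹ ε) (iv v)
    rw [tw_tw, show σ * (σ⁻¹ * τ * σ) * σ⁻¹ = τ by group, k2 v hv] at this
    rw [y.val, y.val, ← y.q.map_conj a (h.jc _ _), c3, vec_eq, vec_eq, this]
  exact ⟨k, fun d => k1 (by simp [show Perm.sign τ = 1 from by_contra fun e1 => d (h.odd c3 c2 e1)]),
    Act.of_three (u _ (by simp [es])) (u _ (by simp [es])) (u _ (by simp [es]))⟩

/-- `cent`: `comm` and `cJ`; `mon`: `NJ.mono`, every signed permutation of three places is some `ac k`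
(`Act.of_three`, decide); `sig`: `CQ.sig`. -/
theorem mf : MF x where
  inj := (injective_iff_map_eq_one _).2 fun v a => by
    obtain ⟨c, e1⟩ := (mem_zp h.toCh).1 ((y.q.ker (h.jc _ _)).1 ((y.val v).symm.trans a))
    have := h.jinj e1
    rw [vec_eq, ev_eq, ← tw_smul] at this
    exact iv_one v ⟨c, tw_inj this⟩
  cent := fun g a => by
    obtain ⟨g, c, rfl⟩ := y.q.surj g
    rw [y.range h]
    refine y.q.mem_im_of (h.cJ fun w => ?_) c
    obtain ⟨v, d, rfl⟩ := dec σ w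
    obtain ⟨i, e1⟩ := (mem_zp h.toCh).2 ⟨d, rfl⟩
    rw [h.add, ← e1]
    exact (y.comm h c (a v)).mul_right (c.zpow_right i)
  mon := fun n hn => by
    obtain ⟨g, c, rfl⟩ := y.q.surj n
    exact (y.mon' h c ((y.nrm h c).1 hn)).imp fun _ a => a.2
  sig := by
    rw [y.range h]
    exact y.q.sig (h.j3 _) (fun a => (by decide : ∀ i, ev i ≠ 0) _ (h.j1 a)) (fun p hp => by
      obtain ⟨w, rfl⟩ := h.memJ.1 hp; exact h.jc _ _) h.sig

/-- `x (e 13)` is singular and orthogonal to `ev (σ 0)`: `comm`, `cZE` -/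
theorem ca (g : Γ) (a : Commute g (x (e 13))) : g ∈ 𝐍[x.range] := by
  obtain ⟨g, c, rfl⟩ := y.q.surj g
  refine (y.nrm h c).2 (h.cZE (fun b => ?_) ?_ ?_ ?_ (y.comm h c a) c)
  · rw [vec_eq] at b
    exact absurd (tw_inj (v := 0) b) (by decide +kernel)
  · rw [vec_eq, q4_tw]; decide +kernel
  · rw [ev_eq, q4_tw]; decide
  · rw [vec_eq, ev_eq, b4_tw]; decide +kernel

/-- the diagonal elements and the 3-cycle are induced (`exm`), the transposition if `X ∈ D` -/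
theorem gam (a : PA k ∨ X ∈ D) : k ∈ Gam x ⊤ := by
  obtain ⟨n, L, a1, a2, a3⟩ := exKL h σ a
  exact ⟨π n, trivial, y.act h a1.1 a2 a3⟩

/-- `NJ.odd` -/
theorem pa (a : X ∉ D) (b : k ∈ Gam x ⊤) : PA k := by
  obtain ⟨n, -, b⟩ := b
  obtain ⟨g, c, rfl⟩ := y.q.surj n
  obtain ⟨l, d, e1⟩ := y.mon' h c ((y.nrm h c).1 b.norm)
  exact b.eq (y.mf h).inj e1 ▸ d a

/-- κ-lifts `ρ` of the 3-cycle `σ 1 → σ 2 → σ 3` and `s` of the transposition `(σ 1, σ 2)`; the relations by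
`kp_eq`, `kp_one`. -/
theorem nf (a : X ∈ D) : ∃ ρ s, NF x ρ s := by
  obtain ⟨n, hn⟩ := exKL (k := e 1) h σ (Or.inr a)
  obtain ⟨m, hm⟩ := exKL (k := e 3) h σ (Or.inr a)
  have e1 := ((hn.mul hn).mul hn).one h bd!
  have e2 := (hm.mul hm).one h bd!
  have e3 := (((hm.mul hn).mul hm).mul hn).one h bd!
  obtain ⟨L, a1, a2, a3⟩ := hn
  obtain ⟨L', b1, b2, b3⟩ := hm
  have c := a1.1.comm a2
  have d := b1.1.comm b2
  have f2 : π m * π m = 1 := by rw [← y.q.mul d d, e2, y.q.map_one]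
  refine ⟨π n, π m, ⟨y.mf h, ?_, f2, ?_, y.act h a1.1 a2 a3, y.act h b1.1 b2 b3⟩, y.ca h⟩
  · rw [← y.q.map_pow c, pow_three', e1, y.q.map_one]
  · rw [inv_eq_of_mul_eq_one_right f2, eq_inv_iff_mul_eq_one, ← y.q.mul d c, ← y.q.mul (d.mul_left c) d,
      ← y.q.mul ((d.mul_left c).mul_left d) c, e3, y.q.map_one]

end YF

end Cfsg.Agent.O8T
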