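import Cfsg.Agent.Loc3.O8U
import Cfsg.Agent.Loc3.O8Y
import Cfsg.Agent.Loc3.O8X2

/-!
S3372.  The centraliser of `t`.  Read `Loc3/O8D`, `O8G`, `O8U`, `O8X0`–`O8X2`.
-/

set_option autoImplicit false
set_option linter.unusedSectionVars false
set_option linter.unusedVariables false
set_option maxRecDepth 100000
set_option synthInstance.maxHeartbeats 400000
set_option synthInstance.maxSize 4000

namespace Cfsg.Agent.O8T

open Subgroup Cfsg Cfsg.Agent.PLocal.Amb Cfsg.Agent.Loc3 Cfsg.Agent.Comp Cfsg.Agent.LES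
open Cfsg.Agent.X32 (TG)
open Cfsg.Agent.X32.TG
open Cfsg.Agent.Loc3.Pr hiding V rf
open Cfsg.Agent.TT (XS)
open Cfsg.Agent.PS4 (K2 l2)
open Equiv (Perm swap)
open scoped commutatorElement

variable {G : Type*} [Group G] [Finite G] {D : Subgroup K} {f : K → G} {E M : Subgroup G} {g m u : G}

open YA (iv pc l6 iv_mul iv_pc iv_one mem_l6 monA monB)

attribute [local instance 10] YA.bdDec

theorem m_index {Γ : Type*} [Group Γ] {π : G → Γ} {s : G} (q : CQ s π) {S : Subgroup G} (hs : s ∈ S) :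
    (q.im S).index = S.relIndex (centralizer {s}) :=
  index_map_eq _ q.hom_surj fun g hg => zpowers_le.2 hs ((q.ker (mem_cent.1 g.2)).1 hg)

theorem m_card {Γ : Type*} [Group Γ] [Finite Γ] {π : G → Γ} {s : G} (q : CQ s π) {S : Subgroup G}
    (hs : s ∈ S) (hc : ∀ g ∈ S, Commute g s) : Nat.card (q.im S) * orderOf s = Nat.card S := by
  have h1 := card_mul_index (q.im S)
  have h2 := x0_card S (centralizer {s})
  rw [inf_eq_right.2 fun g hg => mem_cent.2 (hc g hg), ← q.card_mul, ← h1, m_index q hs] at h2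
  refine Nat.eq_of_mul_eq_mul_right (Nat.pos_of_ne_zero (x0_ne S (centralizer {s}))) ?_
  rw [h2]; ring

theorem m_iv {w : V4} (a : w 0 = 0) : ∃ v, w = iv v :=
  ⟨pc w, by simpa [a] using iv_pc w⟩

theorem m_monC : ∀ k : H, P8 k → ∃ ε : V4, Sn ε ∧
    ∀ v ∈ (es [1, 3, 9] : List Pr.V), sp 1 ε (iv v) = iv (ac k v) := bd!

theorem m_unit : iv (e 1) = ev 1 ∧ iv (e 3) = ev 2 ∧ iv (e 9) = ev 3 := bd!

/-- the monomial matrices with an even permutation -/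
def sPA : Subgroup H where
  carrier := {k | PA k}
  one_mem' := (bd! : PA 1)
  mul_mem' := fun {a b} ha hb => (bd! : ∀ a : H, PA a → ∀ b : H, PA b → PA (a * b)) a ha b hb
  inv_mem' := fun {a} ha => (bd! : ∀ a : H, PA a → PA a⁻¹) a ha

theorem sPA_index : sPA.index = 2 := index_eq_two_iff.2 ⟨e 3, fun b =>
  (bd! : ∀ b : H, (PA (b * e 3) ∧ ¬ PA b) ∨ (PA b ∧ ¬ PA (b * e 3))) b⟩

namespace ME

variable (h : ME D f E M)
include h

theorem tE : f T ∈ E := h.xs.z_mem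

theorem tM : f T ∈ M := h.EM h.tE

theorem EC (a : g ∈ E) : Commute g (f T) := h.MC g (h.EM a)

theorem jt (v : Pr.V) : Commute (jv f (iv v)) (f T) := h.jT rfl

theorem jM {v : V4} (a : v 0 = 0) : jv f v ∈ M := h.nM _ (le_normalizer (Ch.jJ v)) (h.jT a)

theorem cop3 : Nat.Coprime 3 (orderOf (f T)) := by rw [h.xs.orderOf_z]; norm_num

theorem J0 (a : g ∈ JJ f) (b : Commute g (f T)) : ∃ v, g = jv f (iv v) := by
  obtain ⟨w, rfl⟩ := h.memJ.1 a
  obtain ⟨v, rfl⟩ := m_iv ((by decide +kernel : ∀ w : V4, rf (ev 0) w = w → w 0 = 0) w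
    (h.jinj ((h.acT w).symm.trans (conj_of_comm b.symm))))
  exact ⟨v, rfl⟩

theorem fac' (a : m ∈ M) : ∃ e ∈ E, ∃ n ∈ 𝐍[JJ f], Commute n (f T) ∧ m = e * n := by
  obtain ⟨e, he, n, hn, rfl⟩ := h.fac m a
  exact ⟨e, he, n, hn, h.MC n ((mul_mem_cancel_left (h.EM he)).1 a), rfl⟩

section
variable {Γ : Type*} [Group Γ] [Finite Γ] {π : G → Γ} (q : CQ (f T) π) {x : Pr.V →* Γ}
include q

theorem exx : ∃ x : Pr.V →* Γ, ∀ v, x v = π (jv f (iv v)) :=
  ⟨MonoidHom.mk' (fun v => π (jv f (iv v))) fun v w => by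
    rw [iv_mul, h.add, q.mul (h.jt _) (h.jt _)], fun _ => rfl⟩

theorem eq3 {a b : G} (ca : Commute a (f T)) (cb : Commute b (f T)) (a3 : a ^ 3 = 1) (b3 : b ^ 3 = 1)
    (c : π a = π b) : a = b := by
  refine ((q.eq_iff_two h.t2 ca cb).1 c).resolve_right fun e => h.xs.z_ne (x0_one h.t2 ?_)
  rwa [e, cb.mul_pow, b3, one_mul] at a3

theorem wcm {a b : G} (ha : a ∈ E) (hb : b ∈ E) : Commute (π a) (π b) := by
  rw [Commute, SemiconjBy, ← q.mul (h.EC ha) (h.EC hb), ← q.mul (h.EC hb) (h.EC ha),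
    q.eq_iff_two h.t2 (h.EC (mul_mem ha hb)) (h.EC (mul_mem hb ha))]
  exact h.xs.comm a ha b hb

variable (val : ∀ v, x v = π (jv f (iv v)))
include val

theorem act {n : G} {L : V4 → V4} {k : H} (a : Ac f n L) (b : Commute n (f T))
    (c : ∀ v ∈ (es [1, 3, 9] : List Pr.V), L (iv v) = iv (ac k v)) : Act x (π n) k := by
  have u : ∀ v ∈ (es [1, 3, 9] : List Pr.V), π n * x v * (π n)⁻¹ = x (ac k v) := fun v hv => by
    rw [val, val, ← q.map_conj b (h.jt _), a, c v hv]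
  exact Act.of_three (u _ (by simp [es])) (u _ (by simp [es])) (u _ (by simp [es]))

theorem mon' (a : g ∈ 𝐍[JJ f]) (b : Commute g (f T)) : ∃ k, (X ∉ D → PA k) ∧ Act x (π g) k := by
  obtain ⟨σ, ε, c1, c2, c3⟩ := h.monoT a b
  obtain ⟨k, k1, k2⟩ := monA σ (mem_l6 _ c1) ε c2
  exact ⟨k, fun d => k1 (by_contra fun e1 => d (h.toNJ.odd c3 c2 e1)), h.act q val c3 b k2⟩

theorem gam {k : H} (a : PA k ∨ X ∈ D) : k ∈ Gam x ⊤ := by
  obtain ⟨τ, t1, ε, a1, a2, -, a4⟩ := monB k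
  obtain ⟨n, hn⟩ := h.exm (σ := τ) (a.imp_left a2) a1
  exact ⟨π n, trivial, h.act q val hn.1
    (h.kT hn ((by decide +kernel : ∀ τ ∈ l6, τ 0 = 0) τ t1)) fun v _ => a4 v⟩

theorem nrm' (a : Commute g (f T)) (b : π g ∈ 𝐍[x.range]) : g ∈ 𝐍[JJ f] := h.n0 fun v hv => by
  obtain ⟨v, rfl⟩ := m_iv hv
  obtain ⟨w, e1⟩ := conj_mem_of_mem_normalizer b (⟨v, rfl⟩ : x v ∈ x.range)
  refine ⟨iv w, rfl, h.eq3 q ((a.mul_left (h.jt v)).mul_left a.inv_left) (h.jt w) ?_ (h.j3 _) ?_⟩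
  · rw [conj_pow, h.j3]; simp
  · rw [q.map_conj a (h.jt v), ← val, ← val, e1]

theorem ax' : AX x (q.im E) (q.im M) where
  inj := (injective_iff_map_eq_one _).2 fun v a => by
    have := h.eq3 q (h.jt v) (Commute.one_left _) (h.j3 _) (one_pow 3)
      (by rw [← val, a, q.map_one])
    exact iv_one v ⟨0, by rw [h.j1 this, zero_smul]⟩
  cent := fun g a => by
    obtain ⟨g, c, rfl⟩ := q.surj g
    have b : ∀ v, Commute g (jv f (iv v)) := fun v =>
      q.comm_of_comm c (h.jt v) (val v ▸ a v) (h.j3 _) h.cop3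
    rcases h.c0 (g := g) (fun i hi => by
      obtain ⟨v, e⟩ := m_iv (w := ev i) (if_neg hi.symm)
      exact e ▸ b v) with d | d
    · obtain ⟨v, rfl⟩ := h.J0 d c
      exact ⟨v, val v⟩
    · obtain ⟨v, e⟩ := h.J0 d (c.mul_left (Commute.refl _))
      exact ⟨v, by rw [val, ← e, q.mul c (Commute.refl _), q.map_s, mul_one]⟩
  uf := fun v v1 => ⟨val v ▸ q.mem_im_of (h.jM rfl) (h.jt v), fun g a => by
    obtain ⟨g, c, rfl⟩ := q.surj g
    rw [val, ← q.map_conj c (h.jt v)] at a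
    refine q.mem_im_of (h.toLC.uf h.nM (fun a b => h.EM (h.rE a b)) h.MC (v := iv v) rfl
      (fun e => v1 (iv_one v ⟨0, by rw [e, zero_smul]⟩)) c
      (q.mem_of_mem_im h.tM ((c.mul_left (h.jt v)).mul_left c.inv_left) a)) c⟩
  w2 := fun w a' => by
    obtain ⟨w, a, c, rfl⟩ := q.mem_im.1 a'
    rw [← q.mul c c, q.eq_one_iff_two h.t2 (c.mul_left c)]
    exact h.xs.sq a
  le := map_mono fun _ a => h.EM a
  nw := fun m a' => mem_normalizer_fintype fun w b' => by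
    obtain ⟨m, a, c, rfl⟩ := q.mem_im.1 a'
    obtain ⟨w, b, d, rfl⟩ := q.mem_im.1 b'
    rw [← q.map_conj c d]
    exact q.mem_im_of (conj_mem_of_mem_normalizer (h.MN a) b) ((c.mul_left d).mul_left c.inv_left)
  big := Or.inr (by
    have := m_card q h.tE fun _ => h.EC
    rw [h.xs.orderOf_z, h.card] at this
    omega)
  fpf := fun v hv w a' b => by
    obtain ⟨w, a, c, rfl⟩ := q.mem_im.1 a'
    obtain ⟨i, i0, e⟩ := (bd! : ∀ v ∈ (es [1, 3, 9] : List Pr.V), ∃ i ∈ [1, 2, 3], iv v = ev i) v hv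
    rw [q.eq_one_iff_two h.t2 c]
    exact h.fpf i ((by decide : ∀ i ∈ [1, 2, 3], i ≠ (0 : Fin 4)) i i0) w a
      (e ▸ q.comm_of_comm c (h.jt v) (val v ▸ b) (h.j3 _) h.cop3)
  fac := fun m a' => by
    obtain ⟨m, a, -, rfl⟩ := q.mem_im.1 a'
    obtain ⟨e, he, n, hn, c, rfl⟩ := h.fac' a
    obtain ⟨k, -, b⟩ := h.mon' q val hn c
    exact ⟨_, q.mem_im_of he (h.EC he), _, k, b, q.mul (h.EC he) c⟩
  dg := fun k a => h.gam q val (Or.inl ((bd! : ∀ k ∈ (es [6, 12, 24] : List H), PA k) k a))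

end

/-- `exists_lin`.  `inj`: `J ∩ ⟨t⟩ = 1`.  `cent`: `CQ.comm_of_comm`, `c0` (an element of `J` commuting with
`t` lies in `J₀`).  `uf`: `LC.uf`.  `w2`: `XS.sq`.  `big`: `|E/t| = 256`.  `fac`: `m = e n`, `n` commutes with
`t`, `monoT`, and each signed permutation of three places is some `ac k` (`Act.of_three`).  `dg`: `exm`, `kT`. -/
theorem ax {Γ : Type*} [Group Γ] [Finite Γ] {π : G → Γ} (q : CQ (f T) π) : ∃ x : Pr.V →* Γ,
    x (e 1) = π (jv f (ev 1)) ∧ x (e 3) = π (jv f (ev 2)) ∧ x (e 9) = π (jv f (ev 3)) ∧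
      AX x (q.im E) (q.im M) := by
  obtain ⟨x, val⟩ := h.exx q
  exact ⟨x, by rw [val, m_unit.1], by rw [val, m_unit.2.1], by rw [val, m_unit.2.2], h.ax' q val⟩

/-- `NJ.odd` shows `Gam ≤ PA` (a preimage of `n ∈ N(J̄₀)` normalises `J₀`, so `J` by `n0`), `top1` -/
theorem cT (a : X ∉ D) (b : Commute g (f T)) : g ∈ M := by
  obtain ⟨Γ, _, _, π, q⟩ := exists_CQ (f T)
  obtain ⟨x, val⟩ := h.exx q
  have y := h.ax' q val
  refine q.mem_of_mem_im h.tM b (y.top1 (fun k ⟨n, _, c⟩ => ?_) ▸ mem_top _)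
  obtain ⟨n, d, rfl⟩ := q.surj n
  obtain ⟨l, e1, e2⟩ := h.mon' q val (h.nrm' q val d c.norm) d
  exact c.eq y.inj e2 ▸ e1 a

theorem inn {v : V4} {a b : G} (o : v 0 = 0) (ha : a ∈ E) (hb : b ∈ E)
    (c : ∀ e ∈ E, Commute (a * jv f v * b) e) : v = 0 := by
  obtain ⟨Γ, _, _, π, q⟩ := exists_CQ (f T)
  refine h.fth v o fun y hy => q.comm_of_comm (h.EC hy) (h.jT o) ?_ (h.j3 v) h.cop3
  have c1 := (h.EC ha).mul_left (h.jT o)
  have : Commute (π (a * jv f v * b)) (π y) := by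
    rw [Commute, SemiconjBy, ← q.mul (c1.mul_left (h.EC hb)) (h.EC hy), (c y hy).eq,
      q.mul (h.EC hy) (c1.mul_left (h.EC hb))]
  rw [q.mul c1 (h.EC hb), q.mul (h.EC ha) (h.jT o)] at this
  have := ((h.wcm q ha hy).inv_left.mul_left this).mul_left (h.wcm q hb hy).inv_left
  simpa [mul_assoc] using this.symm

/-- `m = e n`; `n` acts on `E` trivially modulo `t`, so `⁅n, j v⁆ ∈ J₀` does, and being of order three it
centralises `E`; `fth` gives `⁅n, j v⁆ = 1`; by `c0`, `n ∈ J₀ ⟨t⟩`, so `m = e' * j v`, and `fth` again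
(`j v` acts as an inner automorphism, trivially modulo `t`); `XS.cent`. -/
theorem cE' (a : m ∈ M) (b : ∀ e ∈ E, Commute m e) : m = 1 ∨ m = f T := by
  obtain ⟨y, hy, n, hn, c, rfl⟩ := h.fac' a
  obtain ⟨σ, ε, c1, c2, c3⟩ := h.monoT hn c
  have k : ∀ v : V4, v 0 = 0 → Commute n (jv f v) := fun v o => by
    have o1 : (sp σ ε v - v) 0 = 0 := by
      rw [Pi.sub_apply, sp, Perm.inv_eq_iff_eq.2 c1.symm, o, mul_zero, sub_zero]
    have jN := h.MN (h.jM o)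
    refine c3.comm (sub_eq_zero.1 (h.inn o1 hy (conj_mem_of_mem_normalizer jN (inv_mem hy))
      fun z hz => ?_))
    have d := Commute.cj (b _ (inv_conj_mem_of_mem_normalizer jN hz)).inv_left (jv f v)
    rw [show jv f v * ((jv f v)⁻¹ * z * jv f v) * (jv f v)⁻¹ = z by group] at d
    rw [sub_eq_add_neg, h.add, h.neg, ← c3, show y * (n * jv f v * n⁻¹ * (jv f v)⁻¹) *
      (jv f v * y⁻¹ * (jv f v)⁻¹) = y * n * (jv f v * (y * n)⁻¹ * (jv f v)⁻¹) by group]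
    exact (b z hz).mul_left d
  have l : ∀ w, y * jv f (iv w) ∈ E ∨ ¬ ∃ z ∈ E, y * n = y * jv f (iv w) * z := fun w => by
    refine or_iff_not_imp_right.2 fun e => ?_
    obtain ⟨z, hz, e⟩ := not_not.1 e
    rw [h.inn (v := iv w) rfl hy hz (e ▸ b), h.zero, mul_one]
    exact hy
  refine h.xs.cent _ ?_ fun z hz => b z hz
  rcases h.c0 (g := n) (fun i hi => k _ (if_neg hi.symm)) with d | d
  · obtain ⟨w, rfl⟩ := h.J0 d c
    exact (l w).resolve_right (not_not.2 ⟨1, one_mem _, (mul_one _).symm⟩)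
  · obtain ⟨w, e⟩ := h.J0 d (c.mul_left (Commute.refl _))
    have := (l w).resolve_right (not_not.2 ⟨_, inv_mem h.tE, by rw [← e]; group⟩)
    rwa [← e, ← mul_assoc, mul_mem_cancel_right h.tE] at this

/-- `AX.odd` (`f C` gives `e 1 ∈ Gam`): `M` has odd index in `C(t)`.  For a Sylow 2-subgroup `P ≥ E` of `M`
we have `Z(P) = ⟨t⟩` (`cE'`), so `N(P) ≤ C(t)` and `P` is Sylow in `G`. -/
theorem odd : Odd M.index := by
  have := Fact.mk Nat.prime_two
  obtain ⟨Γ, _, _, π, q⟩ := exists_CQ (f T)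
  obtain ⟨x, val⟩ := h.exx q
  have o := (h.ax' q val).odd (h.gam q val (Or.inl bd!))
  rw [m_index q h.tM] at o
  have MC : M ≤ centralizer {f T} := fun m a => mem_cent.2 (h.MC m a)
  obtain ⟨P, hP, EP⟩ := exists_isSyl_ge h.xs.isPGroup h.EM
  have s1 : IsSyl 2 P (centralizer {f T}) := by
    refine isSyl_of_not_dvd_relIndex hP.pgrp (hP.le.trans MC) fun a => ?_
    rw [← relIndex_mul_relIndex P M _ hP.le MC] at a
    exact ((Nat.Prime.dvd_mul Nat.prime_two).1 a).elim hP.not_dvd_relIndex o.not_two_dvd_nat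
  have s2 : IsSyl 2 P ⊤ := by
    refine isSyl_of_isSyl_normalizer (s1.mono (le_inf le_top le_normalizer) fun g a => ?_)
    refine mem_cent.2 (comm_of_conj ((h.cE' (hP.le (conj_mem_of_mem_normalizer a.2 (EP h.tE)))
      fun y hy => ?_).resolve_left fun e => h.xs.z_ne (conj_eq_one_iff.1 e)))
    have := Commute.cj (h.MC _ (hP.le (inv_conj_mem_of_mem_normalizer a.2 (EP hy)))).symm g
    convert this using 1; group
  refine Nat.odd_iff.2 (Nat.two_dvd_ne_zero.1 fun a => s2.not_dvd_relIndex ?_)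
  rw [relIndex_top_right]
  exact a.trans (index_dvd_of_le hP.le)

/-- `α` of `exists_ak` maps `M/t` onto `H` (order 48) with kernel `W J̄₀`, `|W| = 2⁸` -/
theorem cardM (a : X ∈ D) : 2 ^ 13 ∣ Nat.card M := by
  obtain ⟨Γ, _, _, π, q⟩ := exists_CQ (f T)
  obtain ⟨x, val⟩ := h.exx q
  have y := h.ax' q val
  obtain ⟨α, w, sp⟩ := y.exists_a
  have p : PH (q.im M) (q.im E ⊔ x.range) α := ⟨w, fun k => by
    obtain ⟨n, -, b⟩ := h.gam q val (k := k) (Or.inr a)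
    exact ⟨n, y.nM b.norm, by simpa using sp 1 (one_mem _) n k b⟩⟩
  have c1 := p.card_mul
  have c2 := m_card q h.tE fun _ => h.EC
  have c3 := m_card q h.tM h.MC
  obtain ⟨c, c4⟩ := card_dvd_of_le (le_sup_left : q.im E ≤ q.im E ⊔ x.range)
  rw [h.xs.orderOf_z] at c2 c3
  rw [h.card] at c2
  rw [show Nat.card H = 48 from TG.card, c4, show Nat.card (q.im E) = 256 by omega] at c1
  exact ⟨3 * c, by omega⟩

/-- `M₀` is the preimage of `PA` (`∀ a b : H, (PA a ↔ PA b) ↔ PA (a * b)`), `α (π c) = ` a transposition.  Let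
`u ∈ M₀` be an involution; `invol`: `π u = w n` with `n` acting as an involution or `1` of `PA`, which is
diagonal.  If it is `1`, then `n ∈ J̄₀`, `n = 1` and `u ∈ E`.  Otherwise `free`, `conj2`: `π u` is conjugate to
`π d`, `d` the κ-lift of a diagonal matrix with `ε 0 = 1`; so `u ~ d` or `u ~ d t`, again a diagonal κ-lift. -/
theorem exists_M0 (a : X ∈ D) : ∃ M₀ ≤ M, M₀.relIndex M = 2 ∧ ∀ u ∈ M₀, u * u = 1 →
    u ∈ E ∨ ∃ n ε, Sn ε ∧ Kp f n (sp 1 ε) ∧ IsConj u n := by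
  obtain ⟨Γ, _, _, π, q⟩ := exists_CQ (f T)
  obtain ⟨x, val⟩ := h.exx q
  have y := h.ax' q val
  obtain ⟨α, w, sp⟩ := y.exists_a
  have mi : ∀ {m}, m ∈ M → π m ∈ q.im M := fun a => q.mem_im_of a (h.MC _ a)
  let β : M →* H := MonoidHom.mk' (fun m => α (π m)) fun a b => by
    rw [coe_mul, q.mul (h.MC _ a.2) (h.MC _ b.2), w.mul (mi a.2) (mi b.2)]
  have su : Function.Surjective β := fun k => by
    obtain ⟨n, -, b⟩ := h.gam q val (k := k) (Or.inr a)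
    obtain ⟨m, c, -, rfl⟩ := q.mem_im.1 (y.nM b.norm)
    exact ⟨⟨m, c⟩, show α (π m) = k by simpa using sp 1 (one_mem _) _ k b⟩
  refine ⟨(sPA.comap β).map M.subtype, map_subtype_le _, ?_, ?_⟩
  · rw [relIndex, map_subtype_subgroupOf, index_comap_of_surjective _ su, sPA_index]
  rintro _ ⟨⟨u, uM⟩, pa, rfl⟩ u2
  change u * u = 1 at u2
  change PA (α (π u)) at pa
  change u ∈ E ∨ ∃ n ε, Sn ε ∧ Kp f n (O8T.sp 1 ε) ∧ IsConj u n
  have cu := h.MC u uM
  obtain ⟨z, hz, n, k, b, e1, n2, k2, c⟩ := y.invol (mi uM) (by rw [← q.mul cu cu, u2, q.map_one])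
  rw [e1, sp z hz n k b] at pa
  rcases (bd! : ∀ k : H, PA k → k * k = 1 → k = 1 ∨ (P8 k ∧ ∃ v ∈ (es [1, 3, 9] : List Pr.V),
    ac k v = v⁻¹)) k pa k2 with rfl | ⟨p8, v, hv, iv⟩
  · obtain ⟨v, rfl⟩ := y.mem_of_act b
    rw [x0_one n2 (xcube x v), mul_one] at e1
    exact Or.inl (q.mem_of_mem_im h.tE cu (e1 ▸ hz))
  right
  obtain ⟨p, hp, e2⟩ := y.free hv b iv n2 hz c
  obtain ⟨ε, s, e3⟩ := m_monC k p8
  obtain ⟨d, hd⟩ := h.exm (σ := 1) (Or.inl (map_one _)) s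
  have cd := h.kT hd rfl
  have ad := h.act q val hd.1 cd e3
  obtain ⟨j, -, e4⟩ := conj2 (K := x.range) (isPGroup_iff.2 (by
    rintro _ ⟨v, rfl⟩; exact ⟨1, xcube x v⟩)) n2 (b := π d)
    (by rw [← q.mul cd cd, h.dsq hd s, q.map_one]) (y.mem_of_act ((b.mul ad).cong k2))
  obtain ⟨r, cr, e5⟩ := q.surj (p⁻¹ * j)
  have e6 : π u = π (r * d * r⁻¹) := by
    rw [q.map_conj cr cd, e5, e1, show p⁻¹ * j * π d * (p⁻¹ * j)⁻¹ = p⁻¹ * (j * π d * j⁻¹) * p by group,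
      e4]
    conv_rhs => rw [← e2]
    group
  rcases (q.eq_iff_two h.t2 cu ((cr.mul_left cd).mul_left cr.inv_left)).1 e6 with e7 | e7
  · exact ⟨d, ε, s, hd, (isConj_iff.2 ⟨r, e7.symm⟩).symm⟩
  · refine ⟨d * f T, ε * sn 0, fun i => mul_ne_zero (s i) ((by decide : ∀ i, sn 0 i ≠ 0) i),
      (hd.mul h.kpT).cong fun v => ?_, (isConj_iff.2 ⟨r, ?_⟩).symm⟩
    · funext i
      simp [O8T.sp, mul_assoc]
    · rw [e7, ← conj_mul, conj_of_comm cr]

end ME

end Cfsg.Agent.O8T
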