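import Cfsg.Agent.Loc3.O8D

/-! Table facts for `Loc3/O8N`. -/

set_option autoImplicit false
set_option maxRecDepth 100000
set_option synthInstance.maxHeartbeats 400000
set_option synthInstance.maxSize 4000

namespace Cfsg.Agent.O8T

open Subgroup Cfsg Cfsg.Agent.PLocal.Amb Cfsg.Agent.Loc3 Cfsg.Agent.Comp Cfsg.Agent.LES
open Cfsg.Agent.X32 (TG)
open Cfsg.Agent.X32.TG
open Cfsg.Agent.Loc3.Pr hiding V rf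
open Cfsg.Agent.TT (XS)
open Cfsg.Agent.PS4 (K2 l2)
open Cfsg.Agent.G23.Am (seg_le card_seg)
open Equiv (Perm swap)
open scoped commutatorElement

namespace ON

instance evCm (a b : K) {m n : ℕ} [EV a m] [EV b n] {r : ℕ} [h : EV (a * b * a⁻¹ * b⁻¹) r] :
    EV ⁅a, b⁆ r := ⟨h.h⟩

theorem cc : ∀ x ∈ sS, ∀ j ∈ sJ, ⁅x, ⁅x, j⁆⁆ ∈ [1, Z, Z⁻¹] := bd!

theorem s27 : ∀ x ∈ sS, x ^ 3 ^ 3 = 1 ∧ x ∈ s1 := bd!

theorem cB : B ∈ sS ∧ Commute B (jK ![0, 2, 0, 1]) ∧ ⁅B, ⁅B, g2⁆⁆ ∈ [Z, Z⁻¹] ∧ jK ![0, 2, 0, 1] ∉ sZ := bd!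

theorem cC : C ∈ sS ∧ Commute C (jK (ev 0)) ∧ ⁅C, ⁅C, g2⁆⁆ ∈ [Z, Z⁻¹] ∧ jK (ev 0) ∉ sZ := bd!

noncomputable def lO : List K := es [0, 27, 54, 81, 108, 135, 162, 189, 216,
  729, 756, 783, 810, 837, 864, 891, 918, 945,
  1458, 1485, 1512, 1539, 1566, 1593, 1620, 1647, 1674,
  2187, 2214, 2241, 2268, 2295, 2322, 2349, 2376, 2403]

theorem lO1 : ∀ k ∈ lO, k ∈ s1 := bd!

theorem mA : ∀ v, jK v ∈ sA ↔ b4 (zz 0) v = 0 := bd!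

theorem o1 : ∀ u ∈ [ev 0, ![0, 2, 0, 1], zz 1, zz 1 + zz 0, zz 1 - zz 0], ∀ v, q4 u = q4 v →
    (b4 (zz 0) u = 0 ↔ b4 (zz 0) v = 0) → ∃ k ∈ lO, k * jK u * k⁻¹ = jK v := bd!

theorem o0 : ∀ v, q4 v = 0 → b4 (zz 0) v = 0 → v ≠ 0 →
    ∃ k ∈ lO, k * Z * k⁻¹ = jK v ∨ k * (A * V) * k⁻¹ = jK v := bd!

theorem kA : ∀ k ∈ sS, Commute k A → k ^ 3 = 1 → k ∉ sJ → k ∈ sQ ∧ k ∉ s81 := bd!

theorem kB : ∃ l ∈ lR, ∃ v, l * B * l⁻¹ = jK v := bd!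

theorem kZ : ∀ v, Commute B (jK v) → Commute C (jK v) → jK v ∈ [1, Z, Z⁻¹] := bd!

noncomputable def lα : List K := [N, N⁻¹, Y * Z, (Y * Z)⁻¹, R, A, A⁻¹, C, C⁻¹, X]

theorem exists_al0 : ∃ α : K →* K, ∀ W, α (BN.ev (tup lK) W) = BN.ev (tup lα) W :=
  link_hom link2 (sat_tup le_rfl bd! bd!)

theorem exists_al : ∃ α : K →* K, α Z = Z ∧ α (A * V) = A * V ∧ α Y = Y * Z ∧ α X = X ∧
    (∀ k ∈ s1, α k ∈ s1) ∧ Function.Bijective α := by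
  obtain ⟨α, hα⟩ := exists_al0
  have key : ∀ W (a b : K), BN.ev (tup lK) W = a ∧ BN.ev (tup lα) W = b → α a = b :=
    fun W a b c => by rw [← c.1, ← c.2, hα]
  have eX : α X = X := key [9] _ _ bd!
  refine ⟨α, key [3, 7, 3, 7, 3, 7, 3, 7, 3, 7, 3, 7] _ _ bd!,
    key [5, 2, 8, 3, 7, 2, 8, 3, 7] _ _ bd!, key [2] _ _ bd!, eX, fun k hk => ?_, ?_⟩
  · refine seg_le (h := hs1) (H := s1.comap α) (fun g hg => ?_) hk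
    obtain ⟨W, -, e, m⟩ := (bd! : ∀ g ∈ [Z⁻¹, V⁻¹, A⁻¹, B⁻¹, C⁻¹, Y⁻¹, T, R, N, N⁻¹, Y],
      ∃ W ∈ [[3, 7, 3, 7, 3, 7], [2, 8, 3, 7], [6], [0, 6, 1], [8], [3], [0, 0], [4], [0], [1], [2]],
        BN.ev (tup lK) W = g ∧ BN.ev (tup lα) W ∈ s1) g hg
    rw [mem_comap, ← e, hα]
    exact m
  · have l : s1 ≤ α.range := seg_le (h := hs1) fun g hg => by
      obtain ⟨W, -, e⟩ := (bd! : ∀ g ∈ [Z⁻¹, V⁻¹, A⁻¹, B⁻¹, C⁻¹, Y⁻¹, T, R, N, N⁻¹, Y],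
        ∃ W ∈ [[3, 7, 3, 7, 3, 7], [2, 8, 3, 7], [6], [0, 6, 1], [8],
          [3, 3, 7, 3, 7, 3, 7, 3, 7, 3, 7, 3, 7], [0, 0], [4], [0], [1], [2, 3, 7, 3, 7, 3, 7]],
          BN.ev (tup lα) W = g) g hg
      exact ⟨_, (hα W).trans e⟩
    refine Finite.surjective_iff_bijective.1 fun k => ?_
    rcases s1_or k with a | a
    · exact l a
    · exact (α.range.mul_mem_cancel_right ⟨X, eX⟩).1 (l a)

theorem out3 : ∀ w : V4, b4 (zz 0) w ≠ 0 →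
    ∃ u ∈ [zz 1, zz 1 + zz 0, zz 1 - zz 0], q4 u = q4 w ∧ b4 (zz 0) u ≠ 0 := by decide +kernel

theorem vY : jK (zz 1) = Y ∧ jK (zz 1 + zz 0) = Y * Z ∧ jK (zz 1 - zz 0) = Y * Z * Z := bd!

theorem pol : ∀ u v : V4, b4 u v = 2 * (q4 (u + v) - q4 u - q4 v) := by decide +kernel

theorem thr : ∀ c : ZMod 3, c = 0 ∨ c = 1 ∨ c = 2 := by decide

theorem rf_eq : ∀ u v : V4, rf u v = v + (q4 u * b4 u v).val • u := by decide +kernel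

theorem three : ∀ w : V4, ∃ i : Fin 3, b4 (zz 0) (w + i.val • zz 1) = 0 := by decide +kernel

theorem shift : ∀ u : V4, b4 (zz 0) u = 0 → ∀ i : Fin 5, q4 (u + i.val • zz 0) = q4 u ∧
    b4 (zz 0) (u + i.val • zz 0) = 0 := by decide +kernel

theorem nons : ∀ w : V4, b4 (zz 0) w = 0 → q4 w ≠ 0 → q4 (w + 1 • zz 1) ≠ 0 → q4 (w + 2 • zz 1) ≠ 0 →
    q4 (w + 1 • zz 1) = q4 w ∧ b4 (zz 0) (w + 1 • zz 1) ≠ 0 := by decide +kernel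

end ON

end Cfsg.Agent.O8T
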