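import Cfsg.Agent.Loc3.O8F
import Cfsg.Agent.Loc3.O8NK

/-!
The normaliser of `J` preserves the quadratic form, after changing the chart.
Read `Loc3/O8D`, `Loc3/O8F` first.  The orbits of `N_K(J)` on `J#` are `Z^±` (2), the `q4 = 2` vectors in
`sA = ⟨Z, V, A⟩` (6), the `q4 = 1` vectors in `sA` (6), the other singular vectors in `sA` (12, orbit of
`A * V`), and outside `sA` the vectors with `q4 = 0, 1, 2` (18 each; they are the orbits of `Y`, `Y Z²`,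
`Y Z`).  All orbits are orbits of `⟨sS, R⟩ ≤ s1`: check with `bd!`, e.g.
`∀ v, q4 v = 1 → jK v ∈ sA → ∃ k ∈ sS, k * A * k⁻¹ ∈ [jK v, jK (-v)]`.  In coordinates `sA` is
`v 1 + v 2 + v 3 = 0`.
-/

set_option autoImplicit false
set_option maxRecDepth 100000
set_option synthInstance.maxHeartbeats 400000
set_option synthInstance.maxSize 4000

namespace Cfsg.Agent.O8T

open Subgroup Cfsg Cfsg.Agent.PLocal.Amb Cfsg.Agent.Loc3 Cfsg.Agent.Comp Cfsg.Agent.LES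
open Cfsg.Agent.X32 (TG)
open Cfsg.Agent.X32.TG
open Cfsg.Agent.Loc3.Pr hiding V rf
open Cfsg.Agent.TT (XS)
open Cfsg.Agent.PS4 (K2 l2)
open Cfsg.Agent.G23.Am (seg_le card_seg)
open Equiv (Perm swap)
open scoped commutatorElement

variable {G : Type*} [Group G] [Finite G] {D : Subgroup K} {f : K → G} {x : K} {v : V4}

theorem ON.kZ' : ∀ v, Commute B (jK v) → Commute C (jK v) → q4 v = 0 ∧ b4 (zz 0) v = 0 := bd!

theorem ON.three_mul_le {A B : Subgroup G} (hB : IsPGroup 3 B) (l : A < B) :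
    3 * Nat.card A ≤ Nat.card B := by
  have := Fact.mk Nat.prime_three
  obtain ⟨a, ha⟩ := (hB.to_le l.le).exists_card_eq
  obtain ⟨b, hb⟩ := hB.exists_card_eq
  have h1 : Nat.card A < Nat.card B := lt_of_le_of_ne (card_le_of_le l.le) fun e =>
    l.ne (eq_of_le_of_card_ge l.le e.ge)
  rw [ha, hb] at h1 ⊢
  rw [← pow_succ']
  exact Nat.pow_le_pow_right (by norm_num) ((Nat.pow_lt_pow_iff_right (by norm_num)).1 h1)

namespace Ch

variable (h : Ch D f)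
include h

omit [Finite G] in
theorem on_cmt {a b : K} (ha : a ∈ D) (hb : b ∈ D) : f ⁅a, b⁆ = ⁅f a, f b⁆ :=
  map_commutatorElement h.φ ⟨a, ha⟩ ⟨b, hb⟩

omit [Finite G] h in
theorem on_cmtD {a b : K} (ha : a ∈ D) (hb : b ∈ D) : ⁅a, b⁆ ∈ D := by
  exact mul_mem (mul_mem (mul_mem ha hb) (inv_mem ha)) (inv_mem hb)

theorem on_sN (a : x ∈ sS) : f x ∈ 𝐍[JJ f] :=
  h.sN (h.mem_im.2 ⟨x, a, h.le (ON.s27 x a).2, rfl⟩)

omit [Finite G] in
theorem on_conj {k a b : K} (hk : k ∈ s1) (ha : a ∈ s1) (e : k * a * k⁻¹ = b) : IsConj (f a) (f b) :=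
  isConj_iff.2 ⟨f k, h.cj1 ⟨hk, ha, e⟩⟩

omit [Finite G] h in
theorem on_ac {n : G} {L : V4 → V4} (a : Ac f n L) (v : V4) : IsConj (jv f v) (jv f (L v)) :=
  isConj_iff.2 ⟨n, a v⟩

omit [Finite G] h in
theorem on_z : jv f (zz 0) = f Z := congrArg f jK_val.1

/-- `fus` gives `m ∈ N(J)` with `m (j v) m⁻¹ = z`. -/
theorem cen3 (a : x ∈ sS) (b : Commute x (jK v)) (c : ⁅x, ⁅x, g2⁆⁆ ∈ [Z, Z⁻¹])
    (d : IsConj (f Z) (jv f v)) : jK v ∈ sZ := by
  obtain ⟨m, hm, e⟩ := h.fus (u := v) (v := zz 0) (on_z (f := f) ▸ d.symm)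
  rw [on_z] at e
  have xD : x ∈ D := h.le (ON.s27 x a).2
  have ZD : Z ∈ D := h.le bd!
  have gD : g2 ∈ D := h.le bd!
  obtain ⟨y, hy, ey⟩ := h.mS (g := m * f x * m⁻¹) (i := 3)
    (mul_mem (mul_mem hm (h.on_sN a)) (inv_mem hm))
    (e ▸ Commute.cj ((h.cm xD (h.jD v)).2 b) m)
    (by rw [conj_pow, ← h.pow xD, (ON.s27 x a).1, h.one]; simp)
  have yD : y ∈ D := h.le (ON.s27 y hy).2
  obtain ⟨w, hw⟩ := h.memJ.1 (conj_mem_of_mem_normalizer hm (jJ (f := f) (ev 1)))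
  have e1 : jv f (ev 1) = f g2 := congrArg f jK_val.2.2.2.2.2.1
  have e2 : m * f ⁅x, ⁅x, g2⁆⁆ * m⁻¹ = f ⁅y, ⁅y, jK w⁆⁆ := by
    rw [h.on_cmt xD (on_cmtD xD gD), h.on_cmt xD gD, h.on_cmt yD (on_cmtD yD (h.jD w)),
      h.on_cmt yD (h.jD w), ey, show f (jK w) = m * f g2 * m⁻¹ from e1 ▸ hw]
    simp only [commutatorElement_def]
    group
  have z1 := h.z1
  have e3 : m * f Z * m⁻¹ = f Z ∨ m * f Z * m⁻¹ = (f Z)⁻¹ := by
    have c' := ON.cc y hy _ (jK_mem w)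
    simp only [List.mem_cons, List.not_mem_nil, or_false] at c c'
    rcases c with c | c <;> rcases c' with c' | c' | c' <;> rw [c, c'] at e2
    · exact absurd (by simpa [h.one] using e2) z1
    · exact Or.inl e2
    · exact Or.inr (by rw [e2, h.inv ZD])
    · rw [h.inv ZD] at e2
      exact absurd (by simpa [h.one] using e2) z1
    · rw [h.inv ZD, ← conj_inv] at e2
      exact Or.inr (inv_eq_iff_eq_inv.1 e2)
    · rw [h.inv ZD, ← conj_inv] at e2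
      exact Or.inl (inv_injective e2)
  rcases e3 with e3 | e3
  · have : jK v = Z := h.eq (h.jD v) ZD (mul_left_cancel (mul_right_cancel (e.trans e3.symm)))
    rw [this]; exact bd!
  · have e4 : m * f Z⁻¹ * m⁻¹ = f Z := by rw [h.inv ZD, ← conj_inv, e3, inv_inv]
    have : jK v = Z⁻¹ :=
      h.eq (h.jD v) (inv_mem ZD) (mul_left_cancel (mul_right_cancel (e.trans e4.symm)))
    rw [this]; exact bd!

theorem on_zA : ¬ IsConj (f Z) (jv f (ev 0)) := fun d =>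
  ON.cC.2.2.2 (h.cen3 ON.cC.1 ON.cC.2.1 ON.cC.2.2.1 d)

theorem on_zV : ¬ IsConj (f Z) (jv f ![0, 2, 0, 1]) := fun d =>
  ON.cB.2.2.2 (h.cen3 ON.cB.1 ON.cB.2.1 ON.cB.2.2.1 d)

omit [Finite G] in
theorem on_o1 {u : V4} (hu : u ∈ [ev 0, ![0, 2, 0, 1], zz 1, zz 1 + zz 0, zz 1 - zz 0])
    (a : q4 u = q4 v) (b : b4 (zz 0) u = 0 ↔ b4 (zz 0) v = 0) : IsConj (jv f u) (jv f v) := by
  obtain ⟨k, hk, e⟩ := ON.o1 u hu v a b
  exact h.on_conj (ON.lO1 k hk) (jK_s1 u) e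

omit [Finite G] in
theorem on_o0 (a : q4 v = 0) (b : b4 (zz 0) v = 0) (c : v ≠ 0) : IsConj (f Z) (jv f v) := by
  obtain ⟨k, hk, e | e⟩ := ON.o0 v a b c
  · exact h.on_conj (ON.lO1 k hk) bd! e
  · exact h.cv.trans (h.on_conj (ON.lO1 k hk) bd! e)

omit [Finite G] in
theorem on_A (a : q4 v = 1) (b : b4 (zz 0) v = 0) : IsConj (jv f (ev 0)) (jv f v) :=
  h.on_o1 (by simp) (Eq.trans (by decide) a.symm) ⟨fun _ => b, fun _ => by decide⟩

omit [Finite G] in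
theorem on_V (a : q4 v = 2) (b : b4 (zz 0) v = 0) : IsConj (jv f ![0, 2, 0, 1]) (jv f v) :=
  h.on_o1 (by simp) (Eq.trans (by decide) a.symm) ⟨fun _ => b, fun _ => by decide⟩

omit [Finite G] in
theorem on_ne {u : V4} (a : IsConj (jv f u) (jv f v)) (b : u ≠ 0) : v ≠ 0 := by
  rintro rfl
  rw [h.zero, isConj_one_left] at a
  exact b (h.j1 a)

theorem on_sg (a : IsConj (f Z) (jv f v)) (b : b4 (zz 0) v = 0) : v ≠ 0 ∧ q4 v = 0 := by
  refine ⟨h.on_ne (u := zz 0) (on_z (f := f) ▸ a) (by decide), ?_⟩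
  rcases ON.thr (q4 v) with c | c | c
  · exact c
  · exact absurd (a.trans (h.on_A c b).symm) h.on_zA
  · exact absurd (a.trans (h.on_V c b).symm) h.on_zV

/-- Some conjugate of `z` lies in `J \ sA`. -/
theorem out : ∃ w, jK w ∉ sA ∧ IsConj (f Z) (jv f w) := by
  by_contra! H
  have S : ∀ w, IsConj (f Z) (jv f w) ↔ b4 (zz 0) w = 0 ∧ w ≠ 0 ∧ q4 w = 0 := fun w =>
    ⟨fun a => by
      have b : b4 (zz 0) w = 0 := (ON.mA w).1 (by_contra fun c => H w c a)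
      exact ⟨b, h.on_sg a b⟩, fun a => h.on_o0 a.2.2 a.1 a.2.1⟩
  obtain ⟨n, hn, e⟩ := h.fus (u := ![1, 2, 0, 1]) (v := zz 0)
    (on_z (f := f) ▸ ((S _).2 (by decide)).symm)
  obtain ⟨L, hL⟩ := h.exAc hn
  have e1 : L ![1, 2, 0, 1] = zz 0 := h.jinj ((hL _).symm.trans e)
  have a := (S _).1 (((S ![2, 2, 0, 1]).2 (by decide)).trans (on_ac hL _))
  have e2 := h.ac_add hL ![2, 2, 0, 1] ![1, 2, 0, 1]
  rw [e1] at e2
  have c := on_ac hL (![2, 2, 0, 1] + ![1, 2, 0, 1])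
  have d := h.on_ne c (by decide)
  rw [e2] at c d
  have := (by decide +kernel : ∀ w : V4, b4 (zz 0) w = 0 → q4 w = 0 →
    q4 (w + zz 0) = 0 ∧ b4 (zz 0) (w + zz 0) = 0) _ a.1 a.2.2
  exact absurd ((S _).1 ((h.on_o0 this.1 this.2 d).trans c.symm)) (by decide)

omit [Finite G] in
theorem on_al {α : K →* K} (a : α Z = Z ∧ α (A * V) = A * V ∧ α Y = Y * Z ∧ α X = X ∧
    (∀ k ∈ s1, α k ∈ s1) ∧ Function.Bijective α) : Ch D (fun k => f (α k)) := by
  obtain ⟨eZ, eA, -, eX, m1, bij⟩ := a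
  have mD : ∀ k ∈ D, α k ∈ D := fun k hk => by
    by_cases hX : X ∈ D
    · exact h.top hX _
    · exact h.le (m1 k (h.s1_of hX hk))
  refine ⟨h.le, fun {a b} ha hb => by rw [map_mul, h.mul (mD a ha) (mD b hb)],
    fun {a} ha e => bij.1 ((h.inj (mD a ha) e).trans α.map_one.symm), fun g hg => ?_, ?_⟩
  · rw [eZ] at hg
    obtain ⟨k, hk, rfl⟩ := h.nz g hg
    obtain ⟨l, hl⟩ := Finite.surjective_of_injective (f := fun k : D => (⟨α k, mD k k.2⟩ : D))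
      (fun a b e => Subtype.ext (bij.1 (congrArg Subtype.val e))) ⟨k, hk⟩
    exact ⟨l, l.2, congrArg f (congrArg Subtype.val hl)⟩
  · rw [eZ, eA]; exact h.cv

/-- change of chart -/
theorem rech : ∃ f' : K → G, Ch D f' ∧ IsConj (f' Z) (f' Y) := by
  obtain ⟨w, hw, c⟩ := h.out
  obtain ⟨α, hα⟩ := ON.exists_al
  have b : b4 (zz 0) w ≠ 0 := mt (ON.mA w).2 hw
  obtain ⟨u, hu, e, b'⟩ := ON.out3 w b
  have d : IsConj (f Z) (jv f u) := c.trans (h.on_o1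
    (List.mem_cons_of_mem _ (List.mem_cons_of_mem _ hu)) e ⟨fun a => absurd a b', fun a => absurd a b⟩).symm
  simp only [List.mem_cons, List.not_mem_nil, or_false] at hu
  rcases hu with rfl | rfl | rfl
  · exact ⟨f, h, ON.vY.1 ▸ d⟩
  · refine ⟨_, h.on_al hα, ?_⟩
    rw [hα.1, hα.2.2.1, ← ON.vY.2.1]
    exact d
  · refine ⟨_, (h.on_al hα).on_al hα, ?_⟩
    rw [hα.1, hα.1, hα.2.2.1, map_mul, hα.1, hα.2.2.1, ← ON.vY.2.2]
    exact d

/-- `A ≁ V` -/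
theorem nAV : ¬ IsConj (f V) (f A) := by
  intro d
  have := Fact.mk Nat.prime_three
  have eV : jv f ![0, 2, 0, 1] = f V := congrArg f jK_val.2.2.2.1
  have eA : jv f (ev 0) = f A := congrArg f jK_val.2.2.2.2.1
  have AD : A ∈ D := h.le bd!
  have BD : B ∈ D := h.le bd!
  have CD : C ∈ D := h.le bd!
  have SD : sS ≤ D := fun k hk => h.le (ON.s27 k hk).2
  obtain ⟨n, hn, e⟩ := h.fus (u := ![0, 2, 0, 1]) (v := ev 0) (by rwa [eV, eA])
  rw [eV, eA] at e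
  let L : Subgroup G := centralizer {f A} ⊓ 𝐍[JJ f]
  let P : Subgroup G := h.im (sS ⊓ centralizer {A})
  have PS : P ≤ h.im sS := fun g hg => by
    obtain ⟨k, a, b, c⟩ := h.mem_im.1 hg
    exact h.mem_im.2 ⟨k, a.1, b, c⟩
  have PL : P ≤ L := fun g hg => ⟨by
    obtain ⟨k, a, b, rfl⟩ := h.mem_im.1 hg
    exact mem_cent.2 ((h.cm b AD).2 (mem_cent.1 a.2)), h.sN (PS hg)⟩
  have P3 : IsPGroup 3 P := h.sylS.pgrp.to_le PS
  have JP : JJ f < P := by
    refine lt_of_le_of_ne (fun g hg => ?_) fun e => ?_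
    · obtain ⟨v, rfl⟩ := h.memJ.1 hg
      exact h.mem_im.2 ⟨jK v, (bd! : ∀ v, jK v ∈ sS ⊓ centralizer {A}) v, h.jD v, rfl⟩
    · obtain ⟨v, hv⟩ := h.memJ.1 (e ▸ h.mem_im.2 ⟨C, bd!, CD, rfl⟩ : f C ∈ JJ f)
      exact (bd! : ∀ v, jK v ≠ C) v (h.eq (h.jD v) CD hv)
  have c1 := ON.three_mul_le P3 JP
  rw [h.cardJ] at c1
  obtain ⟨T, hT⟩ := exists_isSyl 3 L
  obtain ⟨g, hg, l⟩ := (h.sylS.mono h.sN le_top).exists_cj_le hT.pgrp (hT.le.trans inf_le_right)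
  have l' : cj(g, T) < h.im sS := by
    refine lt_of_le_of_ne l fun e' => ?_
    obtain ⟨a, ha⟩ := h.memJ.1 (conj_mem_of_mem_normalizer hg (jJ (f := f) (ev 0)))
    have cm : ∀ k ∈ sS, Commute k (jK a) := fun k hk => by
      obtain ⟨t, ht, et⟩ := mem_cj_iff_exists.1 (e' ▸ h.mem_im.2 ⟨k, hk, SD hk, rfl⟩ : f k ∈ cj(g, T))
      refine (h.cm (SD hk) (h.jD a)).1 ?_
      rw [← et, show f (jK a) = _ from ha, eA]
      exact Commute.cj (mem_cent.1 (hT.le ht).1) g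
    have c2 : IsConj (jv f (ev 0)) (jv f a) := isConj_iff.2 ⟨g, ha.symm⟩
    have c3 := ON.kZ' a
      (cm B bd!) (cm C bd!)
    exact h.on_zA ((h.on_o0 c3.1 c3.2 (h.on_ne c2 (by decide))).trans c2.symm)
  have c4 := ON.three_mul_le h.sylS.pgrp l'
  rw [card_cj, h.card_im SD, card_seg (by decide)] at c4
  have hP : IsSyl 3 P L := hT.of_card_ge P3 PL (by omega)
  have b3 : f B ^ 3 = 1 := h.pow1 bd!
  have bL : n * f B * n⁻¹ ∈ L := ⟨mem_cent.2 (e ▸ Commute.cj (h.cm1 bd!) n),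
    (𝐍[JJ f]).mul_mem ((𝐍[JJ f]).mul_mem hn (h.on_sN bd!)) ((𝐍[JJ f]).inv_mem hn)⟩
  obtain ⟨c, hc, l2⟩ := hP.exists_cj_le (R := zpowers (n * f B * n⁻¹))
    (isPGroup_zpowers ⟨1, by rw [pow_one, conj_pow, b3]; simp⟩) (zpowers_le.2 bL)
  obtain ⟨k, hk, kD, ek⟩ := h.mem_im.1 (l2 (conj_mem_cj c (mem_zpowers _)))
  have ek' : f k = c * n * f B * (c * n)⁻¹ := by rw [ek]; group
  have k3 : k ^ 3 = 1 := h.inj (pow_mem kD 3) (by rw [h.pow kD, ek', conj_pow, b3]; simp)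
  have kJ : k ∉ sJ := fun a => by
    obtain ⟨v, rfl⟩ := jK_surj k a
    have := inv_conj_mem_of_mem_normalizer (mul_mem hc.2 hn) (jJ (f := f) v)
    rw [jv, ek', show (c * n)⁻¹ * (c * n * f B * (c * n)⁻¹) * (c * n) = f B by group] at this
    obtain ⟨w, hw⟩ := h.memJ.1 this
    exact (bd! : ∀ v, jK v ≠ B) w (h.eq (h.jD w) BD hw)
  obtain ⟨q1, q2⟩ := ON.kA k hk.1 (mem_cent.1 hk.2) k3 kJ
  obtain ⟨l, hl, v, ev⟩ := ON.kB
  exact h.nJ q1 q2 v ((isConj_iff.2 ⟨_, ek'.symm⟩).symm.trans (h.on_conj (lR_s1 l hl) bd! ev))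

theorem on_AV : ¬ IsConj (jv f ![0, 2, 0, 1]) (jv f (ev 0)) := by
  rw [show jv f ![0, 2, 0, 1] = f V from congrArg f jK_val.2.2.2.1,
    show jv f (ev 0) = f A from congrArg f jK_val.2.2.2.2.1]
  exact h.nAV

omit [Finite G] in
theorem on_s0 (hY : IsConj (f Z) (f Y)) (a : q4 v = 0) (c : v ≠ 0) : IsConj (f Z) (jv f v) := by
  by_cases b : b4 (zz 0) v = 0
  · exact h.on_o0 a b c
  · refine hY.trans (ON.vY.1 ▸ h.on_o1 (u := zz 1) (by simp) (Eq.trans (by decide) a.symm) ?_)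
    exact ⟨fun e => absurd e (by decide), fun e => absurd e b⟩

omit [Finite G] in
theorem on_nsmul {n : G} {L : V4 → V4} (a : Ac f n L) (i : ℕ) (v : V4) : L (i • v) = i • L v :=
  h.jinj (by rw [← a, h.nsmul, h.nsmul, ← a, conj_pow])

/-- in `sA` the form is a class function -/
theorem on_in {u : V4} (a : IsConj (jv f u) (jv f v)) (bu : b4 (zz 0) u = 0) (bv : b4 (zz 0) v = 0)
    (c : q4 u ≠ 0) : q4 v = q4 u := by
  have v0 : v ≠ 0 := h.on_ne a (by rintro rfl; exact c (by decide))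
  rcases ON.thr (q4 u) with p | p | p
  · exact absurd p c
  · rcases ON.thr (q4 v) with r | r | r
    · exact absurd (((h.on_o0 r bv v0).trans a.symm).trans (h.on_A p bu).symm) h.on_zA
    · rw [p, r]
    · exact absurd (((h.on_V r bv).trans a.symm).trans (h.on_A p bu).symm) h.on_AV
  · rcases ON.thr (q4 v) with r | r | r
    · exact absurd (((h.on_o0 r bv v0).trans a.symm).trans (h.on_V p bu).symm) h.on_zV
    · exact absurd (((h.on_V p bu).trans a).trans (h.on_A r bv).symm) h.on_AV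
    · rw [p, r]

theorem on_cls (hY : IsConj (f Z) (f Y)) {u : V4} (hu : u ∈ [ev 0, ![0, 2, 0, 1]])
    (a : q4 u = q4 v) : IsConj (jv f u) (jv f v) := by
  have hu' : u ∈ [ev 0, ![0, 2, 0, 1], zz 1, zz 1 + zz 0, zz 1 - zz 0] := by
    simp only [List.mem_cons, List.not_mem_nil, or_false] at hu ⊢
    tauto
  obtain ⟨bu, qu⟩ : b4 (zz 0) u = 0 ∧ q4 u ≠ 0 :=
    (by decide : ∀ u ∈ [ev 0, ![0, 2, 0, 1]], b4 (zz 0) u = 0 ∧ q4 u ≠ 0) u hu
  have zu : ¬ IsConj (f Z) (jv f u) := fun c => qu (h.on_sg c bu).2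
  by_cases bv : b4 (zz 0) v = 0
  · exact h.on_o1 hu' a ⟨fun _ => bv, fun _ => bu⟩
  obtain ⟨n, hn, e⟩ := h.fus (u := zz 0) (v := zz 1) (by
    rw [on_z, show jv f (zz 1) = f Y from congrArg f ON.vY.1]; exact hY)
  obtain ⟨L, hL⟩ := h.exAc hn
  have e1 : L (zz 0) = zz 1 := h.jinj ((hL _).symm.trans e)
  have hj : ∀ j : ℕ, q4 (u + j • zz 0) = q4 u ∧ b4 (zz 0) (u + j • zz 0) = 0 := fun j => by
    induction j with
    | zero => simpa using bu
    | succ j ih =>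
      have := (by decide +kernel : ∀ u : V4, b4 (zz 0) u = 0 →
        q4 (u + zz 0) = q4 u ∧ b4 (zz 0) (u + zz 0) = 0) _ ih.2
      rw [succ_nsmul, ← add_assoc]
      exact ⟨this.1.trans ih.1, this.2⟩
  have cj : ∀ j : ℕ, IsConj (jv f u) (jv f (L u + j • zz 1)) := fun j => by
    rw [← e1, ← h.on_nsmul hL, ← h.ac_add hL]
    exact (h.on_o1 hu' (hj j).1.symm ⟨fun _ => (hj j).2, fun _ => bu⟩).trans (on_ac hL _)
  have u0 : u ≠ 0 := by rintro rfl; exact qu (by decide)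
  have ns : ∀ j : ℕ, q4 (L u + j • zz 1) ≠ 0 := fun j c =>
    zu ((h.on_s0 hY c (h.on_ne (cj j) u0)).trans (cj j).symm)
  obtain ⟨i, hi⟩ := ON.three (L u)
  have qi := h.on_in (cj i) bu hi qu
  have ad : ∀ j : ℕ, L u + i.val • zz 1 + j • zz 1 = L u + (i.val + j) • zz 1 := fun j => by
    rw [add_nsmul, add_assoc]
  obtain ⟨p, r⟩ := ON.nons _ hi (ns i) (ad 1 ▸ ns _) (ad 2 ▸ ns _)
  obtain ⟨w, hw, s, t⟩ := ON.out3 v bv
  have hw' := List.mem_cons_of_mem (ev 0) (List.mem_cons_of_mem ![0, 2, 0, 1] hw)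
  rw [ad] at p r
  exact ((cj _).trans (h.on_o1 hw' (by rw [s, p, qi, a])
    ⟨fun e => absurd e t, fun e => absurd e r⟩).symm).trans
      (h.on_o1 hw' s ⟨fun e => absurd e t, fun e => absurd e bv⟩)

theorem on_key (hY : IsConj (f Z) (f Y)) {u : V4} (a : IsConj (jv f u) (jv f v)) : q4 u = q4 v := by
  have cA : ∀ {w}, q4 w = 1 → IsConj (jv f (ev 0)) (jv f w) := fun e =>
    h.on_cls hY (by simp) (Eq.trans (by decide) e.symm)
  have cV : ∀ {w}, q4 w = 2 → IsConj (jv f ![0, 2, 0, 1]) (jv f w) := fun e =>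
    h.on_cls hY (by simp) (Eq.trans (by decide) e.symm)
  have n0 : ∀ {u v}, IsConj (jv f u) (jv f v) → q4 u = 0 → q4 v ≠ 0 → False := fun {u v} a p r => by
    have z := (h.on_s0 hY p (h.on_ne a.symm (by rintro rfl; exact r (by decide)))).trans a
    rcases ON.thr (q4 v) with s | s | s
    · exact r s
    · exact h.on_zA (z.trans (cA s).symm)
    · exact h.on_zV (z.trans (cV s).symm)
  rcases ON.thr (q4 u) with p | p | p <;> rcases ON.thr (q4 v) with r | r | r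
  · rw [p, r]
  · exact (n0 a p (by rw [r]; decide)).elim
  · exact (n0 a p (by rw [r]; decide)).elim
  · exact (n0 a.symm r (by rw [p]; decide)).elim
  · rw [p, r]
  · exact absurd (((cV r).trans a.symm).trans (cA p).symm) h.on_AV
  · exact (n0 a.symm r (by rw [p]; decide)).elim
  · exact absurd (((cV p).trans a).trans (cA r).symm) h.on_AV
  · rw [p, r]

theorem on_NJ (hY : IsConj (f Z) (f Y)) : NJ D f := by
  refine ⟨h, fun v => ⟨fun a => ?_, fun a => h.on_s0 hY a.2 a.1⟩,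
    fun n _ u v e => h.on_key hY (isConj_iff.2 ⟨n, e⟩), fun u hu => ?_, h.sig⟩
  · rw [← on_z (f := f)] at a
    exact ⟨h.on_ne a (by decide), (h.on_key hY a).symm.trans (by decide)⟩
  · obtain ⟨n, hn, e⟩ := h.fus (h.on_cls hY (u := ev 0) (v := u) (by simp) (Eq.trans (by decide) hu.symm))
    obtain ⟨L, hL⟩ := h.exAc hn
    have e1 : L (ev 0) = u := h.jinj ((hL _).symm.trans e)
    obtain ⟨m, hm, c, -⟩ := h.lift hL
    have q : ∀ v, q4 (L v) = q4 v := fun v => (h.on_key hY (on_ac hL v)).symm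
    have b : ∀ u v, b4 (L u) (L v) = b4 u v := fun u v => by
      rw [ON.pol, ON.pol u, ← h.ac_add hL, q, q, q]
    have inj : Function.Injective L := fun u v e =>
      h.jinj (mul_left_cancel (mul_right_cancel ((hL u).trans (e ▸ (hL v).symm))))
    refine ⟨m * f T * m⁻¹, fun v => ?_, ((c.mul_left (h.cm1 bd!)).mul_left c.inv_left),
      isConj_iff.2 ⟨m, rfl⟩⟩
    obtain ⟨w, rfl⟩ := Finite.surjective_of_injective inj v
    rw [← hm w, show m * f T * m⁻¹ * (m * jv f w * m⁻¹) * (m * f T * m⁻¹)⁻¹ =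
      m * (f T * jv f w * (f T)⁻¹) * m⁻¹ by group, h.acT, hm, ON.rf_eq, ON.rf_eq, h.ac_add hL,
      h.on_nsmul hL, ← e1, q, b]

/-- After `rech` the normaliser of `J` preserves the form. -/
theorem exists_NJ : ∃ f' : K → G, NJ D f' := by
  obtain ⟨f', h', hY⟩ := h.rech
  exact ⟨f', h'.on_NJ hY⟩

end Ch

end Cfsg.Agent.O8T
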