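import Cfsg.Agent.Loc3.O8M
import Cfsg.Agent.Loc3.O8Lc

/-!
The subgroup of index two.
-/

set_option autoImplicit false
set_option maxRecDepth 100000
set_option synthInstance.maxHeartbeats 400000
set_option synthInstance.maxSize 4000

namespace Cfsg.Agent.O8T

open Subgroup Cfsg Cfsg.Agent.PLocal.Amb Cfsg.Agent.Loc3 Cfsg.Agent.Comp Cfsg.Agent.LES
open Cfsg.Agent.X32 (TG)
open Cfsg.Agent.X32.TG
open Cfsg.Agent.Loc3.Pr hiding V rf
open Cfsg.Agent.TT (XS)
open Cfsg.Agent.PS4 (K2 l2)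
open Equiv (Perm swap)
open scoped commutatorElement

variable {G : Type*} [Group G] [Finite G] {D : Subgroup K} {f : K → G} {E M : Subgroup G}

theorem ME.two (h : ME D f E M) (a : X ∈ D) : ∃ L : Subgroup G, L.index = 2 ∧ f X ∉ L := by
  obtain ⟨M₀, -, i2, k⟩ := h.exists_M0 a
  have c2 : f X * f X = 1 := by rw [← h.mul a a, (bd! : X * X = 1), h.one]
  rcases Transfer.thompson_transfer h.odd i2 (orderOf_eq_prime ((pow_two _).trans c2)
    (mt (h.inj a) bd!)) with ⟨L, -, b⟩ | ⟨g, b⟩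
  · exact ⟨L, b⟩
  rcases k _ b (X32.conj_sq c2) with e | ⟨n, ε, s, p, c⟩
  swap
  · exact (h.ncd a p s ((isConj_iff.2 ⟨g, rfl⟩).trans c)).elim
  refine (h.cc a ?_).elim
  have d := h.cls _ e (X32.conj_sq c2)
  have m := h.cardM a
  rw [← card_cj g, ← centralizer_singleton_conj]
  generalize centralizer {g * f X * g⁻¹} = C at *
  refine .trans ?_ (card_dvd_of_le (inf_le_left : C ⊓ M ≤ C))
  rw [← subgroupOf_map_subtype, card_map_of_injective M.subtype_injective]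
  rw [← (C.subgroupOf M).card_mul_index, Nat.prime_two.pow_dvd_iff_le_factorization
    (mul_ne_zero Nat.card_pos.ne' index_ne_zero_of_finite),
    Nat.factorization_mul Nat.card_pos.ne' index_ne_zero_of_finite, Finsupp.add_apply] at m
  rw [relIndex, show 8 = 2 ^ 3 from rfl,
    Nat.prime_two.pow_dvd_iff_le_factorization index_ne_zero_of_finite] at d
  rw [Nat.prime_two.pow_dvd_iff_le_factorization Nat.card_pos.ne']
  omega

theorem NJ.rech2 (h : NJ D f) (a : X ∈ D) {L : Subgroup G} (b : L.index = 2) (c : f X ∉ L) :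
    ∃ f₁ : K → L, Ch s1 f₁ := by
  classical
  have nL := normal_of_index_eq_two b
  let F : K →* G := MonoidHom.mk' f fun k l => h.mul (h.top a k) (h.top a l)
  have sq : ∀ k l, f (k * k * (l * l)) ∈ L := fun k l => by
    change F _ ∈ L
    rw [map_mul, map_mul, map_mul]
    exact mul_mem (mul_self_mem_of_index_two b _) (mul_self_mem_of_index_two b _)
  have r : ∀ i, ∃ r ∈ L, Kp f r (sp 1 (sn i)) := fun i => by
    obtain ⟨r, k⟩ := h.exm (σ := 1) (.inr a) ((by decide : ∀ i, Sn (sn i)) i)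
    obtain ⟨g, e⟩ := isConj_iff.1 (h.rT k)
    exact ⟨r, e ▸ nL.conj_mem _ ((bd! : N * N * (1 * 1) = T) ▸ sq N 1) g, k⟩
  have l1 : ∀ {k}, k ∈ s1 → f k ∈ L := fun {k} hk => G23.Am.seg_le (h := hs1) (H := L.comap F)
    (fun g hg => by
      rcases (bd! : ∀ g ∈ [Z⁻¹, V⁻¹, A⁻¹, B⁻¹, C⁻¹, Y⁻¹, T, R, N, N⁻¹, Y], g = R ∨
        ∃ k ∈ [Z, V, A, B, C, Y, N, Y * N, 1], ∃ l ∈ [1, Y⁻¹, (Y * N)⁻¹], k * k * (l * l) = g) g hg
        with rfl | ⟨k, -, l, -, rfl⟩
      swap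
      · exact sq k l
      choose r m k using r
      exact (h.kp_eq ((k 0).mul ((k 1).mul ((k 2).mul (k 3)))) h.kpR (by decide +kernel) ▸
        mul_mem (m 0) (mul_mem (m 1) (mul_mem (m 2) (m 3))) : f R ∈ L)) hk
  let f₁ : K → L := fun k => if e : f k ∈ L then ⟨f k, e⟩ else 1
  have v : ∀ {k}, k ∈ s1 → (f₁ k : G) = f k := fun hk => congrArg Subtype.val (dif_pos (l1 hk))
  have z : Z ∈ s1 := bd!
  refine ⟨f₁, le_rfl, fun p q => Subtype.ext ?_, fun p e => h.inj (h.le p) ?_, fun g hg => ?_, ?_⟩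
  · rw [coe_mul, v p, v q, v (mul_mem p q), h.mul (h.le p) (h.le q)]
  · rw [← v p, e, coe_one]
  · obtain ⟨k, -, e⟩ := h.rz (g := g) (((mem_norm_three (Subtype.ext (by rw [coe_pow, v z]; exact h.z3))
      fun e => h.z1 (by rw [← v z, e, coe_one])).1 hg).imp (fun e => v z ▸ congrArg Subtype.val e)
        fun e => v z ▸ congrArg Subtype.val e)
    have := (s1_or k).resolve_right fun p => c ((mul_mem_cancel_left (e ▸ g.2)).1
      (h.mul (h.top a k) a ▸ l1 p))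
    exact ⟨k, this, Subtype.ext ((v this).trans e)⟩
  obtain ⟨g, e⟩ := isConj_iff.1 h.cv
  obtain ⟨g, m, e⟩ : ∃ g ∈ L, g * f Z * g⁻¹ = f (A * V) := by
    by_cases m : g ∈ L
    exacts [⟨g, m, e⟩, ⟨g * f X, (mul_mem_iff_of_index_two b).2 (iff_of_false m c), by
      rw [← e, mul_assoc g, ((h.cm a (h.le z)).2 bd!).eq]; group⟩]
  exact isConj_iff.2 ⟨⟨g, m⟩, Subtype.ext (by rw [v bd!, ← e, ← v z]; rfl)⟩

end Cfsg.Agent.O8T
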