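import Cfsg.Agent.Loc3.O8G
import Cfsg.Agent.Transfer.ThompsonTransfer

/-!
The normal subgroup of index three.
-/

set_option autoImplicit false
set_option maxRecDepth 100000
set_option synthInstance.maxHeartbeats 400000
set_option synthInstance.maxSize 4000

namespace Cfsg.Agent.O8T

open Subgroup Cfsg Cfsg.Agent.PLocal.Amb Cfsg.Agent.Loc3 Cfsg.Agent.Comp Cfsg.Agent.LES
open Cfsg.Agent.X32 (TG)
open Cfsg.Agent.X32.TG
open Cfsg.Agent.Loc3.Pr hiding V rf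
open Cfsg.Agent.TT (XS)
open Cfsg.Agent.PS4 (K2 l2)
open Equiv (Perm swap)
open scoped commutatorElement

variable {G : Type*} [Group G] [Finite G] {D : Subgroup K} {f : K → G}

/-- the exponent of `C` -/
def mu3 (k : K) : ZMod 3 := (Nat.div (Nat.mod k.v 243) 81 : ℕ)

theorem mu3_mul {a : K} (ha : a ∈ sS) : ∀ b ∈ sS, mu3 (a * b) = mu3 a + mu3 b := by
  have k := (bd! : ∀ g ∈ [Z⁻¹, V⁻¹, A⁻¹, B⁻¹, C⁻¹, Y⁻¹], ∀ k ∈ sS, mu3 (g * k) = mu3 g + mu3 k)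
  refine G23.Am.seg_ind (p := fun a => ∀ b ∈ sS, mu3 (a * b) = mu3 a + mu3 b)
    (fun k a => (hsS.2 k a).1) (fun b _ => by rw [one_mul, (bd! : mu3 1 = 0), zero_add])
    (fun g hg a ha e b hb => ?_) a ha
  have := e b hb
  rw [mul_assoc, k g hg _ (mul_mem ha hb), k g hg a ha, add_assoc] at this
  exact add_left_cancel this

def lp3 (s : Bool) : List (Perm (Fin 4) × V4) :=
  [(swap 0 1 * swap 2 3, cond s ![1, 2, 2, 1] ![1, 2, 1, 2]),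
    (swap 0 2 * swap 1 3, cond s ![1, 1, 2, 2] ![1, 2, 2, 1]),
    (swap 0 3 * swap 1 2, cond s ![1, 2, 1, 2] ![1, 1, 2, 2])]

def Lx3 (i l : ℕ) (v : V4) : V4 :=
  (fun v => rf ![1, 1, 1, 1] (rf (ev 0) v))^[i] ((sp (swap 1 2 * swap 2 3) 1)^[l] v)

omit [Finite G] in
theorem Kp.pow3 {n : G} {L : V4 → V4} (a : Kp f n L) (i : ℕ) : Kp f (n ^ i) L^[i] := by
  induction i with
  | zero => exact ⟨fun v => by simp, by simp⟩
  | succ i ih => rw [pow_succ]; exact ih.mul a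

theorem NJ.mu3_cj (h : NJ D f) (a : X ∉ D) {k : K} (hk : k ∈ sS) (c : IsConj (f C) (f k)) :
    mu3 k = 1 := by
  have s : ∀ {k}, k ∈ sS → k ∈ D := fun {k} a => h.le ((bd! : ∀ k ∈ sS, k ∈ s1) k a)
  have q : ∀ k ∈ sQ, IsConj (f C) (f k) → mu3 k = 1 := fun k b c => by
    obtain ⟨l, d, rfl⟩ := h.fusC b c
    exact (bd! : ∀ l ∈ s1, mu3 (l * C * l⁻¹) = 1) l (h.s1_of a d)
  have k3 : k ^ 3 = 1 := h.inj (pow_mem (s hk) _) (by
    obtain ⟨x, e⟩ := isConj_iff.1 c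
    rw [h.pow (s hk), ← e, conj_pow, h.pow1 bd!]; simp)
  rcases (bd! : ∀ k ∈ sS, k ^ 3 = 1 → k ∈ sJ ∨ k ∈ sQ ∨ ∃ i ∈ [1, 2], ∃ l ∈ [1, 2],
    k * (B ^ i * C ^ l)⁻¹ ∈ sJ) k hk k3 with b | b | ⟨i, hi, l, hl, b⟩
  · obtain ⟨v, rfl⟩ := jK_surj k b
    exact (h.nJ bd! bd! v c).elim
  · exact q k b c
  obtain ⟨v, e⟩ := jK_surj _ b
  obtain rfl := eq_mul_inv_iff_mul_eq.1 e
  rcases (bd! : ∀ i ∈ [1, 2], ∀ l ∈ [1, 2], ∀ v, jK v * (B ^ i * C ^ l) ∈ sQ ∨ ∃ p ∈ lp3 (i == l),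
    jK (sp p.1 p.2 v) * (B ^ i * C ^ l) ∈ sQ ∧ mu3 (jK (sp p.1 p.2 v) * (B ^ i * C ^ l)) =
      mu3 (jK v * (B ^ i * C ^ l))) i hi l hl v with d | ⟨p, hp, d, d'⟩
  · exact q _ d c
  obtain ⟨p1, p2, p3⟩ := (by decide +kernel : ∀ i ∈ [1, 2], ∀ l ∈ [1, 2], ∀ p ∈ lp3 (i == l),
    Perm.sign p.1 = 1 ∧ Sn p.2 ∧ ∀ w, sp p.1 p.2 (Lx3 i l w) = Lx3 i l (sp p.1 p.2 w)) i hi l hl p hp
  obtain ⟨n, kn⟩ := h.exm (.inl p1) p2
  have b1 : B ^ i ∈ D := pow_mem (s bd!) i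
  have c1 : C ^ l ∈ D := pow_mem (s bd!) l
  have cm := h.kp_comm kn ((h.kpB.pow3 i).mul (h.kpC.pow3 l)) p3
  rw [← h.pow (s bd!), ← h.pow (s bd!), ← h.mul b1 c1] at cm
  refine d' ▸ q _ d (c.trans (isConj_iff.2 ⟨n, ?_⟩))
  rw [h.mul (h.jD _) (mul_mem b1 c1), h.mul (h.jD _) (mul_mem b1 c1), ← conj_mul, conj_of_comm cm]
  exact congrArg (· * _) (kn.1 v)

theorem NJ.three (h : NJ D f) (a : X ∉ D) :
    ∃ H : Subgroup G, H.Normal ∧ H.index = 3 ∧ f C ∉ H := by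
  have t3 : ∀ t : Multiplicative (ZMod 3), t ^ 3 = 1 := by decide
  have := Fact.mk Nat.prime_three
  let ε := (sS.subgroupOf D).equivMapOfInjective h.φ h.φi
  let μ : sS.subgroupOf D →* Multiplicative (ZMod 3) :=
    MonoidHom.mk' (fun k => .ofAdd (mu3 k.1.1)) fun a b => congrArg _ (mu3_mul a.2 _ b.2)
  let φ : h.im sS →* Multiplicative (ZMod 3) := μ.comp ε.symm.toMonoidHom
  have c3 : f C ^ 3 = 1 := h.pow1 bd!
  have k1 : ∀ g : h.im sS, IsConj (f C) g → φ g = .ofAdd 1 := fun g c => by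
    obtain ⟨k, rfl⟩ := ε.surjective g
    rw [← h.mu3_cj a k.2 c]
    exact congrArg μ (ε.symm_apply_apply k)
  have e := Transfer.transfer_eq_pow_of_forall φ (f C) (.ofAdd 1) fun g k hk => by
    have e0 : ∀ k : ℕ, g⁻¹ * f C ^ k * g = (g⁻¹ * f C * g) ^ k := fun k => by
      simpa using (conj_pow (a := g⁻¹)).symm
    by_cases d : 3 ∣ k
    · obtain ⟨k, rfl⟩ := d
      rw [pow_mul (Multiplicative.ofAdd 1), t3, one_pow, ← φ.map_one]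
      exact congrArg φ (Subtype.ext (by simp [pow_mul, c3]))
    have m : g⁻¹ * f C * g ∈ h.im sS := by
      have := pow_mem hk k
      rwa [e0, ← pow_mul, ← e0, pow_eq_pow_mod _ c3, show k * k % 3 = 1 by
        rw [Nat.mul_mod]; rcases (by omega : k % 3 = 1 ∨ k % 3 = 2) with e | e <;> rw [e],
        pow_one] at this
    rw [← k1 ⟨_, m⟩ (isConj_iff.2 ⟨g⁻¹, by simp⟩), ← map_pow]
    exact congrArg φ (Subtype.ext (e0 k))
  have n : MonoidHom.transfer φ (f C) ≠ 1 := fun c => h.sylS.not_dvd_relIndex (by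
    rw [relIndex_top_right]
    simpa using orderOf_dvd_of_pow_eq_one (e.symm.trans c))
  refine ⟨(MonoidHom.transfer φ).ker, inferInstance, ?_, n⟩
  rw [index_ker]
  exact (Nat.prime_three.eq_one_or_self_of_dvd _ (by
    simpa using card_subgroup_dvd_card (MonoidHom.transfer φ).range)).resolve_left fun c =>
      n (mem_bot.1 (card_eq_one.1 c ▸ ⟨f C, rfl⟩))

end Cfsg.Agent.O8T
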