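import Cfsg.Agent.Loc3.O8G

/-!
Elements of `J₀ = C_J(t)` fix a unique coset.
-/

set_option autoImplicit false
set_option linter.unusedSectionVars false
set_option linter.unusedVariables false
set_option maxRecDepth 100000
set_option synthInstance.maxHeartbeats 400000
set_option synthInstance.maxSize 4000

namespace Cfsg.Agent.O8T

open Subgroup Cfsg Cfsg.Agent.PLocal.Amb Cfsg.Agent.Loc3 Cfsg.Agent.Comp Cfsg.Agent.LES
open Cfsg.Agent.X32 (TG)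
open Cfsg.Agent.X32.TG
open Cfsg.Agent.Loc3.Pr hiding V rf
open Cfsg.Agent.TT (XS)
open Cfsg.Agent.PS4 (K2 l2)
open Equiv (Perm swap)
open scoped commutatorElement

variable {G : Type*} [Group G] [Finite G] {D : Subgroup K} {f : K → G} {M : Subgroup G} {g : G} {v : V4}

theorem Ch.imT (h : Ch D f) : g ∈ h.im (sS ⊓ centralizer {T}) ↔ ∃ k ∈ sS, Commute k T ∧ f k = g :=
  h.mem_im.trans ⟨fun ⟨k, a, _, c⟩ => ⟨k, a.1, mem_cent.1 a.2, c⟩, fun ⟨k, a, b, c⟩ =>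
    ⟨k, ⟨a, mem_cent.2 b⟩, h.le ((bd! : ∀ k ∈ sS, k ∈ s1) k a), c⟩⟩

theorem Ch.imT_le (h : Ch D f) : h.im (sS ⊓ centralizer {T}) ≤ h.im sS := map_mono fun _ a => a.1

/-- `P = C_S(T)` has centre `⟨z⟩`, so its normaliser in `C(t)` lies in `f D`. -/
theorem Ch.sylT (h : Ch D f) : IsSyl 3 (h.im (sS ⊓ centralizer {T})) (centralizer {f T}) := by
  have := Fact.mk Nat.prime_three
  have s : ∀ {k}, k ∈ sS → k ∈ D := fun {k} a => h.le ((bd! : ∀ k ∈ sS, k ∈ s1) k a)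
  have tD : T ∈ D := h.le bd!
  have le : h.im (sS ⊓ centralizer {T}) ≤ centralizer {f T} := fun g a' => by
    obtain ⟨k, a, b, rfl⟩ := h.imT.1 a'
    exact mem_cent.2 ((h.cm (s a) tD).2 b)
  refine isSyl_of_isSyl_normalizer ⟨le_inf le le_normalizer, h.sylS.pgrp.to_le h.imT_le,
    fun P hP _ l r hr => ?_⟩
  have m : ∀ {k}, k ∈ sS ∧ Commute k T → f k ∈ h.im (sS ⊓ centralizer {T}) := fun a =>
    h.imT.2 ⟨_, a.1, a.2, rfl⟩
  obtain ⟨k, a, b, c⟩ := h.imT.1 (conj_mem_of_mem_normalizer (l hr).2 (m (k := Z) bd!))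
  have d : ∀ {x}, x ∈ sS ∧ Commute x T → Commute k x := fun {x} e => by
    obtain ⟨y, y1, -, y2⟩ := h.imT.1 (inv_conj_mem_of_mem_normalizer (l hr).2 (m e))
    rw [← h.cm (s a) (s e.1), c]
    exact (comm_conj_iff.2 (y2 ▸ (h.cm (s bd!) (s y1)).2 ((bd! : ∀ y ∈ sS, Commute Z y) y y1)))
  obtain ⟨x, xD, rfl⟩ : ∃ x ∈ D, f x = r := by
    rcases (bd! : ∀ k ∈ sS, Commute k T → Commute k C → Commute k Y → Commute k V →
      k = 1 ∨ k = Z ∨ k = Z⁻¹) k a b (d bd!) (d bd!) (d bd!) with rfl | rfl | rfl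
    exacts [absurd (conj_eq_one_iff.1 (c.symm.trans h.one)) h.z1, h.rz (.inl c.symm),
      h.rz (.inr (c.symm.trans (h.inv (s bd!))))]
  obtain ⟨i, e⟩ := isPGroup_iff.1 hP _ hr
  have o1 := orderOf_dvd_of_pow_eq_one (h.inj (pow_mem xD _) ((h.pow xD _).trans e))
  have o2 : orderOf x ∣ 729 * 2 ^ 5 := (orderOf_dvd_natCard x).trans (dvd_of_eq TG.card)
  have o3 := orderOf_dvd_iff_pow_eq_one.1 (Nat.Coprime.dvd_of_dvd_mul_right
    (Nat.Coprime.coprime_dvd_left o1 (Nat.Coprime.pow i 5 (by norm_num))) o2)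
  obtain ⟨y, y1, -, y2⟩ := h.imT.1 (conj_mem_of_mem_normalizer (l hr).2 (m (k := Y) bd!))
  have ct := (h.cm xD tD).1 (mem_cent.1 (l hr).1)
  exact m ⟨(bd! : ∀ x : K, Commute x T → x * Y * x⁻¹ ∈ sS → ((x ^ 9) ^ 9) ^ 9 = 1 → x ∈ sS) x ct
    (h.eq (s y1) (mul_mem (mul_mem xD (s bd!)) (inv_mem xD)) (y2.trans (h.cj xD (s bd!)).symm) ▸ y1)
    (by rw [← pow_mul, ← pow_mul]; exact o3), ct⟩

/-- an element of `P` conjugate into `J` lies in `J₀` -/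
theorem Ch.inJ (h : Ch D f) (a' : g ∈ h.im (sS ⊓ centralizer {T})) (b : IsConj (jv f v) g) :
    ∃ w, w 0 = 0 ∧ g = jv f w := by
  obtain ⟨k, a, c, rfl⟩ := h.imT.1 a'
  have kD := h.le ((bd! : ∀ k ∈ sS, k ∈ s1) k a)
  have k3 : k ^ 3 = 1 := h.inj (pow_mem kD _) (by
    obtain ⟨x, e⟩ := isConj_iff.1 b
    rw [h.pow kD, ← e, conj_pow, h.j3]; simp)
  rcases (bd! : ∀ k ∈ sS, Commute k T → k ^ 3 = 1 → (∃ w, w 0 = 0 ∧ jK w = k) ∨
    ∃ w, ∃ l ∈ [C, C⁻¹], jK w * k * (jK w)⁻¹ = l) k a c k3 with ⟨w, d, rfl⟩ | ⟨w, l, d, e⟩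
  · exact ⟨w, d, rfl⟩
  obtain ⟨l1, l2⟩ := (bd! : ∀ l ∈ [C, C⁻¹], l ∈ sQ ∧ l ∉ s81) l d
  exact (h.nJ l1 l2 v (b.trans (isConj_iff.2 ⟨_, e ▸ (h.cj (h.jD w) kD).symm⟩)).symm).elim

theorem Ch.jT (h : Ch D f) (a : v 0 = 0) : Commute (jv f v) (f T) :=
  (h.acT.comm ((by decide +kernel : ∀ v : V4, v 0 = 0 → rf (ev 0) v = v) v a)).symm

namespace LC

variable (h : LC D f) (nM : ∀ n ∈ 𝐍[JJ f], Commute n (f T) → n ∈ M) (rM : ∀ a ∈ lR, f a ∈ M)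
include h nM rM

theorem cM (a : v 0 = 0) (b : v ≠ 0) (c : Commute g (f T)) (d : Commute g (jv f v)) : g ∈ M := by
  rcases (by decide +kernel : ∀ v : V4, v 0 = 0 → v ≠ 0 → q4 v = 1 ∨
    ∃ σ ∈ [1, swap 1 2 * swap 2 3, swap 2 3 * swap 1 2], ∃ ε, Sn ε ∧ σ 0 = 0 ∧ Perm.sign σ = 1 ∧
      (sp σ ε v = ![0, 0, 1, 2] ∨ sp σ ε v = zz 0)) v a b with e | ⟨σ, -, ε, e1, e2, e3, e⟩
  · exact nM g (h.cE v e g d) c
  obtain ⟨n, k⟩ := h.exm (.inl e3) e1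
  have t := h.kT k e2
  have m := nM n (h.nrm k.1) t
  have c' : Commute (n * g * n⁻¹) (f T) := (t.mul_left c).mul_left t.inv_left
  have d' := Commute.cj d n
  refine (mul_mem_cancel_left m).1 ((mul_mem_cancel_right (inv_mem m)).1 ?_)
  rcases e with e | e <;> rw [k.1.cj e, jv] at d'
  · exact h.cA M nM rM _ c' (jK_val.2.2.1 ▸ d')
  · obtain ⟨r, r1, r2⟩ := h.cZT (jK_val.1 ▸ d') c'
    exact (mul_mem_cancel_left (rM r r1)).1 (nM _ r2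
      ((h.cm1 ((bd! : ∀ r ∈ lR, r ∈ s1 ∧ T ∈ s1 ∧ Commute r T) r r1)).mul_left c'))

theorem uf (mC : ∀ m ∈ M, Commute m (f T)) (a : v 0 = 0) (b : v ≠ 0) (c : Commute g (f T))
    (d : g * jv f v * g⁻¹ ∈ M) : g ∈ M := by
  have := Fact.mk Nat.prime_three
  have sy := h.sylT
  have W : ∀ p, Commute p (f T) → cj(p, JJ f ⊓ centralizer {f T}) ≤ h.im (sS ⊓ centralizer {T}) →
      p ∈ M := fun p cp l => nM p (h.n0 fun u hu => h.inJ (l (conj_mem_cj p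
        ⟨Ch.jJ u, mem_cent.2 (h.jT hu)⟩)) (isConj_iff.2 ⟨p, rfl⟩)) cp
  obtain ⟨m, m1, m2⟩ := (sy.mono (fun x hx => nM x (h.sN (h.imT_le hx)) (mem_cent.1 (sy.le hx)))
    fun x hx => mem_cent.2 (mC x hx)).exists_cj_le (isPGroup_zpowers ⟨1, by
      rw [pow_one, conj_pow, h.j3]; simp⟩) (zpowers_le.2 d)
  have e : m * (g * jv f v * g⁻¹) * m⁻¹ = m * g * jv f v * (m * g)⁻¹ := by group
  obtain ⟨w, w0, y⟩ := h.inJ (e ▸ m2 (conj_mem_cj m (mem_zpowers _))) (isConj_iff.2 ⟨_, rfl⟩)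
  have w1 : w ≠ 0 := fun k => b (h.j1 (conj_eq_one_iff.1 (by rw [y, k, h.zero])))
  have c1 := (mC m m1).mul_left c
  refine (mul_mem_cancel_left m1).1 ?_
  generalize m * g = g at *
  have p0 : IsPGroup 3 ↥(JJ f ⊓ centralizer {f T}) := isPGroup_iff.2 fun x hx => ⟨1, by
    obtain ⟨u, rfl⟩ := h.memJ.1 hx.1
    exact h.j3 u⟩
  have k : ∀ u, ∀ x ∈ JJ f ⊓ centralizer {f T}, Commute x (jv f u) := fun u x hx => by
    obtain ⟨u', rfl⟩ := h.memJ.1 hx.1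
    exact h.jc _ _
  obtain ⟨P, s1, l1⟩ := exists_isSyl_ge (L := centralizer {f T} ⊓ centralizer {jv f w}) p0
    fun x hx => ⟨hx.2, mem_cent.2 (k w x hx)⟩
  obtain ⟨p, p1, p2⟩ := sy.exists_cj_le s1.pgrp (s1.le.trans inf_le_left)
  obtain ⟨x, x1, x2⟩ := s1.exists_cj_le (isPGroup_cj g p0) (by
    rintro _ ⟨x, hx, rfl⟩
    exact ⟨mem_cent.2 ((c1.mul_left (mem_cent.1 hx.2)).mul_left c1.inv_left),
      mem_cent.2 (y ▸ Commute.cj (k v x hx) g)⟩)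
  have pM := W p (mem_cent.1 p1) ((cj_mono p l1).trans p2)
  have xM := h.cM nM rM w0 w1 (mem_cent.1 x1.1) (mem_cent.1 x1.2)
  exact (mul_mem_cancel_left (mul_mem pM xM)).1 (W _ ((mC _ (mul_mem pM xM)).mul_left c1)
    (by rw [cj_mul, cj_mul]; exact (cj_mono p x2).trans p2))

end LC

end Cfsg.Agent.O8T
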