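import Cfsg.Agent.Loc3.O8M
import Cfsg.Agent.S3345
import Cfsg.Agent.WG.Loc

/-!
Identification of the subgroup of index three.  Read `Loc3/O8D`, `O8G`, `O8M`,
`S3345`.  `L` is normal of index three, `f C ∉ L`; it contains all 2-elements, and `J` (inverted by `f R`).
`rᵢ` (`i = 1, 2, 3`) is the κ-lift of `sp 1 (sn i)` (`exm`, `dsq`, `dcm`, `kT`, `rT`).
-/

set_option autoImplicit false
set_option maxRecDepth 100000
set_option synthInstance.maxHeartbeats 400000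
set_option synthInstance.maxSize 4000

namespace Cfsg.Agent.O8T

open Subgroup Cfsg Cfsg.Agent.PLocal.Amb Cfsg.Agent.Loc3 Cfsg.Agent.Comp Cfsg.Agent.LES
open Cfsg.Agent.X32 (TG)
open Cfsg.Agent.X32.TG
open Cfsg.Agent.Loc3.Pr hiding V rf
open Cfsg.Agent.TT (XS)
open Cfsg.Agent.PS4 (K2 l2)
open Equiv (Perm swap)
open scoped commutatorElement

variable {G : Type*} [Group G] [Finite G] {D : Subgroup K} {f : K → G} {E M L : Subgroup G}

namespace OZ

/-- the 3-cycle -/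
abbrev c3 : Perm (Fin 3) := swap 1 2 * swap 0 1

omit [Finite G] in
theorem s3 {r x : G} (hr : r * r = 1) (hx : x ^ 3 = 1) (e : r * x * r⁻¹ = x⁻¹) :
    ∃ σ : Perm (Fin 3) →* G, σ c3 = x ∧ σ (swap 1 2) = r ∧
      ∀ P : Subgroup G, x ∈ P → r ∈ P → ∀ a, σ a ∈ P := by
  have p2 := sq_of_inv hr e
  obtain ⟨σ, hσ⟩ := KSG.exists_hom_perm_of_rels (n := 2) ![r * x, r]
    (fun i => by fin_cases i; exacts [p2, hr])
    (fun i j a => by fin_cases i <;> fin_cases j <;> exact absurd a (by decide))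
    (fun i j a => by
      fin_cases i <;> fin_cases j <;> (try exact absurd a (by decide))
      exact braid_of (a := r * x) (b := r) p2 hr (by
        nth_rw 2 [← inv_eq_of_mul_eq_one_right hr]; rw [conj_pow, hx]; simp))
  have a0 : σ (swap 0 1) = r * x := hσ 0
  have a1 : σ (swap 1 2) = r := hσ 1
  refine ⟨σ, by rw [map_mul, a0, a1, ← mul_assoc, hr, one_mul], a1, fun P a b τ => closure_eq P ▸
    TT.perm_hom_mem_closure (n := 2) σ (fun i => ?_) τ⟩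
  rw [hσ]
  fin_cases i
  exacts [mul_mem b a, b]

theorem s33 (N : Subgroup (Perm (Fin 3) × Perm (Fin 3) × Perm (Fin 3))) [hN : N.Normal]
    (h : ∀ x ∈ N, x ^ 3 = 1 → x = 1) {τ} (a : τ ∈ N) : τ = 1 := by
  have p : ∀ a : Perm (Fin 3), (a * c3 * a⁻¹ * c3⁻¹) ^ 3 = 1 ∧ (a * c3 * a⁻¹ * c3⁻¹ = 1 → a ^ 3 = 1) := by
    decide +kernel
  have q : ∀ g, τ * g * τ⁻¹ * g⁻¹ ∈ N := fun g => by
    rw [mul_assoc, mul_assoc, ← mul_assoc g]
    exact mul_mem a (hN.conj_mem _ (inv_mem a) g)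
  obtain ⟨x, y, z⟩ := τ
  refine h _ a (Prod.ext ((p x).2 ?_) (Prod.ext ((p y).2 ?_) ((p z).2 ?_)))
  · exact congrArg (·.1) (h _ (q (c3, 1, 1)) (Prod.ext (p x).1 (Prod.ext (by simp) (by simp))))
  · exact congrArg (·.2.1) (h _ (q (1, c3, 1)) (Prod.ext (by simp) (Prod.ext (p y).1 (by simp))))
  · exact congrArg (·.2.2) (h _ (q (1, 1, c3)) (Prod.ext (by simp) (Prod.ext (by simp) (p z).1)))

omit [Finite G] in
theorem xs_comap {H : Type*} [Group H] {Q : Subgroup G} {z : H} (ι : H →* G) (hι : Function.Injective ι)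
    (l : Q ≤ ι.range) (h : XS Q (ι z)) : XS (Q.comap ι) z := by
  refine ⟨h.z_mem, fun e => h.z_ne (by rw [e, map_one]), hι (by simpa using h.z_sq),
    fun x hx => hι (by simpa using h.z_comm _ hx),
    fun x hx y hy => (h.comm _ hx _ hy).imp (fun e => hι (by simpa using e)) fun e => hι (by simpa using e),
    fun x hx e => (h.cent _ hx fun y hy => ?_).imp (fun e => hι (by simpa using e)) fun e => hι e, ?_⟩
  · obtain ⟨y, rfl⟩ := l hy
    simpa using congrArg ι (e y hy)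
  · obtain ⟨x, hx, a, b⟩ := h.nonab
    obtain ⟨x, rfl⟩ := l hx
    exact ⟨x, hx, fun e => a (by rw [e, map_one]), fun e => b (by rw [e])⟩

omit [Finite G] in
theorem m4 [L.Normal] (i3 : L.index = 3) {g : G} (a : g ^ 4 = 1) : g ∈ L := by
  have := L.pow_index_mem g
  rw [i3, show g ^ 3 = g⁻¹ from eq_inv_of_mul_eq_one_left (by rw [← pow_succ, a])] at this
  exact inv_mem_iff.1 this

omit [Finite G] in
theorem m2 [L.Normal] (i3 : L.index = 3) {g : G} (a : g * g = 1) : g ∈ L :=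
  m4 i3 (by rw [show 4 = 2 * 2 from rfl, pow_mul, sq g, a, one_pow])

omit [Finite G] in
theorem jN (h : ME D f E M) {P : Subgroup G} [hP : P.Normal] (a : f R ∈ P) (v : V4) : jv f v ∈ P := by
  have := mul_mem a (hP.conj_mem _ (inv_mem a) (jv f v))
  rwa [← mul_assoc, ← mul_assoc, h.acR v, ← h.neg, ← h.add,
    (by decide +kernel : ∀ v : V4, -v + -v = v)] at this

omit [Finite G] in
theorem jE (h : ME D f E M) {v : V4} (a : jv f v ∈ E) : v = 0 := h.j1 (by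
  have := h.xs.pow_four a
  rwa [pow_succ, h.j3, one_mul] at this)

theorem jM (h : ME D f E M) {v : V4} (a : v 0 = 0) : jv f v ∈ M :=
  h.nM _ (h.nrm (h.acJ v)) (h.acT.comm
    ((by decide +kernel : ∀ v : V4, v 0 = 0 → rf (ev 0) v = v) v a)).symm

omit [Finite G] in
theorem jP (h : ME D f E M) {P : Subgroup G} (a : ∀ i, i ≠ 0 → jv f (ev i) ∈ P) {v : V4} (b : v 0 = 0) :
    jv f v ∈ P := by
  rw [(by decide +kernel : ∀ v : V4, v 0 = 0 →
    v = (v 1).val • ev 1 + (v 2).val • ev 2 + (v 3).val • ev 3) v b, h.add, h.add, h.nsmul, h.nsmul,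
    h.nsmul]
  exact mul_mem (mul_mem (pow_mem (a 1 (by decide)) _) (pow_mem (a 2 (by decide)) _))
    (pow_mem (a 3 (by decide)) _)

theorem dP (h : ME D f E M) {P : Subgroup G} (a : ∀ i, i ≠ 0 → ∀ r, Kp f r (sp 1 (sn i)) → r ∈ P)
    {ε : V4} (b : Sn ε) (c : ε 0 = 1) {d : G} (e : Kp f d (sp 1 ε)) : d ∈ P := by
  have m : ∀ {ε η : V4}, (∃ n ∈ P, Kp f n (sp 1 ε)) → (∃ n ∈ P, Kp f n (sp 1 η)) →
      ∃ n ∈ P, Kp f n (sp 1 (ε * η)) := fun ⟨_, a', a⟩ ⟨_, b', b⟩ =>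
    ⟨_, mul_mem a' b', (a.mul b).cong (sp_mul 1 1 _ _)⟩
  have s : ∀ i, i ≠ 0 → ∀ x ∈ [1, sn i], ∃ n ∈ P, Kp f n (sp 1 x) := fun i i0 x hx => by
    rcases List.mem_cons.1 hx with rfl | hx
    · exact ⟨1, one_mem _, (Kp.one f).cong (by decide +kernel)⟩
    · rw [List.mem_singleton.1 hx]
      obtain ⟨r, hr⟩ := h.diag (ε := sn i) ((by decide : ∀ i, Sn (sn i)) i)
      exact ⟨r, a i i0 r hr, hr⟩
  obtain ⟨y, hy, z, hz, w, hw, rfl⟩ := (by decide +kernel : ∀ ε : V4, Sn ε → ε 0 = 1 →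
    ∃ y ∈ [1, sn 1], ∃ z ∈ [1, sn 2], ∃ w ∈ [1, sn 3], ε = y * z * w) ε b c
  obtain ⟨n, n1, n2⟩ := m (m (s 1 (by decide) y hy) (s 2 (by decide) z hz)) (s 3 (by decide) w hw)
  exact h.kp_eq n2 e (fun _ => rfl) ▸ n1

theorem gen (h : ME D f E M) (hX : X ∉ D) [L.Normal] (i3 : L.index = 3) (hC : f C ∉ L)
    {P : Subgroup G} (a : ∀ i, i ≠ 0 → ∀ r, Kp f r (sp 1 (sn i)) → r ∈ P)
    (b : ∀ i, i ≠ 0 → jv f (ev i) ∈ P) {m : G} (hm : m ∈ M ⊓ L) : ∃ e ∈ E, ∃ p ∈ P, m = e * p := by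
  obtain ⟨e, he, n, hn, rfl⟩ := h.fac m hm.1
  have nT := h.MC n ((M.mul_mem_cancel_left (h.EM he)).1 hm.1)
  have nL : n ∈ L := (L.mul_mem_cancel_left (m4 i3 (h.xs.pow_four he))).1 hm.2
  have JL : JJ f ≤ L := fun g hg => let ⟨v, e⟩ := h.memJ.1 hg; e ▸ jN h (m2 i3 h.r2) v
  obtain ⟨σ, ε, s0, sε, ac⟩ := h.monoT hn nT
  obtain ⟨d, hd⟩ := h.diag sε
  have dL := m2 i3 (h.dsq hd sε)
  have k : ∀ c, Ac f c (sp σ 1) → c ∈ L := fun c hc => by
    have := JL (h.dif ac ((hd.1.mul hc).cong fun v => by rw [sp_mul, one_mul]; congr 1; funext i; simp))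
    exact (L.mul_mem_cancel_left dL).1 (inv_mem_iff.1 ((L.mul_mem_cancel_left nL).1 this))
  rcases (by decide +kernel : ∀ σ : Perm (Fin 4), σ 0 = 0 → Perm.sign σ = 1 →
    σ = 1 ∨ σ = swap 1 2 * swap 2 3 ∨ σ = (swap 1 2 * swap 2 3)⁻¹) σ s0
    (by_contra fun c => hX (h.toNJ.odd ac sε c)) with rfl | rfl | rfl
  · obtain ⟨v, hv⟩ := h.memJ.1 (h.dif ac hd.1)
    have dT := h.kT hd rfl
    have v0 : v 0 = 0 := (by decide +kernel : ∀ v : V4, rf (ev 0) v = v → v 0 = 0) v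
      (h.jinj (by rw [← h.acT v, hv]; exact conj_of_comm (nT.mul_left dT.inv_left).symm))
    obtain rfl : n = jv f v * d := by rw [hv, inv_mul_cancel_right]
    by_cases c : ε 0 = 1
    · exact ⟨e, he, _, mul_mem (jP h b v0) (dP h a sε c hd), rfl⟩
    · obtain ⟨c1, c2⟩ := (by decide +kernel : ∀ ε : V4, Sn ε → ε 0 ≠ 1 →
        Sn (ε * sn 0) ∧ (ε * sn 0) 0 = 1) ε sε c
      refine ⟨e * f T, mul_mem he h.xs.z_mem, _, mul_mem (jP h b v0)
        (dP h a c1 c2 ((hd.mul h.kpT).cong (sp_mul 1 1 _ _))), ?_⟩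
      rw [← mul_assoc (jv f v), nT.eq, mul_assoc, ← mul_assoc (f T), h.t2, one_mul]
  · exact absurd (k _ h.acC) hC
  · exact absurd (inv_mem_iff.1 (k _ (h.acC.inv (by decide +kernel)))) hC

end OZ

open OZ

namespace ME

variable (h : ME D f E M) (hX : X ∉ D) [L.Normal] (i3 : L.index = 3) (hC : f C ∉ L)
include h hX i3 hC

/-- `ψ` is the commuting product of the three homomorphisms `Perm (Fin 3) → ⟨j (ev i), rᵢ⟩` (as `Ψ` in
`SX.exists_SY`; `MonoidHom.noncommCoprod`).  An element `m = e n` of `M ⊓ L` has `n` acting as `sp σ ε`,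
`σ 0 = 0` (`monoT`), `σ` even (`NJ.odd`); if `σ ≠ 1` then `n ∈ J ⟨t, rᵢ⟩ (f C)^±` (`dif`), so `f C ∈ L`.  Hence
`n ∈ J₀ ⟨t, r₁, r₂, r₃⟩`.  If `ψ τ ∈ E`, then `⁅ψ τ, j (ev i)⁆ ∈ E ⊓ J = 1` for all `i`, so `τ` is a
3-element and `ψ τ = 1`, `τ = 1`. -/
theorem psi : ∃ ψ : Perm (Fin 3) × Perm (Fin 3) × Perm (Fin 3) →* G, (∀ τ, ψ τ ∈ M ⊓ L) ∧
    (∀ τ, ψ τ ∈ E → τ = 1) ∧ ∀ m ∈ M ⊓ L, ∃ e ∈ E, ∃ τ, m = e * ψ τ := by
  have S : ∀ i, Sn (sn i) := by decide
  choose r hr using fun i => h.diag (S i)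
  choose σ σ1 σ2 σ3 using fun i => s3 (h.dsq (hr i) (S i)) (h.j3 (ev i))
    (((hr i).1.cj ((by decide +kernel : ∀ i, sp 1 (sn i) (ev i) = -ev i) i)).trans (h.neg _))
  have rj : ∀ i j, i ≠ j → Commute (r i) (jv f (ev j)) := fun i j e =>
    (hr i).1.comm ((by decide +kernel : ∀ i j, i ≠ j → sp 1 (sn i) (ev j) = ev j) i j e)
  have c : ∀ i j, i ≠ j → ∀ a b, Commute (σ i a) (σ j b) := fun i j e a b =>
    mem_cent.1 (σ3 i _ (mem_cent.2 (mem_cent.1 (σ3 j _ (mem_cent.2 (h.jc _ _))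
      (mem_cent.2 (rj j i e.symm)) b)).symm) (mem_cent.2 (mem_cent.1 (σ3 j _
        (mem_cent.2 (rj i j e).symm) (mem_cent.2 (h.dcm (hr j) (hr i))) b)).symm) a)
  let ψ := (σ 1).noncommCoprod ((σ 2).noncommCoprod (σ 3) (c 2 3 (by decide))) fun a b =>
    (c 1 2 (by decide) a b.1).mul_right (c 1 3 (by decide) a b.2)
  have hψ : ∀ τ, ψ τ = σ 1 τ.1 * (σ 2 τ.2.1 * σ 3 τ.2.2) := fun _ => rfl
  have ml : ∀ i, i ≠ 0 → ∀ a, σ i a ∈ M ⊓ L := fun i i0 => σ3 i _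
    ⟨jM h (if_neg i0.symm), jN h (m2 i3 h.r2) _⟩
    ⟨h.nM _ (h.nrm (hr i).1) (h.kT (hr i) rfl), m2 i3 (h.dsq (hr i) (S i))⟩
  have m : ∀ τ, ψ τ ∈ M ⊓ L := fun τ =>
    mul_mem (ml 1 (by decide) _) (mul_mem (ml 2 (by decide) _) (ml 3 (by decide) _))
  have rg : ∀ i, i ≠ 0 → ∀ a, σ i a ∈ ψ.range := fun i i0 a => by
    fin_cases i
    · exact absurd rfl i0
    · exact ⟨(a, 1, 1), by simp [hψ]⟩
    · exact ⟨(1, a, 1), by simp [hψ]⟩
    · exact ⟨(1, 1, a), by simp [hψ]⟩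
  refine ⟨ψ, m, fun τ a => ?_, fun x hx => ?_⟩
  · have : (E.comap ψ).Normal := ⟨fun x hx g => by
      rw [mem_comap, map_mul, map_mul, map_inv]
      exact conj_mem_of_mem_normalizer (h.MN (m g).1) hx⟩
    refine s33 (E.comap ψ) (fun ⟨x, y, z⟩ hx e => ?_) a
    have p : ∀ a : Perm (Fin 3), a ^ 3 = 1 → ∃ k : ZMod 3, a = c3 ^ k.val := by decide +kernel
    obtain ⟨k1, rfl⟩ := p x (congrArg (·.1) e)
    obtain ⟨k2, rfl⟩ := p y (congrArg (·.2.1) e)
    obtain ⟨k3, rfl⟩ := p z (congrArg (·.2.2) e)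
    rw [mem_comap, hψ, map_pow, map_pow, map_pow, σ1, σ1, σ1, ← h.nsmul, ← h.nsmul, ← h.nsmul, ← h.add,
      ← h.add] at hx
    obtain ⟨rfl, rfl, rfl⟩ := (by decide +kernel : ∀ a b c : ZMod 3,
      a.val • ev 1 + (b.val • ev 2 + c.val • ev 3) = 0 → a = 0 ∧ b = 0 ∧ c = 0) _ _ _ (jE h hx)
    rfl
  · obtain ⟨e, he, _, ⟨τ, rfl⟩, e'⟩ := gen h hX i3 hC (P := ψ.range)
      (fun i i0 s hs => h.kp_eq (hr i) hs (fun _ => rfl) ▸ σ2 i ▸ rg i i0 _)
      (fun i i0 => σ1 i ▸ rg i i0 _) hx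
    exact ⟨e, he, τ, e'⟩

/-- `O²(L)` is normal in `G` with a 2-group quotient in `L`.  It contains the elements of odd order of `L`, so
`J`, and `⁅e, j (ev 1)⁆` for `e ∈ E`; as `j (ev 1)` is fixed point free on `E/t` these fill `E` modulo `t`, and
`t` is a commutator of two of them (or a square).  `rᵢ ~ t` in `G`.  So `M ⊓ L ≤ O²(L)` (`psi`), and
`M ⊓ L` has odd index in `L` (`odd`). -/
theorem res : pResidual 2 L = ⊤ := by
  have : Fact (Nat.Prime 2) := ⟨Nat.prime_two⟩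
  have hO : (𝐎[2, L]).Normal := normalizer_eq_top_iff.1 (top_le_iff.1
    ((normalizer_eq_top L).ge.trans (normalizer_le_normalizer_pRes 2 L)))
  set O := 𝐎[2, L] with hO'
  have jO : ∀ v, jv f v ∈ O := fun v => mem_pRes (jN h (m2 i3 h.r2) v)
    (Nat.Coprime.coprime_dvd_left (orderOf_dvd_of_pow_eq_one (h.j3 v)) (by norm_num))
  have e1 : ∀ e ∈ E, e ∈ O ∨ e * f T ∈ O := fun e he => by
    set j := jv f (ev 1)
    have n : ∀ x ∈ E, j * x * j⁻¹ ∈ E := fun x hx =>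
      conj_mem_of_mem_normalizer (h.MN (jM h (by decide))) hx
    have j3 : j ^ 3 = 1 := h.j3 _
    have u1 : (e * j) ^ 3 = e * (j * e * j⁻¹) * (j * (j * e * j⁻¹) * j⁻¹) := by
      rw [← mul_one (e * _ * _), ← j3]; simp only [pow_succ]; group
    have uE : (e * j) ^ 3 ∈ E := u1 ▸ mul_mem (mul_mem he (n e he)) (n _ (n e he))
    have u2 : j * (e * j) ^ 3 * j⁻¹ = e⁻¹ * (e * j) ^ 3 * e⁻¹⁻¹ := by simp only [pow_succ]; group
    have u3 : (e * j) ^ 3 * e ∈ O := by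
      have q : ((e * j : G) : G ⧸ O) = e := by
        rw [QuotientGroup.mk_mul, (QuotientGroup.eq_one_iff j).2 (jO _), mul_one]
      rw [← QuotientGroup.eq_one_iff, QuotientGroup.mk_mul, QuotientGroup.mk_pow, q, ← pow_succ,
        ← QuotientGroup.mk_pow, h.xs.pow_four he, QuotientGroup.mk_one]
    generalize (e * j) ^ 3 = u at uE u2 u3
    rcases h.xs.conj (inv_mem he) uE with c | c <;> rw [← u2] at c
    · rcases h.fpf 1 (by decide) u uE (comm_of_conj c).symm with rfl | rfl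
      · exact .inl (by simpa using u3)
      · exact .inr (h.xs.z_comm e he ▸ u3)
    · have jt : j * f T * j⁻¹ = f T := conj_of_comm (h.MC _ (jM h (by decide)))
      have : j ^ 3 * u * (j ^ 3)⁻¹ = u * f T := by
        have c2 : j * (u * f T) * j⁻¹ = u := by rw [← conj_mul, c, jt, h.xs.mul_z_z]
        calc _ = j * (j * (j * u * j⁻¹) * j⁻¹) * j⁻¹ := by rw [pow_three]; simp only [mul_assoc, mul_inv_rev]
          _ = _ := by rw [c, c2, c]
      rw [j3] at this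
      exact absurd (by simpa using this) h.xs.z_ne
  have tO : f T ∈ O := by
    obtain ⟨x, hx, y, hy, e⟩ := h.xs.exists_noncomm_pair
    have q : ∀ x ∈ E, (x : G ⧸ O) = 1 ∨ (x : G ⧸ O) = (f T : G ⧸ O)⁻¹ := fun x hx =>
      (e1 x hx).imp (QuotientGroup.eq_one_iff x).2 fun a =>
        eq_inv_of_mul_eq_one_left ((QuotientGroup.eq_one_iff _).2 a)
    have := congrArg (QuotientGroup.mk : G → G ⧸ O) e
    simp only [QuotientGroup.mk_mul] at this
    rw [← QuotientGroup.eq_one_iff]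
    rcases q x hx with a | a <;> rcases q y hy with b | b <;> rw [a, b] at this <;>
      exact (mul_eq_left.1 (this.symm.trans (by simp)))
  have le : M ⊓ L ≤ O := fun m hm => by
    obtain ⟨e, he, p, hp, rfl⟩ := gen h hX i3 hC (P := O) (fun i _ r hr => by
      obtain ⟨g, rfl⟩ := isConj_iff.1 (h.rT hr)
      exact hO.conj_mem _ tO g) (fun i _ => jO _) hm
    exact mul_mem ((e1 e he).elim id (O.mul_mem_cancel_right tO).1) hp
  have od : Odd O.index := by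
    refine Odd.of_dvd_nat ?_ (index_dvd_of_le le)
    rw [← relIndex_mul_index (inf_le_left : M ⊓ L ≤ M), inf_relIndex_left]
    exact (Odd.of_dvd_nat (by decide : Odd 3) (i3 ▸ L.relIndex_dvd_index_of_normal M)).mul h.odd
  rw [← pRes_subgroupOf, subgroupOf_eq_top]
  intro l hl
  obtain ⟨k, hk⟩ := exists_pow_mem_pRes (p := 2) hl
  exact (QuotientGroup.eq_one_iff l).1 (orderOf_eq_one_iff.1 (Nat.eq_one_of_dvd_coprimes
    ((Nat.coprime_two_left.2 od).pow_left k)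
    (orderOf_dvd_of_pow_eq_one ((QuotientGroup.eq_one_iff (l ^ 2 ^ k)).2 hk))
    (orderOf_dvd_natCard _)))

/-- `S3345.result` in the group `L` with `t' = ⟨t, _⟩`: `C_L(t) = M ⊓ L` (`cT`, `MC`), `O₂ = E` (`psi`;
`O₂(S₃³) = 1`), `cE'`, `WG.Loc.fstar_eq`, `XS.isExtraspecial`.  The first alternative fails: `r₁ = g t g⁻¹`
with `g ∈ L` (`G = L ⟨f C⟩`, `C` commutes with `T`), and `r₁ t` is an involution. -/
theorem omega : Nonempty (L ≃* Omega (ZMod 2) (quadFormPlus 4 (ZMod 2))) := by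
  have : Fact (Nat.Prime 2) := ⟨Nat.prime_two⟩
  obtain ⟨ψ, ψ1, ψ2, ψ3⟩ := h.psi hX i3 hC
  let t : L := ⟨f T, m2 i3 h.t2⟩
  let Cn : Subgroup L := centralizer {t}
  let ι : Cn →* G := L.subtype.comp Cn.subtype
  have inj : Function.Injective ι := L.subtype_injective.comp Cn.subtype_injective
  have ιM : ∀ x, ι x ∈ M ⊓ L := fun x =>
    ⟨h.cT hX (congrArg Subtype.val (mem_centralizer_singleton_iff.1 x.2)), x.1.2⟩
  have rg : M ⊓ L ≤ ι.range := fun m hm =>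
    ⟨⟨⟨m, hm.2⟩, mem_centralizer_singleton_iff.2 (Subtype.ext (h.MC m hm.1))⟩, rfl⟩
  have EL : E ≤ L := fun e he => m4 i3 (h.xs.pow_four he)
  have Er : E ≤ ι.range := (le_inf h.EM EL).trans rg
  have xs : XS (E.comap ι) ⟨t, mem_centralizer_singleton_iff.2 rfl⟩ := xs_comap ι inj Er h.xs
  have nE : (E.comap ι).Normal := ⟨fun x hx g => by
    rw [mem_comap, map_mul, map_mul, map_inv]
    exact conj_mem_of_mem_normalizer (h.MN (ιM g).1) hx⟩
  let θ : Perm (Fin 3) × Perm (Fin 3) × Perm (Fin 3) →* Cn :=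
    (MonoidHom.ofInjective inj).symm.toMonoidHom.comp (ψ.codRestrict _ fun τ => rg (ψ1 τ))
  have hθ : ∀ τ, ι (θ τ) = ψ τ := fun τ => MonoidHom.apply_ofInjective_symm inj _
  have dec : ∀ x : Cn, ∃ e ∈ E.comap ι, ∃ τ, x = e * θ τ := fun x => by
    obtain ⟨e, he, τ, q⟩ := ψ3 _ (ιM x)
    obtain ⟨e, rfl⟩ := Er he
    exact ⟨e, he, τ, inj (by rw [map_mul, hθ, q])⟩
  have pc : pCore 2 Cn = E.comap ι := by
    have l := le_pCore' (p := 2) xs.isPGroup
    refine le_antisymm (fun x hx => ?_) l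
    obtain ⟨e, he, τ, rfl⟩ := dec x
    obtain rfl : τ = 1 := s33 ((pCore 2 Cn).comap θ) (fun y hy c => ψ2 y (by
      rw [← hθ, eq_one_of_isPGroup_of_coprime (isPGroup_pCore' 2 Cn) hy
        (Nat.Coprime.coprime_dvd_left (orderOf_dvd_of_pow_eq_one (by rw [← map_pow, c, map_one]))
          (by norm_num : Nat.Coprime 3 2)), map_one]
      exact one_mem _)) ((mul_mem_cancel_left (l he)).1 hx)
    simpa using he
  have mp : (pCore 2 Cn).map Cn.subtype = E.subgroupOf L := by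
    rw [pc]
    refine le_antisymm (map_le_iff_le_comap.2 fun x hx => hx) fun x hx => ?_
    obtain ⟨y, hy⟩ := Er hx
    exact ⟨y, show ι y ∈ E from hy.symm ▸ hx, Subtype.ext hy⟩
  have cc : centralizer ((E.subgroupOf L : Subgroup L) : Set L) ≤ E.subgroupOf L := fun x hx => by
    have c : ∀ e ∈ E, Commute (x : G) e := fun e he =>
      (congrArg Subtype.val (hx ⟨e, EL he⟩ he)).symm
    rcases h.cE' (h.cT hX (c _ h.xs.z_mem)) c with e | e <;> rw [mem_subgroupOf, e]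
    exacts [one_mem _, h.xs.z_mem]
  have fs : generalizedFittingSubgroup Cn = E.comap ι :=
    WG.fstar_eq (p := 2) (R := E.subgroupOf L) (mp ▸ map_subtype_le _) pc cc
  refine (S3345.result (h.res hX i3 hC) t ((orderOf_coe t).symm.trans h.xs.orderOf_z) Cn rfl
    (fs ▸ xs.isExtraspecial) ?_ ?_ (mp ▸ cc)).resolve_left fun a => ?_
  · rw [fs, ← card_map_of_injective inj, map_comap_eq_self Er, h.card]; rfl
  · refine (MulEquiv.ofBijective ((QuotientGroup.mk' (pCore 2 Cn)).comp θ)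
      ⟨(injective_iff_map_eq_one _).2 fun τ a => ψ2 τ ?_, fun x => ?_⟩).symm
    · rw [← hθ]
      exact pc.le ((QuotientGroup.eq_one_iff _).1 a)
    · obtain ⟨x, rfl⟩ := QuotientGroup.mk_surjective x
      obtain ⟨e, he, τ, rfl⟩ := dec x
      exact ⟨τ, by rw [QuotientGroup.mk_mul, (QuotientGroup.eq_one_iff e).2 (pc.ge he), one_mul]; rfl⟩
  · obtain ⟨r, hr⟩ := h.diag (ε := sn 1) (by decide)
    obtain ⟨g, rfl⟩ := isConj_iff.1 (h.rT hr)
    have tp : L ⊔ centralizer {f T} = ⊤ := by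
      have d := i3 ▸ index_dvd_of_le (le_sup_left : L ≤ L ⊔ centralizer {f T})
      refine index_eq_one.1 (((Nat.dvd_prime Nat.prime_three).1 d).resolve_right fun e => hC ?_)
      have := relIndex_mul_index (le_sup_left : L ≤ L ⊔ centralizer {f T})
      rw [e, i3, Nat.mul_eq_right (by norm_num), relIndex_eq_one] at this
      exact this (mem_sup_right (mem_cent.2 (h.cm1 bd!)))
    obtain ⟨l, hl, c, hc, rfl⟩ := mem_sup_of_normal_left.1 (tp.ge (mem_top g))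
    rw [show l * c * f T * (l * c)⁻¹ = l * (c * f T * c⁻¹) * l⁻¹ by group,
      conj_of_comm (mem_cent.1 hc)] at hr
    have o := (Grp.pPrimeCore_coprime 2 L).coprime_dvd_left (orderOf_dvd_natCard _ (a ⟨l, hl⟩))
    have q : ((⟨l, hl⟩ * t * (⟨l, hl⟩ : L)⁻¹ * t⁻¹ : L) : G) ^ 2 = 1 := by
      change (l * f T * l⁻¹ * (f T)⁻¹) ^ 2 = 1
      rw [(h.kT hr rfl).inv_right.mul_pow, sq, sq, h.dsq hr (by decide), ← mul_inv_rev, h.t2]; simp
    have z := orderOf_eq_one_iff.1 (Nat.eq_one_of_dvd_coprimes o dvd_rfl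
      ((orderOf_coe _).symm.dvd.trans (orderOf_dvd_of_pow_eq_one q)))
    rw [show l * f T * l⁻¹ = f T from mul_inv_eq_one.1 (congrArg Subtype.val z)] at hr
    exact absurd (h.jinj ((hr.1 (ev 0)).symm.trans (h.kpT.1 (ev 0)))) (by decide +kernel)

/-- an element centralising `L ≥ J` lies in `J` (`cJ`) and commutes with `f R ∈ L`, which inverts `J` -/
theorem cen : centralizer (L : Set G) = ⊥ := by
  refine eq_bot_iff.2 fun g hg => ?_
  have rL := m2 i3 h.r2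
  obtain ⟨v, rfl⟩ := h.memJ.1 (h.cJ fun v => (hg _ (jN h rL v)).symm)
  rw [(by decide +kernel : ∀ v : V4, -v = v → v = 0) v
    (h.jinj ((h.acR v).symm.trans (conj_of_comm (hg _ rL)))), h.zero]
  exact one_mem _

end ME

end Cfsg.Agent.O8T
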