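import Cfsg.Agent.Loc3.O8C1
import Cfsg.Agent.Loc3.O8C2
import Cfsg.Agent.Loc3.O8C4
import Cfsg.Agent.Loc3.O8N
import Cfsg.Agent.Loc3.O8Lb
import Cfsg.Agent.Loc3.O8Le
import Cfsg.Agent.Loc3.O8Lf
import Cfsg.Agent.Loc3.O8E2
import Cfsg.Agent.Loc3.O8S
import Cfsg.Agent.Loc3.O8T3
import Cfsg.Agent.Loc3.O8Z
import Cfsg.Agent.S1677

/-! The 3-local recognition of `Ω₈⁺(2).3` and `Ω₈⁺(2).Sym(3)`: assembly. -/

set_option autoImplicit false
set_option maxRecDepth 100000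
set_option synthInstance.maxHeartbeats 400000
set_option synthInstance.maxSize 4000

namespace Cfsg.Agent.O8T

open Subgroup Cfsg Cfsg.Agent.PLocal.Amb Cfsg.Agent.Loc3 Cfsg.Agent.Comp Cfsg.Agent.LES
open Cfsg.Agent.X32 (TG)
open Cfsg.Agent.X32.TG
open Cfsg.Agent.Loc3.Pr hiding V rf
open Cfsg.Agent.TT (XS)
open Cfsg.Agent.PS4 (K2 l2)
open Equiv (Perm swap)
open scoped commutatorElement

variable {G : Type*} [Group G] [Finite G] {D : Subgroup K} {f : K → G}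

theorem Ez.exists_Ch {z x : G} {Q L : Subgroup G} {π : G → G23.Am.M2} (h : Ez z Q L π)
    (x1 : x * z * x⁻¹ ∈ Q) (x2 : x * z * x⁻¹ ∉ zpowers z) : ∃ (D : Subgroup K) (f : K → G), Ch D f := by
  obtain ⟨t, a, e, u, w, y, k, g, g1, g2⟩ := h.exists_Fr x1 x2
  obtain ⟨r, k⟩ := k.exists_r g1 g2
  by_cases c : ∀ g, Commute g z → g ∈ L
  · obtain ⟨n, p, k⟩ := k.exists_Gn
    exact ⟨_, k.chart1 c⟩
  push Not at c
  obtain ⟨g, g1, g2⟩ := c
  obtain ⟨y, r, c, k, l⟩ := k.exists_c g1 g2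
  obtain ⟨n, p, k⟩ := k.exists_Gn
  exact ⟨_, k.chart2 l⟩

theorem Ch.exists_ME (h : Ch D f) : ∃ (f : K → G) (E M : Subgroup G), ME D f E M := by
  obtain ⟨f, h⟩ := h.exists_NJ
  have c := h.yb1.resolve_right fun ⟨_, a⟩ => h.notBad a
  exact ⟨f, LC.exists_ME ⟨h, h.cE_of c, h.yb2 c, h.yb3 c⟩⟩

theorem Ch.main1 (h : Ch D f) (a : X ∉ D) : ∃ N : Subgroup G, N.Normal ∧
    Nonempty (N ≃* Omega (ZMod 2) (quadFormPlus 4 (ZMod 2))) ∧ centralizer (N : Set G) = ⊥ ∧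
      N.index = 3 := by
  obtain ⟨f, E, M, h⟩ := h.exists_ME
  obtain ⟨N, _, b, c⟩ := h.toNJ.three a
  exact ⟨N, ‹_›, h.omega a b c, h.cen a b c, b⟩

theorem Ch.main (h : Ch D f) : ∃ N : Subgroup G, N.Normal ∧
    Nonempty (N ≃* Omega (ZMod 2) (quadFormPlus 4 (ZMod 2))) ∧ centralizer (N : Set G) = ⊥ ∧
      (N.index = 3 ∨ N.index = 6) := by
  by_cases a : X ∈ D
  swap
  · obtain ⟨N, b, c, d, e⟩ := h.main1 a
    exact ⟨N, b, c, d, Or.inl e⟩
  obtain ⟨f, E, M, h⟩ := h.exists_ME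
  obtain ⟨L, i2, b⟩ := h.two a
  obtain ⟨f₁, k⟩ := h.toNJ.rech2 a i2 b
  obtain ⟨N, _, ⟨e⟩, c, i3⟩ := k.main1 bd!
  have nL := normal_of_index_eq_two i2
  have e' := (N.equivMapOfInjective L.subtype L.subtype_injective).symm.trans e
  have := S1677.simple_omega
  have := e.isSimpleGroup
  have two : ∀ g : L, g ^ 2 = 1 → g ∈ N := fun g d => by
    have := N.pow_index_mem g
    rwa [i3, pow_succ, d, one_mul] at this
  have nN : (N.map L.subtype).Normal := by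
    obtain ⟨s, s2⟩ := exists_prime_orderOf_dvd_card' (G := N) 2 (by
      rw [Nat.card_congr e.toEquiv, XSC.card_Op8]; decide)
    have gen := gen_of_simple (p := 2) (x := s) (s2 ▸ pow_orderOf_eq_one s) (by
      rintro rfl; simp at s2)
    refine ⟨fun n ⟨m, hm, em⟩ g => ?_⟩
    have : (⊤ : Subgroup N) ≤ ((N.map L.subtype).comap (MulAut.conj g).toMonoidHom).comap
        (L.subtype.comp N.subtype) := gen ▸ (closure_le _).2 fun p hp =>
      ⟨⟨_, nL.conj_mem _ p.1.2 g⟩, two _ (Subtype.ext (by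
        simp [show (p.1.1 : G) ^ 2 = 1 from congrArg (fun x : N => (x.1.1 : G)) hp])), rfl⟩
    exact em ▸ this (mem_top ⟨m, hm⟩)
  have lo : ∀ g ∈ centralizer (N.map L.subtype : Set G), g ∈ L → g = 1 := fun g p q =>
    congrArg Subtype.val (mem_bot.1 (c.le (show (⟨g, q⟩ : L) ∈ centralizer (N : Set L) from
      fun n hn => Subtype.ext (p _ ⟨n, hn, rfl⟩))))
  refine ⟨_, nN, ⟨e'⟩, eq_bot_iff.2 fun g p => by_contra fun g1 => ?_, Or.inr (by
    rw [index_map_subtype, i3, i2])⟩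
  have gL : g ∉ L := fun q => g1 (lo g p q)
  have g2 := lo _ (mul_mem p p) (mul_self_mem_of_index_two i2 g)
  obtain ⟨v, rfl⟩ := h.memJ.1 (h.toCh.cJ (g := g) fun v => by
    have q := Normal.conj_mem inferInstance g p (jv f v)
    exact (comm_of_conj (mul_inv_eq_one.1 (lo _ (mul_mem q (inv_mem p))
      ((mul_mem_iff_of_index_two i2).2 (by
        rw [inv_mem_iff]
        exact ⟨fun a => absurd (by
          simpa [mul_assoc] using nL.conj_mem' _ a (jv f v)) gL, fun a => absurd a gL⟩))))).symm)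
  exact g1 (G23.Am.one_of_sq (k := 1) (h.j3 v) g2)

end Cfsg.Agent.O8T
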