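import Cfsg.Agent.Loc3.O8D
import Cfsg.Agent.Loc3.Tools6

/-!
S3372.  Abstract group theory: the configuration `AX x W M` of `Loc3/O8D`
(`M = W.3³.Γ`).  `J₀ = x.range`; `H` is the monomial group of order 48 acting through `ac` (`Loc3/PrG`,
`PrF`): `e 1` is the 3-cycle `e 1 → e 3 → e 9`, `e 3` swaps `e 1`, `e 3`; `e 6, e 12, e 24` invert
`e 1, e 3, e 9` respectively, `e 42 = -1`.  Closed facts on `H`, `Pr.V` are decided by `bd!`.
-/

set_option autoImplicit false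
set_option linter.unusedSectionVars false
set_option linter.unusedVariables false
set_option maxRecDepth 100000
set_option synthInstance.maxHeartbeats 400000
set_option synthInstance.maxSize 4000

namespace Cfsg.Agent.O8T

open Subgroup Cfsg Cfsg.Agent.PLocal.Amb Cfsg.Agent.Loc3 Cfsg.Agent.Comp Cfsg.Agent.LES
open Cfsg.Agent.X32 (TG)
open Cfsg.Agent.X32.TG
open Cfsg.Agent.Loc3.Pr hiding V rf
open Cfsg.Agent.TT (XS)
open Cfsg.Agent.PS4 (K2 l2)
open Equiv (Perm swap)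
open scoped commutatorElement

variable {G : Type*} [Group G] [Finite G] {x : Pr.V →* G} {W M A : Subgroup G} {g n m w a u : G}
  {k l : H} {v : Pr.V}

theorem x0_card (S W : Subgroup G) : Nat.card ↥(W ⊓ S) * S.relIndex W = Nat.card W := by
  rw [← card_mul_index (S.subgroupOf W), relIndex, ← inf_subgroupOf_right, inf_comm S W,
    Nat.card_congr (subgroupOfEquivOfLe (inf_le_left : W ⊓ S ≤ W)).toEquiv]

theorem x0_cj (hg : g ∈ 𝐍[W]) (S : Subgroup G) : (cj(g, S)).relIndex W = S.relIndex W := by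
  have h1 := x0_card cj(g, S) W
  have h2 := x0_card S W
  have h3 : W ⊓ cj(g, S) = cj(g, W ⊓ S) := by rw [cj_inf, cj_of_mem_normalizer hg]
  rw [h3, card_cj, ← h2] at h1
  exact Nat.eq_of_mul_eq_mul_left Nat.card_pos h1

theorem x0_ne (S W : Subgroup G) : S.relIndex W ≠ 0 := index_ne_zero_of_finite

omit [Finite G] in
theorem x0_list {B : Subgroup G} (L : List G) (h : ∀ b ∈ B, b ∈ L) : Nat.card B ≤ L.length := by
  classical
  refine (Nat.card_le_card_of_injective (β := L.toFinset)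
    (fun b : B => ⟨b, List.mem_toFinset.2 (h b b.2)⟩) fun a b e => ?_).trans ?_
  · exact Subtype.ext (Subtype.mk.inj e)
  · rw [Nat.card_eq_finsetCard]
    exact L.toFinset_card_le

omit [Finite G] in
theorem x0_comm (h : ∀ g ∈ A, g * g = 1) {a b : G} (ha : a ∈ A) (hb : b ∈ A) : Commute a b := by
  have e := h _ (A.mul_mem ha hb)
  rw [Commute, SemiconjBy, ← inv_eq_of_mul_eq_one_right e, mul_inv_rev,
    inv_eq_of_mul_eq_one_right (h a ha), inv_eq_of_mul_eq_one_right (h b hb)]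

omit [Finite G] in
theorem x0_one (h2 : g * g = 1) (h3 : g ^ 3 = 1) : g = 1 := by
  rwa [pow_succ, pow_two, h2, one_mul] at h3

namespace AX

variable (h : AX x W M)
include h

omit [Finite G] in
theorem xM (v : Pr.V) : x v ∈ M := by
  by_cases c : v = 1
  · rw [c, map_one]; exact M.one_mem
  · exact (h.uf v c).1

omit [Finite G] in
theorem JM : x.range ≤ M := by
  rintro _ ⟨v, rfl⟩
  exact h.xM v

omit [Finite G] in
theorem wJ (a : w ∈ W) (b : w ∈ x.range) : w = 1 := by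
  obtain ⟨v, rfl⟩ := b
  exact x0_one (h.w2 _ a) (xcube x v)

omit [Finite G] in
theorem wc {w' : G} (a : w ∈ W) (b : w' ∈ W) : Commute w w' := x0_comm h.w2 a b

omit [Finite G] in
theorem wi (a : w ∈ W) : w⁻¹ = w := inv_eq_of_mul_eq_one_right (h.w2 w a)

omit [Finite G] in
theorem cW (a : m ∈ M) (b : w ∈ W) : m * w * m⁻¹ ∈ W := conj_mem_of_mem_normalizer (h.nw a) b

omit [Finite G] in
theorem mem_of_act (a : Act x n 1) : n ∈ x.range := h.cent n fun v => a.comm (ac_one v)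

/-- `uf` -/
theorem nM (a : n ∈ 𝐍[x.range]) : n ∈ M :=
  (h.uf (e 1) bd!).2 n (h.JM (conj_mem_of_mem_normalizer a ⟨_, rfl⟩))

/-- `⁅w, x v⁆ ∈ W ⊓ J₀ = 1`, so `w ∈ J₀` by `cent`, and `w² = w³ = 1` -/
theorem wN (a : w ∈ W) (b : w ∈ 𝐍[x.range]) : w = 1 := by
  refine h.wJ a (h.cent w fun v => comm_of_conj (mul_inv_eq_one.1 (h.wJ ?_ ?_)))
  · have := W.mul_mem a (h.cW (h.xM v) (W.inv_mem a))
    simpa only [mul_assoc] using this
  · exact mul_mem (conj_mem_of_mem_normalizer b ⟨v, rfl⟩) (inv_mem ⟨v, rfl⟩)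

/-- `nM`, `fac`, `wN` -/
theorem mon (a : n ∈ 𝐍[x.range]) : ∃ k, Act x n k := by
  obtain ⟨w, hw, n', k, b, e⟩ := h.fac n (h.nM a)
  have : w = 1 := h.wN hw (by
    rw [eq_mul_inv_of_mul_eq e.symm]
    exact mul_mem a (inv_mem b.norm))
  rw [this, one_mul] at e
  exact ⟨k, e ▸ b⟩

theorem uniq {w' n' : G} (a : w ∈ W) (a' : w' ∈ W) (b : n ∈ 𝐍[x.range]) (b' : n' ∈ 𝐍[x.range])
    (c : w * n = w' * n') : w = w' ∧ n = n' := by
  have e : w'⁻¹ * w = n' * n⁻¹ := by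
    rw [inv_mul_eq_iff_eq_mul, ← mul_assoc, ← c, mul_inv_cancel_right]
  have e1 : w'⁻¹ * w = 1 := h.wN (W.mul_mem (W.inv_mem a') a) (e ▸ mul_mem b' (inv_mem b))
  exact ⟨(inv_mul_eq_one.1 e1).symm, (mul_inv_eq_one.1 (e ▸ e1)).symm⟩

/-- `⁅n, a⁆ ∈ W ⊓ N(J₀) = 1` -/
theorem split (a : w ∈ W) (b : n ∈ 𝐍[x.range]) (c : m ∈ 𝐍[x.range]) (d : Commute (w * n) m) :
    Commute w m ∧ Commute n m := by
  have := h.uniq (h.cW (h.nM c) a) a (mul_mem (mul_mem c b) (inv_mem c)) b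
    (by rw [conj_mul, conj_of_comm d.symm])
  exact ⟨(comm_of_conj this.1).symm, (comm_of_conj this.2).symm⟩

/-- `fac`, `split`, `fpf` -/
theorem cN (a : v ∈ (es [1, 3, 9] : List Pr.V)) (b : Commute g (x v)) : g ∈ 𝐍[x.range] := by
  obtain ⟨w, hw, n, k, c, rfl⟩ := h.fac g
    ((h.uf v ((bd! : ∀ v ∈ (es [1, 3, 9] : List Pr.V), v ≠ 1) v a)).comm b)
  rw [h.fpf v a w hw (h.split hw c.norm (le_normalizer ⟨v, rfl⟩) b).1, one_mul]
  exact c.norm

omit [Finite G] in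
theorem adj {t : G} (ht : Act x t (e 42)) (a : Act x n k) : ∃ v, Commute t (x v * n) := by
  obtain ⟨v, e1⟩ := h.mem_of_act ((((ht.mul a).mul ht.inv).mul a.inv).cong
    ((bd! : ∀ k : H, e 42 * k * (e 42)⁻¹ * k⁻¹ = 1) k))
  refine ⟨v⁻¹, comm_of_conj ?_⟩
  rw [← conj_mul, ht, show t * n * t⁻¹ = x v * n by rw [e1]; group, ← mul_assoc, ← map_mul,
    (bd! : ∀ v : Pr.V, ac (e 42) v⁻¹ * v = v⁻¹)]

omit [Finite G] in
theorem eqt {t : G} (ht : Act x t (e 42)) (a : Act x n k) (b : Act x m k) (c : Commute t n)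
    (d : Commute t m) : n = m := by
  obtain ⟨v, e1⟩ := h.mem_of_act ((a.mul b.inv).cong (mul_inv_cancel k))
  have := (ht.fix h.inj (e1 ▸ c.mul_right d.inv_right))
  rw [(bd! : ∀ v : Pr.V, ac (e 42) v = v → v = 1) v this, map_one] at e1
  exact mul_inv_eq_one.1 e1.symm

omit [Finite G] in
theorem m42 : e 42 ∈ Gam x ⊤ :=
  (bd! : (e 6 * e 12 * e 24 : H) = e 42) ▸
    mul_mem (mul_mem (h.dg _ bd!) (h.dg _ bd!)) (h.dg _ bd!)

theorem exists_a : ∃ α : G → H, WH M (W ⊔ x.range) α ∧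
    ∀ w ∈ W, ∀ n k, Act x n k → α (w * n) = k := by
  have : ∀ g : G, ∃ l : H, ∀ w ∈ W, ∀ n k, Act x n k → g = w * n → l = k := fun g => by
    by_cases c : ∃ w ∈ W, ∃ n k, Act x n k ∧ g = w * n
    · obtain ⟨w, hw, n, k, a, b⟩ := c
      refine ⟨k, fun w' hw' n' k' a' b' => ?_⟩
      exact a.eq h.inj ((h.uniq hw hw' a.norm a'.norm (b.symm.trans b')).2 ▸ a')
    · exact ⟨1, fun w hw n k a b => absurd ⟨w, hw, n, k, a, b⟩ c⟩
  choose α hα using this
  have sp : ∀ w ∈ W, ∀ n k, Act x n k → α (w * n) = k := fun w hw n k a => hα _ w hw n k a rfl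
  refine ⟨α, ⟨sup_le h.le h.JM, fun {g g'} hg hg' => ?_, fun {g} hg => ?_⟩, sp⟩
  · obtain ⟨w, hw, n, k, a, rfl⟩ := h.fac g hg
    obtain ⟨w', hw', n', k', a', rfl⟩ := h.fac g' hg'
    rw [sp w hw n k a, sp w' hw' n' k' a', show w * n * (w' * n') = w * (n * w' * n⁻¹) * (n * n') by
      group]
    exact sp _ (W.mul_mem hw (h.cW (h.nM a.norm) hw')) _ _ (a.mul a')
  · rw [mem_sup_of_le_normalizer_left (h.JM.trans h.nw)]
    constructor
    · intro b
      obtain ⟨w, hw, n, k, a, rfl⟩ := h.fac g hg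
      rw [sp w hw n k a] at b
      exact ⟨w, hw, n, h.mem_of_act (b ▸ a), rfl⟩
    · rintro ⟨w, hw, _, ⟨v, rfl⟩, rfl⟩
      exact sp w hw _ _ (Act.self v)

/-- The homomorphism `α : M → H` and the complement `κ`.  `α (w n) = k` for `Act x n k` is well defined by
`wN`, `Act.eq`.  Take `d` with `Act x d (e 42)` (`dg`); `d * d ∈ J₀` is fixed and inverted by `d`, so it is
`1`.  Each `k ∈ Gam` has a unique lift commuting with `d` (copy `MF.adj`, `MF.eqt` of `PrW`). -/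
theorem exists_ak : ∃ (α : G → H) (κ : H → G), WH M (W ⊔ x.range) α ∧ (∀ n k, Act x n k → α n = k) ∧
    (∀ m ∈ M, α m ∈ Gam x ⊤) ∧ (∀ k ∈ Gam x ⊤, Act x (κ k) k) ∧
    ∀ k ∈ Gam x ⊤, ∀ l ∈ Gam x ⊤, κ (k * l) = κ k * κ l := by
  obtain ⟨α, q, sp⟩ := h.exists_a
  obtain ⟨d, -, hd⟩ := h.m42
  have : ∀ k : H, ∃ n, k ∈ Gam x ⊤ → Act x n k ∧ Commute d n := fun k => by
    by_cases c : k ∈ Gam x ⊤
    · obtain ⟨n, -, a⟩ := c
      obtain ⟨v, b⟩ := h.adj hd a
      exact ⟨_, fun _ => ⟨((Act.self v).mul a).cong (one_mul k), b⟩⟩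
    · exact ⟨1, fun a => absurd a c⟩
  choose κ hκ using this
  refine ⟨α, κ, q, fun n k a => by simpa using sp 1 W.one_mem n k a, fun m hm => ?_,
    fun k a => (hκ k a).1, fun k a l b => ?_⟩
  · obtain ⟨w, hw, n, k, a, rfl⟩ := h.fac m hm
    exact sp w hw n k a ▸ ⟨n, mem_top _, a⟩
  · exact h.eqt hd (hκ _ (mul_mem a b)).1 ((hκ k a).1.mul (hκ l b).1) (hκ _ (mul_mem a b)).2
      ((hκ k a).2.mul_right (hκ l b).2)

theorem free0 (a : v ∈ (es [1, 3, 9] : List Pr.V)) (b : Act x n k) (c : ac k v = v⁻¹)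
    (e : w ∈ W) (f : Commute w n) : ∃ a ∈ W, w * a * (n * a * n⁻¹) = 1 := by
  refine ⟨_, h.cW (h.xM v) e, ?_⟩
  have := norm_three (K := W) (fun k hk l hl => h.wc hk hl) (xcube x v)
    (fun k hk => h.cW (h.xM v) hk) (h.fpf v a) e
  rwa [← conj_mul, ← conj_mul, ← conj_inv, b.inverts c, conj_of_comm f.symm, inv_inv]

/-- Let `n` be an involution inverting `y = x v`.  As `y` is fixed point free on `W`, `w w^y w^{y⁻¹} = 1`
(`norm_three`); for `w ∈ C_W(n)` and `a = y w y⁻¹` we get `w = a * (n a n⁻¹)`, so `a (w n) a⁻¹ = n`. -/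
theorem free (a : v ∈ (es [1, 3, 9] : List Pr.V)) (b : Act x n k) (c : ac k v = v⁻¹) (d : n * n = 1)
    (e : w ∈ W) (f : Commute w n) : ∃ a ∈ W, a * (w * n) * a⁻¹ = n := by
  obtain ⟨a, ha, e1⟩ := h.free0 a b c e f
  refine ⟨a, ha, ?_⟩
  rw [h.wi ha, show a * (w * n) * a = a * w * (n * a * n⁻¹) * n by group, (h.wc ha e).eq, e1, one_mul]

/-- the endomorphism `a ↦ a * (n a n⁻¹)` of `W` has kernel and image `C_W(n)` -/
theorem half (a : v ∈ (es [1, 3, 9] : List Pr.V)) (b : Act x n k) (c : ac k v = v⁻¹) (d : n * n = 1) :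
    Nat.card ↥(W ⊓ centralizer {n}) ^ 2 = Nat.card W := by
  have nM := h.nM b.norm
  let φ : W →* G := MonoidHom.mk' (fun a => a * (n * a * n⁻¹)) fun p q => by
    rw [coe_mul, ← conj_mul, (h.wc (h.cW nM p.2) q.2).symm.mul_mul_mul_comm]
  have e1 : φ.ker = (centralizer {n}).subgroupOf W := by
    ext p
    rw [MonoidHom.mem_ker, mem_subgroupOf, mem_cent]
    change p.1 * (n * p * n⁻¹) = 1 ↔ _
    rw [mul_eq_one_iff_inv_eq, h.wi p.2]
    exact ⟨fun e => (comm_of_conj e.symm).symm, fun e => (conj_of_comm e.symm).symm⟩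
  have e2 : φ.range = W ⊓ centralizer {n} := by
    ext w
    rw [mem_inf, mem_cent]
    constructor
    · rintro ⟨p, rfl⟩
      refine ⟨W.mul_mem p.2 (h.cW nM p.2), (comm_of_conj ?_).symm⟩
      change n * (p.1 * (n * p * n⁻¹)) * n⁻¹ = p.1 * (n * p * n⁻¹)
      rw [show n * (p.1 * (n * p * n⁻¹)) * n⁻¹ = n * p * n⁻¹ * (n * n * p * (n * n)⁻¹) by group, d,
        ← (h.wc p.2 (h.cW nM p.2)).symm.eq]
      simp
    · rintro ⟨e, f⟩
      obtain ⟨p, hp, e1⟩ := h.free0 a b c e f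
      refine ⟨⟨p, hp⟩, ?_⟩
      change p * (n * p * n⁻¹) = w
      rw [mul_assoc w, mul_eq_one_iff_inv_eq, h.wi e] at e1
      exact e1.symm
  rw [pow_two]
  conv_rhs => rw [← x0_card (centralizer {n}) W, relIndex, ← e1, index_ker, e2]

/-- Involutions of `M`.  `u = w n`; `n * n ∈ W ⊓ N(J₀) = 1`, so `w` commutes with `n`. -/
theorem invol (a : u ∈ M) (b : u * u = 1) : ∃ w ∈ W, ∃ n k, Act x n k ∧ u = w * n ∧ n * n = 1 ∧
    k * k = 1 ∧ Commute w n := by
  obtain ⟨w, hw, n, k, c, rfl⟩ := h.fac u a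
  have := h.uniq (W.mul_mem hw (h.cW (h.nM c.norm) hw)) W.one_mem (mul_mem c.norm c.norm)
    (one_mem _) (by rw [one_mul, ← b]; group)
  refine ⟨w, hw, n, k, c, rfl, this.2, (c.mul c).eq h.inj (this.2 ▸ Act.one),
    (comm_of_conj ?_).symm⟩
  rw [← inv_eq_of_mul_eq_one_right this.1, h.wi hw]

/-- `W` is the only elementary abelian subgroup of its order in `M`.  Suppose `A ≰ W`.  An element
`a = w n ∈ A` acts on `W` as `n`.  `α(A) ≅ A/(A ⊓ W)` (an involution in `W J₀` lies in `W`) is elementary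
abelian, so of order at most 8 (`card H = 48`, and a Sylow 2-subgroup is not abelian; or bound by a list).
If some `α a` inverts one of `e 1, e 3, e 9`, then `|A ⊓ W| ≤ √|W|` (`half`) and `|W| ≤ 64`.  Otherwise
(`bd!`: two different commuting involutions of `H` inverting no unit vector have a product that does)
`|α(A)| = 2`, so `n` centralises a subgroup of index two of `W`; `α n` is a signed transposition and inverts
some `y` of weight two; `n` and `x y n (x y)⁻¹` have product `(x y)^{±2}`, so `|W : C_W(x y)| ≤ 4`; the same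
for the conjugate `y'` of `y` under a diagonal element (`dg`), and `⟨y, y'⟩` contains a unit vector, so
`|W| ≤ 16` by `fpf`.  Both contradict `big`. -/
theorem wcl (a : A ≤ M) (b : ∀ g ∈ A, g * g = 1) (c : Nat.card A = Nat.card W) : A = W := by
  rcases h.big with e | big
  · rw [e, card_bot, card_eq_one] at c
    rw [c, e]
  by_cases AW : A ≤ W
  · exact eq_of_le_of_card_ge AW c.ge
  exfalso
  obtain ⟨α, q, sp⟩ := h.exists_a
  let φ : A →* H := MonoidHom.mk' (fun p => α p) fun p r => q.mul (a p.2) (a r.2)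
  have e1 : φ.ker = W.subgroupOf A := by
    ext p
    rw [MonoidHom.mem_ker, mem_subgroupOf]
    refine ⟨fun e => ?_, fun e => q.of_mem (mem_sup_left e)⟩
    obtain ⟨w, hw, n, k, c, e', d, -⟩ := h.invol (a p.2) (b p p.2)
    change α p = 1 at e
    rw [e', sp w hw n k c] at e
    obtain ⟨v, rfl⟩ := h.mem_of_act (e ▸ c)
    rw [e', x0_one d (xcube x v), mul_one]
    exact hw
  have e2 : Nat.card ↥(A ⊓ W) * Nat.card φ.range = Nat.card W := by
    rw [← c, ← x0_card W A, relIndex, ← e1, index_ker]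
  have b2 : ∀ k ∈ φ.range, k * k = 1 := by
    rintro _ ⟨p, rfl⟩
    rw [← map_mul, show p * p = 1 from Subtype.ext (b p p.2), map_one]
  have key : ∀ k ∈ φ.range, ∃ n, Act x n k ∧ n * n = 1 ∧ A ⊓ W ≤ W ⊓ centralizer {n} := by
    rintro _ ⟨p, rfl⟩
    obtain ⟨w, hw, n, k, c, e', d, -⟩ := h.invol (a p.2) (b p p.2)
    refine ⟨n, ?_, d, fun y hy => mem_inf.2 ⟨hy.2, mem_cent.2 ?_⟩⟩
    · change Act x n (α p)
      rwa [e', sp w hw n k c]
    · have := (h.wc hy.2 hw).inv_right.mul_right (e' ▸ x0_comm b hy.1 p.2)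
      rwa [inv_mul_cancel_left] at this
  by_cases iv : ∃ k ∈ φ.range, ∃ v ∈ (es [1, 3, 9] : List Pr.V), ac k v = v⁻¹
  · obtain ⟨k, hk, v, hv, iv⟩ := iv
    obtain ⟨n, a1, a2, a3⟩ := key k hk
    have c1 := h.half hv a1 iv a2
    have c2 := card_le_of_le a3
    have c3 : Nat.card φ.range ≤ 8 := by
      by_cases p8 : ∀ t ∈ φ.range, P8 t
      · exact x0_list (es [0, 6, 12, 18, 24, 30, 36, 42]) fun t ht =>
          (bd! : ∀ t : H, P8 t → t ∈ (es [0, 6, 12, 18, 24, 30, 36, 42] : List H)) t (p8 t ht)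
      · push Not at p8
        obtain ⟨t, ht, p8⟩ := p8
        obtain ⟨s, hs⟩ := ((bd! : ∀ t : H, t * t = 1 → P8 t ∨ ∃ s : H, ∀ k, Commute k t →
          k ∈ [1, e 42, s, s * e 42, t, t * e 42, t * s, t * s * e 42]) t (b2 t ht)).resolve_left p8
        exact x0_list _ fun k hk => hs k (x0_comm b2 hk ht)
    generalize Nat.card ↥(W ⊓ centralizer {n}) = r at c1 c2
    have c4 : Nat.card W ≤ r * 8 := e2 ▸ Nat.mul_le_mul c2 c3
    rw [← c1] at c4 big
    nlinarith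
  · push Not at iv
    obtain ⟨p, hp, pW⟩ := SetLike.not_le_iff_exists.1 AW
    have hk : φ ⟨p, hp⟩ ∈ φ.range := ⟨_, rfl⟩
    have k1 : φ ⟨p, hp⟩ ≠ 1 := fun e => pW (mem_subgroupOf.1 (e1 ▸ MonoidHom.mem_ker.2 e))
    generalize φ ⟨p, hp⟩ = k at hk k1
    have c3 : Nat.card φ.range ≤ 2 := x0_list [1, k] fun l hl =>
      (bd! : ∀ k : H, k * k = 1 → k ≠ 1 → (∀ v ∈ (es [1, 3, 9] : List Pr.V), ac k v ≠ v⁻¹) →
        ∀ l : H, l * l = 1 → Commute l k → (∀ v ∈ (es [1, 3, 9] : List Pr.V), ac l v ≠ v⁻¹) →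
        (∀ v ∈ (es [1, 3, 9] : List Pr.V), ac (l * k) v ≠ v⁻¹) → l ∈ [1, k]) k (b2 k hk) k1 (iv k hk)
        l (b2 l hl) (x0_comm b2 hl hk) (iv l hl) (iv _ (mul_mem hl hk))
    obtain ⟨y, iy, d, hd, hu⟩ := (bd! : ∀ k : H, k * k = 1 → k ≠ 1 →
      (∀ v ∈ (es [1, 3, 9] : List Pr.V), ac k v ≠ v⁻¹) → ∃ y : Pr.V, ac k y = y⁻¹ ∧
      ∃ d ∈ (es [6, 12, 24] : List H), y * ac d y ∈ (es [1, 3, 9] : List Pr.V)) k (b2 k hk) k1 (iv k hk)
    obtain ⟨n, a1, a2, a3⟩ := key k hk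
    obtain ⟨r, -, hr⟩ := h.dg d hd
    have i1 : (centralizer {n}).relIndex W ≤ 2 := by
      have c1 := x0_card (centralizer {n}) W
      have c4 : Nat.card W ≤ Nat.card ↥(W ⊓ centralizer {n}) * 2 :=
        e2 ▸ Nat.mul_le_mul (card_le_of_le a3) c3
      rw [← c1] at c4
      exact Nat.le_of_mul_le_mul_left c4 Nat.card_pos
    have i2 : (centralizer {x y}).relIndex W ≤ 4 := by
      refine (relIndex_le_of_le_left (H := centralizer {n} ⊓ cj(x y, centralizer {n})) ?_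
        (x0_ne _ _)).trans (relIndex_inf_le.trans ?_)
      · rw [← centralizer_singleton_conj]
        intro g hg
        have := (mem_cent.1 hg.2).mul_right (mem_cent.1 hg.1).inv_right
        rw [show x y * n * (x y)⁻¹ * n⁻¹ = x y * (n * x y * n⁻¹)⁻¹ by group, a1.inverts iy, inv_inv,
          ← inv_eq_sq (xcube x y)] at this
        exact mem_cent.2 (by simpa using this.inv_right)
      · rw [x0_cj (h.nw (h.xM y))]
        exact Nat.mul_le_mul i1 i1
    have i3 : (centralizer {x y} ⊓ cj(r, centralizer {x y})).relIndex W ≤ 16 := by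
      refine relIndex_inf_le.trans ?_
      rw [x0_cj (h.nw (h.nM hr.norm))]
      exact Nat.mul_le_mul i2 i2
    have c1 := x0_card (centralizer {x y} ⊓ cj(r, centralizer {x y})) W
    have e3 : W ⊓ (centralizer {x y} ⊓ cj(r, centralizer {x y})) = ⊥ := by
      rw [← centralizer_singleton_conj, hr, eq_bot_iff]
      intro g hg
      refine h.fpf _ hu g hg.1 ?_
      rw [map_mul]
      exact (mem_cent.1 hg.2.1).mul_right (mem_cent.1 hg.2.2)
    rw [e3, card_bot, one_mul] at c1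
    omega

end AX

end Cfsg.Agent.O8T
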