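import Cfsg.Agent.Loc3.PrX
import Cfsg.Agent.Block.ZStar

/-!
Groups with an element of order three whose centraliser is `3 ≀ Sym(3)`.
-/

set_option autoImplicit false
set_option maxRecDepth 100000
set_option synthInstance.maxHeartbeats 400000
set_option synthInstance.maxSize 4000

namespace Cfsg.Agent.Loc3.Pr

open Subgroup Cfsg Cfsg.Agent.Comp Cfsg.Agent.X32.TG Cfsg.Agent.PLocal.Amb
open Cfsg.Agent.X32 (TG Tab)

variable {G : Type*} [Group G] [Finite G] {x : V →* G} {ρ s ν t g n m z : G} {k : H}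

theorem card_le_act (cent : ∀ g, Act x g 1 → g ∈ x.range) {A : Subgroup G}
    (mon : ∀ g ∈ A, ∃ k, Act x g k) (S : List V) (L : List H) (hS : ∀ v, x v ∈ A → v ∈ S)
    (hL : ∀ k ∈ Gam x A, k ∈ L) : Nat.card A ≤ S.length * L.length := by
  classical
  choose κ hκ using mon
  have r : ∀ k : H, ∃ n, k ∈ Gam x A → n ∈ A ∧ Act x n k := fun k => by
    by_cases c : k ∈ Gam x A
    exacts [c.imp fun _ a _ => a, ⟨1, fun a => absurd a c⟩]
  choose n hn using r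
  have m := fun g : A => hn _ ⟨g, g.2, hκ g g.2⟩
  choose v hv using fun g : A => cent _ (((hκ g g.2).mul (m g).2.inv).cong (mul_inv_cancel _))
  refine (Nat.card_le_card_of_injective (β := S.toFinset × L.toFinset) (fun g =>
    (⟨v g, List.mem_toFinset.2 (hS _ (hv g ▸ mul_mem g.2 (inv_mem (m g).1)))⟩,
      ⟨κ g g.2, List.mem_toFinset.2 (hL _ ⟨g, g.2, hκ g g.2⟩)⟩)) fun a b e => ?_).trans ?_
  · simp only [Prod.mk.injEq, Subtype.mk.injEq] at e
    exact Subtype.ext (mul_right_cancel ((hv a).symm.trans (e.1 ▸ e.2 ▸ hv b)))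
  · rw [Nat.card_prod, Nat.card_eq_finsetCard, Nat.card_eq_finsetCard]
    exact Nat.mul_le_mul S.toFinset_card_le L.toFinset_card_le

theorem le_range (inj : Function.Injective x) (cent : ∀ g, Act x g 1 → g ∈ x.range)
    {A : Subgroup G} (mon : ∀ g ∈ A, ∃ k, Act x g k) (h3 : ∀ g ∈ A, g ^ 3 = 1)
    (hc : ∀ g ∈ A, ∀ k ∈ A, Commute g k) (c : Nat.card A = 27) : A ≤ x.range := fun g hg => by
  obtain ⟨k, a⟩ := mon g hg
  have f : ∀ {g k}, g ∈ A → Act x g k → k ^ 3 = 1 := fun b a => (a.pow 3).eq inj (h3 _ b ▸ Act.one)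
  obtain b | ⟨⟨w, hw⟩, hk⟩ := (bd! : ∀ k : H, k ^ 3 = 1 → k = 1 ∨ ((∃ w, ∀ v, ac k v = v →
    v ∈ [1, w, w⁻¹]) ∧ ∀ l, l * k = k * l → l ^ 3 = 1 → l ∈ [1, k, k⁻¹])) k (f hg a)
  · exact cent g (a.cong b)
  · have := card_le_act cent mon _ _ (fun v b => hw v (a.fix inj (hc g hg _ b))) fun l ⟨m, hm, b⟩ =>
      hk l ((b.mul a).eq inj ((hc m hm g hg).eq ▸ a.mul b)) (f hm b)
    simp [c] at this

theorem card_range (inj : Function.Injective x) : Nat.card x.range = 27 := by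
  rw [← Nat.card_congr (MonoidHom.ofInjective inj).toEquiv, TG.card]; rfl

omit [Finite G] in
theorem comm_of_inv2 {K : Subgroup G} {w u k : G} (w2 : w * w = 1) (u3 : u ^ 3 = 1)
    (e : w * u * w⁻¹ = u⁻¹) (hu : u ∈ 𝐍[K]) (i : ∀ k ∈ K, w * k * w⁻¹ = k⁻¹) (hk : k ∈ K) :
    Commute k u := by
  have e1 : w * u * w * u⁻¹ = u := by
    nth_rw 2 [← inv_eq_of_mul_eq_one_right w2]
    rw [e, ← mul_inv_rev, ← inv_eq_sq u3, inv_inv]
  refine (comm_of_conj ?_).symm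
  rw [← e1, show w * u * w * u⁻¹ * k * (w * u * w * u⁻¹)⁻¹ =
    w * (u * (w * (u⁻¹ * k * u) * w⁻¹) * u⁻¹) * w⁻¹ by group,
    i _ (inv_conj_mem_of_mem_normalizer hu hk)]
  simpa [mul_assoc] using i _ (inv_mem hk)

omit [Finite G] in
theorem exists_lin {A B C : G} (a : A ^ 3 = 1) (b : B ^ 3 = 1) (c : C ^ 3 = 1) (ab : Commute A B)
    (ac : Commute A C) (bc : Commute B C) : ∃ f : V →* G, f (e 1) = A ∧ f (e 3) = B ∧ f (e 9) = C :=
  ⟨linH a b c ab ac bc, show A ^ 1 * (B ^ 0 * C ^ 0) = A by simp,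
    show A ^ 0 * (B ^ 1 * C ^ 0) = B by simp, show A ^ 0 * (B ^ 0 * C ^ 1) = C by simp⟩

theorem sd16 {w c : G} (s2 : s * s = 1) (c2 : c * c = 1) (c1 : c ≠ 1) (w4 : w ^ 4 = c)
    (w3 : s * w * s⁻¹ = w ^ 3) : IsPGroup 2 ↥(zpowers w ⊔ zpowers s) ∧ ∀ g ∈ zpowers w ⊔ zpowers s,
      g * g = 1 → g = 1 ∨ g = c ∨ ∃ p ∈ zpowers w, g = p * s * p⁻¹ := by
  have := Fact.mk Nat.prime_two
  have w8 : w ^ 2 ^ 3 = 1 := by rw [← c2, ← w4, ← pow_add]; rfl
  have o : orderOf w = 2 ^ 3 := orderOf_eq_prime_pow (n := 2) (w4 ▸ c1) w8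
  have e : ∀ i : ℕ, s * w ^ i * s⁻¹ = w ^ (3 * i) := fun i => by rw [← conj_pow, w3, pow_mul]
  have m : ∀ g ∈ zpowers w ⊔ zpowers s, ∃ i : ℕ, g = w ^ i ∨ (g = w ^ i * s ∧ g * g = w ^ (4 * i)) :=
    fun g hg => by
      obtain ⟨a, ha, b, hb, rfl⟩ := (mem_sup_of_le_normalizer_left (zpowers_le.2
        (mem_normalizer_fintype fun a ha => by
          obtain ⟨i, rfl⟩ := mem_powers_iff_mem_zpowers.2 ha
          exact e i ▸ pow_mem (mem_zpowers w) _))).1 hg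
      obtain ⟨i, rfl⟩ := mem_powers_iff_mem_zpowers.2 ha
      refine ⟨i, ((mem_zpowers_two s2).1 hb).imp (fun f => by simp [f]) fun f => ⟨by rw [f], ?_⟩⟩
      rw [f, show ∀ a, a * s * (a * s) = a * (s * a * s⁻¹) * (s * s) from fun a => by group, e, s2,
        mul_one, ← pow_add]
      congr 1; ring
  refine ⟨isPGroup_iff.2 fun g hg => ⟨3, ?_⟩, fun g hg g2 => ?_⟩ <;>
    obtain ⟨i, rfl | ⟨a, b⟩⟩ := m g hg
  · rw [← pow_mul, mul_comm, pow_mul, w8, one_pow]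
  · rw [pow_succ', pow_mul, pow_two, b, ← pow_mul, show 4 * i * 2 ^ 2 = 2 ^ 3 * (2 * i) by ring,
      pow_mul, w8, one_pow]
  · rw [← pow_add, ← orderOf_dvd_iff_pow_eq_one, o] at g2
    obtain ⟨m, rfl⟩ : 4 ∣ i := by omega
    exact ((mem_zpowers_two c2).1 (by rw [pow_mul, w4]; exact pow_mem (mem_zpowers c) m)).imp_right
      Or.inl
  · rw [b, ← orderOf_dvd_iff_pow_eq_one, o] at g2
    obtain ⟨m, rfl⟩ : 2 ∣ i := by omega
    refine Or.inr (Or.inr ⟨_, inv_mem (pow_mem (mem_zpowers w) m), ?_⟩)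
    rw [a, show (w ^ m)⁻¹ * s * (w ^ m)⁻¹⁻¹ = (w ^ m)⁻¹ * (s * w ^ m * s⁻¹) * s by group, e]; group

/-- action on a rank two frame -/
def AE (z : V →* G) (g : G) (A B : V) : Prop := ∀ v, g * z v * g⁻¹ = z (lin A B 1 v)

omit [Finite G] in
theorem AE.mul {z : V →* G} {A B C D : V} (a : AE z g A B) (b : AE z m C D) :
    AE z (g * m) (lin A B 1 C) (lin A B 1 D) := fun v => by
  have := map_lin (linH (Vcube A) (Vcube B) (Vcube 1) (Vcomm ..) (Vcomm ..) (Vcomm ..)) C D 1 v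
  rw [map_one] at this
  exact (by group : _ = g * (m * z v * m⁻¹) * g⁻¹).trans (by rw [b, a]; exact congrArg z this)

omit [Finite G] in
theorem AE.cong {z : V →* G} {A B C D : V} (a : AE z g A B) (e : A = C ∧ B = D) : AE z g C D :=
  e.1 ▸ e.2 ▸ a

namespace MF
variable (h : MF x)
include h

theorem wc (a : ∀ v, g * x v * g⁻¹ ∈ 𝐍[x.range]) : g ∈ 𝐍[x.range] :=
  mem_normalizer_of_cj_le (le_range h.inj (fun _ => h.mem_of_act)
    (by rintro _ ⟨_, ⟨v, rfl⟩, rfl⟩; exact h.mon _ (a v))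
    (by rintro _ ⟨_, ⟨v, rfl⟩, rfl⟩; simp [← map_pow, Vcube])
    (by rintro _ ⟨_, ⟨v, rfl⟩, rfl⟩ _ ⟨_, ⟨w, rfl⟩, rfl⟩; exact Commute.cj (xcomm x v w) g)
    (by rw [card_cj, card_range h.inj]))

omit [Finite G]

theorem adj (ht : Act x t (e 42)) (a : Act x n k) : ∃ v, Commute t (x v * n) := by
  obtain ⟨v, e1⟩ := h.mem_of_act ((((ht.mul a).mul ht.inv).mul a.inv).cong
    ((bd! : ∀ k : H, e 42 * k * (e 42)⁻¹ * k⁻¹ = 1) k))
  refine ⟨v⁻¹, comm_of_conj ?_⟩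
  rw [← conj_mul, ht, show t * n * t⁻¹ = x v * n by rw [e1]; group, ← mul_assoc, ← map_mul,
    (bd! : ∀ v : V, ac (e 42) v⁻¹ * v = v⁻¹)]

theorem eqt (ht : Act x t (e 42)) (a : Act x n k) (b : Act x m k) (c : Commute t n)
    (d : Commute t m) : n = m := by
  obtain ⟨v, e1⟩ := h.mem_of_act ((a.mul b.inv).cong (mul_inv_cancel k))
  have := (ht.fix h.inj (e1 ▸ c.mul_right d.inv_right))
  rw [(bd! : ∀ v : V, ac (e 42) v = v → v = 1) v this, map_one] at e1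
  exact mul_inv_eq_one.1 e1.symm

theorem act_comm {l : H} (a : Act x n k) (b : Act x m l) (c : Commute n m) : Commute k l :=
  (a.mul b).eq h.inj (c.eq ▸ b.mul a)

theorem act_pow (a : Act x n k) {i : ℕ} (c : n ^ i = 1) : k ^ i = 1 :=
  (a.pow i).eq h.inj (c ▸ Act.one)

end MF

namespace SF
variable (h : SF x ρ s)
include h

omit [Finite G] in
theorem ρJ : ρ ∉ x.range := fun ⟨v, a⟩ => absurd ((a ▸ Act.self v).eq h.inj h.aρ) bd!

omit [Finite G] in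
theorem conj_rho {p : H} (a : Act x z k) (z3 : z ^ 3 = 1) (b : Act x n p)
    (c : p * k * p⁻¹ = e 1) : ∃ d, n⁻¹ * x d * ρ * (n⁻¹ * x d)⁻¹ = z := by
  obtain ⟨v, e'⟩ := h.mem_of_act ((((b.mul a).mul b.inv).mul h.aρ.inv).cong (by simp [c]))
  have e0 : n * z * n⁻¹ = x v * ρ := by rw [e']; group
  have e1 : (x v * ρ) ^ 3 = 1 := by rw [← e0, conj_pow, z3]; simp
  rw [show (x v * ρ) ^ 3 = x v * (ρ * x v * ρ⁻¹) * (ρ * (ρ * x v * ρ⁻¹) * ρ⁻¹) * ρ ^ 3 by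
    simp only [pow_succ, pow_zero]; group, h.ρ3, mul_one, h.aρ, h.aρ, ← map_mul, ← map_mul,
    ← map_one x] at e1
  obtain ⟨d, rfl⟩ := (bd! : ∀ v : V, v * ac (e 1) v * ac (e 1) (ac (e 1) v) = 1 →
    ∃ d, d * ac (e 1) d⁻¹ = v) v (h.inj e1)
  refine ⟨d, ?_⟩
  rw [map_mul, ← h.aρ, map_inv] at e0
  rw [show z = n⁻¹ * (n * z * n⁻¹) * n by group, e0]; group

theorem cls3 (hz : z ∈ 𝐍[x.range]) (z3 : z ^ 3 = 1) : z ∈ x.range ∨ IsConj z ρ := by
  obtain ⟨k, a⟩ := h.mon z hz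
  obtain b | ⟨p, b, c, d⟩ := (bd! : ∀ k : H, k ^ 3 = 1 → k = 1 ∨ ∃ p, (P12 k →
    p ∈ (es [0, 1, 2, 3, 4, 5] : List H)) ∧ P24 p ∧ p * k * p⁻¹ = e 1) k (h.act_pow a z3)
  · exact Or.inl (h.mem_of_act (a.cong b))
  obtain ⟨n, -, f⟩ : p ∈ Gam x ⊤ := by
    by_cases f : P12 k
    exacts [l6_mem h.g1 h.g3 p (b f), p24_mem h.g1 h.g3 (nu_mem h.g1 h.g3 ⟨z, trivial, a⟩ f) c]
  obtain ⟨d, e'⟩ := h.conj_rho a z3 f d
  exact Or.inr (isConj_iff.2 ⟨_, e'⟩).symm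

end SF

/-- the centraliser of the diagonal element normalises the frame -/
structure NF (x : V →* G) (ρ s : G) : Prop extends SF x ρ s where
  ca : ∀ g, Commute g (x (e 13)) → g ∈ 𝐍[x.range]

namespace NF
variable (h : NF x ρ s)
include h

theorem na (a : g * x (e 13) * g⁻¹ = (x (e 13))⁻¹) : g ∈ 𝐍[x.range] :=
  h.wc fun v => h.ca _ (Commute.inv_right_iff.1 (a ▸ Commute.cj (xcomm x v _) g))

omit [Finite G] in
theorem ρa : Commute ρ (x (e 13)) := h.aρ.comm bd!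

omit [Finite G] in
theorem cE (a : Commute g (x (e 13))) (b : Commute g ρ) : g ∈ closure {x (e 13), ρ} := by
  obtain ⟨k, c⟩ := h.mon g (h.ca g a)
  obtain ⟨i, -, d⟩ := (bd! : ∀ k : H, ac k (e 13) = e 13 → Commute k (e 1) →
    ∃ i ∈ [0, 1, 2], k * e 1 ^ i = 1) k (c.fix h.inj a) (h.act_comm c h.aρ b)
  obtain ⟨v, f⟩ := h.mem_of_act ((c.mul (h.aρ.pow i)).cong d)
  refine (mul_mem_cancel_right (pow_mem mem_r i)).1 (f ▸ zpowers_le.2 mem_l (mem_zp ?_))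
  exact (bd! : ∀ v : V, ac (e 1) v = v → v ∈ [1, e 13, (e 13)⁻¹]) v
    (h.aρ.fix h.inj (f ▸ b.symm.mul_right (Commute.self_pow ρ i)))

theorem fuse {v : V} (c : IsConj (x v) ρ) : IsConj (x (e 13)) ρ := by
  have := Fact.mk Nat.prime_three
  obtain ⟨g, hg⟩ := isConj_iff.1 c
  have ρ1 : ρ ≠ 1 := fun a => h.ρJ (a ▸ one_mem _)
  have le : closure {x (e 13), ρ} ≤ centralizer {ρ} :=
    (closure_le _).2 (Set.pair_subset (mem_cent.2 h.ρa.symm) (mem_cent.2 (Commute.refl ρ)))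
  have c1 := Grp.card_inf_mul_relIndex' (closure {x (e 13), ρ}) (centralizer {ρ})
  have c2 := card_dvd_of_le (show cj(g, x.range) ≤ centralizer {ρ} by
    rintro _ ⟨_, ⟨w, rfl⟩, rfl⟩; exact mem_cent.2 (hg ▸ Commute.cj (xcomm x w v) g))
  rw [inf_of_le_left le, card_nine (xcube x _) h.ρ3 h.ρa.symm ρ1 fun a => by
    rcases (mem_zpowers_three h.ρ3).1 a with a | a | a
    exacts [h.ne1 bd! a, h.ρJ ⟨_, a⟩, h.ρJ ⟨(e 13)⁻¹, by rw [map_inv, a, inv_inv]⟩]] at c1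
  rw [card_cj, card_range h.inj] at c2
  obtain ⟨n, n1, n2, n3, n4⟩ := PS4.exists_normp (isPGroup_pair (xcube x _) h.ρ3 h.ρa.symm) le
    (by omega)
  obtain ⟨p, hp, q, hq, f⟩ := (mem_pair (xcube x _) h.ρ3 h.ρa.symm).1 (n4 _ mem_l)
  have pJ : p ∈ x.range := zpowers_le.2 (x.mem_range.2 ⟨_, rfl⟩)
    ((mem_zpowers_three (xcube x _)).2 (by simpa using hp))
  have qρ : q ∈ zpowers ρ := (mem_zpowers_three h.ρ3).2 (by simpa using hq)
  refine (isConj_iff.2 ⟨n, rfl⟩).trans ((h.cls3 (f ▸ mul_mem (le_normalizer pJ)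
    (zpowers_le.2 h.aρ.norm qρ)) (by rw [conj_pow, xcube]; simp)).resolve_left fun a => ?_)
  rw [f, mul_mem_cancel_left pJ] at a
  rcases (mem_zpowers_three h.ρ3).1 qρ with rfl | rfl | rfl
  · refine n2 (PS4.mem_of_two_three (h.cE (sq_comm ?_) ((mem_cent.1 n1).pow_left 2)) n3)
    simpa [f, show p ≠ 1 from fun a => h.ne1 (v := e 13) bd! (by simpa [a] using f)] using hp
  exacts [h.ρJ a, h.ρJ (inv_mem_iff.1 a)]

variable (hC : ∀ v, v ≠ 1 → ∀ g, Commute g (x v) → g ∈ 𝐍[x.range])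
include hC

theorem hs (a : Commute g s) : g ∈ 𝐍[x.range] := by
  obtain ⟨O, c⟩ := h.exists_core fun v a b => locG_of h.s2 (h.cs a).symm (hC v b)
  exact h.cent_s_le c le_rfl (fun v hv => hC v (nz24 v hv)) a

section A1
variable (nc : ¬ IsConj (x (e 13)) ρ)
include nc

theorem ufJ {v : V} (v1 : v ≠ 1) : UF 𝐍[x.range] (x v) := ⟨le_normalizer ⟨v, rfl⟩, fun g a => by
  rcases h.cls3 a (by rw [conj_pow, xcube]; simp) with ⟨w, b⟩ | b
  · exact h.wc fun u => hC w (fun c => h.ne1 v1 (by simpa [c] using b.symm)) _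
      (b ▸ Commute.cj (xcomm x u v) g)
  · exact absurd (h.fuse ((isConj_iff.2 ⟨g, rfl⟩).trans b)) nc⟩

theorem ufI (a : Act x z k) (z2 : z * z = 1) (hk : ∀ l, Commute l k → l ^ 3 = 1 → l = 1)
    (hz : ∀ g, Commute g z → g ∈ 𝐍[x.range]) : UF 𝐍[x.range] z := ⟨a.norm, fun g b => by
  obtain ⟨l, c⟩ := h.mon _ b
  rcases (bd! : ∀ l : H, l ^ 2 = 1 → l = e 42 ∨ ∃ v, v ≠ 1 ∧ ac l v = v) l
    (h.act_pow c (by rw [pow_two, X32.conj_sq z2])) with rfl | ⟨v, v1, d⟩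
  · obtain ⟨v, d⟩ := h.adj c h.aρ
    have f := ((Act.self v).mul h.aρ).cong (one_mul _)
    have f3 := h.eqt c ((f.pow 3).cong bd!) Act.one (d.pow_right 3) (Commute.one_right _)
    obtain ⟨u, f1⟩ := h.conj_rho f f3 Act.one (by simp)
    have d' := (comm_conj_iff.1 d).symm
    obtain ⟨p, q⟩ := h.mon _ (hz _ d')
    obtain ⟨w, q⟩ := h.mem_of_act (q.cong (hk p (h.act_comm q a d') (h.act_pow q (by
      rw [← inv_inv g, inv_inv g⁻¹, conj_pow, f3]; simp))))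
    exact absurd (h.fuse ((isConj_iff.2 ⟨g, by rw [q]; group⟩).trans (isConj_iff.2 ⟨_, f1⟩).symm)) nc
  · simpa using (h.ufJ hC nc v1).2 g⁻¹ (by simpa using hz _ (comm_conj_iff.1 (c.comm d)).symm)⟩

theorem ufs : UF 𝐍[x.range] s := h.ufI hC nc h.as h.s2 bd! fun _ => h.hs hC

theorem top4 (L : List H) (l4 : L.length = 4) (hL : ∀ k ∈ Gam x ⊤, Commute k (e 3) → k ∈ L) (g : G) :
    g ∈ 𝐍[x.range] := by
  have sn := zpowers_le.2 h.as.norm
  refine pigeon (L := ⊤) (X := x.range ⊔ zpowers s) h.s2 h.as.norm le_top (sup_le le_normalizer sn)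
    (fun g _ => (h.ufs hC nc).2 g) (fun i _ _ y hy y1 a => ?_) ?_ trivial
  · obtain ⟨_, ⟨v, rfl⟩, b, hb, rfl⟩ := (mem_sup_of_le_normalizer_left sn).1 hy
    have m := inv_mem (sup_le le_normalizer sn hy)
    rcases (mem_zpowers_two h.s2).1 hb with rfl | rfl
    · rw [mul_one] at *
      exact (h.ufJ hC nc fun e => y1 (by rw [e, map_one])).2 i (a ▸ m)
    rcases (bd! : ∀ v : V, v * ac (e 3) v ≠ 1 ∨ v⁻¹ * ac (e 3) v = v) v with c | c
    · refine (h.ufJ hC nc c).2 i ?_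
      rw [map_mul, ← h.as, inv_eq_of_mul_eq_one_right h.s2, mul_assoc b, ← mul_assoc (x v),
        ← conj_mul, a]
      exact mul_mem m m
    · refine ((h.ufs hC nc).conj (inv_mem (le_normalizer ⟨v, rfl⟩))).2 i ?_
      rwa [show (x v)⁻¹ * b * (x v)⁻¹⁻¹ = x v * b by
        nth_rw 3 [← c]; rw [map_mul, ← h.as, map_inv]; group, a]
  · have c1 := card_le_act (fun _ => h.mem_of_act) (A := centralizer {s} ⊓ ⊤)
      (fun g a => h.mon g (h.hs hC (mem_cent.1 a.1))) (es [0, 4, 8, 9, 13, 17, 18, 22, 26]) L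
      (fun v a => (bd! : ∀ v : V, ac (e 3) v = v → v ∈ es [0, 4, 8, 9, 13, 17, 18, 22, 26]) v
        (h.as.fix h.inj (mem_cent.1 a.1).symm))
      fun k ⟨n, a, b⟩ => hL k ⟨n, trivial, b⟩ (h.comm_act b (mem_cent.1 a.1))
    have c2 := card_dvd_of_le (le_sup_left : x.range ≤ x.range ⊔ zpowers s)
    have c3 : Nat.card ↥(x.range ⊔ zpowers s) ≠ 27 := fun a => by
      obtain ⟨v, b⟩ := (eq_of_le_of_card_ge le_sup_left (a.trans (card_range h.inj).symm).le).ge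
        (mem_sup_right (mem_zpowers s))
      exact absurd ((b ▸ Act.self v).eq h.inj h.as) bd!
    have c4 : 0 < Nat.card ↥(x.range ⊔ zpowers s) := Nat.card_pos
    rw [card_range h.inj] at c2
    simp only [es, List.length_map, List.length_cons, List.length_nil, l4] at c1
    omega

theorem top8 (k : SN x ρ s ν t) (g : G) : g ∈ 𝐍[x.range] := by
  have az : Act x (s * (ν * t)) (e 27) := (h.as.mul k.a3).cong bd!
  have z2 : s * (ν * t) * (s * (ν * t)) = 1 := by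
    rw [k.s3.mul_mul_mul_comm, h.s2, k.q3, one_mul]
  have us := h.ufs hC nc
  have sz : Commute s (s * (ν * t)) := (Commute.refl s).mul_right k.s3.symm
  have wz := (k.n3.mul_right ((Commute.refl ν).mul_right k.tν.symm)).mul_left sz
  generalize s * (ν * t) = z at az z2 sz wz
  have aw : Act x (ν * s) (e 21) := (k.n1.mul h.as).cong bd!
  have uw : UF 𝐍[x.range] (ν * s) := k.eq_of (((k.a1.mul h.as).mul k.a1.inv).cong bd!) aw
    ((k.tr1.mul_right k.ts).mul_right k.tr1.inv_right) (k.tν.mul_right k.ts) ▸ us.conj k.a1.norm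
  have w2 : ν * s * (ν * s) = 1 := by rw [k.n3.symm.mul_mul_mul_comm, k.n2, h.s2, one_mul]
  have n := fun g (a : Commute g z) => le_norm_Op' 2 _ (mem_cent.2 a)
  have i := fun y => inv_of_fpf (K := Op' 2 (centralizer {z})) (k := y) w2
    (fun k => conj_mem_of_mem_normalizer (n _ wz)) fun y hy a => by
      have c := mem_cent.1 (Op'_le _ _ hy)
      obtain ⟨l, b⟩ := h.mon y (uw.comm a)
      obtain ⟨v, d⟩ := h.mem_of_act ((b.pow 2).cong
        ((bd! : ∀ l : H, Commute l (e 27) → l ^ 2 = 1) l (h.act_comm b az c)))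
      rw [(bd! : ∀ v : V, ac (e 27) v = v → ac (e 21) v = v → v = 1) v
        (az.fix h.inj (d ▸ c.symm.pow_right 2)) (aw.fix h.inj (d ▸ a.symm.pow_right 2)), map_one] at d
      exact eq_one_of_odd (Nat.coprime_two_right.1 (coprime_Op' 2 _)) hy (n := 1) d.symm
  have ct : ∀ g, Commute g z → g ∈ 𝐍[x.range] := fun g a => by
    have := Block.zstar (G := centralizer {z}) (u := ⟨s, mem_cent.2 sz⟩)
      ⟨(orderOf_mk ..).trans h.os, fun y b => Subtype.ext (by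
        replace b : Commute s (y * s * (y : G)⁻¹) := b.map (Subgroup.subtype _)
        obtain ⟨l, c⟩ := h.mon y (us.2 y (us.comm b.symm))
        obtain ⟨v, d⟩ := h.mem_of_act ((((c.mul h.as).mul c.inv).mul h.as.inv).cong
          ((bd! : ∀ l : H, Commute l (e 27) → l * e 3 * l⁻¹ * (e 3)⁻¹ = 1) l
            (h.act_comm c az (mem_cent.1 y.2))))
        refine mul_inv_eq_one.1 (eq_one_of_two_three (d := y * s * (y : G)⁻¹ * s⁻¹) (k := 1) ?_
          (d ▸ xcube x v))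
        rw [b.symm.inv_right.mul_pow, conj_pow, inv_pow, pow_one, pow_two, h.s2]; simp)⟩
      ⟨g, mem_cent.2 a⟩
    have := h.cu (comm_of_inv2 w2 (xcube x _) (aw.inverts bd!) (n _ (az.comm bd!).symm) i
      (k := _ * g * _⁻¹ * g⁻¹) ⟨_, this, rfl⟩)
    rw [mul_assoc, mul_assoc, mul_mem_cancel_left us.1, ← mul_assoc] at this
    exact us.inv.2 g this
  refine pigeon (L := ⊤) (X := x.range) z2 az.norm le_top le_normalizer
    (fun g _ => (h.ufI hC nc az z2 bd! ct).2 g) ?_ ?_ trivial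
  · rintro i - - _ ⟨v, rfl⟩ v1 a
    exact (h.ufJ hC nc fun e => v1 (by rw [e, map_one])).2 i
      (a ▸ inv_mem (le_normalizer (x.mem_range.2 ⟨v, rfl⟩)))
  · refine (card_le_act (fun _ => h.mem_of_act) (A := centralizer {z} ⊓ ⊤)
      (fun g a => h.mon g (ct g (mem_cent.1 a.1)))
      (es [0, 4, 8]) (es [0, 3, 18, 21, 24, 27, 42, 45]) (fun v a =>
        (bd! : ∀ v : V, ac (e 27) v = v → v ∈ es [0, 4, 8]) v (az.fix h.inj (mem_cent.1 a.1).symm))
      fun k ⟨n, a, b⟩ => (bd! : ∀ k : H, Commute k (e 27) → k ∈ es [0, 3, 18, 21, 24, 27, 42, 45]) k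
        (h.act_comm b az (mem_cent.1 a.1))).trans_lt ?_
    rw [card_range h.inj]; decide

end A1

theorem nc : ¬ IsConj (x (e 13)) ρ := fun cj => by
  have := Fact.mk Nat.prime_two
  obtain ⟨g, hg⟩ := isConj_iff.1 cj
  have hs := fun g => h.hs hC (g := g)
  obtain ⟨n, n1, n2⟩ : ∃ n, n * x (e 13) * n⁻¹ = ρ ∧ n * ρ * n⁻¹ = x (e 13) := by
    have c : Commute (g⁻¹ * x (e 13) * g) (x (e 13)) := (comm_conj_iff.1 (hg ▸ h.ρa)).symm
    obtain ⟨k, a⟩ := h.mon _ (h.ca _ c)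
    have b3 : (g⁻¹ * x (e 13) * g) ^ 3 = 1 := by rw [← inv_inv g, inv_inv g⁻¹, conj_pow, xcube]; simp
    obtain b | ⟨p, b, d⟩ := (bd! : ∀ k : H, k ^ 3 = 1 → ac k (e 13) = e 13 → k = 1 ∨
      ∃ p ∈ (es [0, 1, 2, 3, 4, 5] : List H), p * k * p⁻¹ = e 1 ∧ ac p⁻¹ (e 13) = e 13) k
      (h.act_pow a b3) (a.fix h.inj c)
    · obtain ⟨w, b⟩ := h.mem_of_act (a.cong b)
      exact absurd (hg ▸ conj_mem_of_mem_normalizer (h.wc fun v => h.ca _
        (comm_conj_iff.2 (b ▸ xcomm x v w))) ⟨_, rfl⟩) h.ρJ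
    obtain ⟨m, -, f⟩ := l6_mem h.g1 h.g3 p b
    obtain ⟨u, f1⟩ := h.conj_rho a b3 f d.1
    refine ⟨g * (m⁻¹ * x u), ?_, ?_⟩
    · rw [← hg]; nth_rw 2 [← conj_of_comm ((f.inv.comm d.2).mul_left (xcomm x u _))]; group
    · rw [show g * (m⁻¹ * x u) * ρ * (g * (m⁻¹ * x u))⁻¹ = g * (m⁻¹ * x u * ρ * (m⁻¹ * x u)⁻¹) * g⁻¹ by
        group, f1]; group
  have sa := h.as.cj (v := e 13) (w := e 13) bd!
  have ta : n * s * n⁻¹ * x (e 13) * (n * s * n⁻¹)⁻¹ = (x (e 13))⁻¹ := by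
    rw [← n2, conj_conj_aux, h.sρ, conj_inv']
  have tρ : Commute (n * s * n⁻¹) ρ := comm_of_conj (by rw [← n1, conj_conj_aux, sa])
  have t2 := X32.conj_sq (g := n) h.s2
  have st : IsConj s (n * s * n⁻¹) := isConj_iff.2 ⟨n, rfl⟩
  obtain ⟨k, ht⟩ := h.mon _ (h.na ta)
  obtain rfl := (bd! : ∀ k : H, ac k (e 13) = (e 13)⁻¹ → Commute k (e 1) → k ^ 2 = 1 → e 42 = k) k
    (h.inj ((ht _).symm.trans (ta.trans (map_inv ..).symm))) (h.act_comm ht h.aρ tρ)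
    (h.act_pow ht (by rw [pow_two, t2]))
  have g18 : e 18 ∉ Gam x ⊤ := fun ⟨m, _, a⟩ => by
    obtain ⟨v, b⟩ := h.adj ht a
    have c := ((Act.self v).mul a).cong (one_mul _)
    have d := comm_conj_iff.1 ((b.mul_right tρ).mul_right b.inv_right)
    obtain ⟨l, f⟩ := h.mon _ (hs _ d.symm)
    obtain ⟨w, f⟩ := h.mem_of_act (f.cong ((bd! : ∀ l : H, Commute l (e 3) → l ^ 3 = 1 → l = 1) l
      (h.comm_act f d.symm) (h.act_pow f (by
        rw [← inv_inv n, inv_inv n⁻¹, conj_pow, conj_pow, h.ρ3]; simp))))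
    exact absurd (h.act_comm h.aρ ((c.mul h.aρ).mul c.inv)
      (by nth_rw 1 [← n1]; exact comm_conj_iff.2 (f ▸ xcomm x _ w))) bd!
  have hm : ∀ k ∈ Gam x ⊤, P12 k := fun k a => by_contra fun b => g18 (nu_mem h.g1 h.g3 a b)
  generalize n * s * n⁻¹ = t at ta tρ t2 st ht
  have ts : Commute t s := by
    obtain ⟨v, a⟩ := h.mem_of_act ((((h.as.mul ht).mul h.as.inv).mul ht.inv).cong bd!)
    have b : s * x v * s⁻¹ = x v⁻¹ := by
      simp only [map_inv, a, mul_inv_rev, inv_eq_of_mul_eq_one_right h.s2,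
        inv_eq_of_mul_eq_one_right t2, ← mul_assoc, h.s2, one_mul]
    rw [(bd! : ∀ v : V, ac (e 1) v = v → ac (e 3) v = v⁻¹ → v = 1) v (h.aρ.fix h.inj (a ▸
      ((Commute.inv_right_iff.1 (h.sρ ▸ Commute.cj tρ s)).mul_left tρ.inv_left).symm))
      (h.inj ((h.as v).symm.trans b)), map_one] at a
    exact (comm_of_conj (mul_inv_eq_one.1 a.symm)).symm
  have ac' : Act x (s * t) (e 45) := (h.as.mul ht).cong bd!
  have c2 : s * t * (s * t) = 1 := by rw [ts.mul_mul_mul_comm, h.s2, t2, one_mul]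
  have c1 : s * t ≠ 1 := fun a => absurd ((a ▸ ac').eq h.inj Act.one) bd!
  have cs : Commute (s * t) s := (Commute.refl s).mul_left ts
  have cy := ac'.comm (v := e 5) bd!
  have sc : ¬ IsConj s (s * t) := fun a => by
    obtain ⟨g, a⟩ := isConj_iff.1 a
    refine not_nine_of (mem_cent.2 cy.symm) (xcube x _) (h.ne1 bd!) (fun d b c ⟨k, f⟩ => ?_) (by
      rw [← a, centralizer_singleton_conj, card_cj, ← card_nine (xcube x (e 4)) (xcube x (e 9))
        (xcomm x _ _) (h.ne1 bd!) fun a => absurd (h.mem_zp_iff.1 a) bd!]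
      exact card_dvd_of_le fun d a => mem_cent.2 (h.memD.1 a).2)
    obtain ⟨l, p⟩ := h.mon d (hC _ bd! d c)
    obtain ⟨v, rfl⟩ := mem_of_sq f (h.mem_of_act ((p.mul p).cong
      ((bd! : ∀ l : H, Commute l (e 45) → l * l = 1) l (h.act_comm p ac' (mem_cent.1 b)))))
    exact mem_zp ((bd! : ∀ v : V, ac (e 45) v = v → v ∈ [1, e 5, (e 5)⁻¹]) v
      (ac'.fix h.inj (mem_cent.1 b).symm))
  obtain ⟨z, z1, z3, z9⟩ := exists_lin (xcube x (e 13)) h.ρ3 (one_pow 3) h.ρa.symm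
    (Commute.one_right _) (Commute.one_right _)
  have ae : ∀ {g : G} (A B : V), g * x (e 13) * g⁻¹ = z A → g * ρ * g⁻¹ = z B → AE z g A B :=
    fun {g} A B a b v => by
      rw [map_lin, ← a, ← b, map_one, hom_eq z, z1, z3, z9]
      exact (map_lin (MulAut.conj g).toMonoidHom _ _ _ v).trans (by simp)
  have as : AE z s (e 1) (e 3)⁻¹ := ae _ _ (sa.trans z1.symm) (by rw [map_inv, z3, h.sρ])
  have aa : AE z (s * t) (e 1)⁻¹ (e 3)⁻¹ := (as.mul (ae (e 1)⁻¹ (e 3) (by rw [map_inv, z1, ta])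
    ((conj_of_comm tρ).trans z3.symm))).cong bd!
  have ay : AE z (x (e 5)) (e 1) ((e 1)⁻¹ * e 3) := ae _ _ ((conj_of_comm (xcomm ..)).trans z1.symm) (by
    rw [map_mul, map_inv, z1, z3, ← map_inv, ← map_inv,
      ← (bd! : (e 5 * ac (e 1) (e 5)⁻¹ : V) = (e 13)⁻¹), map_mul, ← h.aρ]; group)
  have a1 : ∀ v, AE z (z v) (e 1) (e 3) := fun v => ae _ _ (by rw [← z1, conj_of_comm (xcomm ..)])
    (by rw [← z3, conj_of_comm (xcomm ..)])
  have iv : ∀ v, s * t * z v * (s * t)⁻¹ = (z v)⁻¹ := fun v => by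
    rw [aa, (bd! : ∀ v : V, lin (e 1)⁻¹ (e 3)⁻¹ 1 v = (lin (e 1) (e 3) 1 v : V)⁻¹), map_inv, ← a1 v,
      mul_inv_cancel_right]
  have mE : ∀ {g k : G} {A B : V}, AE z g A B → AE z k A B → ∃ v, z v = k⁻¹ * g := fun {g k A B} a b =>
    have c : ∀ v, Commute (k⁻¹ * g) (z v) := fun v => comm_of_conj (by
      rw [show k⁻¹ * g * z v * (k⁻¹ * g)⁻¹ = k⁻¹ * (g * z v * g⁻¹) * k by group, a, ← b]; group)
    (closure_le z.range).2 (Set.pair_subset ⟨_, z1⟩ ⟨_, z3⟩) (h.cE (z1 ▸ c _) (z3 ▸ c _))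
  have eqE : ∀ {g k : G} {A B : V}, AE z g A B → AE z k A B → Commute (s * t) g →
      Commute (s * t) k → g = k := fun a b c d => by
    obtain ⟨v, p⟩ := mE a b
    have q := iv v
    rw [conj_of_comm (p ▸ d.inv_right.mul_right c), eq_inv_iff_mul_eq_one, ← pow_two] at q
    exact (inv_mul_eq_one.1 (p ▸ eq_one_of_two_three (k := 1) q (xcube z v))).symm
  have an := ae _ _ (n1.trans z3.symm) (n2.trans z1.symm)
  obtain ⟨v, hv⟩ := mE (aa.mul an) ((an.mul aa).cong bd!)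
  have cn : Commute (s * t) (n * z v) := comm_of_conj (by
    rw [show s * t * (n * z v) * (s * t)⁻¹ = n * (s * t * ((n * (s * t))⁻¹ * (s * t * n)) * (s * t)⁻¹) *
      (s * t * z v * (s * t)⁻¹) by group, ← hv, iv, mul_assoc, ← mul_inv_rev,
      ← inv_eq_sq (xcube z v), inv_inv])
  replace an := (an.mul (a1 v)).cong (C := e 3) (D := e 1) bd!
  generalize n * z v = n at an cn
  have n2 := eqE (an.mul an) ((a1 1).cong bd!) (cn.mul_right cn) (by simp)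
  have cj := cy.mul_right ((cn.mul_right cy).mul_right cn)
  have aw := (as.mul (ay.mul ((an.mul ay).mul an))).cong (C := (e 1)⁻¹ * e 3)
    (D := (e 1)⁻¹ * (e 3)⁻¹) bd!
  have cw := cs.mul_right cj
  have w4 := eqE ((aw.mul aw).mul (aw.mul aw)) (aa.cong bd!)
    ((cw.mul_right cw).mul_right (cw.mul_right cw)) (Commute.refl _)
  have w3 := eqE ((as.mul aw).mul as) ((aw.mul (aw.mul aw)).cong bd!) ((cs.mul_right cw).mul_right cs)
    (cw.mul_right (cw.mul_right cw))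
  have si := inv_eq_of_mul_eq_one_right h.s2
  have wO : x (e 9) ∈ pPrimeCore 2 G → s * t ∈ pPrimeCore 2 G := fun a => by
    have f := fun g y b => Normal.conj_mem inferInstance y (b : y ∈ pPrimeCore 2 G) g
    have b := h.aρ _ ▸ f ρ _ a
    have c : x (e 5) ∈ pPrimeCore 2 G := by
      rw [(bd! : (e 5 : V) = ac (e 1) (ac (e 1) (e 9)) * (ac (e 1) (e 9))⁻¹), map_mul, map_inv]
      exact mul_mem (h.aρ _ ▸ f ρ _ b) (inv_mem b)
    have d := mul_mem c (f n _ c)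
    rw [inv_eq_of_mul_eq_one_right (n2.trans (map_one z))] at d
    have := mul_mem (f s _ d) d
    rw [si, mul_assoc] at this
    exact w4 ▸ mul_mem this this
  generalize s * (x (e 5) * (n * x (e 5) * n)) = w at cw w4 w3
  obtain ⟨p2, hP⟩ := sd16 (w := w) h.s2 c2 c1 (by rw [← w4, ← pow_two, ← pow_two, ← pow_mul])
    (by rw [si, w3, pow_three])
  have sP : s ∈ zpowers w ⊔ zpowers s := mem_sup_right (mem_zpowers s)
  have cP : s * t ∈ zpowers w ⊔ zpowers s :=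
    have := mem_sup_left (T := zpowers s) (mem_zpowers w)
    w4 ▸ mul_mem (mul_mem this this) (mul_mem this this)
  have sy : IsSyl 2 (zpowers w ⊔ zpowers s) (centralizer {s * t}) := isSyl_of_isSyl_normalizer
    ⟨le_inf (sup_le (zpowers_le.2 (mem_cent.2 cw.symm)) (zpowers_le.2 (mem_cent.2 cs.symm)))
      le_normalizer, p2, fun R _ _ a r hr => by
      rcases hP _ (conj_mem_of_mem_normalizer (a hr).2 sP) (X32.conj_sq h.s2) with b | b | ⟨p, hp, b⟩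
      · exact absurd (conj_eq_one_iff.1 b) h.s1
      · exact absurd (isConj_iff.2 ⟨r, b⟩) sc
      have d : Commute (p⁻¹ * r) s := comm_of_conj (by
        rw [show p⁻¹ * r * s * (p⁻¹ * r)⁻¹ = p⁻¹ * (r * s * r⁻¹) * p by group, b]; group)
      have f : Commute t (p⁻¹ * r) := by
        simpa using d.symm.inv_left.mul_left ((mem_cent.1 (zpowers_le.2
          (mem_cent.2 cw.symm) hp)).inv_left.mul_left (mem_cent.1 (a hr).1)).symm
      obtain ⟨l, q⟩ := h.mon _ (hs _ d)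
      refine (mul_mem_cancel_left (inv_mem (mem_sup_left hp))).1 ?_
      rcases (bd! : ∀ l : H, P12 l → Commute l (e 3) → l = 1 ∨ l = e 3 ∨ l = e 42 ∨ l = e 45) l
        (hm l ⟨_, trivial, q⟩) (h.comm_act q d) with rfl | rfl | rfl | rfl
      · exact h.eqt ht q Act.one f (Commute.one_right t) ▸ one_mem _
      · exact h.eqt ht q h.as f ts ▸ sP
      · exact h.eqt ht q ht f (Commute.refl t) ▸ (mul_mem_cancel_left sP).1 cP
      · exact h.eqt ht q ac' f (ts.mul_right (Commute.refl t)) ▸ cP⟩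
  have := Block.zstar (u := s * t) ⟨orderOf_eq_prime (by rw [pow_two, c2]) c1, fun y a => by
    obtain ⟨k, b, c⟩ := sy.exists_cj_le (isPGroup_zpowers (x := y * (s * t) * y⁻¹)
      ⟨1, by rw [pow_one, pow_two, X32.conj_sq c2]⟩) (zpowers_le.2 (mem_cent.2 a.symm))
    rcases hP _ (c (conj_mem_cj k (mem_zpowers _))) (X32.conj_sq (X32.conj_sq c2)) with
      d | d | ⟨p, -, d⟩
    · exact absurd (conj_eq_one_iff.1 (conj_eq_one_iff.1 d)) c1
    · exact mul_left_cancel (mul_right_cancel (d.trans (conj_of_comm (mem_cent.1 b)).symm))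
    · exact absurd ((isConj_iff.2 ⟨p, d.symm⟩).trans ((isConj_iff.2 ⟨y, rfl⟩).trans
        (isConj_iff.2 ⟨k, rfl⟩)).symm) sc⟩ (x (e 9))
  rw [ac', ← map_inv, ← map_mul, (bd! : ac (e 45) (e 9) * (e 9)⁻¹ = e 9)] at this
  exact c1 (eq_one_of_odd (Nat.coprime_two_right.1 (Grp.pPrimeCore_coprime 2 G)) (wO this) (n := 1)
    (by rw [pow_one, pow_two, c2]))

omit hC

theorem hC48 {Y : Subgroup G} (hN : 𝐍[x.range] ≤ Y) (a : e 18 ∈ Gam x ⊤)
    (hz : ∀ g, Commute g (x (e 9)) → g ∈ Y) (v : V) (v1 : v ≠ 1) (g : G) (b : Commute g (x v)) :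
    g ∈ Y := by
  have m : ∀ k, P24 k → k ∈ Gam x Y := fun k c =>
    (p24_mem h.g1 h.g3 a c).imp fun _ d => ⟨hN d.2.norm, d.2⟩
  rcases (dg48 v).resolve_left v1 with ⟨k, d, rfl | rfl | rfl⟩ | d
  · exact cent_conj (m k d) (fun g c => hN (h.ca g c)) g b
  · refine cent_conj (m k d) (fun g c => hN (h.ca g ?_)) g b
    rwa [(bd! : (e 26 : V) = (e 13)⁻¹), map_inv, Commute.inv_right_iff] at c
  · exact cent_conj (m k d) hz g b
  · exact hN (h.cent_le' (fun _ _ => trivial) d b)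

theorem cases : (∀ g, g ∈ 𝐍[x.range]) ∨ ∃ ν t ψ, SX x ρ s ν t ψ := by
  by_cases a : e 18 ∈ Gam x ⊤
  swap
  · have hm : ∀ k ∈ Gam x ⊤, P12 k := fun k b => by_contra fun c => a (nu_mem h.g1 h.g3 b c)
    have hC : ∀ v, v ≠ 1 → ∀ g, Commute g (x v) → g ∈ 𝐍[x.range] := fun v a g c => by
      rcases (bd! : ∀ v : V, v ≠ 1 → v ∉ [1, e 13, e 26] ∨ v = e 13 ∨ v = (e 13)⁻¹) v a with
        b | rfl | rfl
      exacts [h.cent_le' hm ((dg12 v).resolve_left b) c, h.ca g c,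
        h.ca g (Commute.inv_right_iff.1 (map_inv x _ ▸ c))]
    exact Or.inl (h.top4 hC (h.nc hC) (es [0, 3, 42, 45]) rfl fun k b =>
      (bd! : ∀ k, P12 k → Commute k (e 3) → k ∈ es [0, 3, 42, 45]) k (hm k b))
  by_cases b : e 42 ∈ Gam x ⊤
  · obtain ⟨n, -, a'⟩ := id a
    obtain ⟨t, -, b⟩ := b
    obtain ⟨t, t1, t2, t3, t4⟩ := h.exists_t b
    obtain ⟨v, c⟩ := h.adj t1 a'
    obtain ⟨ν, n1, n2, n3, n4, n5⟩ := h.exists_nu (((Act.self v).mul a').cong (one_mul _))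
    have k : SN x ρ s ν t := ⟨h.toSF, n1, n2, n3, n4, t1, t2, t3, t4, n5 t c t3⟩
    exact k.split.imp (fun d => h.top8 (h.hC48 le_rfl a d) (h.nc (h.hC48 le_rfl a d)) k)
      fun ⟨ψ, d⟩ => ⟨ν, t, ψ, d⟩
  have hm : ∀ k ∈ Gam x ⊤, P24 k := fun k c =>
    ((bd! : ∀ h : H, P24 h ∨ P24 (e 42 * h)) k).resolve_right fun d =>
      b ((mul_mem_cancel_right c).1 (p24_mem h.g1 h.g3 a d))
  have hC := h.hC48 le_rfl a fun g =>
    h.cent_le' hm (((dg24 (e 9)).resolve_left bd!).resolve_left bd!)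
  exact Or.inl (h.top4 hC (h.nc hC) (es [0, 3, 18, 21]) rfl fun k b =>
    (bd! : ∀ k, P24 k → Commute k (e 3) → k ∈ es [0, 3, 18, 21]) k (hm k b))

end NF

end Cfsg.Agent.Loc3.Pr
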