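import Cfsg.Agent.Loc3.Sym8A

/-!
The 3-local characterization of `S₈`, exceptional case: exclusion of the small centralizer.
-/

set_option autoImplicit false
set_option synthInstance.maxSize 100000

namespace Cfsg.Agent.Loc3

open Subgroup Cfsg Cfsg.Agent.PLocal.Amb

theorem m8_db : ∀ x : M8, Commute x dM → Commute x bM → ((x * zM) ^ 3 = 1 → (x ^ 2) ^ 2 = 1 → x = 1) ∧
    (Commute x aM → ∃ e ∈ [1, aM, dM, aM * dM], x = e ∨ x = bM * e) := pd!

theorem m8_adr : ∀ x : M8, Commute x dM → Commute x aM → Commute x rM →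
    ∃ e ∈ [1, aM, dM, aM * dM], x = e ∨ x = rM * e := pd!

universe u

variable {G : Type u} [Group G] [Finite G]

omit [Finite G] in
theorem conj_mul3 {g a b a' b' : G} (h1 : g * a * g⁻¹ = a') (h2 : g * b * g⁻¹ = b') :
    g * (a * b) * g⁻¹ = a' * b' := by rw [← h1, ← h2]; group

omit [Finite G] in
theorem conj_conj {g k a b c : G} (h1 : k * a * k⁻¹ = b) (h2 : g * b * g⁻¹ = c) :
    g * k * a * (g * k)⁻¹ = c := by rw [← h2, ← h1]; group

namespace Two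
variable {ψ θ : M8 →* G} {u : G} (h : Two ψ θ u)
include h

local notation "𝐃" => closure ({ψ zM, ψ wM} : Set G)

theorem nra (hr : centralizer {ψ rM} ≤ 𝐍[𝐃]) {a : G} (e : 5 ∣ Nat.card (centralizer ({a} : Set G))) :
    ¬ IsConj (ψ rM) a := fun k => by
  rw [← card_cent_of_isConj k] at e
  have := Fact.mk Nat.prime_five
  obtain ⟨⟨x, hx⟩, ox⟩ := exists_prime_orderOf_dvd_card' 5 e
  rw [orderOf_mk] at ox
  exact absurd (ox ▸ orderOf_dvd_of_pow_eq_one (h.core.nD12 (hr hx))) (by norm_num)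

theorem five_a : 5 ∣ Nat.card (centralizer ({ψ aM} : Set G)) := by
  have := Fact.mk Nat.prime_five
  rw [← orderOf_eq_prime (hpow (show hM ^ 5 = 1 from pd!)) (h.core.ne1 pd!)]
  exact orderOf_dvd_natCard _ (mem_cent.2 (Commute.map pd! ψ))

omit [Finite G] in
theorem BR : θ bM * ψ rM * (θ bM)⁻¹ = ψ aM * ψ rM := by rw [← h.s, ← h.r]; exact hcj pd!

omit [Finite G] in
theorem RB : ψ rM * θ bM * (ψ rM)⁻¹ = θ bM * ψ aM := by
  rw [← h.r, ← h.d, ← map_mul θ bM]; exact hcj pd!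

omit [Finite G] in
theorem B'_not : ψ bM ∉ θ.range := fun ⟨y, e⟩ => by
  have := h.symm.BR
  rw [← e, ← map_inv, ← map_mul, ← map_mul, ← map_mul] at this
  exact absurd (isConj_iff.2 ⟨y, h.symm.core.inj this⟩) pd!

theorem A2 : ¬ centralizer {θ fM} ⊓ centralizer {θ gM} ≤ θ.range := fun hle => by
  have k1 : ∀ x, Commute x (ψ aM) → Commute x (θ bM) → x ∈ θ.range := fun x a b =>
    le_range_conj hM⁻¹ pd! pd! hle (h.d ▸ a) b
  have k2 : ∀ x, Commute x (θ aM) → Commute x (ψ bM) → x ∈ ψ.range := fun x a b => by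
    obtain ⟨y, e⟩ := k1 (u * x * u⁻¹) (h.e' aM ▸ Commute.cj a u) (h.e bM ▸ Commute.cj b u)
    exact ⟨y, by rw [h.e', e, swap_conj h.core.u2 rfl]⟩
  rcases h.core.cent_r with hr | ⟨π, q⟩
  swap
  · obtain ⟨f, f1, fa, fb, -, f3, f4⟩ := h.phi q
    obtain ⟨x, rfl⟩ := k1 f fa fb
    rw [(m8_db x (h.symm.core.comm (h.d ▸ fa)) (h.symm.core.comm fb)).1
      (h.symm.core.inj (by simpa [h.z] using f3)) (h.symm.core.inj (by simpa using f4))] at f1
    simp at f1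
  have b2 : θ bM * θ bM = 1 := hsq pd!
  have b2' : ψ bM * ψ bM = 1 := hsq pd!
  have a2 : ψ aM * ψ aM = 1 := hsq pd!
  have d2 : ψ dM * ψ dM = 1 := hsq pd!
  have ba : Commute (θ bM) (ψ aM) := h.d ▸ Commute.map pd! θ
  have bd : Commute (θ bM) (ψ dM) := h.a ▸ Commute.map pd! θ
  have ba' : Commute (ψ bM) (ψ aM) := Commute.map pd! ψ
  have bd' : Commute (ψ bM) (ψ dM) := Commute.map pd! ψ
  have ra : Commute (ψ rM) (ψ aM) := Commute.map pd! ψ
  have rd : Commute (ψ rM) (ψ dM) := Commute.map pd! ψ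
  have ad : Commute (ψ aM) (ψ dM) := Commute.map pd! ψ
  have br := h.BR
  have br' : ψ bM * ψ rM * (ψ bM)⁻¹ = ψ dM * ψ rM := by rw [← map_mul ψ dM]; exact hcj pd!
  have e1 : θ bM * ψ bM * ψ rM * (θ bM * ψ bM)⁻¹ = ψ dM * (ψ aM * ψ rM) :=
    conj_conj br' (conj_mul3 (conj_of_comm bd) br)
  have ca := (ba.mul_left ba').mul_left (ba.mul_left ba')
  have cd := (bd.mul_left bd').mul_left (bd.mul_left bd')
  have cr : Commute (θ bM * ψ bM * (θ bM * ψ bM)) (ψ rM) := comm_of_conj (conj_conj e1 (by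
    rw [conj_mul3 (conj_of_comm (bd.mul_left bd')) (conj_mul3 (conj_of_comm (ba.mul_left ba')) e1),
      ← mul_assoc (ψ aM), ad.eq, mul_assoc, ← mul_assoc (ψ aM), a2, one_mul, ← mul_assoc, d2,
      one_mul]))
  obtain ⟨x, hx⟩ : θ bM * ψ bM * (θ bM * ψ bM) ∈ ψ.range :=
    (h.core.nD (hr (mem_cent.2 cr))).resolve_right fun ⟨y, e⟩ => absurd (isConj_iff.2
      ⟨y, h.core.inj (by
        rw [map_mul, map_mul, map_inv, e, conj_conj (conj_of_comm ca) (h.e aM).symm, h.a])⟩ :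
        IsConj aM dM) pd!
  have e2 : ψ bM * θ bM * (ψ bM)⁻¹ = θ bM * ψ x := by
    rw [hx, inv_eq_of_mul_eq_one_right b2']; simp [← mul_assoc, b2]
  have e3 : θ bM * ψ bM * (θ bM)⁻¹ = ψ x * ψ bM := by
    rw [hx, inv_eq_of_mul_eq_one_right b2]; simp [mul_assoc, b2']
  have e4 : θ bM * ψ x * (θ bM)⁻¹ = (ψ x)⁻¹ := by
    rw [hx, ← pow_two]; exact Inv.conj_pow_eq_inv (Inv.conj_mul_eq_inv_left b2 b2') 2
  have be : ∀ e ∈ [1, aM, dM, aM * dM], Commute (θ bM) (ψ e) := by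
    simp only [List.mem_cons, List.not_mem_nil, or_false]
    rintro _ (rfl | rfl | rfl | rfl)
    exacts [by simp, ba, bd, map_mul ψ _ _ ▸ ba.mul_right bd]
  obtain ⟨e, he, rfl | rfl⟩ := m8_adr x (h.core.comm (hx ▸ cd)) (h.core.comm (hx ▸ ca))
    (h.core.comm (hx ▸ cr))
  swap
  · rw [map_mul, conj_mul3 br (conj_of_comm (be e he)), ← map_mul, ← map_mul, ← map_mul,
      ← map_inv] at e4
    exact (show ∀ e ∈ [1, aM, dM, aM * dM], aM * rM * e ≠ (rM * e)⁻¹ from pd!) e he (h.core.inj e4)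
  simp only [List.mem_cons, List.not_mem_nil, or_false] at he
  rcases he with rfl | rfl | rfl | rfl
  · exact h.B'_not (k1 _ ba' (comm_of_conj (by simpa using e2)))
  · have := k1 (ψ rM * ψ bM) (ra.mul_left ba') (comm_of_conj (conj_conj e2 (by
      rw [conj_mul3 h.RB (conj_of_comm ra), mul_assoc, a2, mul_one])))
    exact h.B'_not ((mul_mem_cancel_left (θ.mem_range.2 ⟨rM, h.r⟩)).1 this)
  · have := k2 (ψ rM * θ bM) (h.a ▸ rd.mul_left bd) (comm_of_conj (conj_conj e3 (by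
      rw [conj_mul3 (conj_of_comm rd) (show ψ rM * ψ bM * (ψ rM)⁻¹ = ψ (dM * bM) from hcj pd!),
        ← map_mul]
      exact congrArg ψ pd!)))
    exact h.symm.B'_not ((mul_mem_cancel_left (ψ.mem_range.2 ⟨rM, rfl⟩)).1 this)
  rw [map_mul] at e2
  have st : IsConj (ψ aM) (ψ (aM * dM)) := by
    have t1 : IsConj (θ dM) (θ bM) := θ.map_isConj pd!
    have t2 : IsConj (θ (bM * (dM * aM))) (θ (dM * aM)) := θ.map_isConj pd!
    rw [map_mul, map_mul, h.d, h.a] at t2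
    rw [← h.d, map_mul]
    exact t1.trans ((isConj_iff.2 ⟨_, e2⟩).trans t2)
  have cd' : θ cM * ψ dM * (θ cM)⁻¹ = ψ dM := by rw [← h.a]; exact hcj pd!
  have ca' : θ cM * ψ aM * (θ cM)⁻¹ = θ bM := by rw [← h.d]; exact hcj pd!
  have cb' : θ cM * θ bM * (θ cM)⁻¹ = ψ aM * θ bM := by
    rw [← h.d, ← map_mul θ dM]; exact hcj pd!
  have hb : ψ rM * ψ bM * θ bM * (ψ rM * ψ bM)⁻¹ = θ bM * ψ dM := conj_conj e2 (by
    rw [conj_mul3 h.RB (conj_mul3 (conj_of_comm ra) (conj_of_comm rd)), mul_assoc,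
      ← mul_assoc (ψ aM), a2, one_mul])
  have g1 : Commute (θ cM * (ψ rM * ψ bM) * (θ cM)⁻¹) (θ bM) :=
    ca' ▸ Commute.cj (ra.mul_left ba') (θ cM)
  have g2 : Commute (θ cM * (ψ rM * ψ bM) * (θ cM)⁻¹) (ψ dM) :=
    cd' ▸ Commute.cj (rd.mul_left bd') (θ cM)
  have g3 : θ cM * (ψ rM * ψ bM) * (θ cM)⁻¹ * (ψ aM * θ bM) * (θ cM * (ψ rM * ψ bM) * (θ cM)⁻¹)⁻¹ =
      ψ aM * θ bM * ψ dM := by
    rw [← cb', ← conj_mul3 rfl cd', ← hb]; group
  generalize θ cM * (ψ rM * ψ bM) * (θ cM)⁻¹ = k at g1 g2 g3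
  have g4 : k * ψ aM * k⁻¹ = ψ aM * ψ dM := by
    rw [conj_mul3 rfl (conj_of_comm g1), mul_assoc (ψ aM), bd.eq, ← mul_assoc] at g3
    exact mul_right_cancel g3
  have g5 : k * (ψ aM * ψ dM) * k⁻¹ = ψ aM := by
    rw [conj_mul3 g4 (conj_of_comm g2), mul_assoc, d2, mul_one]
  have t1 : Commute (k * ψ rM * k⁻¹) (ψ aM) := g5 ▸ Commute.cj (ra.mul_right rd) k
  have t2 : Commute (k * ψ rM * k⁻¹) (ψ dM) := (g2.mul_left rd).mul_left g2.inv_left
  have t3 : k * ψ rM * k⁻¹ * θ bM * (k * ψ rM * k⁻¹)⁻¹ = θ bM * (ψ aM * ψ dM) := by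
    rw [← conj_mul3 (conj_of_comm g1) g4, ← h.RB]
    nth_rewrite 1 [← conj_of_comm g1]; group
  have t4 : Commute (k * ψ rM * k⁻¹ * ψ bM) (θ bM) := comm_of_conj (conj_conj e2 (by
    rw [conj_mul3 t3 (conj_mul3 (conj_of_comm t1) (conj_of_comm t2)), mul_assoc, ← pow_two,
      ad.mul_pow, pow_two, pow_two, a2, d2, one_mul, mul_one]))
  obtain ⟨y, hy⟩ := k1 _ (t1.mul_left ba') t4
  obtain ⟨e, he, e5⟩ := (m8_db y (h.symm.core.comm (by rw [hy, h.d]; exact t1.mul_left ba'))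
    (h.symm.core.comm (hy ▸ t4))).2 (h.symm.core.comm (by rw [hy, h.a]; exact t2.mul_left bd'))
  obtain ⟨e', he', e6⟩ : ∃ e' ∈ [1, aM, dM, aM * dM], θ e = ψ e' := by
    simp only [List.mem_cons, List.not_mem_nil, or_false] at he
    rcases he with rfl | rfl | rfl | rfl
    exacts [⟨1, by simp, by simp⟩, ⟨dM, by simp, h.a⟩, ⟨aM, by simp, h.d⟩,
      ⟨aM * dM, by simp, by rw [map_mul, map_mul, h.a, h.d, ad.eq]⟩]
  rcases e5 with rfl | rfl
  · have t5 : IsConj (ψ rM) (ψ (e' * bM)) := isConj_iff.2 ⟨k, by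
      rw [map_mul, ← e6, hy, mul_assoc _ (ψ bM), b2', mul_one]⟩
    refine h.nra hr h.five_a (t5.trans ?_)
    rcases (show ∀ e ∈ [1, aM, dM, aM * dM], IsConj (e * bM) dM ∨ IsConj (e * bM) (aM * dM) from pd!)
      e' he' with t | t
    · exact (ψ.map_isConj t).trans (isConj_iff.2 ⟨u, (h.e dM).symm.trans h.d⟩)
    · exact (ψ.map_isConj t).trans st.symm
  · have t5 : Commute (θ (bM * e)) (ψ bM) := by
      rw [hy]
      refine (KSG.commute_of_sq ?_ b2' ?_).mul_left (Commute.refl _)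
      · rw [← pow_two, conj_pow, pow_two, hsq pd!]; simp
      · rw [← hy]
        exact hpow ((show ∀ e ∈ [1, aM, dM, aM * dM], (bM * e) ^ 2 = 1 from pd!) e he)
    rw [map_mul, e6] at t5
    have t6 := t5.mul_left (((show ∀ e ∈ [1, aM, dM, aM * dM], Commute e bM from pd!) e'
      he').map ψ).inv_left
    rw [mul_inv_cancel_right] at t6
    rw [conj_of_comm t6.symm, left_eq_mul, ← map_mul] at e2
    exact h.core.ne1 pd! e2

theorem XK' : XM.map ψ ≤ centralizer {θ fM} ⊓ centralizer {θ gM} := h.A1.resolve_right h.A2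

theorem XX {x y : M8} (hx : x ∈ XM) (hy : y ∈ XM) : Commute (ψ x) (θ y) := by
  have : XM ≤ (centralizer {ψ x}).comap θ := XM_le
    (mem_cent.2 (h.w ▸ ((show ∀ x ∈ XM, Commute zM x from pd!) x hx).map ψ))
    (mem_cent.2 (h.d ▸ ((show ∀ x ∈ XM, Commute aM x from pd!) x hx).map ψ))
    (Or.inl (by
      have := h.XK' ⟨x, hx, rfl⟩
      rw [show pD = fM * gM from pd!]
      exact mul_mem (mem_cent.2 (mem_cent.1 this.1).symm) (mem_cent.2 (mem_cent.1 this.2).symm)))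
  exact (mem_cent.1 (this hy)).symm

end Two

end Cfsg.Agent.Loc3
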