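import Cfsg.Agent.Loc3.Sym8B
import Cfsg.Agent.PLocal.FStar

/-!
The 3-local characterization of `S₈`, exceptional case: the subgroup `(A₅ × A₅).2²`.
-/

set_option autoImplicit false
set_option synthInstance.maxSize 100000

namespace Cfsg.Agent.Loc3

open Subgroup Cfsg Cfsg.Agent.PLocal.Amb

theorem exists_j5 : ∃ j : A5 →* M8, Function.Injective j ∧ j.range = XM := by
  let E : Fin 3 ⊕ Fin 5 ≃ Fin 8 := finSumFinEquiv
  let j : A5 →* S8 := (E.permCongrHom.toMonoidHom.comp (Equiv.Perm.sumCongrHom (Fin 3) (Fin 5))).comp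
    ((MonoidHom.inr _ _).comp (Subgroup.subtype _))
  have hj : Function.Injective j := (E.permCongrHom.injective.comp
    Equiv.Perm.sumCongrHom_injective).comp ((Prod.mk_right_injective 1).comp Subtype.val_injective)
  have c2 : ∀ i, ap 0x11111432 (E (Sum.inr i)) = 1 := by decide +kernel
  have c3 : ∀ i, ap 0x11111000 (E (Sum.inr i)) = 1 := by decide +kernel
  have k : ∀ s, (∀ i, ap s (E (Sum.inr i)) = 1) → ∀ x, j x ∈ Col 8 s := fun s c x i => by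
    obtain ⟨i, rfl⟩ := E.surjective i
    rcases i with i | i <;> simp [j, c]
  refine ⟨j.codRestrict M8 (k _ c3), (MonoidHom.injective_codRestrict _ _ _).2 hj,
    le_antisymm ?_ (XM_le ⟨⟨Equiv.swap 2 3 * Equiv.swap 3 4, by simp⟩, ?_⟩
      ⟨a5, ?_⟩ (Or.inl ⟨⟨Equiv.swap 2 3 * Equiv.swap 1 4, by simp⟩, ?_⟩))⟩
  · rintro _ ⟨x, rfl⟩
    refine ⟨?_, k _ c2 x⟩
    change Equiv.Perm.sign (E.permCongr (Equiv.Perm.sumCongr 1 x.1)) = 1
    rw [Equiv.Perm.sign_permCongr, Equiv.Perm.sign_sumCongr, x.2]; simp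
  all_goals
    refine Subtype.ext ?_
    change j _ = _
    exact Equiv.ext (by decide +kernel)

theorem xm_z : ∀ x ∈ XM, (Commute x wM → Commute x dM → Commute x pD → x = 1) ∧
    (Commute (x⁻¹ * rM) wM → Commute (x⁻¹ * rM) dM → ¬ Commute (x⁻¹ * rM) pD) ∧
    rM * x * rM⁻¹ ∈ XM ∧ (x * x = 1 ∨ x ^ 15 = 1) := pd!

theorem m8_dec : ∀ x : M8, ∃ e ∈ [1, zM, zM⁻¹, aM, aM * zM, aM * zM⁻¹],
    x * e ∈ XM ∨ x * e * rM ∈ XM := pd!

theorem xm_inv : ∀ x ∈ XM, (x * x = 1 → x = 1 ∨ ∃ k, k ∈ XM ∧ k * x * k⁻¹ = dM) ∧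
    (x * (rM * x * rM⁻¹) = 1 → ∃ k, k ∈ XM ∧ k * x * (rM * k⁻¹ * rM⁻¹) = 1) ∧
    (Commute x dM → x * x = 1 ∧ (x = 1 ∨ x = dM ∨ x = bM ∨ x = bM * dM)) := pd!

theorem m8_triv : ∀ x : M8, Commute x wM → Commute x dM → Commute x pD → Commute x zM →
    Commute x aM → x = 1 := pd!

universe u

variable {G : Type u} [Group G] [Finite G]

theorem eq_top_of_uf2 {H : Subgroup G} {a b : G} (ha : a * a = 1) (hb : b * b = 1)
    (ua : UF H a) (ub : UF H b) (h : ∀ k ∈ H, ∀ n, (a * (k * b * k⁻¹)) ^ 2 ^ n = 1 →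
      ∃ c ∈ zpowers (a * (k * b * k⁻¹)), UF H c) : H = ⊤ := by
  have key : ∀ i y, a * y * a⁻¹ = y⁻¹ → y ^ 2 ^ i = 1 → y ∈ H := by
    intro i
    induction i with
    | zero => intro y _ e; rw [pow_zero, pow_one] at e; exact e ▸ one_mem _
    | succ i ih =>
      intro y e e'
      have := ih (y ^ 2) (by rw [← conj_pow, e, inv_pow]) (by rwa [← pow_mul, ← pow_succ'])
      refine ua.2 y ?_
      rw [show y * a * y⁻¹ = y * (a * y * a⁻¹)⁻¹ * a by group, e, inv_inv, ← pow_two]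
      exact mul_mem this ua.1
  refine eq_top_iff.2 fun g _ => ?_
  have r2 : g * b * g⁻¹ * (g * b * g⁻¹) = 1 := by rw [conj_mul, hb]; simp
  obtain ⟨n, m, hm, e⟩ := Nat.exists_eq_two_pow_mul_odd (orderOf_pos (a * (g * b * g⁻¹))).ne'
  obtain ⟨j, rfl⟩ := hm
  have e1 := Inv.conj_mul_eq_inv_left ha r2
  generalize hx : a * (g * b * g⁻¹) = x at e e1
  have e2 : (x ^ (2 * j + 1)) ^ 2 ^ n = 1 := by rw [← pow_mul, mul_comm, ← e, pow_orderOf_eq_one]
  have e3 : a * ((x ^ j)⁻¹ * g * b * ((x ^ j)⁻¹ * g)⁻¹) = x ^ (2 * j + 1) := by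
    rw [show a * ((x ^ j)⁻¹ * g * b * ((x ^ j)⁻¹ * g)⁻¹) =
      (a * x * a⁻¹)⁻¹ ^ j * (a * (g * b * g⁻¹)) * x ^ j by rw [inv_pow, conj_pow]; group, e1, hx,
      inv_inv]
    group
  have k1 : (x ^ j)⁻¹ * g ∈ H := ub.2 _ ((mul_mem_cancel_left ua.1).1
    (e3 ▸ key n _ (Inv.conj_pow_eq_inv e1 _) e2))
  obtain ⟨c, hc, uc⟩ := h _ k1 n (e3 ▸ e2)
  rw [e3] at hc
  obtain ⟨i, rfl⟩ := hc
  exact (mul_mem_cancel_left (inv_mem (pow_mem (uc.comm ((Commute.refl x).pow_right _ |>.zpow_right _))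
    j))).1 k1

/-- the product of the two alternating groups -/
def NN (ψ θ : M8 →* G) : Subgroup G := XM.map ψ ⊔ XM.map θ

/-- the candidate for the whole group -/
def HH (ψ θ : M8 →* G) (u : G) : Subgroup G := NN ψ θ ⊔ closure {ψ rM, u}

/-- membership in one of the two factors -/
def PP (ψ θ : M8 →* G) (g : G) : Prop := g ∈ XM.map ψ ∨ g ∈ XM.map θ

namespace Two
variable {ψ θ : M8 →* G} {u : G} (h : Two ψ θ u)
include h

local notation "𝐃" => closure ({ψ zM, ψ wM} : Set G)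
local notation "𝐅" => closure ({θ fM, θ gM} : Set G)
local notation "𝐊" => centralizer ({θ fM} : Set G) ⊓ centralizer ({θ gM} : Set G)

omit h [Finite G] in
theorem NN_symm : NN θ ψ = NN ψ θ := sup_comm _ _

omit [Finite G] in
theorem HH_symm : HH θ ψ u = HH ψ θ u := by rw [HH, HH, NN_symm, h.r]

theorem X'X : XM.map θ ≤ 𝐍[XM.map ψ] := by
  refine le_trans ?_ (centralizer_le_normalizer' _)
  rintro _ ⟨y, hy, rfl⟩ _ ⟨x, hx, rfl⟩
  exact (h.XX hx hy).eq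

theorem mem_N {g : G} : g ∈ NN ψ θ ↔ ∃ x ∈ XM, ∃ y ∈ XM, g = ψ x * θ y := by
  simp [NN, mem_sup_of_le_normalizer_left h.X'X]

omit h [Finite G] in
theorem XN {x : M8} (hx : x ∈ XM) : ψ x ∈ NN ψ θ := mem_sup_left ⟨x, hx, rfl⟩

omit h [Finite G] in
theorem X'N {x : M8} (hx : x ∈ XM) : θ x ∈ NN ψ θ := mem_sup_right ⟨x, hx, rfl⟩

omit h [Finite G] in
theorem NH : NN ψ θ ≤ HH ψ θ u := le_sup_left

omit h [Finite G] in
theorem rH : ψ rM ∈ HH ψ θ u := mem_sup_right mem_l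

omit h [Finite G] in
theorem uH : u ∈ HH ψ θ u := mem_sup_right mem_r

theorem nX : NN ψ θ ≤ 𝐍[XM.map ψ] := sup_le le_normalizer h.X'X

omit h in
theorem rX : ψ rM ∈ 𝐍[XM.map ψ] := mem_normalizer_of_cj_le (cj_le_iff_forall.2 (by
  rintro _ ⟨x, hx, rfl⟩
  exact ⟨_, (xm_z x hx).2.2.1, (hcj rfl).symm⟩))

omit [Finite G] in
theorem uX {g : G} (hg : g ∈ XM.map ψ) : u * g * u⁻¹ ∈ XM.map θ := by
  obtain ⟨x, hx, rfl⟩ := hg
  exact ⟨x, hx, h.e x⟩

omit [Finite G] in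
theorem ru : Commute (ψ rM) u := (comm_of_conj h.core.ur).symm

theorem nN : HH ψ θ u ≤ 𝐍[NN ψ θ] := by
  refine sup_le le_normalizer ((closure_le _).2 ?_)
  rintro _ (rfl | rfl)
  · exact le_normalizer_sup (zpowers_le.2 rX) (zpowers_le.2 (h.r ▸ rX)) (mem_zpowers _)
  · refine mem_normalizer_of_cj_le ?_
    rw [NN, cj_sup]
    exact sup_le (le_sup_of_le_right (cj_le_iff_forall.2 fun _ => h.uX))
      (le_sup_of_le_left (cj_le_iff_forall.2 fun _ => h.symm.uX))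

theorem mem_H {g : G} (hg : g ∈ HH ψ θ u) :
    ∃ n ∈ NN ψ θ, ∃ e, (e = 1 ∨ e = ψ rM ∨ e = u ∨ e = ψ rM * u) ∧ g = n * e := by
  simpa only [mem_four (hsq pd!) h.core.u2 h.ru] using
    (mem_sup_of_le_normalizer_left (le_sup_right.trans h.nN)).1 hg

theorem PP_conj {g k : G} (hk : k ∈ HH ψ θ u) (hg : PP ψ θ g) : PP ψ θ (k * g * k⁻¹) := by
  have k1 : ∀ g, PP ψ θ g → PP ψ θ (u * g * u⁻¹) := fun g hg =>
    hg.elim (fun e => Or.inr (h.uX e)) fun e => Or.inl (h.symm.uX e)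
  have k2 : ∀ g, PP ψ θ g → PP ψ θ (ψ rM * g * (ψ rM)⁻¹) := fun g hg =>
    hg.imp (conj_mem_of_mem_normalizer rX) (conj_mem_of_mem_normalizer (h.r ▸ rX))
  obtain ⟨n, hn, e, he, rfl⟩ := h.mem_H hk
  rw [conj_conj rfl rfl]
  refine Or.imp (conj_mem_of_mem_normalizer (h.nX hn))
    (conj_mem_of_mem_normalizer (h.symm.nX (NN_symm (ψ := θ) ▸ hn))) (?_ : PP ψ θ _)
  rcases he with rfl | rfl | rfl | rfl
  exacts [by simpa using hg, k2 _ hg, k1 _ hg, by rw [conj_conj rfl rfl]; exact k2 _ (k1 _ hg)]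

theorem uniq {x y : M8} (hx : x ∈ XM) (hy : y ∈ XM) (e : ψ x * θ y = 1) : x = 1 ∧ y = 1 := by
  have k : ∀ k ∈ XM, Commute x k := fun k hk => h.core.comm (by
    rw [eq_inv_of_mul_eq_one_left e]; exact (h.XX hk hy).symm.inv_left)
  obtain rfl := (xm_z x hx).1 (k _ pd!) (k _ pd!) (k _ pd!)
  exact ⟨rfl, h.symm.core.inj (by simpa using e)⟩

theorem uniq' {x y x' y' : M8} (hx : x ∈ XM) (hy : y ∈ XM) (hx' : x' ∈ XM) (hy' : y' ∈ XM)
    (e : ψ x * θ y = ψ x' * θ y') : x = x' ∧ y = y' := by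
  have := h.uniq (mul_mem (inv_mem hx') hx) (mul_mem hy (inv_mem hy')) (by
    rw [map_mul, map_mul, map_inv, map_inv, mul_assoc, ← mul_assoc (ψ x), e]; group)
  exact ⟨(inv_mul_eq_one.1 this.1).symm, mul_inv_eq_one.1 this.2⟩

theorem notP {x y : M8} (hx : x ∈ XM) (hy : y ∈ XM) (e : PP ψ θ (ψ x * θ y)) : x = 1 ∨ y = 1 := by
  rcases e with ⟨k, hk, e⟩ | ⟨k, hk, e⟩
  · exact Or.inr (h.uniq' hx hy hk (one_mem _) (by simp [e])).2
  · exact Or.inl (h.uniq' hx hy (one_mem _) hk (by simp [e])).1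

theorem mul4 {x y x' y' : M8} (hy : y ∈ XM) (hx' : x' ∈ XM) :
    ψ x * θ y * (ψ x' * θ y') = ψ (x * x') * θ (y * y') := by
  rw [map_mul, map_mul, mul_assoc, ← mul_assoc (θ y), ← (h.XX hx' hy).eq]; group

theorem r_not : ψ rM ∉ NN ψ θ := fun e => by
  obtain ⟨x, hx, y, hy, e⟩ := h.mem_N.1 e
  have k : ∀ k ∈ XM, Commute (x⁻¹ * rM) k := fun k hk => h.core.comm (by
    rw [map_mul, map_inv, e, inv_mul_cancel_left]; exact (h.XX hk hy).symm)
  exact (xm_z x hx).2.1 (k _ pd!) (k _ pd!) (k _ pd!)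

theorem sqN {g : G} (hg : g ∈ HH ψ θ u) : g * g ∈ NN ψ θ := by
  obtain ⟨n, hn, e, he, rfl⟩ := h.mem_H hg
  have e2 : e * e = 1 := by
    rcases he with rfl | rfl | rfl | rfl
    exacts [mul_one _, hsq pd!, h.core.u2, by
      rw [← pow_two, h.ru.mul_pow, pow_two, pow_two, hsq pd!, h.core.u2, mul_one]]
  rw [show n * e * (n * e) = n * (e * n * e⁻¹) * (e * e) by group, e2, mul_one]
  exact mul_mem hn (conj_mem_of_mem_normalizer (h.nN ((mul_mem_cancel_left (NH hn)).1 hg)) hn)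

omit [Finite G] in
theorem rangeH : ψ.range ≤ HH ψ θ u := by
  rintro _ ⟨x, rfl⟩
  obtain ⟨e, he, k⟩ := m8_dec x
  have z : ψ zM ∈ HH ψ θ u := NH (h.w ▸ X'N pd!)
  have a : ψ aM ∈ HH ψ θ u := NH (h.d ▸ X'N pd!)
  have h1 : e ∈ (HH ψ θ u).comap ψ := by
    simp only [List.mem_cons, List.not_mem_nil, or_false] at he
    rcases he with rfl | rfl | rfl | rfl | rfl | rfl
    exacts [one_mem _, z, inv_mem z, a, mul_mem a z, mul_mem a (inv_mem z)]
  refine (mul_mem_cancel_right h1).1 (k.elim (fun k => NH (XN k)) fun k => ?_)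
  exact (mul_mem_cancel_right (show rM ∈ (HH ψ θ u).comap ψ from rH)).1 (NH (XN k))

omit [Finite G] in
theorem rangeH' : θ.range ≤ HH ψ θ u := h.HH_symm ▸ h.symm.rangeH

omit [Finite G] in
theorem nDH : 𝐍[𝐃] ≤ HH ψ θ u := fun _ hg => (h.core.nD hg).elim (fun e => h.rangeH e)
  fun e => (mul_mem_cancel_left uH).1 (h.rangeH e)

theorem uf3 {x : G} (hx : x ∈ HH ψ θ u) (x1 : x ≠ 1) (x3 : x ^ 3 = 1) : UF (HH ψ θ u) x := by
  have := Fact.mk Nat.prime_three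
  refine uf_of_sylow h.core.syl (fun a ha => mem_centralizer_iff.2 fun b hb =>
    (comm_pair ha (comm_pair hb (Commute.refl _) CoreS.zw).symm
      (comm_pair hb CoreS.zw.symm (Commute.refl _)).symm).eq) h.nDH (fun d hd d1 g hg => ?_) hx x1 x3
  obtain ⟨d, rfl, e⟩ := mem_DM hd
  replace hg := mem_cent.1 hg
  rcases e with rfl | (rfl | rfl) | (rfl | rfl) | ⟨e, -⟩
  · simp at d1
  · exact h.rangeH (h.core.cz hg)
  · exact h.rangeH (h.core.cz (by simpa using hg))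
  · exact h.rangeH' (h.symm.core.cz (h.z ▸ hg))
  · exact h.rangeH' (h.symm.core.cz (by simpa [h.z] using hg))
  · obtain ⟨k, rfl⟩ := isConj_iff.1 e
    have := h.nDH (h.core.cy ((ψ k)⁻¹ * g * (ψ k)⁻¹⁻¹) (comm_conj_iff.2 (by simpa using hg)))
    have hk := h.rangeH ⟨k, rfl⟩
    simpa [mul_assoc] using mul_mem (mul_mem hk this) (inv_mem hk)

theorem KH : 𝐊 ≤ HH ψ θ u := by
  have hD : 𝐃 ≤ 𝐍[𝐊] := (closure_le _).2 (by
    rintro _ (rfl | rfl)
    exacts [h.zK, le_normalizer h.wK])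
  have hn := hD.trans (norm_le_norm_Op' 3 _)
  have hX : ∀ x ∈ XM, ψ x ∈ 𝐊 := fun x hx => h.XK' ⟨x, hx, rfl⟩
  have n : ¬ (ψ pD ∈ Op' 3 𝐊 ∨ ψ qD ∈ Op' 3 𝐊) := fun e => by
    have k : ∀ x y, dM * x * dM⁻¹ = y → ψ x ∈ Op' 3 𝐊 → ψ y ∈ Op' 3 𝐊 := fun x y e hx =>
      hcj (ψ := ψ) e ▸ conj_mem_of_mem_normalizer (le_norm_Op' 3 _ (hX dM pd!)) hx
    have := mul_mem (e.elim id (k _ _ pd!)) (e.elim (k _ _ pd!) id)
    rw [← map_mul] at this
    exact h.core.ne1 pd! (eq_one_of_cop (coprime_Op' _ _) this (hpow pd!))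
  rcases h.tri (h.K3 (Op'_le _ _) (hn mem_l) (hn mem_r) (coprime_Op' _ _) (fun e => n (Or.inl e))
    fun e => n (Or.inr e)) with e | ⟨π, hπ, e⟩ | e
  · rcases (mem_norm_three (hpow pd!) (h.core.ne1 pd!)).1 (e (hX pD pd!)) with e | e
    · exact absurd (h.core.comm (comm_of_conj e)) pd!
    · exact absurd (h.core.inj (by simpa using e) : pD * wM * pD⁻¹ = wM⁻¹) pd!
  · obtain ⟨j, -, hj⟩ := exists_j5
    have hjX : ∀ x, j x ∈ XM := fun x => hj ▸ ⟨x, rfl⟩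
    let φ := π.comp ((ψ.comp j).codRestrict _ fun x => hX _ (hjX x))
    obtain ⟨x, hx⟩ : wM ∈ j.range := hj ▸ pd!
    have := Finite.injective_iff_surjective.1 (inj_of_alt le_rfl φ (x := x) fun k =>
      h.core.ne1 (x := wM) pd! (eq_one_of_cop (p := 3) (by rw [h.card_F]; norm_num)
        (by rw [← hx]; exact (e _).1 k) (hpow pd!)))
    intro g hg
    obtain ⟨y, hy⟩ := this (π ⟨g, hg⟩)
    have k := (e (⟨g, hg⟩ * ⟨_, hX _ (hjX y)⟩⁻¹)).1 (by rw [map_mul, map_inv, ← hy]; simp [φ])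
    have hF : 𝐅 ≤ HH ψ θ u := (closure_le _).2 (by rintro _ (rfl | rfl) <;> exact h.rangeH' ⟨_, rfl⟩)
    exact (mul_mem_cancel_right (inv_mem (h.rangeH ⟨_, rfl⟩))).1 (hF k)
  · have := Fact.mk Nat.prime_five
    have := orderOf_dvd_natCard _ (hX hM pd!)
    rw [orderOf_eq_prime (hpow (show hM ^ 5 = 1 from pd!)) (h.core.ne1 pd!), e] at this
    omega

theorem cV {g : G} (c1 : Commute g (θ dM)) (c2 : Commute g (θ bM)) : g ∈ HH ψ θ u := by
  have := h.KH (x := θ hM * g * (θ hM)⁻¹)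
    ⟨mem_cent.2 (hcj (ψ := θ) (show hM * dM * hM⁻¹ = fM from pd!) ▸ Commute.cj c1 _),
      mem_cent.2 (hcj (ψ := θ) (show hM * bM * hM⁻¹ = gM from pd!) ▸ Commute.cj c2 _)⟩
  have hk := h.rangeH' ⟨hM, rfl⟩
  simpa [mul_assoc] using mul_mem (mul_mem (inv_mem hk) this) hk

omit [Finite G] in
theorem rN {x y : M8} : ψ rM * (ψ x * θ y) * (ψ rM)⁻¹ = ψ (rM * x * rM⁻¹) * θ (rM * y * rM⁻¹) := by
  refine conj_mul3 (hcj rfl) ?_
  rw [← h.r]; exact hcj rfl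

theorem cr : centralizer {ψ rM} ≤ 𝐍[𝐃] := by
  refine h.core.cent_r.resolve_right fun ⟨π, q⟩ => ?_
  obtain ⟨f, f1, fa, fb, fr, f3, f4⟩ := h.phi q
  obtain ⟨n, hn, e, he, rfl⟩ := h.mem_H (h.cV (h.d ▸ fa) fb)
  obtain ⟨x, hx, y, hy, rfl⟩ := h.mem_N.1 hn
  have rD := h.core.mem_nD (x := rM) pd!
  have eD : e ∈ 𝐍[𝐃] := by
    rcases he with rfl | rfl | rfl | rfl
    exacts [one_mem _, rD, h.core.uD, mul_mem rD h.core.uD]
  have c := conj_of_comm (by simpa using fr.mul_left (h.core.nDr eD).inv_left : Commute (ψ x * θ y) _).symm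
  obtain ⟨c1, c2⟩ := h.uniq' (xm_z x hx).2.2.1 (xm_z y hy).2.2.1 hx hy (h.rN.symm.trans c)
  have fD : ψ x * θ y * e ∈ 𝐍[𝐃] := mul_mem (mul_mem (h.core.mem_nD (m8_cr x (comm_of_conj c1).symm))
    (h.D_eq ▸ h.symm.core.mem_nD (m8_cr y (comm_of_conj c2).symm))) eD
  generalize ψ x * θ y * e = f at *
  have := cube_pair (hpow pd!) (hpow pd!) CoreS.zw ((mul_mem_cancel_right mem_r).1
    (h.core.syl.le_of_normalizes (isPGroup_zpowers ⟨1, by simpa using f3⟩) le_top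
      (zpowers_le.2 (mul_mem fD (le_normalizer mem_r))) (mem_zpowers _)))
  rw [← pow_mul, show 2 * 2 = 3 + 1 from rfl, pow_succ, this, one_mul] at f4
  exact f1 f4

theorem invR {n : G} (hn : n ∈ NN ψ θ) (e : n * ψ rM * (n * ψ rM) = 1) :
    ∃ k ∈ HH ψ θ u, k * (n * ψ rM) * k⁻¹ = ψ rM := by
  obtain ⟨x, hx, y, hy, rfl⟩ := h.mem_N.1 hn
  rw [show ∀ n, n * ψ rM * (n * ψ rM) = n * (ψ rM * n * (ψ rM)⁻¹) * (ψ rM * ψ rM) from
    fun n => by group, hsq pd!, mul_one, h.rN, h.mul4 hy (xm_z x hx).2.2.1] at e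
  obtain ⟨e1, e2⟩ := h.uniq (mul_mem hx (xm_z x hx).2.2.1) (mul_mem hy (xm_z y hy).2.2.1) e
  obtain ⟨k, hk, k1⟩ := (xm_inv x hx).2.1 e1
  obtain ⟨l, hl, l1⟩ := (xm_inv y hy).2.1 e2
  refine ⟨ψ k * θ l, NH (mul_mem (XN hk) (X'N hl)), ?_⟩
  rw [show ∀ k n, k * (n * ψ rM) * k⁻¹ = k * n * (ψ rM * k⁻¹ * (ψ rM)⁻¹) * ψ rM from
    fun k n => by group, mul_inv_rev, ← map_inv, ← map_inv, ← (h.XX (inv_mem hk) (inv_mem hl)).eq,
    h.rN, h.mul4 hl hx, h.mul4 (mul_mem hl hy) (xm_z _ (inv_mem hk)).2.2.1, k1, l1]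
  simp

omit [Finite G] in
theorem sw {v : G} (hv : v = u ∨ v = ψ rM * u) : ∃ k ∈ [1, rM], (∀ x, v * ψ x * v⁻¹ = θ (k * x * k⁻¹)) ∧
    ∀ x, v * θ x * v⁻¹ = ψ (k * x * k⁻¹) := by
  rcases hv with rfl | rfl
  · exact ⟨1, by simp, fun x => by simp [h.e], fun x => by simp [h.e' x]⟩
  · refine ⟨rM, by simp, fun x => conj_conj (h.e x).symm ?_, fun x => conj_conj (h.e' x).symm (hcj rfl)⟩
    rw [← h.r]; exact hcj rfl

theorem invH {g : G} (hg : g ∈ HH ψ θ u) (g2 : g * g = 1) : ∃ k ∈ HH ψ θ u,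
    k * g * k⁻¹ ∈ [1, ψ dM, ψ aM, ψ dM * ψ aM, ψ rM, u, ψ rM * u] := by
  obtain ⟨n, hn, e, he, rfl⟩ := h.mem_H hg
  rcases he with rfl | rfl | he
  · obtain ⟨x, hx, y, hy, rfl⟩ := h.mem_N.1 hn
    rw [mul_one, h.mul4 hy hx] at g2
    obtain ⟨e1, e2⟩ := h.uniq (mul_mem hx hx) (mul_mem hy hy) g2
    have key : ∀ x ∈ XM, x * x = 1 → ∃ k ∈ XM, k * x * k⁻¹ = 1 ∨ k * x * k⁻¹ = dM := fun x hx e =>
      ((xm_inv x hx).1 e).elim (fun e => ⟨1, one_mem _, by simp [e]⟩) fun ⟨k, hk, e⟩ =>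
        ⟨k, hk, Or.inr e⟩
    obtain ⟨k, hk, k1⟩ := key x hx e1
    obtain ⟨l, hl, l1⟩ := key y hy e2
    refine ⟨ψ k * θ l, NH (mul_mem (XN hk) (X'N hl)), ?_⟩
    rw [mul_one, mul_inv_rev, ← map_inv, ← map_inv, ← (h.XX (inv_mem hk) (inv_mem hl)).eq,
      h.mul4 hl hx, h.mul4 (mul_mem hl hy) (inv_mem hk)]
    rcases k1 with k1 | k1 <;> rcases l1 with l1 | l1 <;> simp [k1, l1, h.d]
  · obtain ⟨k, hk, e⟩ := h.invR hn g2
    exact ⟨k, hk, by simp [e]⟩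
  · obtain ⟨x, hx, y, hy, rfl⟩ := h.mem_N.1 hn
    obtain ⟨k, hk, k1, k2⟩ := h.sw he
    have kX : ∀ x ∈ XM, k * x * k⁻¹ ∈ XM := (show ∀ k ∈ [1, rM], ∀ x ∈ XM, k * x * k⁻¹ ∈ XM from pd!)
      k hk
    have e2 : e * e = 1 := by
      rcases he with rfl | rfl
      exacts [h.core.u2, by
        rw [← pow_two, h.ru.mul_pow, pow_two, pow_two, hsq pd!, h.core.u2, mul_one]]
    rw [show ∀ n, n * e * (n * e) = n * (e * n * e⁻¹) * (e * e) from fun n => by group, e2, mul_one,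
      conj_mul3 (k1 x) (k2 y), ← (h.XX (kX y hy) (kX x hx)).eq, h.mul4 hy (kX y hy)] at g2
    refine ⟨(ψ x)⁻¹, inv_mem (NH (XN hx)), ?_⟩
    rw [show (ψ x)⁻¹ * (ψ x * θ y * e) * (ψ x)⁻¹⁻¹ = θ y * (e * ψ x * e⁻¹) * e by group, k1, ← map_mul θ,
      (h.uniq (mul_mem hx (kX y hy)) (mul_mem hy (kX x hx)) g2).2]
    rcases he with rfl | rfl <;> simp

theorem ufR : UF (HH ψ θ u) (ψ rM) := by
  refine UF.of_cent rH (fun g c => h.nDH (h.cr (mem_cent.2 c))) fun g hg => ?_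
  obtain ⟨k, hk, e⟩ := h.invH hg (by rw [conj_mul, hsq pd!]; simp)
  have c : IsConj (ψ rM) (k * (g * ψ rM * g⁻¹) * k⁻¹) := isConj_iff.2 ⟨k * g, by group⟩
  have five : ∀ v, v = u ∨ v = ψ rM * u → ¬ IsConj (ψ rM) v := fun v hv => by
    obtain ⟨k, hk, k1, k2⟩ := h.sw hv
    obtain ⟨a1, a2, a3⟩ := (show ∀ k ∈ [1, rM], k * hM * k⁻¹ ∈ XM ∧ (k * hM * k⁻¹) ^ 5 = 1 ∧
      k * (k * hM * k⁻¹) * k⁻¹ = hM from pd!) k hk
    have := Fact.mk Nat.prime_five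
    have c := h.XX (x := hM) pd! a1
    refine h.nra h.cr ?_
    rw [← orderOf_eq_prime (p := 5) (x := ψ hM * θ (k * hM * k⁻¹)) (by rw [c.mul_pow, hpow pd!, hpow a2, mul_one])
      fun e => absurd (h.uniq pd! a1 e).1 pd!]
    exact orderOf_dvd_natCard _ (mem_cent.2 (comm_of_conj (by
      rw [conj_mul3 (k1 _) (k2 _), a3, c.eq])).symm)
  simp only [List.mem_cons, List.not_mem_nil, or_false] at e
  rcases e with e | e | e | e | e | e | e <;> rw [e] at c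
  · exact absurd (isConj_one_left.1 c) (h.core.ne1 pd!)
  · exact absurd (c.trans (isConj_iff.2 ⟨u, (h.e dM).symm.trans h.d⟩)) (h.nra h.cr h.five_a)
  · exact absurd c (h.nra h.cr h.five_a)
  · obtain ⟨c, hc⟩ := isConj_iff.1 c.symm
    have e1 : c * (ψ dM * u) * c⁻¹ * (c * (ψ dM * u) * c⁻¹) = ψ rM := by
      rw [conj_mul, ← hc, ← h.d, h.e, inv_eq_of_mul_eq_one_right h.core.u2]; group
    exact absurd (e1 ▸ h.sqN (h.nDH (h.cr (mem_cent.2 (e1 ▸ (Commute.refl _).mul_right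
      (Commute.refl _)))))) h.r_not
  · exact ⟨k⁻¹, inv_mem hk, by nth_rewrite 1 [← e]; group⟩
  · exact absurd c (five _ (Or.inl rfl))
  · exact absurd c (five _ (Or.inr rfl))

theorem fus {i : G} (hi : i ∈ HH ψ θ u) (e : IsConj (ψ dM) i) :
    ∃ k ∈ HH ψ θ u, k * ψ dM * k⁻¹ = i := by
  obtain ⟨g, rfl⟩ := isConj_iff.1 e
  obtain ⟨k, hk, e⟩ := h.invH hi (by rw [conj_mul, hsq pd!]; simp)
  obtain ⟨l, hl, e1⟩ := h.ufR.fusion h.ufR (hsq pd!) (hsq pd!) (t := ψ dM) (g := k * g)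
    (Commute.map pd! ψ) (by
      rw [conj_conj rfl rfl]
      have c1 : Commute (ψ rM) (ψ dM) := Commute.map pd! ψ
      have c2 : Commute (ψ rM) (ψ aM) := Commute.map pd! ψ
      simp only [List.mem_cons, List.not_mem_nil, or_false] at e
      rcases e with e | e | e | e | e | e | e <;> rw [e]
      exacts [Commute.one_right _, c1, c2, c1.mul_right c2, h.ru,
        (Commute.refl _).mul_right h.ru])
  exact ⟨k⁻¹ * l, mul_mem (inv_mem hk) hl, conj_conj e1 (by group)⟩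

theorem PP_of {i : G} (hi : i ∈ HH ψ θ u) (e : IsConj (ψ dM) i) : PP ψ θ i := by
  obtain ⟨k, hk, rfl⟩ := h.fus hi e
  exact h.PP_conj hk (Or.inl (mem_map_of_mem ψ pd!))

theorem cT {g : G} (h1 : Commute g (ψ dM)) : g ∈ HH ψ θ u := by
  obtain ⟨X, _, _, π, q⟩ := exists_CQ (ψ dM)
  have t2 : ψ dM * ψ dM = 1 := hsq pd!
  have ot : orderOf (ψ dM) = 2 := orderOf_two t2 (h.core.ne1 pd!)
  have bt : Commute (ψ bM) (ψ dM) := Commute.map pd! ψ
  have ct : ∀ y ∈ XM, Commute (θ y) (ψ dM) := fun y hy => (h.XX pd! hy).symm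
  have b2 : π (ψ bM) * π (ψ bM) = 1 := by rw [← q.mul bt bt, hsq pd!, q.map_one]
  have cV : ∀ k, Commute k (ψ dM) → Commute k (ψ bM) → k ∈ HH ψ θ u := fun k a b =>
    h.HH_symm ▸ h.symm.cV a b
  have cf : ∀ k, Commute k (ψ dM) → Commute (π k) (π (ψ bM)) → k ∈ HH ψ θ u := fun k hk e => by
    rcases (q.eq_iff_two t2 ((hk.mul_left bt).mul_left hk.inv_left) bt).1 (by
      rw [q.map_conj hk bt, conj_of_comm e]) with e | e
    · exact cV k hk (comm_of_conj e)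
    · refine (mul_mem_cancel_left rH).1 (cV _ ((Commute.map pd! ψ).mul_left hk)
        (comm_of_conj (conj_conj e ?_)))
      rw [← map_mul ψ bM]; exact hcj pd!
  have hO := Grp.pPrimeCore_coprime 2 X
  have hodd : Odd (Nat.card (oddCore X)) := Nat.coprime_two_right.1 hO
  have hn : (oddCore X).Normal := inferInstance
  have o0 : ∀ y ∈ XM, π (θ y) ∈ oddCore X → y = 1 := by
    obtain ⟨j, hj, hr⟩ := exists_j5
    have hjX : ∀ x, j x ∈ XM := fun x => hr ▸ ⟨x, rfl⟩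
    let φ := q.hom.comp ((θ.comp j).codRestrict _ fun x => mem_cent.2 (ct _ (hjX x)))
    have : IsSimpleGroup A5 := alternatingGroup.isSimpleGroup (by simp)
    rcases (hn.comap φ).eq_bot_or_eq_top with e | e
    · intro y hy k
      obtain ⟨y, rfl⟩ := hr.ge hy
      rw [mem_bot.1 (e.le (show y ∈ comap φ (oddCore X) from k)), map_one]
    · obtain ⟨y, hy⟩ := hr.ge (show fM ∈ XM from pd!)
      have k : π (θ (j y)) ∈ oddCore X := e.ge (mem_top y)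
      rw [hy] at k
      rcases (q.eq_one_iff_two t2 (ct _ pd!)).1 (eq_one_of_odd hodd k (n := 1) (by
        rw [← q.map_pow (ct _ pd!), hpow pd!, q.map_one])) with k | k
      · exact absurd k (h.symm.core.ne1 pd!)
      · exact absurd (h.uniq' (y := fM) (x' := dM) (one_mem _) pd! pd! (one_mem _)
          (by simpa using k)).2 pd!
  have o1 : ∀ k, Commute k (ψ dM) → π k ∈ oddCore X → k ∈ HH ψ θ u → π k = 1 := by
    intro k hk ho hH
    obtain ⟨x, hx, y, hy, e⟩ := h.mem_N.1 (h.sqN hH)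
    have c : Commute (ψ x) (ψ dM) := by
      simpa [e] using (hk.mul_left hk).mul_left (ct y hy).inv_left
    have e1 : (k * k) ^ 2 = θ (y * y) := by
      rw [e, pow_two, h.mul4 hy hx, ((xm_inv x hx).2.2 (h.core.comm c)).1, map_one, one_mul]
    rw [o0 _ (mul_mem hy hy) (by
      rw [← e1, q.map_pow (hk.mul_left hk), q.mul hk hk]; exact pow_mem (mul_mem ho ho) _),
      map_one, ← pow_two, ← pow_mul] at e1
    exact eq_one_of_odd hodd ho (n := 2) (by rw [← q.map_pow hk, ← q.map_one, ← e1]; rfl)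
  have o3 : ∀ x ∈ XM, x ^ 3 = 1 → x ≠ 1 → ∀ k ∈ oddCore X,
      Commute k (π (θ x)) → k = 1 := fun x hx x3 x1 k hk e => by
    obtain ⟨k, kt, rfl⟩ := q.surj k
    exact o1 k kt hk ((h.uf3 (NH (X'N hx)) (h.symm.core.ne1 x1) (hpow x3)).comm
      (q.comm_of_comm kt (ct x hx) e (hpow x3) (by rw [ot]; norm_num)))
  have hi := fun k hk => inv_of_fpf (K := oddCore X) b2 (fun k hk => hn.conj_mem k hk _)
    (fun k hk e => by
      obtain ⟨k, kt, rfl⟩ := q.surj k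
      exact o1 k kt hk (cf k kt e)) (k := k) hk
  have ca : ∀ f ∈ [fM, gM], ∀ k, Commute k (ψ dM) → π k ∈ oddCore X → Commute k (θ f) := by
    intro f hf k kt hk
    obtain ⟨f0, f1, f2, f3, f4, f5⟩ := (show ∀ f ∈ [fM, gM], f ∈ XM ∧ f * f = 1 ∧ (wM * f) ^ 3 = 1 ∧
      wM * f ≠ 1 ∧ f ≠ 1 ∧ IsConj dM f from pd!) f hf
    have ft := ct f f0
    have wt := ct wM pd!
    have := cent_of_a4 hodd (fun k hk l hl => comm_of_inv hi hk hl) (w := π (θ wM))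
      (a := π (θ f)) (by rw [← q.mul ft ft, hsq f1, q.map_one])
      (by rw [← q.map_pow wt, hpow pd!, q.map_one])
      (by rw [← q.mul wt ft, ← q.map_pow (wt.mul_left ft), ← map_mul, hpow f2, q.map_one])
      (fun k hk => hn.conj_mem k hk _) (fun k hk => hn.conj_mem k hk _) (o3 wM pd! pd! pd!)
      (by rw [← q.mul wt ft, ← map_mul]; exact o3 _ (mul_mem pd! f0) f2 f3) hk
    rcases (q.eq_iff_two t2 ((kt.mul_left ft).mul_left kt.inv_left) ft).1 (by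
      rw [q.map_conj kt ft, conj_of_comm this]) with e | e
    · exact comm_of_conj e
    · rw [ft.eq] at e
      exact absurd (h.notP pd! f0 (h.PP_of (NH (mul_mem (XN pd!) (X'N f0)))
        ((isConj_iff.2 ⟨u, (h.e dM).symm⟩).trans ((θ.map_isConj f5).trans
          (isConj_iff.2 ⟨k, e⟩))))) (not_or.2 ⟨pd!, f4⟩)
  have o2 : ∀ k ∈ oddCore X, k = 1 := fun k hk => by
    obtain ⟨k, kt, rfl⟩ := q.surj k
    exact o1 k kt hk (h.KH ⟨mem_cent.2 (ca _ (by simp) k kt hk), mem_cent.2 (ca _ (by simp) k kt hk)⟩)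
  have iso : IsIsolatedInvolution (π (ψ bM)) := ⟨orderOf_eq_prime (by rw [pow_two, b2]) (by
    rw [ne_eq, q.eq_one_iff_two t2 bt]
    exact fun e => e.elim (h.core.ne1 pd!) (h.core.ne pd!)), fun k e => by
    obtain ⟨k, kt, rfl⟩ := q.surj k
    have c1 := (kt.mul_left bt).mul_left kt.inv_left
    rw [← q.map_conj kt bt] at e ⊢
    have m := cf _ c1 e.symm
    have e1 : k * ψ (bM * dM) * k⁻¹ = k * ψ bM * k⁻¹ * ψ dM := by
      rw [map_mul]; exact conj_mul3 rfl (conj_of_comm kt)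
    have p1 := h.PP_of m ((ψ.map_isConj pd!).trans (isConj_iff.2 ⟨k, rfl⟩))
    have p2 := h.PP_of (mul_mem m (NH (XN pd!))) ((ψ.map_isConj pd!).trans (isConj_iff.2 ⟨k, e1⟩))
    refine (q.eq_iff_two t2 c1 bt).2 ?_
    rcases p1 with ⟨x, hx, e2⟩ | ⟨x, hx, e2⟩
    · rcases ((xm_inv x hx).2.2 (h.core.comm (e2 ▸ c1))).2 with rfl | rfl | rfl | rfl
      · exact absurd (by simpa using e2.symm) (h.core.ne1 (x := bM) pd!)
      · rw [← e2, t2] at e1; exact absurd (by simpa using e1) (h.core.ne1 (x := bM * dM) pd!)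
      · exact Or.inl e2.symm
      · exact Or.inr (by rw [← e2, map_mul])
    · rw [← e2, (ct x hx).eq] at p2
      rcases h.notP pd! hx p2 with k | rfl
      · exact absurd k pd!
      · exact absurd (by simpa using e2.symm) (h.core.ne1 (x := bM) pd!)⟩
  refine cf g h1 (comm_of_conj ?_).symm
  exact mul_inv_eq_one.1 (o2 _ (Inv.ZStar.commutator_mem_oddCore_of_isolated iso (π g)))

theorem ufT : UF (HH ψ θ u) (ψ dM) := UF.of_cent (NH (XN pd!)) (fun _ => h.cT) fun g hg =>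
  h.fus hg (isConj_iff.2 ⟨g, rfl⟩)

theorem top : HH ψ θ u = ⊤ := by
  refine eq_top_of_uf2 (hsq pd!) (hsq pd!) h.ufT h.ufR fun k hk n e0 => ?_
  obtain ⟨m, hm, e, he, rfl⟩ := h.mem_H hk
  have er : Commute e (ψ rM) := by
    rcases he with rfl | rfl | rfl | rfl
    exacts [Commute.one_left _, Commute.refl _, h.ru.symm, (Commute.refl _).mul_left h.ru.symm]
  rw [conj_conj (conj_of_comm er) rfl] at *
  by_cases y2 : ψ dM * (m * ψ rM * m⁻¹) * (ψ dM * (m * ψ rM * m⁻¹)) = 1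
  · refine ⟨_, mem_zpowers _, ?_⟩
    have e1 : ψ dM * (m * ψ rM * m⁻¹) = ψ dM * m * (ψ rM * m⁻¹ * (ψ rM)⁻¹) * ψ rM := by group
    rw [e1] at y2 ⊢
    obtain ⟨l, hl, e2⟩ := h.invR (mul_mem (mul_mem (XN pd!) hm)
      (conj_mem_of_mem_normalizer (h.nN rH) (inv_mem hm))) y2
    have := h.ufR.conj (inv_mem hl)
    rw [← e2] at this
    simpa [mul_assoc] using this
  · have r2 : m * ψ rM * m⁻¹ * (m * ψ rM * m⁻¹) = 1 := by rw [conj_mul, hsq pd!]; simp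
    obtain ⟨x, hx, e1⟩ : ψ dM * (m * ψ rM * m⁻¹) * (ψ dM * (m * ψ rM * m⁻¹)) ∈ XM.map ψ := by
      have := mul_mem (mem_map_of_mem ψ (show dM ∈ XM from pd!)) (conj_mem_of_mem_normalizer
        (mul_mem (mul_mem (h.nX hm) rX) (inv_mem (h.nX hm))) (mem_map_of_mem ψ (show dM ∈ XM from pd!)))
      rw [inv_eq_of_mul_eq_one_right r2] at this
      simpa only [mul_assoc] using this
    refine ⟨_, mul_mem (mem_zpowers _) (mem_zpowers _), e1 ▸ ?_⟩
    have x1 : x ≠ 1 := by rintro rfl; exact y2 (by rw [← e1, map_one])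
    rcases (xm_z x hx).2.2.2 with x2 | x2
    · obtain ⟨l, hl, e2⟩ := ((xm_inv x hx).1 x2).resolve_left x1
      have := h.ufT.conj (inv_mem (NH (XN hl)))
      rw [← hcj e2] at this
      simpa [mul_assoc] using this
    · refine absurd (orderOf_eq_one_iff.1 (Nat.eq_one_of_dvd_coprimes
        (Nat.Coprime.pow_right n (by norm_num : Nat.Coprime 15 2)) (orderOf_dvd_of_pow_eq_one x2)
        (orderOf_dvd_of_pow_eq_one (h.core.inj ?_)))) x1
      rw [map_pow, e1, ← pow_two, ← pow_mul, mul_comm, pow_mul, e0]; simp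

theorem final : ∃ N : Subgroup G, N.Normal ∧ generalizedFittingSubgroup G = N ∧
    Nonempty (N ≃* A5 × A5) ∧ (∀ K : Subgroup G, K.Normal → K ≤ N → K = ⊥ ∨ K = N) ∧
    N.index = 4 ∧ ∀ g : G, g ^ 2 ∈ N := by
  have hN : (NN ψ θ).Normal := normalizer_eq_top_iff.1 (eq_top_iff.2 (h.top ▸ h.nN))
  obtain ⟨j, hj, hr⟩ := exists_j5
  have hjX : ∀ x, j x ∈ XM := fun x => hr ▸ ⟨x, rfl⟩
  have hs : IsSimpleGroup A5 := alternatingGroup.isSimpleGroup (by simp)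
  have hm : ∀ ψ : M8 →* G, (ψ.comp j).range = XM.map ψ := fun ψ => by rw [MonoidHom.range_comp, hr]
  have comp : ∀ {ψ θ}, Two ψ θ u → (NN ψ θ).Normal → IsComponent (XM.map ψ) := fun {ψ θ} h hN =>
    ⟨((normal_subgroupOf' h.nX).isSubnormal).trans le_sup_left hN.isSubnormal, hm ψ ▸ PLocal.qs_congr
      (PLocal.qs_of_simple hs fun c => absurd (c.is_comm.comm a5 c5) pd!)
      ((ψ.comp j).ofInjective (h.core.inj.comp hj))⟩
  have hL : NN ψ θ ≤ layer G := sup_le (PLocal.comp_le_layer (comp h hN))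
    (PLocal.comp_le_layer (comp h.symm (NN_symm (ψ := θ) ▸ hN)))
  have hC : 𝐂[NN ψ θ] ≤ ⊥ := fun g hg => by
    have k : ∀ a ∈ NN ψ θ, Commute g a := fun a ha => (mem_centralizer_iff.1 hg a ha).symm
    have z := k _ (h.w ▸ X'N pd!)
    obtain ⟨x, rfl⟩ := h.core.cz z
    rw [m8_triv x (h.core.comm (k _ (XN pd!))) (h.core.comm (k _ (XN pd!)))
      (h.core.comm (k _ (XN pd!))) (h.core.comm z) (h.core.comm (k _ (h.d ▸ X'N pd!))), map_one]
    exact one_mem _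
  refine ⟨NN ψ θ, hN, le_antisymm (sup_le (PLocal.layer_le_of_centralizer_le hN.isSubnormal
    (hC.trans bot_le)) ((PLocal.fitting_le_centralizer_layer.trans
      ((centralizer_anti hL).trans hC)).trans bot_le)) (hL.trans le_sup_left), ?_,
    fun K hK hle => or_iff_not_imp_left.2 fun n => ?_, ?_,
    fun g => pow_two g ▸ h.sqN (h.top ▸ mem_top g)⟩
  · let φ := (ψ.comp j).noncommCoprod (θ.comp j) fun x y => h.XX (hjX x) (hjX y)
    have e : φ.range = NN ψ θ := by rw [MonoidHom.noncommCoprod_range, hm, hm, NN]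
    exact ⟨((φ.ofInjective ((injective_iff_map_eq_one _).2 fun x e => by
      obtain ⟨e1, e2⟩ := h.uniq (hjX x.1) (hjX x.2) e
      exact Prod.ext (hj (e1.trans (map_one j).symm)) (hj (e2.trans (map_one j).symm)))).trans
        (MulEquiv.subgroupCongr e)).symm⟩
  · have key : ∀ {ψ θ}, Two ψ θ u → ∀ x ∈ XM, ∀ y ∈ XM, x ≠ 1 → ψ x * θ y ∈ K →
        XM.map ψ ≤ K ∧ XM.map θ ≤ K := fun {ψ θ} h x hx y hy x1 hk => by
      have : XM.map ψ ≤ K := by
        rw [← hm, MonoidHom.range_eq_map, map_le_iff_le_comap, top_le_iff]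
        refine (hK.comap (ψ.comp j)).eq_bot_or_eq_top.resolve_left fun e => x1 ?_
        have k : ∀ k ∈ XM, Commute x k := fun k hk' => by
          obtain ⟨c, hc⟩ := hr.ge (mul_mem (mul_mem hx (mul_mem hk' (inv_mem hx))) (inv_mem hk'))
          have : c ∈ K.comap (ψ.comp j) := by
            have := mul_mem hk (hK.conj_mem _ (inv_mem hk) (ψ k))
            rw [mul_inv_rev, conj_mul3 (conj_of_comm (h.XX hk' hy).inv_right) rfl] at this
            simpa [hc, mul_assoc] using this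
          rw [mem_bot.1 (e.le this), map_one] at hc
          exact (commutatorElement_eq_one_iff_commute.1 (by rw [commutatorElement_def, hc]; group))
        exact (xm_z x hx).1 (k _ pd!) (k _ pd!) (k _ pd!)
      refine ⟨this, ?_⟩
      rintro _ ⟨x, hx, rfl⟩
      exact h.e x ▸ hK.conj_mem _ (this ⟨x, hx, rfl⟩) u
    obtain ⟨⟨g, hg⟩, g1⟩ := (ne_bot_iff_exists_ne_one).1 n
    obtain ⟨x, hx, y, hy, rfl⟩ := h.mem_N.1 (hle hg)
    refine le_antisymm hle ?_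
    by_cases x1 : x = 1
    · have := key h.symm y hy x hx (by rintro rfl; simp [x1] at g1) ((h.XX hx hy).eq ▸ hg)
      exact sup_le this.2 this.1
    · exact sup_le (key h x hx y hy x1 hg).1 (key h x hx y hy x1 hg).2
  · have un : ∀ v, v = u ∨ v = ψ rM * u → v ∉ NN ψ θ := fun v hv e => by
      obtain ⟨k, hk, k1, -⟩ := h.sw hv
      obtain ⟨x, hx, e⟩ := conj_mem_of_mem_normalizer (h.nX e) (mem_map_of_mem ψ (show wM ∈ XM from pd!))
      obtain ⟨a1, a2⟩ := (show ∀ k ∈ [1, rM], k * wM * k⁻¹ ∈ XM ∧ 1 ≠ k * wM * k⁻¹ from pd!) k hk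
      exact a2 (h.uniq' hx (one_mem _) (one_mem _) a1 (by rw [map_one, map_one, mul_one, one_mul, e, k1])).2
    let π := QuotientGroup.mk' (NN ψ θ)
    have k1 : ∀ g, π g = 1 ↔ g ∈ NN ψ θ := QuotientGroup.eq_one_iff
    have e : closure {π (ψ rM), π u} = ⊤ := eq_top_iff.2 fun x _ => by
      obtain ⟨g, rfl⟩ := QuotientGroup.mk'_surjective _ x
      obtain ⟨n, hn, e, he, rfl⟩ := h.mem_H (h.top ▸ mem_top g)
      rw [map_mul, (k1 n).2 hn, one_mul]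
      rcases he with rfl | rfl | rfl | rfl
      exacts [by simp, mem_l, mem_r, map_mul π _ _ ▸ mul_mem mem_l mem_r]
    rw [index, ← card_top, ← e]
    exact card_four (hsq (hsq pd!)) (hsq h.core.u2) (h.ru.map π) (mt (k1 _).1 h.r_not)
      (mt (k1 _).1 (un _ (Or.inl rfl))) fun e => un _ (Or.inr rfl) ((k1 _).1 (by
        rw [map_mul, e, hsq h.core.u2]))

end Two

end Cfsg.Agent.Loc3
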